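import Mathlib
import Cfsg.Prelude.Def_LieRecognition
import Cfsg.Agent.H21.RankOne3

/-!
Suzuki's theorem on doubly transitive groups (Peterfalvi, Part II): the standing hypotheses, the
subgroups `D, V, K, Q₀, W`, and the maps `f, g, h` with `t x t = g(x) h(x) t f(x)`.
-/

set_option autoImplicit false

namespace H8
namespace Suz

open Cfsg MulAction

/-- `G` contains two distinct commuting involutions. -/
def Rank2 (G : Type*) [Group G] : Prop :=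
  ∃ x y : G, x ≠ 1 ∧ y ≠ 1 ∧ x ≠ y ∧ x * x = 1 ∧ y * y = 1 ∧ x * y = y * x

variable {G Ω : Type*} [Group G] [MulAction G Ω]

/-- the two-point stabiliser `D` -/
abbrev DD (a : Ω) (t : G) : Subgroup G := stabilizer G a ⊓ stabilizer G (t • a)

/-- `V = C_D(t)` -/
abbrev VV (a : Ω) (t : G) : Subgroup G := DD a t ⊓ Subgroup.centralizer {t}

/-- `K`, the elements of `D` inverted by `t` (they form a subgroup, see `Hyp.mem_KK`) -/
def KK (a : Ω) (t : G) : Subgroup G := Subgroup.closure (invertedBy (DD a t) t)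

/-- `Q₀`, the involutions of `Q` together with `1` (see `Hyp.mem_Q0`) -/
def Q0 (Q : Subgroup G) : Subgroup G := Subgroup.closure {x | x ∈ Q ∧ x * x = 1}

/-- `W = C_D(Q₀)` -/
def WW (a : Ω) (t : G) (Q : Subgroup G) : Subgroup G :=
  DD a t ⊓ Subgroup.centralizer (Q0 Q : Set G)

/-- `L = ⟨Q, t⟩`; this is `O^{2'}(G)` when `Q` is a `2`-group. -/
def LL (t : G) (Q : Subgroup G) : Subgroup G := Q ⊔ Subgroup.zpowers t

/-- Hypotheses (A1), (A2), (A3), with the distinguished pair `(s, r)`. -/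
structure Hyp (G Ω : Type*) [Group G] [MulAction G Ω] (a : Ω) (t : G) (Q : Subgroup G) (s r : G) :
    Prop where
  setup : IsRankOneSetup G Ω a t Q
  faithful : ∀ g : G, (∀ x : Ω, g • x = x) → g = 1
  rank2 : Rank2 G
  s_mem : s ∈ Q
  s_ne : s ≠ 1
  s_sq : s * s = 1
  r_mem : r ∈ Q
  struct : t * s * t = r⁻¹ * t * r

/-- The triple `(g(x), h(x), f(x))`. -/
noncomputable def ghf (a : Ω) (t : G) (Q : Subgroup G) (x : G) : G × G × G :=
  Classical.epsilon fun p => p.1 ∈ Q ∧ p.2.1 ∈ DD a t ∧ p.2.2 ∈ Q ∧ t * x * t = p.1 * p.2.1 * t * p.2.2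

/-- `g(x)` -/
noncomputable def gg (a : Ω) (t : G) (Q : Subgroup G) (x : G) : G := (ghf a t Q x).1

/-- `h(x)` -/
noncomputable def hh (a : Ω) (t : G) (Q : Subgroup G) (x : G) : G := (ghf a t Q x).2.1

/-- `f(x)` -/
noncomputable def ff (a : Ω) (t : G) (Q : Subgroup G) (x : G) : G := (ghf a t Q x).2.2

/-- The part of the conclusion of Suzuki's theorem which is proved by induction. -/
structure Struct (a : Ω) (t : G) (Q : Subgroup G) : Prop where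
  two : IsPGroup 2 Q
  ab : (∀ x ∈ Q, ∀ y ∈ Q, x * y = y * x) → ∀ x ∈ Q, x * x = 1
  u3 : Nat.card Q = Nat.card (Q0 Q) ^ 3 → ∃ ω ∈ Q, ω * ω ≠ 1 ∧ ∃ ζ ∈ WW a t Q, ζ ≠ 1 ∧
    ff a t Q ω = ζ⁻¹ * ω⁻¹ * ζ

/-- What the induction hypothesis says about `C_G(X)` (Chapter I, §3, Proposition 1). -/
structure CentStruct (a : Ω) (t : G) (Q : Subgroup G) (r : G) (X : Subgroup G) : Prop where
  two : IsPGroup 2 ↥(Q ⊓ Subgroup.centralizer (X : Set G))
  ab : (∀ x ∈ Q ⊓ Subgroup.centralizer (X : Set G), ∀ y ∈ Q ⊓ Subgroup.centralizer (X : Set G),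
      x * y = y * x) → ∀ x ∈ Q ⊓ Subgroup.centralizer (X : Set G), x * x = 1
  four : ∀ x ∈ Q ⊓ Subgroup.centralizer (X : Set G), x ^ 4 = 1
  card : Nat.card ↥(Q ⊓ Subgroup.centralizer (X : Set G)) =
        Nat.card ↥(Q0 Q ⊓ Subgroup.centralizer (X : Set G)) ∨
      (Nat.card ↥(Q ⊓ Subgroup.centralizer (X : Set G)) =
        Nat.card ↥(Q0 Q ⊓ Subgroup.centralizer (X : Set G)) ^ 2 ∧ r * r ≠ 1) ∨
      (Nat.card ↥(Q ⊓ Subgroup.centralizer (X : Set G)) =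
        Nat.card ↥(Q0 Q ⊓ Subgroup.centralizer (X : Set G)) ^ 3 ∧
        ∃ ω ∈ Q ⊓ Subgroup.centralizer (X : Set G), ω * ω ≠ 1 ∧
          ∃ ζ ∈ DD a t ⊓ Subgroup.centralizer (X : Set G),
            (∀ z ∈ Q0 Q ⊓ Subgroup.centralizer (X : Set G), z * ζ = ζ * z) ∧
            (∃ y ∈ Q ⊓ Subgroup.centralizer (X : Set G), y * ζ ≠ ζ * y) ∧
            ff a t Q ω = ζ⁻¹ * ω⁻¹ * ζ)

/-- The induction hypothesis, applied to the centralisers of `2`-rank at least two. -/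
def Loc (a : Ω) (t : G) (Q : Subgroup G) (s r : G) : Prop :=
  ∀ X : Subgroup G, X ≤ VV a t → X ≠ ⊥ →
    (∃ z ∈ Q0 Q ⊓ Subgroup.centralizer (X : Set G), z ≠ 1 ∧ z ≠ s) → CentStruct a t Q r X

/-- Field coordinates on `Q₀` (Chapter I, §2, Proposition 3). -/
structure Fld (a : Ω) (t : G) (Q : Subgroup G) (s : G) {F : Type*} [Field F] (e : F → G)
    (κ : G → F) : Prop where
  two : (2 : F) = 0
  add : ∀ x y, e (x + y) = e x * e y
  inj : Function.Injective e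
  mem : ∀ x, e x ∈ Q0 Q
  surj : ∀ z ∈ Q0 Q, ∃ x, e x = z
  one : e 1 = s
  conjK : ∀ k ∈ KK a t, ∀ x, k⁻¹ * e x * k = e (κ k * x)
  κ_surj : ∀ y, y ≠ 0 → ∃ k ∈ KK a t, κ k = y
  conjV : ∀ v ∈ VV a t, ∃ σ : F ≃+* F, ∀ x, v⁻¹ * e x * v = e (σ x)

/-- Hypothesis (C2) of Chapter III, §3. -/
structure C2 (a : Ω) (t : G) (Q : Subgroup G) : Prop where
  two : IsPGroup 2 Q
  nonab : ∃ x ∈ Q, ∃ y ∈ Q, x * y ≠ y * x
  card : Nat.card Q = Nat.card (Q0 Q) ^ 3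
  W_ne : WW a t Q ≠ ⊥

variable {a : Ω} {t : G} {Q : Subgroup G} {s r : G}

theorem mem_DD {d : G} : d ∈ DD a t ↔ d • a = a ∧ d • t • a = t • a := Iff.rfl

theorem mem_VV {d : G} : d ∈ VV a t ↔ d ∈ DD a t ∧ t * d = d * t :=
  H21.mem_inf_centralizer_singleton

theorem Q0_le : Q0 Q ≤ Q := (Subgroup.closure_le _).mpr fun _ h => h.1

theorem KK_le : KK a t ≤ DD a t := (Subgroup.closure_le _).mpr fun _ h => h.1

theorem mem_KK_of_inv {k : G} (h1 : k ∈ DD a t) (h2 : t * k * t⁻¹ = k⁻¹) : k ∈ KK a t :=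
  Subgroup.subset_closure ⟨h1, h2⟩

theorem WW_le : WW a t Q ≤ DD a t := inf_le_left

theorem mem_WW {w : G} : w ∈ WW a t Q ↔ w ∈ DD a t ∧ ∀ z ∈ Q0 Q, z * w = w * z :=
  Iff.rfl

theorem le_LL : Q ≤ LL t Q := le_sup_left

theorem t_mem_LL : t ∈ LL t Q := Subgroup.mem_sup_right (Subgroup.mem_zpowers t)

section Setup

open H21.RankOne

theorem ghf_spec (hS : IsRankOneSetup G Ω a t Q) {x : G} (hx : x ∈ Q) (h1 : x ≠ 1) :
    gg a t Q x ∈ Q ∧ hh a t Q x ∈ DD a t ∧ ff a t Q x ∈ Q ∧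
      t * x * t = gg a t Q x * hh a t Q x * t * ff a t Q x := by
  apply Classical.epsilon_spec (p := fun p : G × G × G =>
    p.1 ∈ Q ∧ p.2.1 ∈ DD a t ∧ p.2.2 ∈ Q ∧ t * x * t = p.1 * p.2.1 * t * p.2.2)
  have h2 : (t * x * t) • a ≠ a := by
    intro h
    apply h1
    apply eq_one_of_mem_Q_of_fix_b hS hx
    have := congrArg (t • ·) h
    simpa only [mul_smul, tta hS] using this
  obtain ⟨u, f, hu, hf, e⟩ := exists_canonical hS h2
  obtain ⟨g, hg, h, hh, rfl⟩ := exists_QD hS hu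
  exact ⟨(g, h, f), hg, hh, hf, e⟩

theorem ghf_eq (hS : IsRankOneSetup G Ω a t Q) {x g h f : G} (hx : x ∈ Q) (hg : g ∈ Q)
    (hh' : h ∈ DD a t) (hf : f ∈ Q) (e : t * x * t = g * h * t * f) :
    x ≠ 1 ∧ gg a t Q x = g ∧ hh a t Q x = h ∧ ff a t Q x = f := by
  have h1 : x ≠ 1 := by
    rintro rfl
    rw [mul_one, hS.mul_self] at e
    have := congrArg (· • a) e
    simp only [one_smul, mul_smul, Q_fix hS hf, hh'.2] at this
    have h2 : (h : G) • t • a = t • a := hh'.2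
    rw [h2] at this
    exact smul_ne_of_fix (Q_fix hS hg) (ta_ne hS) this.symm
  obtain ⟨k1, k2, k3, k4⟩ := ghf_spec hS hx h1
  exact ⟨h1, canonical_unique3 hS k1 k2 k3 hg hh' hf (k4.symm.trans e)⟩

end Setup

namespace Hyp

open H21.RankOne

theorem faithfulSMul (hG : Hyp G Ω a t Q s r) : FaithfulSMul G Ω :=
  ⟨fun {g h} e => by
    have : h⁻¹ * g = 1 := hG.faithful _ fun x => by rw [mul_smul, e, inv_smul_smul]
    exact (inv_mul_eq_one.mp this).symm⟩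

theorem tt (hG : Hyp G Ω a t Q s r) : t * t = 1 := hG.setup.mul_self

theorem t_inv (hG : Hyp G Ω a t Q s r) : t⁻¹ = t := H21.RankOne.t_inv hG.setup

theorem s_inv (hG : Hyp G Ω a t Q s r) : s⁻¹ = s := H21.invol_inv hG.s_sq

theorem tt_mul (hG : Hyp G Ω a t Q s r) (x : G) : t * (t * x) = x := by
  rw [← mul_assoc, hG.tt, one_mul]

theorem mul_tt (hG : Hyp G Ω a t Q s r) (x : G) : x * t * t = x := by
  rw [mul_assoc, hG.tt, mul_one]

theorem s_invol (hG : Hyp G Ω a t Q s r) : s ∈ involutionsIn (stabilizer G a : Set G) :=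
  ⟨hG.setup.le hG.s_mem, hG.s_ne, hG.s_sq⟩

theorem conj_Q (hG : Hyp G Ω a t Q s r) {d x : G} (hd : d ∈ DD a t) (hx : x ∈ Q) :
    d⁻¹ * x * d ∈ Q := conj_mem_Q' hG.setup hd.1 hx

theorem tDt (hG : Hyp G Ω a t Q s r) {d : G} (hd : d ∈ DD a t) : t * d * t ∈ DD a t :=
  t_conj_mem_D' hG.setup hd

theorem odd_D (hG : Hyp G Ω a t Q s r) : Odd (Nat.card (DD a t)) := hG.setup.odd_card

theorem t_notMem_Q (hG : Hyp G Ω a t Q s r) : t ∉ Q := fun h => hG.setup.not_mem (hG.setup.le h)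

/-- an element of `D` centralising `Q` is trivial -/
theorem eq_one_of_cent_Q (hG : Hyp G Ω a t Q s r) {d : G} (hd : d ∈ DD a t)
    (h : ∀ x ∈ Q, x * d = d * x) : d = 1 := by
  refine hG.faithful d fun c => ?_
  by_cases hc : c = a
  · rw [hc]; exact hd.1
  · obtain ⟨x, hx, rfl⟩ := exists_Q_smul_b hG.setup hc
    have h2 : d • t • a = t • a := hd.2
    rw [← mul_smul, ← h x hx, mul_smul, h2]

section Fin

variable [Finite G]

theorem central (hG : Hyp G Ω a t Q s r) {z x : G} (hz : z ∈ Q) (h2 : z * z = 1) (hx : x ∈ Q) :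
    z * x = x * z := by
  by_cases h1 : z = 1
  · simp [h1]
  · exact invol_central hG.setup hG.rank2 ⟨hG.setup.le hz, h1, h2⟩ hx

theorem mem_Q0 (hG : Hyp G Ω a t Q s r) {x : G} : x ∈ Q0 Q ↔ x ∈ Q ∧ x * x = 1 := by
  refine ⟨fun h => ?_, fun h => Subgroup.subset_closure h⟩
  induction h using Subgroup.closure_induction with
  | mem x h => exact h
  | one => exact ⟨Q.one_mem, one_mul 1⟩
  | mul x y _ _ hx hy =>
    refine ⟨Q.mul_mem hx.1 hy.1, ?_⟩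
    rw [mul_assoc, ← mul_assoc y, ← hG.central hx.1 hx.2 hy.1, mul_assoc, hy.2, mul_one, hx.2]
  | inv x _ hx => exact ⟨Q.inv_mem hx.1, by rw [← mul_inv_rev, hx.2, inv_one]⟩

theorem s_mem_Q0 (hG : Hyp G Ω a t Q s r) : s ∈ Q0 Q := hG.mem_Q0.mpr ⟨hG.s_mem, hG.s_sq⟩

theorem Q0_central (hG : Hyp G Ω a t Q s r) {z x : G} (hz : z ∈ Q0 Q) (hx : x ∈ Q) :
    z * x = x * z := hG.central (Q0_le hz) (hG.mem_Q0.mp hz).2 hx

theorem conj_Q0 (hG : Hyp G Ω a t Q s r) {d x : G} (hd : d • a = a) (hx : x ∈ Q0 Q) :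
    d⁻¹ * x * d ∈ Q0 Q := by
  rw [hG.mem_Q0] at hx ⊢
  refine ⟨conj_mem_Q' hG.setup hd hx.1, ?_⟩
  calc d⁻¹ * x * d * (d⁻¹ * x * d) = d⁻¹ * (x * x) * d := by group
    _ = 1 := by rw [hx.2]; group

theorem mem_VV_iff (hG : Hyp G Ω a t Q s r) {d : G} :
    d ∈ VV a t ↔ d ∈ DD a t ∧ s * d = d * s := by
  rw [mem_VV]
  exact ⟨fun h => ⟨h.1, (comm_s_of_comm_t hG.setup hG.s_invol hG.r_mem hG.struct h.1.1 h.2).1⟩,
    fun h => ⟨h.1, comm_t_of_comm_s hG.setup hG.s_invol hG.r_mem hG.struct h.1 h.2⟩⟩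

theorem r_comm_V (hG : Hyp G Ω a t Q s r) {d : G} (hd : d ∈ VV a t) : r * d = d * r :=
  (comm_s_of_comm_t hG.setup hG.s_invol hG.r_mem hG.struct hd.1.1 (mem_VV.mp hd).2).2

theorem WW_le_VV (hG : Hyp G Ω a t Q s r) : WW a t Q ≤ VV a t := fun _ hw =>
  hG.mem_VV_iff.mpr ⟨hw.1, (mem_WW.mp hw).2 s hG.s_mem_Q0⟩

theorem nilpotent_Q (hG : Hyp G Ω a t Q s r) : Group.IsNilpotent Q := s1129 hG.setup hG.rank2

/-- a product of two involutions which is not an involution has a centraliser of odd order -/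
theorem odd_centralizer (hG : Hyp G Ω a t Q s r) {u x : G} (hu1 : u ≠ 1) (hu2 : u * u = 1)
    (hx : x * x ≠ 1) (hux : u * x * u = x⁻¹) : Odd (Nat.card (Subgroup.centralizer {x})) := by
  have h1 : u * x * (u * x) = 1 := by rw [← mul_assoc, hux, inv_mul_cancel]
  have h2 : u * (u * x) = x := by rw [← mul_assoc, hu2, one_mul]
  have h3 : u * x ≠ 1 := by
    intro h
    rw [h, mul_one] at h2
    exact hx (h2 ▸ hu2)
  have := (s1135 hG.setup hG.rank2 u (u * x) hu1 hu2 h3 h1 (by rwa [h2])).2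
  rwa [h2] at this

end Fin

theorem gg_mem (hG : Hyp G Ω a t Q s r) {x : G} (hx : x ∈ Q) (h1 : x ≠ 1) : gg a t Q x ∈ Q :=
  (ghf_spec hG.setup hx h1).1

theorem hh_mem (hG : Hyp G Ω a t Q s r) {x : G} (hx : x ∈ Q) (h1 : x ≠ 1) : hh a t Q x ∈ DD a t :=
  (ghf_spec hG.setup hx h1).2.1

theorem ff_mem (hG : Hyp G Ω a t Q s r) {x : G} (hx : x ∈ Q) (h1 : x ≠ 1) : ff a t Q x ∈ Q :=
  (ghf_spec hG.setup hx h1).2.2.1

theorem txt (hG : Hyp G Ω a t Q s r) {x : G} (hx : x ∈ Q) (h1 : x ≠ 1) :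
    t * x * t = gg a t Q x * hh a t Q x * t * ff a t Q x := (ghf_spec hG.setup hx h1).2.2.2

theorem ghf_eq (hG : Hyp G Ω a t Q s r) {x g h f : G} (hx : x ∈ Q) (hg : g ∈ Q)
    (hh' : h ∈ DD a t) (hf : f ∈ Q) (e : t * x * t = g * h * t * f) :
    gg a t Q x = g ∧ hh a t Q x = h ∧ ff a t Q x = f := (Suz.ghf_eq hG.setup hx hg hh' hf e).2

/-- (H1) -/
theorem ghf_inv (hG : Hyp G Ω a t Q s r) {x : G} (hx : x ∈ Q) (h1 : x ≠ 1) :
    gg a t Q x⁻¹ = (ff a t Q x)⁻¹ ∧ hh a t Q x⁻¹ = t * (hh a t Q x)⁻¹ * t ∧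
      ff a t Q x⁻¹ = (gg a t Q x)⁻¹ := by
  refine hG.ghf_eq (Q.inv_mem hx) (Q.inv_mem (hG.ff_mem hx h1))
    (hG.tDt (Subgroup.inv_mem _ (hG.hh_mem hx h1))) (Q.inv_mem (hG.gg_mem hx h1)) ?_
  have e := congrArg (·⁻¹) (hG.txt hx h1)
  simp only [mul_inv_rev, hG.t_inv] at e
  simp only [mul_assoc, hG.tt_mul] at e ⊢
  exact e

/-- (H2) -/
theorem ghf_ff (hG : Hyp G Ω a t Q s r) {x : G} (hx : x ∈ Q) (h1 : x ≠ 1) :
    ff a t Q x ≠ 1 ∧
    gg a t Q (ff a t Q x) = (hh a t Q x)⁻¹ * (gg a t Q x)⁻¹ * hh a t Q x ∧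
      hh a t Q (ff a t Q x) = (hh a t Q x)⁻¹ ∧ ff a t Q (ff a t Q x) = x := by
  refine Suz.ghf_eq hG.setup (hG.ff_mem hx h1)
    (hG.conj_Q (hG.hh_mem hx h1) (Q.inv_mem (hG.gg_mem hx h1)))
    (Subgroup.inv_mem _ (hG.hh_mem hx h1)) hx ?_
  have e := hG.txt hx h1
  calc t * ff a t Q x * t = (hh a t Q x)⁻¹ * (gg a t Q x)⁻¹ *
        (gg a t Q x * hh a t Q x * t * ff a t Q x) * t := by group
    _ = _ := by rw [← e]; simp only [mul_assoc, hG.tt, mul_one, mul_inv_cancel_left]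

theorem ff_ne_one (hG : Hyp G Ω a t Q s r) {x : G} (hx : x ∈ Q) (h1 : x ≠ 1) : ff a t Q x ≠ 1 :=
  (hG.ghf_ff hx h1).1

theorem ff_ff (hG : Hyp G Ω a t Q s r) {x : G} (hx : x ∈ Q) (h1 : x ≠ 1) :
    ff a t Q (ff a t Q x) = x := (hG.ghf_ff hx h1).2.2.2

theorem gg_ne_one (hG : Hyp G Ω a t Q s r) {x : G} (hx : x ∈ Q) (h1 : x ≠ 1) :
    gg a t Q x ≠ 1 := by
  have := hG.ff_ne_one (Q.inv_mem hx) (inv_ne_one.mpr h1)
  rwa [(hG.ghf_inv hx h1).2.2, inv_ne_one] at this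

/-- (H3), (H4) -/
theorem ghf_conj (hG : Hyp G Ω a t Q s r) {x d : G} (hx : x ∈ Q) (h1 : x ≠ 1) (hd : d ∈ DD a t) :
    gg a t Q (d⁻¹ * x * d) = (t * d * t)⁻¹ * gg a t Q x * (t * d * t) ∧
      hh a t Q (d⁻¹ * x * d) = (t * d * t)⁻¹ * hh a t Q x * d ∧
      ff a t Q (d⁻¹ * x * d) = (t * d * t)⁻¹ * ff a t Q x * (t * d * t) := by
  refine hG.ghf_eq (hG.conj_Q hd hx) (hG.conj_Q (hG.tDt hd) (hG.gg_mem hx h1))
    (Subgroup.mul_mem _ (Subgroup.mul_mem _ (Subgroup.inv_mem _ (hG.tDt hd)) (hG.hh_mem hx h1)) hd)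
    (hG.conj_Q (hG.tDt hd) (hG.ff_mem hx h1)) ?_
  have e := hG.txt hx h1
  calc t * (d⁻¹ * x * d) * t = (t * d * t)⁻¹ * (t * x * t) * (t * d * t) := by
        simp only [mul_inv_rev, hG.t_inv, mul_assoc, hG.tt_mul]
    _ = _ := by
        rw [e]
        simp only [mul_inv_rev, hG.t_inv, mul_assoc, hG.tt_mul, mul_inv_cancel_left]

/-- (H5), (H6) -/
theorem ghf_mul (hG : Hyp G Ω a t Q s r) {x y : G} (hx : x ∈ Q) (hx1 : x ≠ 1) (hy : y ∈ Q)
    (hy1 : y ≠ 1) (hxy : x * y ≠ 1) :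
    ff a t Q x * gg a t Q y ≠ 1 ∧
    gg a t Q (x * y) = gg a t Q x *
        (hh a t Q x * gg a t Q (ff a t Q x * gg a t Q y) * (hh a t Q x)⁻¹) ∧
      hh a t Q (x * y) = hh a t Q x * hh a t Q (ff a t Q x * gg a t Q y) * hh a t Q y ∧
      ff a t Q (x * y) = (t * hh a t Q y * t)⁻¹ * ff a t Q (ff a t Q x * gg a t Q y) *
        (t * hh a t Q y * t) * ff a t Q y := by
  have e : t * (x * y) * t = gg a t Q x * hh a t Q x * (t * (ff a t Q x * gg a t Q y) * t) *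
      (t * hh a t Q y * t) * ff a t Q y := by
    calc t * (x * y) * t = (t * x * t) * (t * y * t) := by simp only [mul_assoc, hG.tt_mul]
      _ = _ := by
        rw [hG.txt hx hx1, hG.txt hy hy1]
        simp only [mul_assoc, hG.tt_mul]
  have hz := Q.mul_mem (hG.ff_mem hx hx1) (hG.gg_mem hy hy1)
  have hz1 : ff a t Q x * gg a t Q y ≠ 1 := by
    intro h
    rw [h, mul_one, hG.tt, mul_one] at e
    apply hxy
    apply eq_one_of_mem_Q_of_fix_b hG.setup (Q.mul_mem hx hy)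
    have h2 : (t * (x * y) * t) • a = a := by
      rw [e, mul_smul, mul_smul, mul_smul, Q_fix hG.setup (hG.ff_mem hy hy1),
        show (t * hh a t Q y * t) • a = a from (hG.tDt (hG.hh_mem hy hy1)).1,
        show hh a t Q x • a = a from (hG.hh_mem hx hx1).1, Q_fix hG.setup (hG.gg_mem hx hx1)]
    have := congrArg (t • ·) h2
    simpa only [mul_smul, tta hG.setup] using this
  refine ⟨hz1, hG.ghf_eq (Q.mul_mem hx hy) (Q.mul_mem (hG.gg_mem hx hx1)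
    (conj_mem_Q hG.setup (hG.hh_mem hx hx1).1 (hG.gg_mem hz hz1)))
    (Subgroup.mul_mem _ (Subgroup.mul_mem _ (hG.hh_mem hx hx1) (hG.hh_mem hz hz1))
      (hG.hh_mem hy hy1))
    (Q.mul_mem (hG.conj_Q (hG.tDt (hG.hh_mem hy hy1)) (hG.ff_mem hz hz1)) (hG.ff_mem hy hy1)) ?_⟩
  rw [e, hG.txt hz hz1]
  simp only [mul_inv_rev, hG.t_inv, mul_assoc, hG.tt_mul, mul_inv_cancel_left, inv_mul_cancel_left]

theorem ghf_s (hG : Hyp G Ω a t Q s r) :
    gg a t Q s = r⁻¹ ∧ hh a t Q s = 1 ∧ ff a t Q s = r :=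
  hG.ghf_eq hG.s_mem (Q.inv_mem hG.r_mem) (Subgroup.one_mem _) hG.r_mem
    (by rw [mul_one, hG.struct])

theorem r_ne_one (hG : Hyp G Ω a t Q s r) : r ≠ 1 := by
  rw [← hG.ghf_s.2.2]; exact hG.ff_ne_one hG.s_mem hG.s_ne

/-- the action of `t` on `Ω ∖ {a} ≃ Q` -/
theorem t_smul (hG : Hyp G Ω a t Q s r) {x : G} (hx : x ∈ Q) (h1 : x ≠ 1) :
    t • x • t • a = gg a t Q x • t • a := by
  rw [← mul_smul, ← mul_smul, hG.txt hx h1, mul_smul, mul_smul, mul_smul,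
    Q_fix hG.setup (hG.ff_mem hx h1), show hh a t Q x • t • a = t • a from (hG.hh_mem hx h1).2]

end Hyp

theorem exists_hyp [Finite G] [FaithfulSMul G Ω] (hS : IsRankOneSetup G Ω a t Q) (h2 : Rank2 G) :
    ∃ s r, Hyp G Ω a t Q s r := by
  obtain ⟨s, r, hs, hr, e⟩ := H21.RankOne.exists_struct hS
  exact ⟨s, r, hS, fun g h => FaithfulSMul.eq_of_smul_eq_smul (α := Ω) (by simpa using h), h2,
    H21.RankOne.invol_mem_Q hS hs.1 hs.2.2, hs.2.1, hs.2.2, hr, e⟩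

end Suz
end H8
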