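import Mathlib
import Cfsg.Agent.H8.SuzDefs
import Cfsg.Agent.H21.Huppert2
import Cfsg.Agent.S0205

/-! Chapter I, §2, Proposition 2 (= S1131): `K` is a cyclic normal subgroup of `D`. -/

set_option autoImplicit false

namespace H8
namespace Suz

open Cfsg MulAction

variable {G Ω : Type*} [Group G] [Finite G] [MulAction G Ω] {a : Ω} {t : G} {Q : Subgroup G} {s r : G}

theorem Hyp.exists_K (hG : Hyp G Ω a t Q s r) :
    ∃ C : Subgroup G, (C : Set G) = invertedBy (DD a t) t ∧ IsCyclic C ∧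
      ∀ d ∈ DD a t, ∀ c ∈ C, d * c * d⁻¹ ∈ C := by
  haveI := Cfsg.Agent.S0205.result hG.odd_D
  letI : CommGroup (Q0 Q) := { (inferInstance : Group (Q0 Q)) with
    mul_comm := fun x y => Subtype.ext (hG.Q0_central x.2 (Q0_le y.2)) }
  have hc : ∀ (d : DD a t) (x : Q0 Q), (d : G) * x * (d : G)⁻¹ ∈ Q0 Q := fun d x => by
    simpa using hG.conj_Q0 (d := (d : G)⁻¹) (d⁻¹).2.1 x.2
  letI : DistribMulAction (DD a t) (Additive (Q0 Q)) :=
    { smul := fun d x => Additive.ofMul ⟨_, hc d x.toMul⟩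
      one_smul := fun x => Subtype.ext (by
        change (1 : G) * (x.toMul : G) * (1 : G)⁻¹ = x.toMul
        simp)
      mul_smul := fun d e x => Subtype.ext (by
        change (d : G) * e * (x.toMul : G) * ((d : G) * e)⁻¹ = d * (e * x.toMul * (e : G)⁻¹) * (d : G)⁻¹
        group)
      smul_zero := fun d => Subtype.ext (by
        change (d : G) * 1 * (d : G)⁻¹ = 1
        simp)
      smul_add := fun d x y => Subtype.ext (by
        change (d : G) * ((x.toMul : G) * y.toMul) * (d : G)⁻¹ =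
          d * x.toMul * (d : G)⁻¹ * (d * y.toMul * (d : G)⁻¹)
        group) }
  let τ : DD a t →* DD a t :=
    { toFun := fun d => ⟨t * d * t⁻¹, H21.RankOne.t_conj_mem_D hG.setup d.2⟩
      map_one' := Subtype.ext (by simp)
      map_mul' := fun d e => Subtype.ext (by
        change t * ((d : G) * e) * t⁻¹ = t * d * t⁻¹ * (t * e * t⁻¹)
        group) }
  have hinv : ∀ x : Additive (Q0 Q), x ≠ 0 →
      (x.toMul : G) ∈ involutionsIn (stabilizer G a : Set G) := fun x hx =>
    ⟨hG.setup.le (Q0_le x.toMul.2), fun h => hx (Subtype.ext h), (hG.mem_Q0.mp x.toMul.2).2⟩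
  obtain ⟨c, hcK⟩ := H21.Hup.cyclic_inverted (D := DD a t) (E := Additive (Q0 Q)) hG.odd_D
    Nat.prime_two (fun e => by
      rw [two_nsmul]; exact Subtype.ext (hG.mem_Q0.mp e.toMul.2).2)
    (fun x y hx hy => by
      obtain ⟨k, hk, e⟩ := H21.RankOne.exists_K_conj hG.setup (hinv x hx) (hinv y hy)
      refine ⟨(⟨k, hk.1⟩ : DD a t)⁻¹, Subtype.ext ?_⟩
      change k⁻¹ * (x.toMul : G) * k⁻¹⁻¹ = y.toMul
      rw [inv_inv, e])
    τ (fun d => Subtype.ext (by
      change t * (t * (d : G) * t⁻¹) * t⁻¹ = d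
      rw [hG.t_inv, mul_assoc t (d : G), hG.tt_mul, hG.mul_tt]))
    (s := Additive.ofMul ⟨s, hG.s_mem_Q0⟩) (fun h => hG.s_ne (congrArg Subtype.val h))
    (fun d => by
      have h1 : (d : G) ∈ VV a t ↔ _ := hG.mem_VV_iff
      rw [mem_VV] at h1
      constructor
      · intro h
        have h2 : (d : G) * s * (d : G)⁻¹ = s := congrArg Subtype.val h
        have h3 := (h1.mpr ⟨d.2, by rw [mul_inv_eq_iff_eq_mul] at h2; exact h2.symm⟩).2
        apply Subtype.ext
        change t * (d : G) * t⁻¹ = d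
        rw [h3, mul_inv_cancel_right]
      · intro h
        have h2 : t * (d : G) * t⁻¹ = d := congrArg Subtype.val h
        have h3 := (h1.mp ⟨d.2, by rwa [mul_inv_eq_iff_eq_mul] at h2⟩).2
        apply Subtype.ext
        change (d : G) * s * (d : G)⁻¹ = s
        rw [← h3, mul_inv_cancel_right])
  have hC : (Subgroup.zpowers (c : G) : Set G) = invertedBy (DD a t) t := by
    ext k
    constructor
    · rintro ⟨n, rfl⟩
      exact ⟨(c ^ n).2, congrArg Subtype.val ((hcK (c ^ n)).mpr ⟨n, rfl⟩)⟩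
    · intro hk
      obtain ⟨n, hn⟩ := (hcK ⟨k, hk.1⟩).mp (Subtype.ext hk.2)
      exact ⟨n, congrArg Subtype.val hn⟩
  refine ⟨_, hC, inferInstance, fun d hd x hx => ?_⟩
  have h1 : Subgroup.closure (invertedBy (DD a t) t) = Subgroup.zpowers (c : G) := by
    rw [← hC, Subgroup.closure_eq]
  rw [← h1] at hx ⊢
  exact H21.conj_mem_closure_inverted hG.tt hG.odd_D
    (fun x hx => H21.RankOne.t_conj_mem_D hG.setup hx) hd hx

end Suz
end H8
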