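import Mathlib
import Cfsg.Agent.H8.SuzK0
import Cfsg.Agent.H21.Higman5
import Cfsg.Agent.S1545

/-! Chapter I, §2: `K`, field coordinates on `Q₀`, Higman, order of `s t`, fixed point formula. -/

set_option autoImplicit false

namespace H8

/-- a field automorphism of odd prime order `p` moves an element of order prime to `p` -/
theorem exists_moved_coprime {F : Type*} [Field F] [Finite F] (σ : F ≃+* F) {p : ℕ} (hp : p.Prime)
    (hodd : Odd p) (ho : orderOf σ = p) :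
    ∃ y : F, y ≠ 0 ∧ σ y ≠ y ∧ ∃ m, ¬ p ∣ m ∧ y ^ m = 1 := by
  classical
  by_contra hcon
  push Not at hcon
  have := Fintype.ofFinite F
  have := Fintype.ofFinite (F ≃+* F)
  let F0 := FixedPoints.subfield (Subgroup.zpowers σ) F
  have h1 : Module.finrank F0 F = p := by
    rw [FixedPoints.finrank_eq_card, Fintype.card_zpowers, ho]
  have h2 : Nat.card F = Nat.card F0 ^ p := by
    rw [← h1, Module.natCard_eq_pow_finrank (K := F0)]
  obtain ⟨l, hl⟩ : ∃ l, Nat.card F0 = l + 1 := ⟨Nat.card F0 - 1, by have := Nat.card_pos (α := F0); omega⟩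
  have hl0 : 0 < l := by have := Finite.one_lt_card (α := F0); omega
  have h3 : Nat.card Fˣ = (l + 1) ^ p - 1 := by rw [Nat.card_units, h2, hl]
  obtain ⟨N, hN⟩ : ∃ N, N = ∑ i ∈ Finset.range p, (l + 1) ^ i := ⟨_, rfl⟩
  have h4 : N * l = (l + 1) ^ p - 1 := by
    have := Nat.geomSum_eq (m := l + 1) (by omega) p
    rw [hN, this, Nat.add_sub_cancel]
    exact Nat.div_mul_cancel (by simpa using Nat.sub_dvd_pow_sub_pow (l + 1) 1 p)
  have hNp : p < N := by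
    rw [hN]
    calc p = ∑ i ∈ Finset.range p, 1 := by simp
      _ < _ := Finset.sum_lt_sum (fun i _ => Nat.one_le_pow _ _ (by omega))
          ⟨1, Finset.mem_range.mpr hp.one_lt, by rw [pow_one]; omega⟩
  obtain ⟨j, m, hm, e⟩ := Nat.exists_eq_pow_mul_and_not_dvd (n := Nat.card Fˣ) Nat.card_pos.ne' p
    hp.ne_one
  obtain ⟨g, hg⟩ := IsCyclic.exists_ofOrder_eq_natCard (α := Fˣ)
  have h5 : orderOf (g ^ p ^ j) = m := by
    rw [orderOf_pow' _ (pow_ne_zero _ hp.ne_zero), hg, e, Nat.gcd_mul_right_left,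
      Nat.mul_div_cancel_left _ (pow_pos hp.pos _)]
  have h6 : σ (g ^ p ^ j : Fˣ) = (g ^ p ^ j : Fˣ) := by
    by_contra h
    refine hcon _ (Units.ne_zero _) h m hm ?_
    rw [← Units.val_pow_eq_pow_val, ← h5, pow_orderOf_eq_one, Units.val_one]
  have h7 : ((g ^ p ^ j : Fˣ) : F) ∈ F0 := fun τ =>
    (Subgroup.zpowers_le.mpr (show σ ∈ MulAction.stabilizer (F ≃+* F) ((g ^ p ^ j : Fˣ) : F) from h6))
      τ.2
  have h8 : m ∣ l := by
    have := Fintype.ofFinite F0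
    have h9 := FiniteField.pow_card_sub_one_eq_one (⟨_, h7⟩ : F0)
      (fun h => (g ^ p ^ j).ne_zero (congrArg Subtype.val h))
    rw [← Nat.card_eq_fintype_card, hl, Nat.add_sub_cancel] at h9
    rw [← h5]
    exact orderOf_dvd_of_pow_eq_one (Units.ext (congrArg Subtype.val h9))
  obtain ⟨c, rfl⟩ := h8
  have hm0 : 0 < m := Nat.pos_of_mul_pos_right hl0
  have h9 : N * c = p ^ j := by
    apply Nat.eq_of_mul_eq_mul_right hm0
    rw [← e, h3, ← h4]; ring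
  obtain ⟨i, -, rfl⟩ := (Nat.dvd_prime_pow hp).mp (Dvd.intro _ h9)
  have hi : 2 ≤ i := by
    by_contra h
    have : p ^ i ≤ p ^ 1 := Nat.pow_le_pow_right hp.pos (by omega)
    rw [pow_one] at this
    exact absurd hNp (not_lt.mpr this)
  have h10 : p ∣ m * c := by
    have : Fact p.Prime := ⟨hp⟩
    have h11 : p ∣ (m * c + 1) ^ p - 1 := h4 ▸ Dvd.dvd.mul_right (dvd_pow_self p (by omega)) _
    rw [← ZMod.natCast_eq_zero_iff, Nat.cast_sub (Nat.one_le_pow _ _ (by omega))] at h11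
    push_cast at h11
    rw [ZMod.pow_card] at h11
    rw [← ZMod.natCast_eq_zero_iff]
    push_cast
    linear_combination h11
  have h12 := emultiplicity_geom_sum₂_eq_one (R := ℤ) (p := p) (x := (m * c + 1 : ℕ)) (y := 1)
    (Nat.prime_iff_prime_int.mp hp) hodd (by push_cast; simpa using Int.natCast_dvd_natCast.mpr h10)
    (fun h => hp.ne_one (Nat.dvd_one.mp ((Nat.dvd_add_right h10).mp (Int.natCast_dvd_natCast.mp h))))
  have h13 : (∑ i ∈ Finset.range p, ((m * c + 1 : ℕ) : ℤ) ^ i * 1 ^ (p - 1 - i)) = (p : ℤ) ^ i := by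
    have := congrArg (Nat.cast : ℕ → ℤ) hN
    push_cast at this ⊢
    simp [this]
  rw [h13, emultiplicity_pow_self_of_prime (Nat.prime_iff_prime_int.mp hp)] at h12
  have : i = 1 := by exact_mod_cast h12
  omega

namespace Suz

open Cfsg MulAction H21.RankOne

variable {G Ω : Type*} [Group G] [Finite G] [MulAction G Ω] {a : Ω} {t : G} {Q : Subgroup G} {s r : G}

/-- conjugation action of a subgroup normalising `S` -/
abbrev actOn {G : Type*} [Group G] (K S : Subgroup G) (h : K ≤ Subgroup.normalizer (S : Set G)) :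
    MulDistribMulAction K S :=
  MulDistribMulAction.compHom S (S.normalizerMonoidHom.comp (Subgroup.inclusion h))

theorem le_normalizer_of_conj {K S : Subgroup G} (h : ∀ k ∈ K, ∀ x ∈ S, k⁻¹ * x * k ∈ S) :
    K ≤ Subgroup.normalizer (S : Set G) := fun k hk =>
  Subgroup.mem_normalizer_fintype fun x hx => by simpa using h k⁻¹ (K.inv_mem hk) x hx

namespace Fld

variable {F : Type*} [Field F] {e : F → G} {κ : G → F}

omit [Finite G] in
theorem zero (h : Fld a t Q s e κ) : e 0 = 1 := by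
  have := h.add 0 0
  rwa [add_zero, left_eq_mul] at this

omit [Finite G] in
theorem eq_one_iff (h : Fld a t Q s e κ) {x : F} : e x = 1 ↔ x = 0 := by
  rw [← h.zero, h.inj.eq_iff]

omit [Finite G] in
theorem add_self (h : Fld a t Q s e κ) (x : F) : x + x = 0 := by
  rw [← two_mul, h.two, zero_mul]

omit [Finite G] in
theorem mul_self (h : Fld a t Q s e κ) (x : F) : e x * e x = 1 := by
  rw [← h.add, h.add_self, h.zero]

omit [Finite G] in
theorem inv (h : Fld a t Q s e κ) (x : F) : (e x)⁻¹ = e x := H21.invol_inv (h.mul_self x)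

omit [Finite G] in
theorem conj_s (h : Fld a t Q s e κ) {k : G} (hk : k ∈ KK a t) : k⁻¹ * s * k = e (κ k) := by
  rw [← h.one, h.conjK k hk, mul_one]

omit [Finite G] in
theorem κ_mul (h : Fld a t Q s e κ) {k l : G} (hk : k ∈ KK a t) (hl : l ∈ KK a t) :
    κ (k * l) = κ k * κ l := by
  apply h.inj
  rw [← h.conj_s (Subgroup.mul_mem _ hk hl), mul_comm (κ k), ← h.conjK l hl, ← h.conj_s hk]
  group

omit [Finite G] in
theorem κ_one (h : Fld a t Q s e κ) : κ 1 = 1 := by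
  apply h.inj
  rw [← h.conj_s (Subgroup.one_mem _), h.one]
  group

omit [Finite G] in
theorem κ_ne (h : Fld a t Q s e κ) {k : G} (hk : k ∈ KK a t) : κ k ≠ 0 := by
  have := h.κ_mul hk (Subgroup.inv_mem _ hk)
  rw [mul_inv_cancel, h.κ_one] at this
  exact left_ne_zero_of_mul_eq_one this.symm

omit [Finite G] in
theorem κ_inv (h : Fld a t Q s e κ) {k : G} (hk : k ∈ KK a t) : κ k⁻¹ = (κ k)⁻¹ := by
  have := h.κ_mul hk (Subgroup.inv_mem _ hk)
  rw [mul_inv_cancel, h.κ_one] at this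
  exact eq_inv_of_mul_eq_one_right this.symm

omit [Finite G] in
theorem κ_pow (h : Fld a t Q s e κ) {k : G} (hk : k ∈ KK a t) (n : ℕ) : κ (k ^ n) = κ k ^ n := by
  induction n with
  | zero => simpa using h.κ_one
  | succ n ih => rw [pow_succ, h.κ_mul (Subgroup.pow_mem _ hk n) hk, ih, pow_succ]

omit [Finite G] in
theorem card (h : Fld a t Q s e κ) : Nat.card F = Nat.card (Q0 Q) :=
  Nat.card_eq_of_bijective (fun x => ⟨e x, h.mem x⟩)
    ⟨fun _ _ h' => h.inj (congrArg Subtype.val h'), fun z => by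
      obtain ⟨x, hx⟩ := h.surj z z.2
      exact ⟨x, Subtype.ext hx⟩⟩

end Fld

namespace Hyp

theorem coe_KK (hG : Hyp G Ω a t Q s r) : (KK a t : Set G) = invertedBy (DD a t) t := by
  obtain ⟨C, hC, -⟩ := hG.exists_K
  rw [KK, ← hC, Subgroup.closure_eq]

theorem mem_KK' (hG : Hyp G Ω a t Q s r) {k : G} : k ∈ KK a t ↔ k ∈ invertedBy (DD a t) t := by
  rw [← hG.coe_KK]; rfl

theorem mem_KK (hG : Hyp G Ω a t Q s r) {k : G} :
    k ∈ KK a t ↔ k ∈ DD a t ∧ t * k * t = k⁻¹ := by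
  rw [hG.mem_KK', H21.mem_invertedBy, hG.t_inv]

theorem tKt (hG : Hyp G Ω a t Q s r) {k : G} (hk : k ∈ KK a t) : t * k * t = k⁻¹ :=
  (hG.mem_KK.mp hk).2

omit [Finite G] in
theorem tVt (hG : Hyp G Ω a t Q s r) {v : G} (hv : v ∈ VV a t) : t * v * t = v := by
  rw [(mem_VV.mp hv).2, hG.mul_tt]

theorem isCyclic_KK (hG : Hyp G Ω a t Q s r) : IsCyclic (KK a t) := by
  obtain ⟨C, hC, h, -⟩ := hG.exists_K
  rwa [KK, ← hC, Subgroup.closure_eq]

theorem KK_comm (hG : Hyp G Ω a t Q s r) {k l : G} (hk : k ∈ KK a t) (hl : l ∈ KK a t) :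
    k * l = l * k := by
  have := hG.isCyclic_KK
  exact congrArg Subtype.val (IsCyclic.commutative.1.1 (⟨k, hk⟩ : KK a t) ⟨l, hl⟩)

theorem conj_KK (hG : Hyp G Ω a t Q s r) {d k : G} (hd : d ∈ DD a t) (hk : k ∈ KK a t) :
    d⁻¹ * k * d ∈ KK a t := by
  obtain ⟨C, hC, -, h⟩ := hG.exists_K
  rw [KK, ← hC, Subgroup.closure_eq] at hk ⊢
  simpa using h d⁻¹ (Subgroup.inv_mem _ hd) k hk

theorem conj_WW (hG : Hyp G Ω a t Q s r) {d w : G} (hd : d ∈ DD a t) (hw : w ∈ WW a t Q) :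
    d⁻¹ * w * d ∈ WW a t Q := by
  refine mem_WW.mpr ⟨Subgroup.mul_mem _ (Subgroup.mul_mem _ (Subgroup.inv_mem _ hd) hw.1) hd,
    fun z hz => ?_⟩
  have h1 := (mem_WW.mp hw).2 _ (hG.conj_Q0 (Subgroup.inv_mem _ hd).1 hz)
  calc z * (d⁻¹ * w * d) = d⁻¹ * (d⁻¹⁻¹ * z * d⁻¹ * w) * d := by group
    _ = _ := by rw [h1]; group

theorem exists_KV (hG : Hyp G Ω a t Q s r) {d : G} (hd : d ∈ DD a t) :
    ∃ k ∈ KK a t, ∃ v ∈ VV a t, d = k * v := by
  obtain ⟨v, k, h1, h2, h3, e⟩ := exists_VK hG.setup (Subgroup.inv_mem _ hd)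
  refine ⟨k⁻¹, Subgroup.inv_mem _ (hG.mem_KK'.mpr h3), v⁻¹,
    Subgroup.inv_mem _ (mem_VV.mpr ⟨h1, h2⟩), ?_⟩
  rw [← mul_inv_rev, ← e, inv_inv]

theorem eq_one_of_K_V (hG : Hyp G Ω a t Q s r) {k : G} (hk : k ∈ KK a t) (hv : k ∈ VV a t) :
    k = 1 :=
  eq_one_of_mem_D_sq hG.setup hv.1 (by
    have := hG.tKt hk
    rw [hG.tVt hv] at this
    exact mul_eq_one_iff_eq_inv.mpr this)

theorem K_fpf (hG : Hyp G Ω a t Q s r) {k x : G} (hk : k ∈ KK a t) (hk1 : k ≠ 1) (hx : x ∈ Q)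
    (h : k * x = x * k) : x = 1 :=
  eq_one_of_comm_K hG.setup (hG.mem_KK'.mp hk) hk1 hx h

theorem K_eq_of_conj_s (hG : Hyp G Ω a t Q s r) {k l : G} (hk : k ∈ KK a t) (hl : l ∈ KK a t)
    (h : k⁻¹ * s * k = l⁻¹ * s * l) : k = l :=
  K_conj_inj hG.setup hG.s_invol (hG.mem_KK'.mp hk) (hG.mem_KK'.mp hl) h

theorem exists_K_conj_s (hG : Hyp G Ω a t Q s r) {z : G} (hz : z ∈ Q0 Q) (h1 : z ≠ 1) :
    ∃ k ∈ KK a t, k⁻¹ * s * k = z := by
  obtain ⟨k, hk, e⟩ := exists_K_conj hG.setup hG.s_invol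
    (s' := z) ⟨hG.setup.le (Q0_le hz), h1, (hG.mem_Q0.mp hz).2⟩
  exact ⟨k, hG.mem_KK'.mpr hk, e⟩

theorem K_W_comm (hG : Hyp G Ω a t Q s r) {k w : G} (hk : k ∈ KK a t) (hw : w ∈ WW a t Q) :
    k * w = w * k := by
  have h1 : k⁻¹ * (w⁻¹ * k * w) = 1 := by
    apply hG.eq_one_of_K_V (Subgroup.mul_mem _ (Subgroup.inv_mem _ hk) (hG.conj_KK hw.1 hk))
    apply hG.WW_le_VV
    have := Subgroup.mul_mem _ (hG.conj_WW (KK_le hk) (Subgroup.inv_mem _ hw)) hw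
    simpa only [mul_assoc] using this
  calc k * w = w * (k * (k⁻¹ * (w⁻¹ * k * w))) := by group
    _ = w * k := by rw [h1, mul_one]

theorem mem_WW_iff (hG : Hyp G Ω a t Q s r) {w : G} :
    w ∈ WW a t Q ↔ w ∈ VV a t ∧ ∀ k ∈ KK a t, k * w = w * k := by
  refine ⟨fun h => ⟨hG.WW_le_VV h, fun k hk => hG.K_W_comm hk h⟩, fun h =>
    mem_WW.mpr ⟨h.1.1, fun z hz => ?_⟩⟩
  by_cases h1 : z = 1
  · simp [h1]
  obtain ⟨k, hk, rfl⟩ := hG.exists_K_conj_s hz h1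
  rw [mul_assoc, h.2 k hk, mul_assoc, ← mul_assoc s, (hG.mem_VV_iff.mp h.1).2, ← mul_assoc,
    ← mul_assoc, h.2 _ (Subgroup.inv_mem _ hk)]
  simp only [mul_assoc]

theorem card_KK (hG : Hyp G Ω a t Q s r) : Nat.card (KK a t) + 1 = Nat.card (Q0 Q) := by
  have h1 : Nat.card (KK a t) = Nat.card (involutionsIn (stabilizer G a : Set G)) := by
    rw [← card_K hG.setup, ← hG.coe_KK]; rfl
  have h2 : (Q0 Q : Set G) = insert 1 (involutionsIn (stabilizer G a : Set G)) := by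
    ext x
    rw [SetLike.mem_coe, hG.mem_Q0, Set.mem_insert_iff, H21.mem_involutionsIn]
    constructor
    · rintro ⟨h1, h2⟩
      by_cases h : x = 1
      · exact Or.inl h
      · exact Or.inr ⟨hG.setup.le h1, h, h2⟩
    · rintro (rfl | h)
      · exact ⟨Q.one_mem, one_mul 1⟩
      · exact ⟨invol_mem_Q hG.setup h.1 h.2.2, h.2.2⟩
  rw [h1, show Nat.card (Q0 Q) = (Q0 Q : Set G).ncard from rfl, h2,
    Set.ncard_insert_of_notMem (fun h => h.2.1 rfl)]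
  rfl

theorem isPGroup_Q0 (hG : Hyp G Ω a t Q s r) : IsPGroup 2 (Q0 Q) := fun x =>
  ⟨1, Subtype.ext (by simpa [pow_two] using (hG.mem_Q0.mp x.2).2)⟩

theorem exists_KK_ne_one (hG : Hyp G Ω a t Q s r) : ∃ k ∈ KK a t, k ≠ 1 := by
  obtain ⟨k, hk, h1⟩ := exists_K_ne_one hG.setup hG.rank2
  exact ⟨k, hG.mem_KK'.mpr hk, h1⟩

theorem card_Q0 (hG : Hyp G Ω a t Q s r) : ∃ n, 2 ≤ n ∧ Nat.card (Q0 Q) = 2 ^ n := by
  obtain ⟨n, hn⟩ := IsPGroup.iff_card.mp hG.isPGroup_Q0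
  refine ⟨n, ?_, hn⟩
  obtain ⟨k, hk, h1⟩ := hG.exists_KK_ne_one
  have h2 : 1 < Nat.card (KK a t) := (Subgroup.one_lt_card_iff_ne_bot _).mpr fun h => h1 (by
    rwa [h, Subgroup.mem_bot] at hk)
  have h3 := hG.card_KK
  by_contra h
  have : 2 ^ n ≤ 2 ^ 1 := Nat.pow_le_pow_right (by norm_num) (by omega)
  omega

theorem four_le_card_Q0 (hG : Hyp G Ω a t Q s r) : 4 ≤ Nat.card (Q0 Q) := by
  obtain ⟨n, hn, e⟩ := hG.card_Q0
  rw [e]
  exact Nat.pow_le_pow_right (n := 2) (by norm_num) hn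

theorem card_DD (hG : Hyp G Ω a t Q s r) :
    Nat.card (DD a t) = Nat.card (KK a t) * Nat.card (VV a t) := by
  rw [H21.card_eq_cent_mul_inverted hG.tt hG.odd_D (fun x hx => t_conj_mem_D hG.setup hx),
    ← hG.coe_KK, mul_comm]
  rfl

theorem exists_fld (hG : Hyp G Ω a t Q s r) : ∃ (F : Type) (_ : Field F) (_ : Fintype F)
    (e : F → G) (κ : G → F), Fld a t Q s e κ := by
  obtain ⟨n, hn, hq⟩ := hG.card_Q0
  obtain ⟨F, _, _, hF⟩ := H21.exists_field_of_card Nat.prime_two hq (by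
    have := hG.four_le_card_Q0; omega)
  have : IsMulCommutative (Q0 Q) := ⟨⟨fun x y => Subtype.ext (hG.Q0_central x.2 (Q0_le y.2))⟩⟩
  have hN : DD a t ≤ Subgroup.normalizer (Q0 Q : Set G) :=
    le_normalizer_of_conj fun d hd x hx => hG.conj_Q0 hd.1 hx
  obtain ⟨e, μ, h1, h2, h3, h4, h5, h6, -, h7⟩ := H21.exists_field_coord (Q0 Q) (KK a t)
    (fun _ hk _ hl => hG.KK_comm hk hl) (KK_le.trans hN) (fun U hU hU1 hUK => by
      refine le_antisymm hU fun z hz => ?_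
      by_cases hz1 : z = 1
      · rw [hz1]; exact U.one_mem
      obtain ⟨⟨u, hu⟩, hu1⟩ := Subgroup.ne_bot_iff_exists_ne_one.mp hU1
      obtain ⟨k, hk, rfl⟩ := hG.exists_K_conj_s hz hz1
      obtain ⟨l, hl, rfl⟩ := hG.exists_K_conj_s (hU hu) fun h => hu1 (Subtype.ext h)
      have := (Subgroup.mem_normalizer_iff.mp
        (hUK (Subgroup.mul_mem _ (Subgroup.inv_mem _ hk) hl)) _).mp hu
      convert this using 1
      group) hG.s_mem_Q0 hG.s_ne F hF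
  have h0 : e 0 = 1 := by
    have := h1 0 0
    rwa [add_zero, left_eq_mul] at this
  have h8 : ∀ k ∈ KK a t, ∀ x, k⁻¹ * e x * k = e (μ k⁻¹ * x) := fun k hk x => by
    simpa using h6 k⁻¹ (Subgroup.inv_mem _ hk) x
  refine ⟨F, inferInstance, inferInstance, e, fun k => μ k⁻¹, ?_, h1, h2, h3, h4, h5, h8,
    fun y hy => ?_, fun v hv => ?_⟩
  · apply h2
    rw [← one_add_one_eq_two, h1, h5, hG.s_sq, h0]
  · obtain ⟨k, hk, e'⟩ := hG.exists_K_conj_s (h3 y) fun h => hy (h2 (h.trans h0.symm))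
    refine ⟨k, hk, h2 ?_⟩
    rw [← e', ← h5, h8 k hk, mul_one]
  · obtain ⟨σ, c, h9⟩ := h7 v⁻¹ (hN (Subgroup.inv_mem _ hv).1) fun k hk => by
      simpa using hG.conj_KK hv.1 hk
    have hc : c = 1 := by
      apply h2
      have := h9 1
      rw [map_one, mul_one, h5, inv_inv, mul_assoc, (hG.mem_VV_iff.mp hv).2,
        inv_mul_cancel_left] at this
      rw [← this, h5]
    exact ⟨σ, fun x => by simpa [hc] using h9 x⟩

theorem κ_inj (hG : Hyp G Ω a t Q s r) {F : Type*} [Field F] {e : F → G} {κ : G → F}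
    (h : Fld a t Q s e κ) {k l : G} (hk : k ∈ KK a t) (hl : l ∈ KK a t) (e' : κ k = κ l) : k = l :=
  hG.K_eq_of_conj_s hk hl (by rw [h.conj_s hk, h.conj_s hl, e'])

theorem κ_conj (hG : Hyp G Ω a t Q s r) {F : Type*} [Field F] {e : F → G} {κ : G → F}
    (h : Fld a t Q s e κ) {v k : G} (hv : v ∈ VV a t) {σ : F ≃+* F}
    (hσ : ∀ x, v⁻¹ * e x * v = e (σ x)) (hk : k ∈ KK a t) : κ (v⁻¹ * k * v) = σ (κ k) := by
  apply h.inj
  rw [← h.conj_s (hG.conj_KK hv.1 hk), ← hσ, ← h.conj_s hk]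
  calc (v⁻¹ * k * v)⁻¹ * s * (v⁻¹ * k * v) = v⁻¹ * k⁻¹ * (v * s) * (v⁻¹ * k * v) := by group
    _ = _ := by rw [← (hG.mem_VV_iff.mp hv).2]; group

theorem szH (hG : Hyp G Ω a t Q s r) {S : Subgroup G} (hS : S ≤ Q) (h0 : Q0 Q ≤ S)
    (h2 : IsPGroup 2 S) (hK : KK a t ≤ Subgroup.normalizer (S : Set G)) :
    letI := actOn (KK a t) S hK
    H21.SzH (KK a t) S := by
  letI := actOn (KK a t) S hK
  have hsm : ∀ (k : KK a t) (x : S), ((k • x : S) : G) = k * x * (k : G)⁻¹ := fun _ _ => rfl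
  refine ⟨h2, fun k l => Subtype.ext (hG.KK_comm k.2 l.2), fun {x y} hx1 hx2 hy1 hy2 => ?_,
    fun {k x} hx1 _ h => ?_, ?_⟩
  · obtain ⟨k, hk, e1⟩ := hG.exists_K_conj_s (hG.mem_Q0.mpr ⟨hS x.2, congrArg Subtype.val hx2⟩)
      fun h => hx1 (Subtype.ext h)
    obtain ⟨l, hl, e2⟩ := hG.exists_K_conj_s (hG.mem_Q0.mpr ⟨hS y.2, congrArg Subtype.val hy2⟩)
      fun h => hy1 (Subtype.ext h)
    refine ⟨⟨l⁻¹ * k, Subgroup.mul_mem _ (Subgroup.inv_mem _ hl) hk⟩, Subtype.ext ?_⟩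
    rw [hsm, ← e1, ← e2]
    group
  · by_contra hk
    apply hx1
    have := congrArg Subtype.val h
    rw [hsm] at this
    exact Subtype.ext (hG.K_fpf k.2 (fun h => hk (Subtype.ext h)) (hS x.2)
      (mul_inv_eq_iff_eq_mul.mp this))
  · obtain ⟨k, hk, h1⟩ := hG.exists_KK_ne_one
    have h3 := hG.conj_Q0 (KK_le hk).1 hG.s_mem_Q0
    refine ⟨⟨s, h0 hG.s_mem_Q0⟩, ⟨_, h0 h3⟩, fun h => h1 ?_, fun h => hG.s_ne (congrArg Subtype.val h),
      Subtype.ext hG.s_sq, fun h => hG.s_ne ?_, Subtype.ext (hG.mem_Q0.mp h3).2⟩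
    · exact hG.K_eq_of_conj_s hk (Subgroup.one_mem _) (by simpa using (congrArg Subtype.val h).symm)
    · simpa [mul_assoc] using congrArg (fun x : S => k * x * k⁻¹) h

/-- Higman's theorem for a `K`-invariant non-abelian `2`-subgroup of `Q`. -/
theorem higman (hG : Hyp G Ω a t Q s r) {S : Subgroup G} (hS : S ≤ Q) (h0 : Q0 Q ≤ S)
    (h2 : IsPGroup 2 S) (hK : ∀ k ∈ KK a t, ∀ x ∈ S, k⁻¹ * x * k ∈ S)
    (hna : ∃ x ∈ S, ∃ y ∈ S, x * y ≠ y * x) :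
    (∀ x ∈ S, x * x ∈ Q0 Q) ∧ (∀ x ∈ S, ∀ y ∈ S, x⁻¹ * y⁻¹ * x * y ∈ Q0 Q) ∧
      (∀ z ∈ S, (∀ x ∈ S, z * x = x * z) → z ∈ Q0 Q) ∧
      (Nat.card S = Nat.card (Q0 Q) ^ 2 ∨ Nat.card S = Nat.card (Q0 Q) ^ 3) := by
  letI := actOn (KK a t) S (le_normalizer_of_conj hK)
  have h := hG.szH hS h0 h2 (le_normalizer_of_conj hK)
  have hna' : ∃ x y : S, x * y ≠ y * x := by
    obtain ⟨x, hx, y, hy, e⟩ := hna
    exact ⟨⟨x, hx⟩, ⟨y, hy⟩, fun h => e (congrArg Subtype.val h)⟩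
  have hm : ∀ x : S, x ∈ h.Om → (x : G) ∈ Q0 Q := fun x hx =>
    hG.mem_Q0.mpr ⟨hS x.2, congrArg Subtype.val (h.mem_Om.mp hx)⟩
  refine ⟨fun x hx => hm _ (h.sq_mem_Om hna' ⟨x, hx⟩), fun x hx y hy => ?_, fun z hz hc => ?_, ?_⟩
  · simpa [commutatorElement_def] using hm _ (h.comm_mem_Om hna' ⟨x, hx⟩⁻¹ ⟨y, hy⟩⁻¹)
  · apply hm ⟨z, hz⟩
    rw [← h.center_eq hna', Subgroup.mem_center_iff]
    exact fun g => Subtype.ext (hc g g.2).symm
  · rw [← hG.card_KK, h.card_K]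
    exact h.card_eq hna'

omit [Finite G] in
theorem s_conj_ts (hG : Hyp G Ω a t Q s r) (n : ℕ) : s * (t * s) ^ n * s = ((t * s) ^ n)⁻¹ := by
  have : s * (t * s) * s⁻¹ = (t * s)⁻¹ := by
    rw [mul_inv_rev, hG.t_inv, mul_assoc, mul_inv_cancel_right, hG.s_inv]
  rw [← inv_pow, ← this, conj_pow, hG.s_inv]

theorem r_conj_ts (hG : Hyp G Ω a t Q s r) : r⁻¹ * (t * s) * r = (t * s) ^ 2 := by
  rw [pow_two, ← mul_assoc (t * s), hG.struct, mul_assoc, mul_assoc t, hG.central hG.s_mem hG.s_sq hG.r_mem]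
  group

theorem rr_conj_ts (hG : Hyp G Ω a t Q s r) (n : ℕ) :
    (r * r)⁻¹ * (t * s) ^ n * (r * r) = (t * s) ^ (4 * n) := by
  have h1 : ∀ n : ℕ, r⁻¹ * (t * s) ^ n * r = (t * s) ^ (2 * n) := fun n => by
    rw [pow_mul, ← hG.r_conj_ts]
    simpa using (conj_pow (a := r⁻¹) (b := t * s) (i := n)).symm
  rw [show 4 * n = 2 * (2 * n) by ring, ← h1, ← h1]
  group

omit [Finite G] in
theorem ts_ne_one (hG : Hyp G Ω a t Q s r) : t * s ≠ 1 := fun h =>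
  hG.t_notMem_Q (by rw [eq_inv_of_mul_eq_one_left h]; exact Q.inv_mem hG.s_mem)

theorem eq_one_of_comm_ts (hG : Hyp G Ω a t Q s r) {n : ℕ} {z : G} (hz : z * z = 1)
    (hc : z * (t * s) ^ n = (t * s) ^ n * z) : z = 1 ∨ (t * s) ^ n = 1 := by
  by_contra h
  push Not at h
  have h1 : Odd (orderOf (s * t)) := odd_orderOf_mul hG.setup (Q_fix hG.setup hG.s_mem) hG.s_ne
    hG.s_sq (ta_ne hG.setup) hG.tt
  have h2 : (t * s) ^ orderOf (s * t) = 1 := by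
    rw [← inv_eq_one, ← inv_pow, mul_inv_rev, hG.t_inv, hG.s_inv, pow_orderOf_eq_one]
  have h3 := hG.odd_centralizer hG.s_ne hG.s_sq (x := (t * s) ^ n) (fun h' => h.2
    (H21.eq_one_of_sq_of_odd h1 (by rw [← pow_mul, mul_comm, pow_mul, h2, one_pow]) h'))
    (hG.s_conj_ts n)
  exact h.1 (H21.eq_one_of_sq_of_mem_odd h3 (Subgroup.mem_centralizer_singleton_iff.mpr hc) hz)

omit [Finite G] in
theorem orderOf_st (hG : Hyp G Ω a t Q s r) {p : ℕ} [Fact p.Prime] (h : (t * s) ^ p = 1) :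
    orderOf (s * t) = p := by
  rw [← orderOf_inv, mul_inv_rev, hG.t_inv, hG.s_inv]
  exact orderOf_eq_prime h hG.ts_ne_one

theorem r_eq_s (hG : Hyp G Ω a t Q s r) (h : r * r = 1) : r = s ∧ orderOf (s * t) = 3 := by
  have h1 := hG.rr_conj_ts 1
  rw [h, inv_one, one_mul, mul_one] at h1
  have h2 : (t * s) ^ 3 = 1 := by
    have : (t * s) ^ 1 * (t * s) ^ 3 = (t * s) ^ 1 * 1 := by rw [← pow_add, ← h1, mul_one]
    exact mul_left_cancel this
  have : Fact (Nat.Prime 3) := ⟨Nat.prime_three⟩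
  refine ⟨(struct_unique hG.setup hG.s_invol hG.r_mem hG.struct hG.s_invol hG.s_mem ?_).2,
    hG.orderOf_st h2⟩
  have h3 : t * s * t * (s * t * s) = 1 := by rw [← h2]; simp only [pow_succ, pow_zero, one_mul, mul_assoc]
  rw [eq_inv_of_mul_eq_one_left h3]
  simp only [mul_inv_rev, hG.t_inv, hG.s_inv, mul_assoc]

theorem r_sq_eq_s (hG : Hyp G Ω a t Q s r) (h4 : r ^ 4 = 1) (h : r * r ≠ 1) :
    r * r = s ∧ orderOf (s * t) = 5 := by
  have h0 : r * r * (r * r) = 1 := by rw [← h4]; simp only [pow_succ, pow_zero, one_mul, mul_assoc]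
  have h1 : (t * s) ^ 15 = 1 := by
    have h2 := hG.rr_conj_ts 4
    have h3 := hG.rr_conj_ts 1
    rw [mul_one] at h3
    rw [← h3] at h2
    have : (t * s) ^ 1 * (t * s) ^ 15 = (t * s) ^ 1 * 1 := by
      rw [← pow_add, ← h2, mul_one]
      calc (r * r)⁻¹ * ((r * r)⁻¹ * (t * s) ^ 1 * (r * r)) * (r * r)
          = (r * r * (r * r))⁻¹ * (t * s) ^ 1 * (r * r * (r * r)) := by group
        _ = _ := by rw [h0]; group
    exact mul_left_cancel this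
  have h5 : (t * s) ^ 5 = 1 := by
    refine (hG.eq_one_of_comm_ts h0 ?_).resolve_left h
    have h2 := hG.rr_conj_ts 5
    rw [show 4 * 5 = 15 + 5 by norm_num, pow_add, h1, one_mul] at h2
    calc r * r * (t * s) ^ 5 = r * r * ((r * r)⁻¹ * (t * s) ^ 5 * (r * r)) := by rw [h2]
      _ = _ := by group
  have : Fact (Nat.Prime 5) := ⟨Nat.prime_five⟩
  refine ⟨?_, hG.orderOf_st h5⟩
  have hc := hG.central hG.s_mem hG.s_sq (Q.mul_mem hG.r_mem hG.r_mem)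
  have h6 : r * r * s * (r * r * s) = 1 := by
    rw [mul_assoc, ← mul_assoc s, hc, mul_assoc (r * r) s, hG.s_sq, mul_one, h0]
  have h7 := (hG.eq_one_of_comm_ts (n := 1) h6 ?_).resolve_right (by simpa using hG.ts_ne_one)
  · rw [eq_inv_of_mul_eq_one_left h7, hG.s_inv]
  · have h2 := hG.rr_conj_ts 1
    have h3 := hG.s_conj_ts 1
    have h8 : (t * s) ^ (4 * 1) = ((t * s) ^ 1)⁻¹ := by
      rw [eq_inv_iff_mul_eq_one, ← pow_add, h5]
    rw [h8, ← h3] at h2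
    calc r * r * s * (t * s) ^ 1 = r * r * (s * (t * s) ^ 1 * s) * s⁻¹ := by group
      _ = _ := by rw [← h2, hG.s_inv]; group

/-- `K` acts fixed-point-freely on `Q / Q₀` -/
theorem K_fpf_mod (hG : Hyp G Ω a t Q s r) {k x : G} (hk : k ∈ KK a t) (hk1 : k ≠ 1) (hx : x ∈ Q)
    (h : x⁻¹ * (k⁻¹ * x * k) ∈ Q0 Q) : x ∈ Q0 Q := by
  let φ : Q0 Q → Q0 Q := fun z => ⟨z * (k⁻¹ * z * k), Subgroup.mul_mem _ z.2
    (hG.conj_Q0 (KK_le hk).1 z.2)⟩
  have hφ : Function.Injective φ := by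
    intro z w e
    have e' : (z : G) * (k⁻¹ * z * k) = w * (k⁻¹ * w * k) := congrArg Subtype.val e
    have h1 := hG.K_fpf hk hk1 (Q0_le (Subgroup.mul_mem _ w.2 (Subgroup.inv_mem _ z.2))) (by
      have h2 : (w : G)⁻¹ * z = k⁻¹ * (w * (z : G)⁻¹) * k := by
        calc (w : G)⁻¹ * z = (w : G)⁻¹ * (z * (k⁻¹ * z * k)) * (k⁻¹ * z * k)⁻¹ := by group
          _ = _ := by rw [e']; group
      rw [H21.invol_inv (hG.mem_Q0.mp w.2).2] at h2
      rw [H21.invol_inv (hG.mem_Q0.mp z.2).2] at h2 ⊢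
      calc k * (w * z) = k * (k⁻¹ * (w * z) * k) := by rw [← h2]
        _ = _ := by group)
    exact Subtype.ext (mul_inv_eq_one.mp h1).symm
  obtain ⟨z, hz⟩ := (Finite.injective_iff_surjective.mp hφ) ⟨_, h⟩
  have e : (z : G) * (k⁻¹ * z * k) = x⁻¹ * (k⁻¹ * x * k) := congrArg Subtype.val hz
  have hz2 := (hG.mem_Q0.mp z.2).2
  have h1 := hG.K_fpf hk hk1 (Q.mul_mem hx (Q0_le z.2)) (by
    have h2 := (hG.mem_Q0.mp (hG.conj_Q0 (KK_le hk).1 z.2)).2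
    calc k * (x * z) = k * (x * (z * (k⁻¹ * z * k)) * (k⁻¹ * z * k)) := by
          rw [mul_assoc x, mul_assoc (z : G), h2, mul_one]
      _ = _ := by rw [e]; group)
  rw [eq_inv_of_mul_eq_one_left h1]
  exact Subgroup.inv_mem _ z.2

section Three

variable (hG : Hyp G Ω a t Q s r) (hr : r * r = 1)
include hG hr

theorem ghf_Q0 {k : G} (hk : k ∈ KK a t) :
    gg a t Q (k⁻¹ * s * k) = k * s * k⁻¹ ∧ hh a t Q (k⁻¹ * s * k) = k * k ∧
      ff a t Q (k⁻¹ * s * k) = k * s * k⁻¹ := by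
  obtain ⟨h1, h2, h3⟩ := hG.ghf_conj hG.s_mem hG.s_ne (KK_le hk)
  obtain ⟨h4, h5, h6⟩ := hG.ghf_s
  rw [h1, h2, h3, h4, h5, h6, hG.tKt hk, (hG.r_eq_s hr).1, hG.s_inv, inv_inv, mul_one]
  exact ⟨rfl, rfl, rfl⟩

theorem ff_mem_Q0 {z : G} (hz : z ∈ Q0 Q) (h1 : z ≠ 1) : ff a t Q z ∈ Q0 Q := by
  obtain ⟨k, hk, rfl⟩ := hG.exists_K_conj_s hz h1
  rw [(hG.ghf_Q0 hr hk).2.2]
  simpa using hG.conj_Q0 (KK_le (Subgroup.inv_mem _ hk)).1 hG.s_mem_Q0

theorem ff_notMem_Q0 {x : G} (hx : x ∈ Q) (h : x ∉ Q0 Q) : ff a t Q x ∉ Q0 Q := fun h' => by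
  have h1 : x ≠ 1 := fun e => h (e ▸ Subgroup.one_mem _)
  exact h (hG.ff_ff hx h1 ▸ hG.ff_mem_Q0 hr h' (hG.ff_ne_one hx h1))

theorem gg_notMem_Q0 {x : G} (hx : x ∈ Q) (h : x ∉ Q0 Q) : gg a t Q x ∉ Q0 Q := fun h' => by
  have h1 : x ≠ 1 := fun e => h (e ▸ Subgroup.one_mem _)
  apply hG.ff_notMem_Q0 hr (Q.inv_mem hx) fun h2 => h (by simpa using Subgroup.inv_mem _ h2)
  rw [(hG.ghf_inv hx h1).2.2]
  exact Subgroup.inv_mem _ h'

/-- Chapter IV, §2, (4) -/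
theorem eq_one_of_ff_mul {ω x y : G} (hω : ω ∈ Q) (h0 : ω ∉ Q0 Q) (hx : x ∈ Q0 Q) (hy : y ∈ Q0 Q)
    (e : ff a t Q (ω * x) = ff a t Q ω * y) : x = 1 := by
  by_contra h1
  have hω1 : ω ≠ 1 := fun e => h0 (e ▸ Subgroup.one_mem _)
  obtain ⟨h2, -, -, h3⟩ := hG.ghf_mul (Q0_le hx) h1 hω hω1 fun h =>
    h0 (by rw [eq_inv_of_mul_eq_one_right h]; exact Subgroup.inv_mem _ hx)
  rw [hG.Q0_central hx hω, e, ← hG.Q0_central hy (hG.ff_mem hω hω1), mul_left_inj] at h3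
  have h4 := hG.conj_Q0 (Subgroup.inv_mem _ (hG.tDt (hG.hh_mem hω hω1))).1 hy
  rw [h3] at h4
  refine hG.ff_notMem_Q0 hr (Q.mul_mem (hG.ff_mem (Q0_le hx) h1) (hG.gg_mem hω hω1)) (fun h => ?_)
    (by simpa [mul_assoc] using h4)
  exact hG.gg_notMem_Q0 hr hω h0 ((Subgroup.mul_mem_cancel_left _ (hG.ff_mem_Q0 hr hx h1)).mp h)

/-- Chapter IV, §2, (5), first part -/
theorem ff_ne_conj {ω d : G} (hω : ω ∈ Q) (h0 : ω ∉ Q0 Q) (hd : d ∈ DD a t) :
    ff a t Q ω ≠ d⁻¹ * ω * d := by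
  intro e
  have hω1 : ω ≠ 1 := fun e => h0 (e ▸ Subgroup.one_mem _)
  have h1 := (hG.ghf_ff hω hω1).2.1
  rw [e, (hG.ghf_conj hω hω1 hd).1] at h1
  have h2 := Subgroup.mul_mem _ (hG.hh_mem hω hω1) (Subgroup.inv_mem _ (hG.tDt hd))
  have h3 := H21.eq_inv_of_odd_inverts (x := gg a t Q ω) hG.odd_D (pow_card_D h2) (by
    calc _ = hh a t Q ω * ((t * d * t)⁻¹ * gg a t Q ω * (t * d * t)) * (hh a t Q ω)⁻¹ := by group
      _ = _ := by rw [h1]; group)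
  exact hG.gg_notMem_Q0 hr hω h0
    (hG.mem_Q0.mpr ⟨hG.gg_mem hω hω1, mul_eq_one_iff_eq_inv.mpr h3⟩)

/-- Chapter IV, §2, (5), second part -/
theorem ff_ne_conj_K {ω y k : G} (hω : ω ∈ Q) (h0 : ω ∉ Q0 Q) (hy : y ∈ Q0 Q) (hk : k ∈ KK a t) :
    ff a t Q ω ≠ k⁻¹ * (ω * y) * k := by
  intro e
  have hω1 : ω ≠ 1 := fun e => h0 (e ▸ Subgroup.one_mem _)
  have h1 : ω * y ≠ 1 := fun h =>
    h0 (by rw [eq_inv_of_mul_eq_one_left h]; exact Subgroup.inv_mem _ hy)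
  have h2 := hG.ff_ff hω hω1
  rw [e, (hG.ghf_conj (Q.mul_mem hω (Q0_le hy)) h1 (KK_le hk)).2.2, hG.tKt hk] at h2
  have h3 := hG.eq_one_of_ff_mul hr hω h0 hy
    (Subgroup.inv_mem _ (hG.conj_Q0 (KK_le hk).1 hy)) (by
      rw [e]
      calc ff a t Q (ω * y) = k⁻¹ * (k⁻¹⁻¹ * ff a t Q (ω * y) * k⁻¹) * k := by group
        _ = _ := by rw [h2]; group)
  rw [h3, mul_one] at e
  exact hG.ff_ne_conj hr hω h0 (KK_le hk) e

end Three

/-- if `|Q| = q²` then `K` is transitive on the non-trivial cosets of `Q₀` -/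
theorem exists_K_conj_of_sq (hG : Hyp G Ω a t Q s r) {S : Subgroup G} (hS : S ≤ Q) (h0 : Q0 Q ≤ S)
    (hK : ∀ k ∈ KK a t, ∀ x ∈ S, k⁻¹ * x * k ∈ S) (hc : Nat.card S = Nat.card (Q0 Q) ^ 2) {x y : G}
    (hx : x ∈ S) (hx0 : x ∉ Q0 Q) (hy : y ∈ S) (hy0 : y ∉ Q0 Q) :
    ∃ k ∈ KK a t, ∃ z ∈ Q0 Q, y = k⁻¹ * (x * z) * k := by
  let φ : KK a t × Q0 Q → ↥((S : Set G) \ Q0 Q) := fun p =>
    ⟨(p.1 : G)⁻¹ * (x * p.2) * p.1, hK _ p.1.2 _ (S.mul_mem hx (h0 p.2.2)), fun h => hx0 (by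
      have := hG.conj_Q0 (KK_le (Subgroup.inv_mem _ p.1.2)).1 h
      refine (Subgroup.mul_mem_cancel_right _ p.2.2).mp ?_
      simpa [mul_assoc] using this)⟩
  have hφ : Function.Injective φ := by
    rintro ⟨k, z⟩ ⟨l, w⟩ e
    have e' : (k : G)⁻¹ * (x * z) * k = (l : G)⁻¹ * (x * w) * l := congrArg Subtype.val e
    have h1 : k = l := by
      by_contra hne
      have hm := Subgroup.mul_mem _ k.2 (Subgroup.inv_mem _ l.2)
      refine hx0 (hG.K_fpf_mod hm (fun h => hne (Subtype.ext (mul_inv_eq_one.mp h))) (hS hx) ?_)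
      have h2 := Subgroup.mul_mem _ w.2 (Subgroup.inv_mem _ (hG.conj_Q0 (KK_le hm).1 z.2))
      convert h2 using 1
      calc _ = x⁻¹ * (l * ((k : G)⁻¹ * (x * z) * k) * (l : G)⁻¹) *
            ((k * (l : G)⁻¹)⁻¹ * z * (k * (l : G)⁻¹))⁻¹ := by group
        _ = _ := by rw [e']; group
    subst h1
    simp only [mul_left_inj, mul_right_inj] at e'
    rw [Subtype.ext e']
  have h2 : Nat.card ↥((S : Set G) \ Q0 Q) = Nat.card (KK a t × Q0 Q) := by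
    have h3 := Set.ncard_diff_add_ncard_of_subset (show (Q0 Q : Set G) ⊆ S from h0)
    change Nat.card ↥((S : Set G) \ Q0 Q) + Nat.card (Q0 Q) = Nat.card S at h3
    rw [Nat.card_prod, ← Nat.add_right_cancel_iff (n := Nat.card (Q0 Q)), h3, hc, ← hG.card_KK]
    ring
  obtain ⟨⟨k, z⟩, e⟩ := (hφ.bijective_of_nat_card_le h2.le).2 ⟨y, hy, hy0⟩
  exact ⟨k, k.2, z, z.2, (congrArg Subtype.val e).symm⟩

theorem exists_notMem_Q0 (hG : Hyp G Ω a t Q s r) {S : Subgroup G} {n : ℕ} (hn : 2 ≤ n)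
    (hc : Nat.card S = Nat.card (Q0 Q) ^ n) : ∃ x ∈ S, x ∉ Q0 Q := by
  by_contra h
  push Not at h
  have h1 := Subgroup.card_le_of_le (show S ≤ Q0 Q from h)
  have h2 := hG.four_le_card_Q0
  have h3 : Nat.card (Q0 Q) ^ 1 < Nat.card (Q0 Q) ^ n := Nat.pow_lt_pow_right (by omega) (by omega)
  rw [pow_one] at h3
  omega

/-- Chapter IV, §2, (6): if `s t` has order `3` then `|Q| ≠ q²`. -/
theorem r_sq_ne_one (hG : Hyp G Ω a t Q s r) (_h2 : IsPGroup 2 Q)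
    (hc : Nat.card Q = Nat.card (Q0 Q) ^ 2) : r * r ≠ 1 := by
  intro hr
  obtain ⟨ω, hω, h0⟩ := hG.exists_notMem_Q0 le_rfl hc
  obtain ⟨k, hk, z, hz, e⟩ := hG.exists_K_conj_of_sq le_rfl Q0_le
    (fun k hk x hx => hG.conj_Q (KK_le hk) hx) hc hω h0
    (hG.ff_mem hω fun e => h0 (e ▸ Subgroup.one_mem _)) (hG.ff_notMem_Q0 hr hω h0)
  exact hG.ff_ne_conj_K hr hω h0 hz hk e

theorem coprime_card_K (hG : Hyp G Ω a t Q s r) : (Nat.card Q).Coprime (Nat.card (KK a t)) := by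
  apply Nat.coprime_of_dvd
  intro p hp h1 h2
  have : Fact p.Prime := ⟨hp⟩
  obtain ⟨k, hk⟩ := exists_prime_orderOf_dvd_card' p h2
  have hN : Subgroup.zpowers (k : G) ≤ Subgroup.normalizer (Q : Set G) :=
    le_normalizer_of_conj fun d hd x hx =>
      hG.conj_Q (KK_le (Subgroup.zpowers_le.mpr k.2 hd)) hx
  letI := actOn _ Q hN
  have hP : IsPGroup p (Subgroup.zpowers (k : G)) :=
    IsPGroup.of_card (n := 1) (by rw [Nat.card_zpowers, Subgroup.orderOf_coe, hk, pow_one])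
  obtain ⟨x, hx, hx1⟩ := hP.exists_fixed_point_of_prime_dvd_card_of_fixed_point Q h1
    (a := 1) fun g => smul_one g
  apply hx1
  have h3 : (k : G) * x * (k : G)⁻¹ = x := congrArg Subtype.val (hx ⟨k, Subgroup.mem_zpowers _⟩)
  refine Subtype.ext (hG.K_fpf k.2 (fun h => ?_) x.2 (mul_inv_eq_iff_eq_mul.mp h3)).symm
  rw [← Subgroup.orderOf_coe, h, orderOf_one] at hk
  exact hp.ne_one hk.symm

/-- a subgroup `P ≤ V` of prime order outside `W` acts fixed-point-freely on a subgroup of `K` -/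
theorem exists_frob_K (hG : Hyp G Ω a t Q s r) {P : Subgroup G} (hP : P ≤ VV a t)
    (hp : (Nat.card P).Prime) (hPW : ¬ P ≤ WW a t Q) : ∃ k ∈ KK a t, k ≠ 1 ∧
      ∀ η ∈ P, η ≠ 1 → ∀ u ∈ Subgroup.zpowers k, η * u = u * η → u = 1 := by
  obtain ⟨F, _, _, e, κ, h⟩ := hG.exists_fld
  obtain ⟨η, hη, hηW⟩ := SetLike.not_le_iff_exists.mp hPW
  have : Fact (Nat.card P).Prime := ⟨hp⟩
  have hgen : ∀ η ∈ P, η ≠ 1 → ∀ η' ∈ P, η' ∈ Subgroup.zpowers η := fun η hη h1 η' hη' => by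
    obtain ⟨n, hn⟩ := mem_zpowers_of_prime_card (G := P) rfl (g := ⟨η, hη⟩) (g' := ⟨η', hη'⟩)
      fun h => h1 (congrArg Subtype.val h)
    exact ⟨n, congrArg Subtype.val hn⟩
  obtain ⟨σ, hσ⟩ := h.conjV η (hP hη)
  have hpow : ∀ n : ℕ, ∀ x, (η ^ n)⁻¹ * e x * η ^ n = e ((σ ^ n) x) := fun n => by
    induction n with
    | zero => simp
    | succ n ih =>
      intro x
      rw [pow_succ' σ, RingAut.mul_apply, ← hσ, ← ih, pow_succ]
      group
  have hηp : η ^ Nat.card P = 1 := H21.pow_card_eq_one_of_mem hη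
  have ho : orderOf σ = Nat.card P := by
    refine orderOf_eq_prime (RingEquiv.ext fun x => h.inj ?_) fun h1 => hηW ?_
    · rw [← hpow, hηp]; simp
    · refine mem_WW.mpr ⟨(hP hη).1, fun z hz => ?_⟩
      obtain ⟨x, rfl⟩ := h.surj z hz
      have := hσ x
      rw [h1, RingAut.one_apply] at this
      calc e x * η = η * (η⁻¹ * e x * η) := by group
        _ = _ := by rw [this]
  obtain ⟨y, hy0, hy, m, hm, hym⟩ := exists_moved_coprime σ hp
    (hG.odd_D.of_dvd_nat (Subgroup.card_dvd_of_le (hP.trans inf_le_left))) ho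
  obtain ⟨k, hk, rfl⟩ := h.κ_surj y hy0
  have hk' := hG.conj_KK (hP hη).1 hk
  have hkm : k ^ m = 1 := hG.κ_inj h (Subgroup.pow_mem _ hk m) (Subgroup.one_mem _)
    (by rw [h.κ_pow hk, hym, h.κ_one])
  refine ⟨k⁻¹ * (η⁻¹ * k * η), Subgroup.mul_mem _ (Subgroup.inv_mem _ hk) hk', fun h1 => hy ?_,
    fun η' hη' h1 u hu hc => ?_⟩
  · rw [← hG.κ_conj h (hP hη) hσ hk, ← inv_mul_eq_one.mp h1]
  · have hc' : Commute u η := by
      obtain ⟨n, rfl⟩ := hgen η' hη' h1 η hη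
      exact (Commute.symm hc).zpow_right n
    obtain ⟨i, rfl⟩ := mem_powers_iff_mem_zpowers.mpr hu
    have hcm : Commute k⁻¹ (η⁻¹ * k * η) := hG.KK_comm (Subgroup.inv_mem _ hk) hk'
    obtain ⟨u, hu⟩ : ∃ u, u = (k⁻¹ * (η⁻¹ * k * η)) ^ i := ⟨_, rfl⟩
    change (k⁻¹ * (η⁻¹ * k * η)) ^ i = 1
    change Commute ((k⁻¹ * (η⁻¹ * k * η)) ^ i) η at hc'
    rw [← hu] at hc' ⊢
    have h2 : η⁻¹ * k ^ i * η = k ^ i * u := by
      rw [hu, hcm.mul_pow, inv_pow, mul_inv_cancel_left]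
      simpa using (conj_pow (a := η⁻¹) (b := k) (i := i)).symm
    have h3 : ∀ n : ℕ, (η ^ n)⁻¹ * k ^ i * η ^ n = k ^ i * u ^ n := fun n => by
      induction n with
      | zero => simp
      | succ n ih =>
        calc (η ^ (n + 1))⁻¹ * k ^ i * η ^ (n + 1) = η⁻¹ * ((η ^ n)⁻¹ * k ^ i * η ^ n) * η := by
              group
          _ = η⁻¹ * k ^ i * η * u ^ n := by
              rw [ih, mul_assoc, mul_assoc, (hc'.pow_left n).eq]; group
          _ = _ := by rw [h2]; group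
    have h4 := h3 (Nat.card P)
    rw [hηp, inv_one, one_mul, mul_one, left_eq_mul] at h4
    have h5 : u ^ m = 1 := by
      rw [hu, ← pow_mul, mul_comm, pow_mul, hcm.mul_pow, inv_pow, hkm]
      have := conj_pow (a := η⁻¹) (b := k) (i := m)
      rw [inv_inv, hkm] at this
      simp [this]
    exact (pow_gcd_eq_one.mpr ⟨h4, h5⟩ |> fun h => by
      rwa [Nat.Coprime.gcd_eq_one ((Nat.Prime.coprime_iff_not_dvd hp).mpr hm), pow_one] at h)

/-- Fixed point formula for a subgroup `P ≤ V` of prime order acting non-trivially on `Q₀`. -/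
theorem card_eq_pow_cent (hG : Hyp G Ω a t Q s r) {P U : Subgroup G} (hP : P ≤ VV a t)
    (hp : (Nat.card P).Prime) (hPW : ¬ P ≤ WW a t Q) (hU : U ≤ Q)
    (hK : ∀ k ∈ KK a t, ∀ x ∈ U, k⁻¹ * x * k ∈ U) (hPU : ∀ k ∈ P, ∀ x ∈ U, k⁻¹ * x * k ∈ U)
    (hcop : ¬ Nat.card P ∣ Nat.card U) :
    Nat.card U = Nat.card ↥(U ⊓ Subgroup.centralizer (P : Set G)) ^ Nat.card P := by
  obtain ⟨k, hk, hk1, hf⟩ := hG.exists_frob_K hP hp hPW
  have hkK : Subgroup.zpowers k ≤ KK a t := Subgroup.zpowers_le.mpr hk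
  have hn : P ≤ Subgroup.normalizer (Subgroup.zpowers k : Set G) := by
    refine le_normalizer_of_conj fun η hη u hu => ?_
    have := hG.isCyclic_KK
    obtain ⟨g, hg⟩ := IsCyclic.exists_generator (α := KK a t)
    obtain ⟨i, hi⟩ := hg ⟨u, hkK hu⟩
    obtain ⟨j, hj⟩ := hg ⟨_, hG.conj_KK (hP hη).1 g.2⟩
    have hi' : (g : G) ^ i = u := congrArg Subtype.val hi
    have hj' : (g : G) ^ j = η⁻¹ * g * η := congrArg Subtype.val hj
    have : η⁻¹ * u * η = u ^ j := by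
      rw [← hi', ← zpow_mul, mul_comm i, zpow_mul, hj']
      simpa using (conj_zpow (a := η⁻¹) (b := (g : G)) (i := i)).symm
    rw [this]
    exact Subgroup.zpow_mem _ hu j
  have hbot : U ⊓ Subgroup.centralizer (Subgroup.zpowers k : Set G) = ⊥ :=
    eq_bot_iff.mpr fun x hx => hG.K_fpf hk hk1 (hU hx.1) (hx.2 k (Subgroup.mem_zpowers k))
  have hbot' : U ⊓ Subgroup.centralizer ((Subgroup.zpowers k ⊔ P : Subgroup G) : Set G) = ⊥ :=
    eq_bot_iff.mpr (hbot ▸ inf_le_inf_left _ (Subgroup.centralizer_le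
      (SetLike.coe_subset_coe.mpr le_sup_left)))
  have hc : Nat.card ↥(Subgroup.zpowers k ⊔ P) ∣ Nat.card (KK a t) * Nat.card P := by
    rw [sup_comm, mul_comm]
    exact (H2.card_sup_dvd_of_le_normalizer hn).trans
      (Nat.mul_dvd_mul_left _ (Subgroup.card_dvd_of_le hkK))
  have := hG.nilpotent_Q
  have hsol : Group.IsSolvable U := Group.isSolvable_of_isSolvable_injective
    (Subgroup.inclusion_injective hU)
  have := H1.regular_Wielandt_fixpoint hn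
    (H1.semireg_iff.2 fun x hx h1 k hk e => hf x hx h1 k hk e.symm)
    (hkK.trans (le_normalizer_of_conj hK)) (le_normalizer_of_conj hPU)
    (Nat.Coprime.coprime_dvd_right hc (Nat.Coprime.mul_right
      (hG.coprime_card_K.coprime_dvd_left (Subgroup.card_dvd_of_le hU))
      ((Nat.Prime.coprime_iff_not_dvd hp).mpr hcop).symm)) hsol
  rw [hbot, hbot'] at this
  simpa using this

theorem KK_le_LL (hG : Hyp G Ω a t Q s r) : KK a t ≤ LL t Q := by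
  intro k hk
  have h1 := hG.conj_Q (KK_le hk) hG.s_mem
  have h2 : k⁻¹ * s * k ≠ 1 := fun h => hG.s_ne (by simpa [mul_assoc] using congrArg (k * · * k⁻¹) h)
  have h3 := hG.txt h1 h2
  rw [(hG.ghf_conj hG.s_mem hG.s_ne (KK_le hk)).2.1, hG.ghf_s.2.1, hG.tKt hk, inv_inv,
    mul_one] at h3
  have h4 : k * k ∈ LL t Q := by
    have : k * k = (gg a t Q (k⁻¹ * s * k))⁻¹ * (t * (k⁻¹ * s * k) * t) *
      (ff a t Q (k⁻¹ * s * k))⁻¹ * t⁻¹ := by rw [h3]; group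
    rw [this]
    exact Subgroup.mul_mem _ (Subgroup.mul_mem _ (Subgroup.mul_mem _
      (Subgroup.inv_mem _ (le_LL (hG.gg_mem h1 h2))) (Subgroup.mul_mem _
        (Subgroup.mul_mem _ t_mem_LL (le_LL h1)) t_mem_LL))
      (Subgroup.inv_mem _ (le_LL (hG.ff_mem h1 h2)))) (Subgroup.inv_mem _ t_mem_LL)
  obtain ⟨m, hm⟩ := hG.odd_D
  rw [← H21.eq_pow_sq_of_odd (x := k) (m := m) (by rw [← hm]; exact pow_card_D (KK_le hk))]
  exact Subgroup.pow_mem _ h4 _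

theorem LL_normal (hG : Hyp G Ω a t Q s r) : (LL t Q).Normal := by
  have h1 : ∀ h : G, h • a = a → h ∈ Subgroup.normalizer (LL t Q : Set G) := by
    intro h hh
    obtain ⟨x, hx, d, hd, rfl⟩ := exists_QD hG.setup hh
    refine Subgroup.mul_mem _ (Subgroup.le_normalizer (le_LL hx)) ?_
    refine Subgroup.mem_normalizer_fintype fun y hy => ?_
    refine (show LL t Q ≤ (LL t Q).comap (MulAut.conj d).toMonoidHom from
      sup_le (fun z hz => le_LL (conj_mem_Q hG.setup hd.1 hz)) (Subgroup.zpowers_le.mpr ?_)) hy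
    obtain ⟨k, hk, v, hv, rfl⟩ := hG.exists_KV hd
    have : k * v * t * (k * v)⁻¹ = k * t * k⁻¹ := by
      rw [mul_assoc k, ← (mem_VV.mp hv).2]; group
    change k * v * t * (k * v)⁻¹ ∈ LL t Q
    rw [this]
    exact Subgroup.mul_mem _ (Subgroup.mul_mem _ (hG.KK_le_LL hk) t_mem_LL)
      (Subgroup.inv_mem _ (hG.KK_le_LL hk))
  rw [← Subgroup.normalizer_eq_top_iff, eq_top_iff]
  intro g _
  by_cases hg : g • a = a
  · exact h1 g hg
  · obtain ⟨x, y, hx, hy, rfl⟩ := exists_canonical hG.setup hg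
    exact Subgroup.mul_mem _ (Subgroup.mul_mem _ (h1 x hx) (Subgroup.le_normalizer t_mem_LL))
      (Subgroup.le_normalizer (le_LL hy))

theorem odd_index_LL (hG : Hyp G Ω a t Q s r) : Odd (LL t Q).index :=
  (odd_index_Q hG.setup).of_dvd_nat (Subgroup.index_dvd_of_le le_LL)

end Hyp

end Suz
end H8
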