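import Mathlib
import Cfsg.Agent.H8.SuzK

/-! Chapter I, §3: passing to a subgroup acting on a subset (modulo the kernel). -/

set_option autoImplicit false

namespace H8
namespace Suz

open Cfsg MulAction H21.RankOne

variable {G Ω : Type*} [Group G] [MulAction G Ω] {a : Ω} {t : G} {Q : Subgroup G} {s r : G}

/-- `L ≤ G` acts on a subset `Ω'` of `Ω` through the quotient `G'`. -/
structure Pull (a : Ω) (t : G) (Q L : Subgroup G) {G' Ω' : Type*} [Group G'] [MulAction G' Ω']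
    (φ : L →* G') (ι : Ω' → Ω) (a' : Ω') : Prop where
  t_mem : t ∈ L
  surj : Function.Surjective φ
  inj : Function.Injective ι
  smul : ∀ (l : L) x, ι (φ l • x) = (l : G) • ι x
  base : ι a' = a
  faithful : ∀ g : G', (∀ x : Ω', g • x = x) → g = 1
  trans : ∀ x : Ω', x ≠ a' → ∃ u ∈ Q ⊓ L, ι x = u • t • a

namespace Pull

variable {L : Subgroup G} {G' Ω' : Type*} [Group G'] [MulAction G' Ω'] {φ : L →* G'} {ι : Ω' → Ω}
  {a' : Ω'} (h : Pull a t Q L φ ι a')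
include h

theorem fix_a {l : L} : φ l • a' = a' ↔ (l : G) • a = a := by
  rw [← h.inj.eq_iff, h.smul, h.base]

theorem ι_b : ι (φ ⟨t, h.t_mem⟩ • a') = t • a := by rw [h.smul, h.base]

theorem fix_b {l : L} :
    φ l • φ ⟨t, h.t_mem⟩ • a' = φ ⟨t, h.t_mem⟩ • a' ↔ (l : G) • t • a = t • a := by
  rw [← h.inj.eq_iff, h.smul, h.ι_b]

theorem mem_D {l : L} : φ l ∈ DD a' (φ ⟨t, h.t_mem⟩) ↔ (l : G) ∈ DD a t := by
  rw [mem_DD, mem_DD, h.fix_a, h.fix_b]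

theorem eq_one_of_Q (hS : IsRankOneSetup G Ω a t Q) {u : L} (hu : (u : G) ∈ Q) (e : φ u = 1) :
    u = 1 :=
  Subtype.ext (eq_one_of_mem_Q_of_fix_b hS hu (h.fix_b.mp (by rw [e, one_smul])))

theorem eq_of_Q (hS : IsRankOneSetup G Ω a t Q) {u v : L} (hu : (u : G) ∈ Q) (hv : (v : G) ∈ Q)
    (e : φ u = φ v) : u = v :=
  inv_mul_eq_one.mp (h.eq_one_of_Q hS (Q.mul_mem (Q.inv_mem hu) hv) (by rw [map_mul, map_inv, e,
    inv_mul_cancel]))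

omit h in
theorem mem_map {x : G'} : x ∈ (Q.subgroupOf L).map φ ↔ ∃ u : L, (u : G) ∈ Q ∧ φ u = x := Iff.rfl

omit h in
theorem map_mem {u : L} (hu : (u : G) ∈ Q) : φ u ∈ (Q.subgroupOf L).map φ := ⟨u, hu, rfl⟩

theorem card_map (hS : IsRankOneSetup G Ω a t Q) {U : Subgroup G} (hU : U ≤ Q) :
    Nat.card ((U.subgroupOf L).map φ) = Nat.card ↥(U ⊓ L) := by
  symm
  refine Nat.card_eq_of_bijective (fun u => ⟨φ ⟨u, u.2.2⟩, ⟨u, u.2.2⟩, u.2.1, rfl⟩)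
    ⟨fun u v e => ?_, ?_⟩
  · exact Subtype.ext (congrArg (fun x : L => (x : G))
      (h.eq_of_Q hS (u := ⟨u, u.2.2⟩) (v := ⟨v, v.2.2⟩) (hU u.2.1) (hU v.2.1)
        (congrArg Subtype.val e)))
  · rintro ⟨_, u, hu, rfl⟩
    exact ⟨⟨u, hu, u.2⟩, rfl⟩

theorem setup [Finite G] (hS : IsRankOneSetup G Ω a t Q) {s : G} (hs : s ∈ Q ⊓ L) (hs1 : s ≠ 1)
    (hs2 : s * s = 1) :
    IsRankOneSetup G' Ω' a' (φ ⟨t, h.t_mem⟩) ((Q.subgroupOf L).map φ) := by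
  have hb : φ ⟨t, h.t_mem⟩ • a' ≠ a' := fun e => ta_ne hS (h.fix_a.mp e)
  have htt : φ ⟨t, h.t_mem⟩ * φ ⟨t, h.t_mem⟩ = 1 := by
    rw [← map_mul, ← map_one φ]
    exact congrArg φ (Subtype.ext hS.mul_self)
  have h1 : ∀ x : Ω', x ≠ a' → ∃ u : L, (u : G) ∈ Q ∧ x = φ u • φ ⟨t, h.t_mem⟩ • a' := fun x hx => by
    obtain ⟨u, hu, e⟩ := h.trans x hx
    exact ⟨⟨u, hu.2⟩, hu.1, h.inj (by rw [h.smul, h.ι_b, e])⟩
  have h2 : ∀ x y : Ω', x ≠ y → ∃ g : G', g • x = a' ∧ g • y = φ ⟨t, h.t_mem⟩ • a' := by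
    have h3 : ∀ y : Ω', a' ≠ y → ∃ g : G', g • a' = a' ∧ g • y = φ ⟨t, h.t_mem⟩ • a' := fun y hy => by
      obtain ⟨u, hu, rfl⟩ := h1 y hy.symm
      exact ⟨(φ u)⁻¹, by rw [inv_smul_eq_iff, h.fix_a.mpr (Q_fix hS hu)], inv_smul_smul _ _⟩
    intro x y hxy
    by_cases hx : x = a'
    · subst hx; exact h3 y hxy
    · obtain ⟨u, hu, rfl⟩ := h1 x hx
      obtain ⟨g, hg1, hg2⟩ := h3 ((φ u * φ ⟨t, h.t_mem⟩)⁻¹ • y) fun e =>
        hxy (by rw [← mul_smul]; exact eq_inv_smul_iff.mp e)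
      exact ⟨g * (φ u * φ ⟨t, h.t_mem⟩)⁻¹, by rw [← mul_smul (φ u), mul_smul, inv_smul_smul, hg1],
        by rw [mul_smul, hg2]⟩
  refine ⟨?_, htt, fun e => hb (by rw [e, one_smul]), hb, ?_, ?_, ?_, ?_, ?_, ?_⟩
  · rw [MulAction.is_two_pretransitive_iff]
    intro x y z w hxy hzw
    obtain ⟨g, hg1, hg2⟩ := h2 x y hxy
    obtain ⟨g', hg1', hg2'⟩ := h2 z w hzw
    exact ⟨g'⁻¹ * g, by rw [mul_smul, hg1, inv_smul_eq_iff, hg1'],
      by rw [mul_smul, hg2, inv_smul_eq_iff, hg2']⟩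
  · rintro _ ⟨u, hu, rfl⟩
    exact h.fix_a.mpr (Q_fix hS hu)
  · rintro g hg _ ⟨u, hu, rfl⟩
    obtain ⟨l, rfl⟩ := h.surj g
    exact ⟨l * u * l⁻¹, conj_mem_Q hS (h.fix_a.mp hg) hu, by simp⟩
  · rw [eq_bot_iff]
    rintro _ ⟨⟨u, hu, rfl⟩, h2⟩
    rw [show u = 1 from Subtype.ext (eq_one_of_mem_Q_of_fix_b hS hu (h.fix_b.mp h2)), map_one]
    exact Subgroup.one_mem _
  · refine le_antisymm (sup_le ?_ inf_le_left) fun g hg => ?_
    · rintro _ ⟨u, hu, rfl⟩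
      exact h.fix_a.mpr (Q_fix hS hu)
    · obtain ⟨u, hu, e⟩ := h1 (g • φ ⟨t, h.t_mem⟩ • a') (smul_ne_of_fix hg hb)
      rw [← mul_inv_cancel_left (φ u) g]
      refine Subgroup.mul_mem_sup (map_mem hu) ⟨?_, ?_⟩
      · change ((φ u)⁻¹ * g) • a' = a'
        rw [mul_smul, show g • a' = a' from hg, inv_smul_eq_iff, h.fix_a.mpr (Q_fix hS hu)]
      · change ((φ u)⁻¹ * g) • φ ⟨t, h.t_mem⟩ • a' = _
        rw [mul_smul, e, inv_smul_smul]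
  · rw [h.card_map hS le_rfl]
    exact H21.even_card_of_invol hs hs1 hs2
  · have : DD a' (φ ⟨t, h.t_mem⟩) = ((DD a t).subgroupOf L).map φ := by
      ext g
      obtain ⟨l, rfl⟩ := h.surj g
      exact ⟨fun hl => ⟨l, h.mem_D.mp hl, rfl⟩, fun ⟨l', hl', e⟩ => e ▸ h.mem_D.mpr hl'⟩
    change Odd (Nat.card (DD a' (φ ⟨t, h.t_mem⟩)))
    rw [this]
    refine hS.odd_card.of_dvd_nat ((Subgroup.card_map_dvd _ _).trans ?_)
    rw [← Subgroup.inf_subgroupOf_right,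
      Nat.card_congr (Subgroup.subgroupOfEquivOfLe inf_le_right).toEquiv]
    exact Subgroup.card_dvd_of_le inf_le_left

theorem ker_le_D {n : L} (e : φ n = 1) : (n : G) ∈ DD a t :=
  h.mem_D.mp (e ▸ Subgroup.one_mem _)

theorem ghf (hS : IsRankOneSetup G Ω a t Q)
    (hS' : IsRankOneSetup G' Ω' a' (φ ⟨t, h.t_mem⟩) ((Q.subgroupOf L).map φ)) {x : L}
    (hx : (x : G) ∈ Q) (h1 : (x : G) ≠ 1) :
    ∃ (hg : gg a t Q x ∈ L) (hh' : hh a t Q x ∈ L) (hf : ff a t Q x ∈ L),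
      gg a' (φ ⟨t, h.t_mem⟩) ((Q.subgroupOf L).map φ) (φ x) = φ ⟨_, hg⟩ ∧
      hh a' (φ ⟨t, h.t_mem⟩) ((Q.subgroupOf L).map φ) (φ x) = φ ⟨_, hh'⟩ ∧
      ff a' (φ ⟨t, h.t_mem⟩) ((Q.subgroupOf L).map φ) (φ x) = φ ⟨_, hf⟩ := by
  obtain ⟨⟨g, hg, e1⟩, h2, ⟨f, hf, e3⟩, e⟩ := ghf_spec hS' (map_mem hx)
    fun e => h1 (congrArg Subtype.val (h.eq_one_of_Q hS hx e))
  obtain ⟨d, e2⟩ := h.surj (hh a' (φ ⟨t, h.t_mem⟩) ((Q.subgroupOf L).map φ) (φ x))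
  rw [← e2] at h2
  rw [← e1, ← e2, ← e3] at e
  obtain ⟨n, hn⟩ : ∃ n : L, n = ⟨t, h.t_mem⟩ * x * ⟨t, h.t_mem⟩ * (g * d * ⟨t, h.t_mem⟩ * f)⁻¹ :=
    ⟨_, rfl⟩
  have hn1 : φ n = 1 := by
    simp only [hn, map_mul, map_inv, e, mul_inv_cancel]
  have hnD := h.ker_le_D hn1
  obtain ⟨-, k1, k2, k3⟩ := ghf_eq hS hx (conj_mem_Q hS hnD.1 hg)
    (Subgroup.mul_mem _ hnD (h.mem_D.mp h2)) hf (by
      have hn' : (n : G) = t * x * t * (g * d * t * f)⁻¹ := by rw [hn]; rfl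
      change _ = (n : G) * g * (n : G)⁻¹ * (n * d) * t * f
      rw [show (n : G) * g * (n : G)⁻¹ * (n * d) * t * f = n * (g * d * t * f) by group, hn']
      group)
  refine ⟨k1 ▸ (n * g * n⁻¹).2, k2 ▸ (n * d).2, k3 ▸ f.2, ?_, ?_, ?_⟩
  · rw [← e1, show (⟨gg a t Q x, _⟩ : L) = n * g * n⁻¹ from Subtype.ext k1]
    simp [hn1]
  · rw [← e2, show (⟨hh a t Q x, _⟩ : L) = n * d from Subtype.ext k2]
    simp [hn1]
  · rw [← e3, show (⟨ff a t Q x, _⟩ : L) = f from Subtype.ext k3]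

theorem hyp [Finite G] (hG : Hyp G Ω a t Q s r) (hs : s ∈ L) (hr : r ∈ L)
    (h2 : ∃ z ∈ Q0 Q ⊓ L, z ≠ 1 ∧ z ≠ s) :
    Hyp G' Ω' a' (φ ⟨t, h.t_mem⟩) ((Q.subgroupOf L).map φ) (φ ⟨s, hs⟩) (φ ⟨r, hr⟩) := by
  have h1 : ∀ z : L, (z : G) ∈ Q → (z : G) ≠ 1 → φ z ≠ 1 := fun z hz h1 e =>
    h1 (congrArg Subtype.val (h.eq_one_of_Q hG.setup hz e))
  have h3 : ∀ z : L, (z : G) * z = 1 → φ z * φ z = 1 := fun z hz => by
    rw [← map_mul, ← map_one φ]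
    exact congrArg φ (Subtype.ext hz)
  refine ⟨h.setup hG.setup ⟨hG.s_mem, hs⟩ hG.s_ne hG.s_sq, h.faithful, ?_, map_mem hG.s_mem,
    h1 _ hG.s_mem hG.s_ne, h3 _ hG.s_sq, map_mem hG.r_mem, ?_⟩
  · obtain ⟨z, hz, hz1, hzs⟩ := h2
    refine ⟨φ ⟨z, hz.2⟩, φ ⟨s, hs⟩, h1 _ (Q0_le hz.1) hz1, h1 _ hG.s_mem hG.s_ne, fun e => hzs
      (congrArg Subtype.val (h.eq_of_Q hG.setup (Q0_le hz.1) hG.s_mem e)),
      h3 _ (hG.mem_Q0.mp hz.1).2, h3 _ hG.s_sq, ?_⟩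
    rw [← map_mul, ← map_mul]
    exact congrArg φ (Subtype.ext (hG.Q0_central hz.1 hG.s_mem))
  · rw [← map_inv, ← map_mul, ← map_mul, ← map_mul, ← map_mul]
    exact congrArg φ (Subtype.ext hG.struct)

theorem Q0_eq [Finite G] [Finite G'] (hG : Hyp G Ω a t Q s r) {s' r' : G'}
    (hG' : Hyp G' Ω' a' (φ ⟨t, h.t_mem⟩) ((Q.subgroupOf L).map φ) s' r') :
    Q0 ((Q.subgroupOf L).map φ) = ((Q0 Q).subgroupOf L).map φ := by
  ext x
  rw [hG'.mem_Q0]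
  constructor
  · rintro ⟨⟨u, hu, rfl⟩, h2⟩
    exact ⟨u, hG.mem_Q0.mpr ⟨hu, congrArg Subtype.val
      (h.eq_one_of_Q hG.setup (u := u * u) (Q.mul_mem hu hu) (by rw [map_mul, h2]))⟩, rfl⟩
  · rintro ⟨u, hu, rfl⟩
    refine ⟨⟨u, Q0_le (Q := Q) hu, rfl⟩, ?_⟩
    rw [← map_mul, ← map_one φ]
    exact congrArg φ (Subtype.ext (hG.mem_Q0.mp hu).2)

theorem pull_struct [Finite G] [Finite G'] (hG : Hyp G Ω a t Q s r) (hs : s ∈ L) (hr : r ∈ L)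
    (h2 : ∃ z ∈ Q0 Q ⊓ L, z ≠ 1 ∧ z ≠ s)
    (hS : Struct a' (φ ⟨t, h.t_mem⟩) ((Q.subgroupOf L).map φ)) :
    IsPGroup 2 ↥(Q ⊓ L) ∧
    ((∀ x ∈ Q ⊓ L, ∀ y ∈ Q ⊓ L, x * y = y * x) → ∀ x ∈ Q ⊓ L, x * x = 1) ∧
    (∀ x ∈ Q ⊓ L, x ^ 4 = 1) ∧
    (Nat.card ↥(Q ⊓ L) = Nat.card ↥(Q0 Q ⊓ L) ∨
      (Nat.card ↥(Q ⊓ L) = Nat.card ↥(Q0 Q ⊓ L) ^ 2 ∧ r * r ≠ 1) ∨
      (Nat.card ↥(Q ⊓ L) = Nat.card ↥(Q0 Q ⊓ L) ^ 3 ∧ ∃ ω ∈ Q ⊓ L, ω * ω ≠ 1 ∧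
        ∃ ζ ∈ DD a t ⊓ L, (∀ z ∈ Q0 Q ⊓ L, z * ζ = ζ * z) ∧ (∃ y ∈ Q ⊓ L, y * ζ ≠ ζ * y) ∧
          ff a t Q ω = ζ⁻¹ * ω⁻¹ * ζ)) := by
  have hG' := h.hyp hG hs hr h2
  have e0 := h.Q0_eq hG hG'
  have c1 := h.card_map hG.setup (le_refl Q)
  have c0 := h.card_map hG.setup (Q0_le (Q := Q))
  rw [← e0] at c0
  have hab : (∀ x ∈ (Q.subgroupOf L).map φ, ∀ y ∈ (Q.subgroupOf L).map φ, x * y = y * x) →
      ∀ x ∈ Q ⊓ L, x * x = 1 := fun hc x hx => congrArg Subtype.val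
    (h.eq_one_of_Q hG.setup (u := ⟨x, hx.2⟩ * ⟨x, hx.2⟩) (Q.mul_mem hx.1 hx.1)
      (by rw [map_mul, hS.ab hc _ (map_mem hx.1)]))
  have hcom : ∀ x : L, ∀ y : L, (x : G) ∈ DD a t ∨ (x : G) ∈ Q → (y : G) ∈ Q →
      φ y * φ x = φ x * φ y → (y : G) * x = x * y := fun x y hx hy e => by
    have h3 : (x : G) • a = a := hx.elim (fun h => h.1) (Q_fix hG.setup)
    have := h.eq_of_Q hG.setup (u := x⁻¹ * y * x) (v := y) (conj_mem_Q' hG.setup h3 hy) hy (by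
      rw [map_mul, map_mul, map_inv, mul_assoc, e, inv_mul_cancel_left])
    calc (y : G) * x = x * (x⁻¹ * y * x : L) := by push_cast; group
      _ = _ := by rw [this]
  refine ⟨?_, fun hc => hab ?_, ?_⟩
  · obtain ⟨n, hn⟩ := IsPGroup.iff_card.mp hS.two
    exact IsPGroup.of_card (c1.symm.trans hn)
  · rintro _ ⟨x, hx, rfl⟩ _ ⟨y, hy, rfl⟩
    rw [← map_mul, ← map_mul]
    exact congrArg φ (Subtype.ext (hc x ⟨hx, x.2⟩ y ⟨hy, y.2⟩))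
  by_cases hc : ∀ x ∈ (Q.subgroupOf L).map φ, ∀ y ∈ (Q.subgroupOf L).map φ, x * y = y * x
  · refine ⟨fun x hx => ?_, Or.inl ?_⟩
    · rw [show 4 = 2 * 2 from rfl, pow_mul, pow_two x, hab hc x hx, one_pow]
    · congr 2
      exact le_antisymm (fun x hx => ⟨hG.mem_Q0.mpr ⟨hx.1, hab hc x hx⟩, hx.2⟩)
        (inf_le_inf_right _ Q0_le)
  push Not at hc
  obtain ⟨k1, -, -, k2⟩ := hG'.higman le_rfl Q0_le hS.two
    (fun k hk x hx => hG'.conj_Q (KK_le hk) hx) hc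
  refine ⟨fun x hx => ?_, Or.inr ?_⟩
  · have := (hG'.mem_Q0.mp (k1 _ (map_mem (u := ⟨x, hx.2⟩) hx.1))).2
    exact congrArg Subtype.val (h.eq_one_of_Q hG.setup (u := ⟨x, hx.2⟩ ^ 4) (Q.pow_mem hx.1 4)
      (by rw [map_pow, ← this]; simp only [pow_succ, pow_zero, one_mul, mul_assoc]))
  rcases k2 with k2 | k2
  · refine Or.inl ⟨by rw [← c1, ← c0, k2], fun e => hG'.r_sq_ne_one hS.two k2 ?_⟩
    rw [← map_mul, ← map_one φ]
    exact congrArg φ (Subtype.ext e)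
  · refine Or.inr ⟨by rw [← c1, ← c0, k2], ?_⟩
    obtain ⟨_, ⟨ω, hω, rfl⟩, hω2, ζ', hζ, hζ1, e⟩ := hS.u3 k2
    obtain ⟨ζ, rfl⟩ := h.surj ζ'
    have hζD := h.mem_D.mp hζ.1
    have hω2' : (ω : G) * ω ≠ 1 := fun e => hω2 (by
      rw [← map_mul, ← map_one φ]
      exact congrArg φ (Subtype.ext e))
    refine ⟨ω, ⟨hω, ω.2⟩, hω2', ζ, ⟨hζD, ζ.2⟩, fun z hz => hcom ζ ⟨z, hz.2⟩ (Or.inl hζD)
      (Q0_le hz.1) ((mem_WW.mp hζ).2 _ (e0 ▸ ⟨⟨z, hz.2⟩, hz.1, rfl⟩)), ?_, ?_⟩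
    · by_contra hcon
      push Not at hcon
      refine hζ1 (hG'.eq_one_of_cent_Q hζ.1 ?_)
      rintro _ ⟨y, hy, rfl⟩
      rw [← map_mul, ← map_mul]
      exact congrArg φ (Subtype.ext (hcon y ⟨hy, y.2⟩))
    · have hω1 : (ω : G) ≠ 1 := fun e => hω2' (by rw [e, one_mul])
      obtain ⟨-, -, hf, -, -, e3⟩ := h.ghf hG.setup hG'.setup hω hω1
      rw [e3, ← map_inv, ← map_inv, ← map_mul, ← map_mul] at e
      exact congrArg Subtype.val (h.eq_of_Q hG.setup (hG.ff_mem hω hω1)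
        (hG.conj_Q hζD (Q.inv_mem hω)) e)

end Pull

/-- the fixed points of `X`, acted on by `C_G(X)` -/
def fixSub (Ω : Type*) [MulAction G Ω] (X : Subgroup G) :
    SubMulAction (Subgroup.centralizer (X : Set G)) Ω where
  carrier := {c | ∀ x ∈ X, x • c = c}
  smul_mem' := fun g _ hc => fix_smul_of_cent g.2 hc

/-- `C_G(X)` modulo the kernel of its action on the fixed points of `X` -/
abbrev CQuot (Ω : Type*) [MulAction G Ω] (X : Subgroup G) : Type _ :=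
  Subgroup.centralizer (X : Set G) ⧸
    (toPermHom (Subgroup.centralizer (X : Set G)) (fixSub Ω X)).ker

instance instCQuotAction (Ω : Type*) [MulAction G Ω] (X : Subgroup G) :
    MulAction (CQuot Ω X) (fixSub Ω X) :=
  MulAction.compHom _
    (QuotientGroup.kerLift (toPermHom (Subgroup.centralizer (X : Set G)) (fixSub Ω X)))

theorem t_mem_cent {X : Subgroup G} (hX : X ≤ VV a t) : t ∈ Subgroup.centralizer (X : Set G) :=
  fun _ hx => (mem_VV.mp (hX hx)).2.symm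

theorem pull_cent (hS : IsRankOneSetup G Ω a t Q) {X : Subgroup G} (hX : X ≤ VV a t) :
    Pull a t Q (Subgroup.centralizer (X : Set G)) (QuotientGroup.mk' _ : _ →* CQuot Ω X)
      (Subtype.val : fixSub Ω X → Ω) ⟨a, fun _ hx => (hX hx).1.1⟩ where
  t_mem := t_mem_cent hX
  surj := QuotientGroup.mk'_surjective _
  inj := Subtype.val_injective
  smul := fun _ _ => rfl
  base := rfl
  faithful := fun _ h => QuotientGroup.kerLift_injective _ (by rw [map_one]; exact Equiv.ext h)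
  trans := fun x hx => by
    obtain ⟨u, hu, h1, e⟩ := exists_Q_cent_smul hS (Y := X) (fun y hy => (hX hy).1.1) (ta_ne hS)
      (fun e => hx (Subtype.ext e)) (fun y hy => (hX hy).1.2) x.2
    exact ⟨u, ⟨hu, h1⟩, e.symm⟩

theorem pull_sub (hG : Hyp G Ω a t Q s r) {L : Subgroup G} (hQ : Q ≤ L) (ht : t ∈ L) :
    Pull a t Q L (MonoidHom.id L) (id : Ω → Ω) a where
  t_mem := ht
  surj := Function.surjective_id
  inj := Function.injective_id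
  smul := fun _ _ => rfl
  base := rfl
  faithful := fun g h => Subtype.ext (hG.faithful g h)
  trans := fun x hx => by
    obtain ⟨u, hu, e⟩ := exists_Q_smul_b hG.setup hx
    exact ⟨u, ⟨hu, hQ hu⟩, e.symm⟩

variable [Finite G]

namespace Hyp

theorem s_mem_cent (hG : Hyp G Ω a t Q s r) {X : Subgroup G} (hX : X ≤ VV a t) :
    s ∈ Subgroup.centralizer (X : Set G) := fun _ hx => (hG.mem_VV_iff.mp (hX hx)).2.symm

theorem r_mem_cent (hG : Hyp G Ω a t Q s r) {X : Subgroup G} (hX : X ≤ VV a t) :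
    r ∈ Subgroup.centralizer (X : Set G) := fun _ hx => (hG.r_comm_V (hX hx)).symm

theorem card_CQuot_lt (hG : Hyp G Ω a t Q s r) {X : Subgroup G} (hX : X ≤ VV a t) (h1 : X ≠ ⊥) :
    Nat.card (CQuot Ω X) < Nat.card G := by
  refine lt_of_le_of_lt (Nat.card_le_card_of_surjective _ QuotientGroup.mk_surjective) ?_
  refine lt_of_le_of_ne (Subgroup.card_le_card_group _) fun e => h1 (eq_bot_iff.mpr fun x hx => ?_)
  have := Subgroup.eq_top_of_card_eq _ e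
  exact hG.eq_one_of_cent_Q (hX hx).1 fun y _ =>
    ((this ▸ Subgroup.mem_top y : y ∈ Subgroup.centralizer (X : Set G)) x hx).symm

/-- a non-trivial normal subgroup contains `Q` and `t` -/
theorem le_of_normal (hG : Hyp G Ω a t Q s r) {N : Subgroup G} (hN : N.Normal) (h1 : N ≠ ⊥) :
    Q ≤ N ∧ t ∈ N := by
  have h2 : Even (Nat.card N) := by
    rw [← Nat.not_odd_iff_even]
    intro ho
    have h3 : N ≤ (stabilizer G a).normalCore := by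
      rw [← s1120 hG.setup hG.rank2]
      exact le_sSup ⟨hN, Nat.coprime_two_right.mpr ho⟩
    refine h1 (eq_bot_iff.mpr fun x hx => hG.faithful x fun c => ?_)
    obtain ⟨g, rfl⟩ := trans hG.setup a c
    have := h3 hx g⁻¹
    rwa [mem_stabilizer_iff, inv_inv, mul_smul, mul_smul, inv_smul_eq_iff] at this
  obtain ⟨z, hz, hz1, hz2⟩ := H21.exists_invol_of_even_card h2
  obtain ⟨g, hg⟩ := invol_conj hG.setup hz1 hz2 hG.setup.ne_one hG.tt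
  have ht : t ∈ N := hg ▸ hN.conj_mem z hz g
  refine ⟨?_, ht⟩
  obtain ⟨k, hk, hk1⟩ := hG.exists_KK_ne_one
  have hkN : k ∈ N := by
    have h4 : k * k ∈ N := by
      have : k * k = k * t * k⁻¹ * t := by
        rw [mul_assoc, mul_assoc, ← mul_assoc t, hG.tKt (Subgroup.inv_mem _ hk), inv_inv]
      rw [this]
      exact N.mul_mem (hN.conj_mem t ht k) ht
    obtain ⟨m, hm⟩ := hG.odd_D
    rw [← H21.eq_pow_sq_of_odd (x := k) (m := m) (by rw [← hm]; exact pow_card_D (KK_le hk))]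
    exact Subgroup.pow_mem _ h4 _
  let φ : Q → Q := fun x => ⟨(x : G)⁻¹ * (k⁻¹ * x * k),
    Q.mul_mem (Q.inv_mem x.2) (hG.conj_Q (KK_le hk) x.2)⟩
  have hφ : Function.Injective φ := by
    intro x y e
    have e' : (x : G)⁻¹ * (k⁻¹ * x * k) = (y : G)⁻¹ * (k⁻¹ * y * k) := congrArg Subtype.val e
    have := hG.K_fpf hk hk1 (Q.mul_mem y.2 (Q.inv_mem x.2)) (by
      calc k * (y * (x : G)⁻¹) = k * y * ((x : G)⁻¹ * (k⁻¹ * x * k)) * k⁻¹ * (x : G)⁻¹ * k := by group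
        _ = _ := by rw [e']; group)
    exact Subtype.ext (mul_inv_eq_one.mp this).symm
  intro x hx
  obtain ⟨y, e⟩ := Finite.injective_iff_surjective.mp hφ ⟨x, hx⟩
  have e' : (y : G)⁻¹ * (k⁻¹ * y * k) = x := congrArg Subtype.val e
  rw [← e', ← mul_assoc, ← mul_assoc]
  exact N.mul_mem (by simpa using hN.conj_mem _ (N.inv_mem hkN) (y : G)⁻¹) hkN

theorem exists_ne_s (hG : Hyp G Ω a t Q s r) : ∃ z ∈ Q0 Q, z ≠ 1 ∧ z ≠ s := by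
  obtain ⟨k, hk, h1⟩ := hG.exists_KK_ne_one
  refine ⟨_, hG.conj_Q0 (KK_le hk).1 hG.s_mem_Q0, fun h => hG.s_ne ?_, fun h => h1 ?_⟩
  · simpa [mul_assoc] using congrArg (k * · * k⁻¹) h
  · exact hG.K_eq_of_conj_s hk (Subgroup.one_mem _) (by simpa using h)

/-- Chapter I, §3, Proposition 2 -/
theorem struct_of_sub (hG : Hyp G Ω a t Q s r) {L : Subgroup G} (hQ : Q ≤ L) (ht : t ∈ L)
    (ih : ∀ (t' : L) (Q' : Subgroup L) (s' r' : L), Hyp L Ω a t' Q' s' r' → Struct a t' Q') :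
    Struct a t Q := by
  have h := pull_sub hG hQ ht
  have h2 : ∃ z ∈ Q0 Q ⊓ L, z ≠ 1 ∧ z ≠ s := by
    obtain ⟨z, hz, h1⟩ := hG.exists_ne_s
    exact ⟨z, ⟨hz, hQ (Q0_le hz)⟩, h1⟩
  have := h.pull_struct hG (hQ hG.s_mem) (hQ hG.r_mem) h2
    (ih _ _ _ _ (h.hyp hG (hQ hG.s_mem) (hQ hG.r_mem) h2))
  rw [inf_eq_left.mpr hQ, inf_eq_left.mpr (Q0_le.trans hQ)] at this
  obtain ⟨k1, k2, -, k3⟩ := this
  refine ⟨k1, k2, fun hc => ?_⟩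
  have h4 := hG.four_le_card_Q0
  rcases k3 with k3 | ⟨k3, -⟩ | ⟨-, ω, hω, hω2, ζ, hζ, k4, ⟨y, -, k5⟩, k6⟩
  · rw [hc] at k3
    have := Nat.pow_right_injective (a := Nat.card (Q0 Q)) (by omega) (k3.trans (pow_one _).symm)
    omega
  · rw [hc] at k3
    have := Nat.pow_right_injective (a := Nat.card (Q0 Q)) (by omega) k3
    omega
  · exact ⟨ω, hω, hω2, ζ, mem_WW.mpr ⟨hζ.1, k4⟩, fun e => k5 (by rw [e, one_mul, mul_one]), k6⟩

/-- Chapter I, §3, Proposition 1 -/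
theorem loc_of_ih (hG : Hyp G Ω a t Q s r)
    (ih : ∀ X : Subgroup G, X ≤ VV a t → X ≠ ⊥ → ∀ (a' : fixSub Ω X) (t' : CQuot Ω X)
      (Q' : Subgroup (CQuot Ω X)) (s' r' : CQuot Ω X),
      Hyp (CQuot Ω X) (fixSub Ω X) a' t' Q' s' r' → Struct a' t' Q') :
    Loc a t Q s r := by
  intro X hX h1 h2
  have h := pull_cent hG.setup hX
  obtain ⟨k1, k2, k3, k4⟩ := h.pull_struct hG (hG.s_mem_cent hX) (hG.r_mem_cent hX) h2
    (ih X hX h1 _ _ _ _ _ (h.hyp hG (hG.s_mem_cent hX) (hG.r_mem_cent hX) h2))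
  exact ⟨k1, k2, k3, k4⟩

end Hyp

end Suz
end H8
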