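import Mathlib
import Cfsg.Agent.H8.SuzK
import Cfsg.Agent.H22.SuzII4
import Cfsg.Agent.H22.SuzII6

/-! Chapter II: the first case. -/

set_option autoImplicit false

namespace H8
namespace Suz

open Cfsg MulAction

variable {G Ω : Type*} [Group G] [Finite G] [MulAction G Ω] {a : Ω} {t : G} {Q : Subgroup G} {s r : G}

theorem Hyp.struct_of_B1 [IsSimpleGroup G] (hG : Hyp G Ω a t Q s r) (hL : Loc a t Q s r)
    {P : Subgroup G} (hP : P ≤ VV a t) (hp : (Nat.card P).Prime)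
    (hB : ∀ z ∈ Q0 Q ⊓ Subgroup.centralizer (P : Set G), z = 1 ∨ z = s) : Struct a t Q :=
  have h : H22.SuzII.B1 Ω a t Q s r P := ⟨hG, hP, hp, hB⟩
  h.struct_of_dvd hL h.dvd_card_W

end Suz
end H8
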