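import Mathlib
import Cfsg.Agent.H8.SuzK
import Cfsg.Agent.H5.FS
import Cfsg.Agent.H27.PF14

/-! Chapter III, §1, Theorem C (with the Feit–Sibley theorem of Appendix IV). -/

set_option autoImplicit false

namespace H8
namespace Suz

open Cfsg MulAction

variable {G Ω : Type*} [Group G] [Finite G] [MulAction G Ω] {a : Ω} {t : G} {Q : Subgroup G} {s r : G}

open H24 H27 in
theorem Hyp.two_group [IsSimpleGroup G] (hG : Hyp G Ω a t Q s r) (hV : VV a t ≠ ⊥)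
    (hfpf : ∀ d ∈ DD a t, d ≠ 1 → ∀ y ∈ Q, Odd (orderOf y) → d * y = y * d → y = 1) :
    IsPGroup 2 Q := by
  have hS := hG.setup
  have hsd : SD Q (DD a t) (stabilizer G a) := ⟨le_N_iff.mpr fun d hd x hx => hS.conj_mem d hd.1 x hx,
    eq_bot_of_le hS.inf_eq_bot (inf_le_inf_left _ inf_le_right), hS.sup_eq⟩
  have hTI : ∀ x ∈ Q, x ≠ 1 → ∀ g, g * x * g⁻¹ ∈ stabilizer G a → g ∈ stabilizer G a := by
    intro x hx h1 g hg
    by_contra h
    refine h1 (H21.RankOne.eq_one_of_mem_Q_of_fix hS hx (c := g⁻¹ • a) (fun e => h ?_) ?_)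
    · exact (inv_smul_eq_iff.mp e).symm
    · rw [eq_inv_smul_iff, ← mul_smul, ← mul_smul]; exact hg
  have hK : KK a t ⊴ DD a t := ⟨KK_le, le_N_iff.mpr fun d hd k hk => by
    simpa using hG.conj_KK (inv_mem hd) hk⟩
  have hKD : KK a t ≠ DD a t := fun e => hV (eq_bot_iff.mpr fun v hv =>
    hG.eq_one_of_K_V (e ▸ hv.1) hv)
  have h1 := der1_sup_ne_of_sol (Feit_Thompson _ hG.odd_D) hK hKD
  have h2 := (der1_nml (DD a t)).sup hK
  obtain ⟨θ, hθ⟩ := irrKD_nonempty h2 (H := DD a t) fun h => h1 (le_antisymm h2.le h)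
  obtain ⟨t1, t2, t3⟩ := mem_irrKD.mp hθ
  obtain ⟨lam, hl, hr⟩ := exists_irrK_ext hsd.isProd hsd.nml (θ := θ)
    (mem_irrK.mpr ⟨t1, by rw [hsd.inf]; exact bot_le⟩)
  obtain ⟨l1, l2⟩ := mem_irrK.mp hl
  have hθl := irr_lin_of_der_le t1 (le_sup_left.trans t2)
  have hlin : IsLin (stabilizer G a) lam := ⟨l1, by rw [← hθl.one, ← hr, cfRes_apply_one]⟩
  have hD : ∀ x ∈ DD a t, lam x = θ x := fun x hx => by rw [← hr, cfRes_of_mem _ hx]
  have ht : ∀ x ∈ DD a t, lam (t * x * t⁻¹) = lam x := fun x hx => by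
    obtain ⟨k, hk, v, hv, rfl⟩ := hG.exists_KV hx
    rw [hG.t_inv, show t * (k * v) * t = t * k * t * (t * v * t) by
      simp only [mul_assoc, hG.tt_mul], hG.tKt hk, hG.tVt hv,
      hD _ (mul_mem (inv_mem (KK_le hk)) hv.1), hD _ hx,
      cfker_mul_left (t2 (Subgroup.mem_sup_right (inv_mem hk))),
      cfker_mul_left (t2 (Subgroup.mem_sup_right hk))]
  have hne : lam ≠ cfOne (stabilizer G a) := fun e => t3 (by
    rw [← hr, e, cfRes_cfOne hsd.right_le, cfker_cfOne])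
  have hm : ∀ μ ∈ CF (stabilizer G a), Q ≤ cfker (stabilizer G a) μ →
      (∀ x ∈ DD a t, μ (t * x * t⁻¹) = μ x) → cfdot ⊤ (cfInd ⊤ (stabilizer G a) lam)
        (cfInd ⊤ (stabilizer G a) μ) = 2 * cfdot (stabilizer G a) lam μ := by
    intro μ h1 h2 h3
    rw [H5.FS.mackey (D := DD a t) (t := t) (fun x => ?_) (fun g hg => ?_) ?_ (irr_CF l1) h1,
      cfdot_congr (fun _ _ => rfl) (ψ := cfConj t μ) (ψ' := μ) h3, cfdot_res_of_ker hsd.isProd l2 h2, two_mul]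
    · rw [H21.RankOne.card_G hS, hsd.card]; ring
    · rw [mem_DD, mem_stabilizer_iff, mem_stabilizer_iff, hG.t_inv, mul_smul, mul_smul,
        smul_eq_iff_eq_inv_smul t, hG.t_inv]
    · obtain ⟨x, y, h1, h2, h3⟩ := H21.RankOne.exists_canonical hS hg
      exact ⟨x, h1, y, hS.le h2, h3⟩
  refine H5.FS.core hsd hG.odd_D hG.nilpotent_Q hS.even_card.two_dvd hTI hfpf
    (ψ := cfInd ⊤ (stabilizer G a) lam) (hlin.char.ind le_top) (cfnorm_eq_of_cfdot ?_) ?_ ?_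
    (fun x hx h1 => ?_) ?_
  · rw [hm lam (irr_CF l1) l2 ht, irr_dot_self l1]; simp
  · rw [conjC, cfAut_cfInd, hm _ (irr_CF (irr_conjC l1)) (by rwa [cfker_cfAut]) fun x hx =>
      congrArg (starRingEnd ℂ) (ht x hx), irr_dot_ne l1 (irr_conjC l1) fun e => t3 ?_, mul_zero]
    intro x hx
    rw [hθl.mem_cfker, ← hD x hx]
    exact ⟨hx, H5.FS.lin_eq_one hG.odd_D hlin hsd.right_le hx (congrFun e x).symm⟩
  · rw [cfdot_cfInd_left le_top _ (cfOne_mem_CF _), ← cfdot_cfRes_right, cfRes_cfOne le_top,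
      irr_dot_ne l1 (cfOne_mem_Irr _) hne]
  · rw [H5.FS.cfInd_apply_of_fus (irr_CF l1) (hTI x hx h1), cfker_apply (l2 hx), hlin.one]
  · rw [cfInd_one le_top, hlin.one, Subgroup.relIndex_top_right, H21.RankOne.index_H hS, H21.RankOne.card_Omega hS]
    simp

end Suz
end H8
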