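import Mathlib
import Cfsg.Agent.H8.SuzK
import Cfsg.Agent.H14.PrimeDeg

/-! Chapter I §3 Lemma 5, Chapter III §3: field coordinates on `Q / Q₀` when `|Q| = q³`. -/

set_option autoImplicit false

namespace H8
namespace Suz

open Cfsg MulAction H21.RankOne

universe u v

variable {G : Type u} {Ω : Type v} [Group G] [MulAction G Ω] {a : Ω} {t : G} {Q : Subgroup G} {s r : G}

/-- `Q / Q₀` is the additive group of a field on which `K W` acts linearly, `D` semilinearly -/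
structure Lin (a : Ω) (t : G) (Q : Subgroup G) {E : Type*} [Field E] (n : ℕ) (π μ : G → E) :
    Prop where
  two_le : 2 ≤ n
  cardQ0 : Nat.card (Q0 Q) = 2 ^ n
  cardE : Nat.card E = (2 ^ n) ^ 2
  two : (2 : E) = 0
  add : ∀ x ∈ Q, ∀ y ∈ Q, π (x * y) = π x + π y
  ker : ∀ x ∈ Q, π x = 0 ↔ x ∈ Q0 Q
  surj : ∀ u, ∃ x ∈ Q, π x = u
  conjK : ∀ k ∈ KK a t, ∀ x ∈ Q, π (k⁻¹ * x * k) = μ k * π x
  conjW : ∀ w ∈ WW a t Q, ∀ x ∈ Q, π (w⁻¹ * x * w) = μ w * π x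
  conjD : ∀ d ∈ DD a t, ∃ φ : E ≃+* E, ∀ x ∈ Q, π (d⁻¹ * x * d) = μ d * φ (π x)

theorem pow_sq_card {E : Type*} [Field E] [Finite E] {m : ℕ} (h : Nat.card E = m ^ 2) (x : E) :
    (x ^ m) ^ m = x := by
  have := Fintype.ofFinite E
  rw [← pow_mul, ← pow_two, ← h, Nat.card_eq_fintype_card, FiniteField.pow_card]

theorem sq_apply_of_fix {E : Type*} [Field E] [Finite E] {n : ℕ} (h2 : (2 : E) = 0)
    (h : Nat.card E = (2 ^ n) ^ 2) {φ : E ≃+* E} (hφ : ∀ x, x ^ 2 ^ n = x → φ x = x) (x : E) :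
    φ (φ x) = x := by
  have : CharP E 2 := CharTwo.of_one_ne_zero_of_two_eq_zero one_ne_zero h2
  have h1 := hφ (x + x ^ 2 ^ n) (by rw [add_pow_char_pow, pow_sq_card h, add_comm])
  have h3 := hφ (x * x ^ 2 ^ n) (by rw [mul_pow, pow_sq_card h, mul_comm])
  rw [map_add, map_pow] at h1
  rw [map_mul, map_pow] at h3
  have h4 : (φ x - x) * (φ x - x ^ 2 ^ n) = 0 := by
    linear_combination (φ x) * h1 - h3
  rcases mul_eq_zero.mp h4 with h5 | h5
  · rw [sub_eq_zero.mp h5, sub_eq_zero.mp h5]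
  · rw [sub_eq_zero] at h5
    rw [h5, map_pow, h5, pow_sq_card h]

variable [Finite G]

namespace Hyp

theorem comm_of_sq (hG : Hyp G Ω a t Q s r) {d x : G} (hd : d ∈ DD a t)
    (h : d * d * x = x * (d * d)) : d * x = x * d := by
  obtain ⟨m, hm⟩ := hG.odd_D
  rw [← H21.eq_pow_sq_of_odd (x := d) (m := m) (by rw [← hm]; exact pow_card_D hd)]
  exact (show Commute (d * d) x from h).pow_left _

theorem eq_one_of_sq (hG : Hyp G Ω a t Q s r) {d : G} (hd : d ∈ DD a t) (h : d * d = 1) : d = 1 :=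
  hG.eq_one_of_cent_Q hd fun x _ => (hG.comm_of_sq hd (by rw [h, one_mul, mul_one])).symm

theorem exists_sq {U : Subgroup G} (hG : Hyp G Ω a t Q s r) (hU : U ≤ DD a t) {d : G} (hd : d ∈ U) :
    ∃ c ∈ U, c * c = d := by
  obtain ⟨m, hm⟩ := hG.odd_D
  refine ⟨d ^ (m + 1), U.pow_mem hd _, ?_⟩
  rw [← pow_add, show m + 1 + (m + 1) = 2 * m + 1 + 1 by ring, pow_succ, ← hm, pow_card_D (hU hd),
    one_mul]

theorem comm_of_W (hG : Hyp G Ω a t Q s r) {w x : G} (hw : w ∈ WW a t Q)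
    (h : x⁻¹ * (w⁻¹ * x * w) ∈ Q0 Q) : w * x = x * w := by
  refine hG.comm_of_sq hw.1 ?_
  have h1 := (mem_WW.mp hw).2 _ h
  have h2 := (hG.mem_Q0.mp h).2
  calc w * w * x = w * w * x * (x⁻¹ * (w⁻¹ * x * w) * (x⁻¹ * (w⁻¹ * x * w))) := by rw [h2, mul_one]
    _ = w * x * (w * (x⁻¹ * (w⁻¹ * x * w))) := by group
    _ = _ := by rw [← h1]; group

theorem sq_mul_Q0 (hG : Hyp G Ω a t Q s r) {x z : G} (hx : x ∈ Q) (hz : z ∈ Q0 Q) :
    x * z * (x * z) = x * x := by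
  rw [mul_assoc, ← mul_assoc z, hG.Q0_central hz hx, mul_assoc, (hG.mem_Q0.mp hz).2, mul_one]

/-- if `x ^ w ≡ x ^ k` modulo `Q₀` then `k = 1` -/
theorem K_eq_one_of_W (hG : Hyp G Ω a t Q s r) {w k x z : G} (hw : w ∈ WW a t Q) (hk : k ∈ KK a t)
    (hx : x ∈ Q) (hx0 : x ∉ Q0 Q) (hsq : x * x ∈ Q0 Q) (hz : z ∈ Q0 Q)
    (e : w⁻¹ * x * w = k⁻¹ * (x * z) * k) : k = 1 := by
  by_contra hk1
  refine hx0 (hG.mem_Q0.mpr ⟨hx, hG.K_fpf hk hk1 (Q.mul_mem hx hx) ?_⟩)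
  have h1 := (mem_WW.mp hw).2 _ hsq
  calc k * (x * x) = k * (w⁻¹ * (x * x * w)) := by rw [h1]; group
    _ = k * ((w⁻¹ * x * w) * (w⁻¹ * x * w)) := by group
    _ = x * z * (x * z) * k := by rw [e]; group
    _ = _ := by rw [hG.sq_mul_Q0 hx hz]

theorem comm_W_of_sq (hG : Hyp G Ω a t Q s r) {U : Subgroup G} (hU : U ≤ Q) (h0 : Q0 Q ≤ U)
    (hK : ∀ k ∈ KK a t, ∀ x ∈ U, k⁻¹ * x * k ∈ U) (hc : Nat.card U = Nat.card (Q0 Q) ^ 2)
    {w x : G} (hw : w ∈ WW a t Q) (hx : x ∈ U) (hsq : x * x ∈ Q0 Q) (hxw : w⁻¹ * x * w ∈ U) :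
    w * x = x * w := by
  by_cases hx0 : x ∈ Q0 Q
  · exact ((mem_WW.mp hw).2 x hx0).symm
  obtain ⟨k, hk, z, hz, e⟩ := hG.exists_K_conj_of_sq hU h0 hK hc hx hx0 hxw fun h => hx0 (by
    simpa [mul_assoc] using hG.conj_Q0 (Subgroup.inv_mem _ hw).1.1 h)
  obtain rfl := hG.K_eq_one_of_W hw hk (hU hx) hx0 hsq hz e
  exact hG.comm_of_W hw (by rw [e]; simpa using hz)

theorem sq_mem (hG : Hyp G Ω a t Q s r) (hC : C2 a t Q) {x : G} (hx : x ∈ Q) : x * x ∈ Q0 Q :=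
  (hG.higman le_rfl Q0_le hC.two (fun _ hk _ hx => hG.conj_Q (KK_le hk) hx) hC.nonab).1 x hx

theorem comm_mem (hG : Hyp G Ω a t Q s r) (hC : C2 a t Q) {x y : G} (hx : x ∈ Q) (hy : y ∈ Q) :
    x⁻¹ * y⁻¹ * x * y ∈ Q0 Q :=
  (hG.higman le_rfl Q0_le hC.two (fun _ hk _ hx => hG.conj_Q (KK_le hk) hx) hC.nonab).2.1 x hx y hy

theorem card_of_K_inv (hG : Hyp G Ω a t Q s r) (hC : C2 a t Q) {U : Subgroup G} (hU : U ≤ Q)
    (h0 : Q0 Q ≤ U) (hK : ∀ k ∈ KK a t, ∀ x ∈ U, k⁻¹ * x * k ∈ U) :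
    U = Q0 Q ∨ U = Q ∨ Nat.card U = Nat.card (Q0 Q) ^ 2 := by
  have hN := le_normalizer_of_conj (K := KK a t) (S := Q) fun _ hk _ hx => hG.conj_Q (KK_le hk) hx
  letI := actOn (KK a t) Q hN
  have h := hG.szH le_rfl Q0_le hC.two hN
  obtain ⟨m, hm⟩ := h.exists_card_eq (U.subgroupOf Q)
    (H21.normal_of_sq fun x => h0 (hG.sq_mem hC x.2)) fun k x hx => by
      have := hK _ (Subgroup.inv_mem _ k.2) _ hx
      rwa [inv_inv] at this
  rw [← h.card_K, hG.card_KK, hC.card, Nat.card_congr (Subgroup.subgroupOfEquivOfLe hU).toEquiv] at hm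
  have h4 := hG.four_le_card_Q0
  have h5 := Subgroup.card_le_of_le h0
  have hpos : 0 < Nat.card (Q0 Q) := by omega
  rcases m with _ | _ | _ | m
  · exact Or.inr (Or.inl (Subgroup.eq_of_le_of_card_ge hU (by rw [hC.card, hm]; simp)))
  · exact Or.inr (Or.inr (Nat.eq_of_mul_eq_mul_right hpos (by rw [← pow_succ, hm]; simp)))
  · refine Or.inl (Subgroup.eq_of_le_of_card_ge h0 (le_of_eq ?_)).symm
    exact Nat.eq_of_mul_eq_mul_right (pow_pos hpos 2) (by rw [← hm]; ring)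
  · have h6 : 0 < Nat.card (Q0 Q) ^ 3 := pow_pos hpos 3
    have h7 : 0 < Nat.card (Q0 Q) ^ m := pow_pos hpos m
    have h8 : 1 * Nat.card (Q0 Q) ^ 3 = Nat.card U * Nat.card (Q0 Q) ^ m * Nat.card (Q0 Q) ^ 3 := by
      rw [one_mul]; nth_rewrite 1 [hm]; ring
    have := Nat.eq_of_mul_eq_mul_right h6 h8
    nlinarith

theorem exists_quot (hG : Hyp G Ω a t Q s r) (hC : C2 a t Q) :
    ∃ (V : Type u) (_ : AddCommGroup V) (_ : Finite V) (ρ : DD a t →* Module.End ℤ V) (m : G → V),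
      (∀ x ∈ Q, ∀ y ∈ Q, m (x * y) = m x + m y) ∧ (∀ x ∈ Q, m x = 0 ↔ x ∈ Q0 Q) ∧
      (∀ v, ∃ x ∈ Q, m x = v) ∧ (∀ d : DD a t, ∀ x ∈ Q, ρ d (m x) = m (d * x * (d : G)⁻¹)) ∧
      Nat.card V = Nat.card (Q0 Q) ^ 2 ∧ (∀ v : V, v + v = 0) ∧
      ∀ U : AddSubgroup V, (∀ k : DD a t, (k : G) ∈ KK a t → ∀ v ∈ U, ρ k v ∈ U) →
        U = ⊥ ∨ U = ⊤ ∨ ∀ w : DD a t, (w : G) ∈ WW a t Q → ∀ v ∈ U, ρ w v ∈ U → ρ w v = v := by
  classical
  let B := (Q0 Q).subgroupOf Q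
  have hsq : ∀ x : Q, x * x ∈ B := fun x => hG.sq_mem hC x.2
  have : B.Normal := H21.normal_of_sq hsq
  letI := H21.sqQuotComm B hsq
  have hc : ∀ (d : DD a t) (x : G), x ∈ Q → (d : G) * x * (d : G)⁻¹ ∈ Q := fun d x hx =>
    conj_mem_Q hG.setup d.2.1 hx
  let φ : DD a t → (Q →* Q) := fun d =>
    ((MulAut.conj (d : G)).toMonoidHom.comp Q.subtype).codRestrict Q fun x => hc d x x.2
  let ψ : DD a t → (Q ⧸ B →* Q ⧸ B) := fun d => QuotientGroup.map B B (φ d) fun x hx => by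
    have := hG.conj_Q0 (d⁻¹).2.1 hx
    rwa [Subgroup.coe_inv, inv_inv] at this
  let ρ : DD a t →* Module.End ℤ (Additive (Q ⧸ B)) :=
    { toFun := fun k => (MonoidHom.toAdditive (ψ k)).toIntLinearMap
      map_one' := by
        refine LinearMap.ext fun v => ?_
        obtain ⟨x, hx⟩ := QuotientGroup.mk_surjective (Additive.toMul v)
        apply Additive.toMul.injective
        change ψ 1 (Additive.toMul v) = Additive.toMul v
        rw [← hx]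
        exact congrArg QuotientGroup.mk (Subtype.ext (by simp [φ]))
      map_mul' := fun k l => by
        refine LinearMap.ext fun v => ?_
        obtain ⟨x, hx⟩ := QuotientGroup.mk_surjective (Additive.toMul v)
        apply Additive.toMul.injective
        change ψ (k * l) (Additive.toMul v) = ψ k (ψ l (Additive.toMul v))
        rw [← hx]
        exact congrArg QuotientGroup.mk (Subtype.ext (by simp [φ, mul_assoc])) }
  let m : G → Additive (Q ⧸ B) := fun x =>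
    if hx : x ∈ Q then Additive.ofMul (QuotientGroup.mk ⟨x, hx⟩) else 0
  have h1 : ∀ x ∈ Q, ∀ y ∈ Q, m (x * y) = m x + m y := fun x hx y hy => by
    simp only [m, dif_pos hx, dif_pos hy, dif_pos (Q.mul_mem hx hy)]
    rfl
  have h2 : ∀ x ∈ Q, m x = 0 ↔ x ∈ Q0 Q := fun x hx => by
    simp only [m, dif_pos hx]
    exact QuotientGroup.eq_one_iff (⟨x, hx⟩ : Q)
  have h3 : ∀ v, ∃ x ∈ Q, m x = v := fun v => by
    obtain ⟨x, hx⟩ := QuotientGroup.mk_surjective (Additive.toMul v)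
    exact ⟨x, x.2, by simp only [m, dif_pos x.2]; exact hx⟩
  have h4 : ∀ d : DD a t, ∀ x ∈ Q, ρ d (m x) = m (d * x * (d : G)⁻¹) := fun d x hx => by
    simp only [m, dif_pos hx, dif_pos (hc d x hx)]
    rfl
  have h5 : ∀ v : Additive (Q ⧸ B), v + v = 0 := fun v => by
    rw [← two_nsmul]; exact H21.two_nsmul_quot B hsq v
  refine ⟨Additive (Q ⧸ B), inferInstance, inferInstance, ρ, m, h1, h2, h3, h4, ?_, h5, fun U hU => ?_⟩
  · have := Subgroup.card_eq_card_quotient_mul_card_subgroup B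
    rw [hC.card, Nat.card_congr (Subgroup.subgroupOfEquivOfLe (Q0_le (Q := Q))).toEquiv,
      pow_succ] at this
    exact (Nat.eq_of_mul_eq_mul_right Nat.card_pos this).symm
  let X : Subgroup G :=
    { carrier := {x | x ∈ Q ∧ m x ∈ U}
      mul_mem' := fun hx hy => ⟨Q.mul_mem hx.1 hy.1, by rw [h1 _ hx.1 _ hy.1]; exact U.add_mem hx.2 hy.2⟩
      one_mem' := ⟨Q.one_mem, by rw [(h2 1 Q.one_mem).mpr (Subgroup.one_mem _)]; exact U.zero_mem⟩
      inv_mem' := fun {x} hx => ⟨Q.inv_mem hx.1, by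
        have := h1 _ hx.1 _ (Q.inv_mem hx.1)
        rw [mul_inv_cancel, (h2 1 Q.one_mem).mpr (Subgroup.one_mem _)] at this
        rw [eq_neg_of_add_eq_zero_right this.symm]
        exact U.neg_mem hx.2⟩ }
  have hX0 : Q0 Q ≤ X := fun x hx => ⟨Q0_le hx, by rw [(h2 x (Q0_le hx)).mpr hx]; exact U.zero_mem⟩
  have hXK : ∀ k ∈ KK a t, ∀ x ∈ X, k⁻¹ * x * k ∈ X := fun k hk x hx =>
    ⟨hG.conj_Q (KK_le hk) hx.1, by
      have := hU (⟨k, KK_le hk⟩ : DD a t)⁻¹ (Subgroup.inv_mem _ hk) _ hx.2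
      rw [h4 _ _ hx.1] at this
      simpa using this⟩
  rcases hG.card_of_K_inv hC (U := X) (fun x hx => hx.1) hX0 hXK with h | h | h
  · refine Or.inl (eq_bot_iff.mpr fun v hv => ?_)
    obtain ⟨x, hx, rfl⟩ := h3 v
    exact (h2 x hx).mpr (h ▸ (⟨hx, hv⟩ : x ∈ X))
  · refine Or.inr (Or.inl (eq_top_iff.mpr fun v _ => ?_))
    obtain ⟨x, hx, rfl⟩ := h3 v
    exact (h.ge hx).2
  · refine Or.inr (Or.inr fun w hw v hv hwv => ?_)
    obtain ⟨x, hx, rfl⟩ := h3 v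
    rw [h4 _ _ hx] at hwv ⊢
    have := hG.comm_W_of_sq (U := X) (fun x hx => hx.1) hX0 hXK h (Subgroup.inv_mem _ hw) ⟨hx, hv⟩
      (hG.sq_mem hC hx) (by rw [inv_inv]; exact ⟨hc w x hx, hwv⟩)
    rw [mul_assoc, ← this, mul_inv_cancel_left]

theorem W_fpf (hG : Hyp G Ω a t Q s r) (hC : C2 a t Q) {w x : G} (hw : w ∈ WW a t Q) (hw1 : w ≠ 1)
    (hx : x ∈ Q) (h : x⁻¹ * (w⁻¹ * x * w) ∈ Q0 Q) : x ∈ Q0 Q := by
  obtain ⟨V, _, _, ρ, m, h1, h2, h3, h4, -, h5, h6⟩ := hG.exists_quot hC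
  have key : ∀ w : DD a t, (w : G) ∈ WW a t Q → (∀ v, ρ w v = v) → (w : G) = 1 := fun w hw hv => by
    refine hG.eq_one_of_cent_Q w.2 fun y hy => ?_
    have h7 := hG.comm_of_W (x := y) (Subgroup.inv_mem _ hw) (by
      rw [inv_inv, ← h2 _ (Q.mul_mem (Q.inv_mem hy) (conj_mem_Q hG.setup w.2.1 hy)),
        h1 _ (Q.inv_mem hy) _ (conj_mem_Q hG.setup w.2.1 hy), ← h4 _ _ hy, hv,
        ← h1 _ (Q.inv_mem hy) _ hy, inv_mul_cancel, h2 _ Q.one_mem]
      exact Subgroup.one_mem _)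
    exact (Commute.inv_left_iff.mp h7).symm
  let w' : DD a t := ⟨w, hw.1⟩
  rcases h6 (LinearMap.range (ρ w' - 1)).toAddSubgroup (by
    rintro k hk _ ⟨v, rfl⟩
    refine ⟨ρ k v, ?_⟩
    have : w' * k = k * w' := Subtype.ext (hG.K_W_comm hk hw).symm
    simp only [LinearMap.sub_apply, Module.End.one_apply, map_sub]
    rw [← Module.End.mul_apply, ← map_mul, this, map_mul, Module.End.mul_apply]) with h7 | h7 | h7
  · refine absurd (key w' hw fun v => ?_) hw1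
    have : (ρ w' - 1) v ∈ (⊥ : AddSubgroup V) := h7 ▸ ⟨v, rfl⟩
    simpa [sub_eq_zero] using this
  · have h8 : Function.Injective (ρ w' - 1 : Module.End ℤ V) :=
      Finite.injective_iff_surjective.mpr fun v => (h7.ge (AddSubgroup.mem_top v) :)
    rw [← h2 x hx]
    apply h8
    rw [map_zero, LinearMap.sub_apply, h4 _ _ hx, hG.comm_of_W hw h]
    simp [w']
  · refine absurd (hG.eq_one_of_sq hw.1 (key (w' * w') (Subgroup.mul_mem _ hw hw) fun v => ?_)) hw1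
    have := h7 w' hw _ ⟨v, rfl⟩ ⟨ρ w' v, by simp⟩
    simp only [LinearMap.sub_apply, Module.End.one_apply, map_sub] at this
    rw [map_mul, Module.End.mul_apply, sub_eq_iff_eq_add.mp this, sub_add_eq_add_sub, h5, zero_sub,
      neg_eq_iff_add_eq_zero, h5]

theorem r_sq (hG : Hyp G Ω a t Q s r) (hC : C2 a t Q) : r * r = 1 := by
  obtain ⟨⟨w, hw⟩, h1⟩ := Subgroup.ne_bot_iff_exists_ne_one.mp hC.W_ne
  refine (hG.mem_Q0.mp (hG.W_fpf hC hw (fun h => h1 (Subtype.ext h)) hG.r_mem ?_)).2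
  rw [mul_assoc, hG.r_comm_V (hG.WW_le_VV hw)]
  simp

theorem exists_μ_eq (hG : Hyp G Ω a t Q s r) {E : Type*} [Field E] {π μ : G → E} {ω : G}
    (hω : ω ∈ Q) (h1 : π ω = 1) (hadd : ∀ x ∈ Q, ∀ y ∈ Q, π (x * y) = π x + π y)
    (hker : ∀ x ∈ Q, π x = 0 ↔ x ∈ Q0 Q)
    (hK : ∀ k ∈ KK a t, ∀ x ∈ Q, π (k⁻¹ * x * k) = μ k * π x) {x : E} (hx0 : x ≠ 0)
    (hx : x ^ Nat.card (Q0 Q) = x) : ∃ k ∈ KK a t, μ k = x := by
  classical
  have hmul : ∀ k ∈ KK a t, ∀ l ∈ KK a t, μ (k * l) = μ k * μ l := fun k hk l hl => by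
    have := hK _ (Subgroup.mul_mem _ hk hl) ω hω
    rw [show (k * l)⁻¹ * ω * (k * l) = l⁻¹ * (k⁻¹ * ω * k) * l by group,
      hK l hl _ (hG.conj_Q (KK_le hk) hω), hK k hk ω hω, h1] at this
    linear_combination -this
  have hone : μ 1 = 1 := by simpa [h1] using (hK 1 (Subgroup.one_mem _) ω hω).symm
  let μ' : KK a t →* E := ⟨⟨fun k => μ k, hone⟩, fun k l => hmul _ k.2 _ l.2⟩
  have hinj : Function.Injective μ' := (injective_iff_map_eq_one _).mpr fun k hk => by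
    by_contra hk1
    have h2 := hG.conj_Q (KK_le k.2) hω
    have := hG.K_fpf_mod k.2 (fun h => hk1 (Subtype.ext h)) hω (by
      have h3 := hadd _ (Q.inv_mem hω) _ hω
      rw [inv_mul_cancel, (hker 1 Q.one_mem).mpr (Subgroup.one_mem _)] at h3
      rw [← hker _ (Q.mul_mem (Q.inv_mem hω) h2), hadd _ (Q.inv_mem hω) _ h2, hK _ k.2 _ hω,
        show μ k = 1 from hk, one_mul, ← h3])
    rw [← hker ω hω, h1] at this
    exact one_ne_zero this
  have hpos : 0 < Nat.card (KK a t) := Nat.card_pos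
  have := Fintype.ofFinite (KK a t)
  have h2 : Finset.univ.image μ' = (Polynomial.nthRoots (Nat.card (KK a t)) (1 : E)).toFinset := by
    refine Finset.eq_of_subset_of_card_le (fun y hy => ?_) ?_
    · obtain ⟨k, -, rfl⟩ := Finset.mem_image.mp hy
      rw [Multiset.mem_toFinset, Polynomial.mem_nthRoots hpos, ← map_pow, pow_card_eq_one', map_one]
    · rw [Finset.card_image_of_injective _ hinj, Finset.card_univ, ← Nat.card_eq_fintype_card]
      exact (Multiset.toFinset_card_le _).trans (Polynomial.card_nthRoots _ _)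
  have h3 : x ∈ Finset.univ.image μ' := by
    rw [h2, Multiset.mem_toFinset, Polynomial.mem_nthRoots hpos]
    rw [← hG.card_KK, pow_succ] at hx
    exact (mul_eq_right₀ hx0).mp hx
  obtain ⟨k, -, rfl⟩ := Finset.mem_image.mp h3
  exact ⟨k, k.2, rfl⟩

theorem exists_lin (hG : Hyp G Ω a t Q s r) (hC : C2 a t Q) {ω : G} (hω : ω ∈ Q) (hω0 : ω ∉ Q0 Q) :
    ∃ (E : Type) (_ : Field E) (_ : Fintype E) (n : ℕ) (π μ : G → E),
      Lin a t Q n π μ ∧ π ω = 1 := by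
  obtain ⟨V, _, _, ρ, m, h1, h2, h3, h4, hc, h5, h6⟩ := hG.exists_quot hC
  obtain ⟨n, hn, hq⟩ := hG.card_Q0
  obtain ⟨E, _, _, hE⟩ := H21.exists_field_of_card (n := Nat.card V) (f := n * 2) Nat.prime_two
    (by rw [hc, hq, pow_mul]) (by rw [hc]; have := hG.four_le_card_Q0; nlinarith)
  have := Cfsg.Agent.S0205.result hG.odd_D
  obtain ⟨A, hA, hA1, hAW, hAc⟩ := H14.exists_abelian_normal_le ((WW a t Q).subgroupOf (DD a t))
    ⟨fun w hw d => by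
      have := hG.conj_WW (d⁻¹).2 hw
      rwa [Subgroup.coe_inv, inv_inv] at this⟩ (fun h => hC.W_ne (by
      rwa [Subgroup.subgroupOf_eq_bot, disjoint_iff, inf_eq_left.mpr WW_le] at h)) inferInstance
  have hK : ((KK a t).subgroupOf (DD a t)).Normal :=
    ⟨fun k hk d => by
      have := hG.conj_KK (d⁻¹).2 hk
      rwa [Subgroup.coe_inv, inv_inv] at this⟩
  obtain ⟨e, μ, k1, k2, -, k3⟩ := H21.exists_field_coord_add ρ ((KK a t).subgroupOf (DD a t) ⊔ A)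
    (fun x hx y hy => by
      obtain ⟨k, hk, u, hu, rfl⟩ := Subgroup.mem_sup_of_normal_left.mp hx
      obtain ⟨l, hl, v, hv, rfl⟩ := Subgroup.mem_sup_of_normal_left.mp hy
      have c1 : Commute k l := Subtype.ext (hG.KK_comm hk hl)
      have c2 : Commute k v := Subtype.ext (hG.K_W_comm hk (hAW hv))
      have c3 : Commute l u := Subtype.ext (hG.K_W_comm hl (hAW hu))
      have c4 : Commute u v := hAc u hu v hv
      rw [← map_mul, ← map_mul, ((c1.mul_right c2).mul_left (c3.symm.mul_right c4)).eq])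
    (fun U hU => by
      rcases h6 U fun k hk => hU k (Subgroup.mem_sup_left hk) with h | h | h
      · exact Or.inl h
      · exact Or.inr h
      · obtain ⟨⟨w, hw⟩, hw1⟩ := Subgroup.ne_bot_iff_exists_ne_one.mp hA1
        refine Or.inl (eq_bot_iff.mpr fun v hv => ?_)
        obtain ⟨x, hx, rfl⟩ := h3 v
        have h7 := h w (hAW hw) _ hv (hU w (Subgroup.mem_sup_right hw) _ hv)
        refine (h2 x hx).mpr (hG.W_fpf hC (w := (w : G)⁻¹) (Subgroup.inv_mem _ (hAW hw))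
          (fun h => hw1 (Subtype.ext (Subtype.ext (inv_eq_one.mp h)))) hx ?_)
        rw [inv_inv, ← h2 _ (Q.mul_mem (Q.inv_mem hx) (conj_mem_Q hG.setup w.2.1 hx)),
          h1 _ (Q.inv_mem hx) _ (conj_mem_Q hG.setup w.2.1 hx), ← h4 _ _ hx, h7,
          ← h1 _ (Q.inv_mem hx) _ hx, inv_mul_cancel, h2 _ Q.one_mem]
        exact Subgroup.one_mem _)
    (fun h => hω0 ((h2 ω hω).mp h)) E hE
  have hω1 : e.symm (m ω) = 1 := by rw [← k1, e.symm_apply_apply]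
  have c1 : ∀ d ∈ DD a t, ∃ φ : E ≃+* E, ∀ x ∈ Q,
      e.symm (m (d⁻¹ * x * d)) = e.symm (m (d⁻¹ * ω * d)) * φ (e.symm (m x)) := fun d hd => by
    obtain ⟨φ, c, h⟩ := k3 (⟨d, hd⟩ : DD a t)⁻¹ fun y hy => Subgroup.Normal.conj_mem inferInstance y hy _
    have h7 : ∀ x ∈ Q, e.symm (m (d⁻¹ * x * d)) = c * φ (e.symm (m x)) := fun x hx => by
      rw [e.symm_apply_eq, ← h, e.apply_symm_apply, h4 _ _ hx]
      simp
    exact ⟨φ, fun x hx => by rw [h7 x hx, h7 ω hω, hω1, map_one, mul_one]⟩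
  have c2 : ∀ k ∈ KK a t, ∀ x ∈ Q,
      e.symm (m (k⁻¹ * x * k)) = e.symm (m (k⁻¹ * ω * k)) * e.symm (m x) := fun k hk => by
    have h7 : ∀ x ∈ Q, e.symm (m (k⁻¹ * x * k)) = μ (⟨k, KK_le hk⟩ : DD a t)⁻¹ * e.symm (m x) :=
      fun x hx => by
        rw [e.symm_apply_eq, ← k2 _ (Subgroup.mem_sup_left (Subgroup.inv_mem _ hk)),
          e.apply_symm_apply, h4 _ _ hx]
        simp
    exact fun x hx => by rw [h7 x hx, h7 ω hω, hω1, mul_one]
  have c3 : ∀ x ∈ Q, ∀ y ∈ Q, e.symm (m (x * y)) = e.symm (m x) + e.symm (m y) := fun x hx y hy => by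
    rw [h1 x hx y hy, map_add]
  have c4 : ∀ x ∈ Q, e.symm (m x) = 0 ↔ x ∈ Q0 Q := fun x hx => by
    rw [map_eq_zero_iff _ e.symm.injective, h2 x hx]
  have c5 : (2 : E) = 0 := e.injective (by rw [← one_add_one_eq_two, map_add, h5, map_zero])
  have c6 : Nat.card E = (2 ^ n) ^ 2 := by rw [hE, hc, hq]
  refine ⟨E, inferInstance, inferInstance, n, fun x => e.symm (m x), fun d => e.symm (m (d⁻¹ * ω * d)),
    ⟨hn, hq, c6, c5, c3, c4, fun u => ?_, c2, fun w hw => ?_, c1⟩, hω1⟩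
  · obtain ⟨x, hx, h⟩ := h3 (e u)
    exact ⟨x, hx, by rw [h, e.symm_apply_apply]⟩
  · obtain ⟨v, hv, rfl⟩ := hG.exists_sq WW_le hw
    obtain ⟨φ, hφ⟩ := c1 v hv.1
    have h7 : ∀ y, φ (φ y) = y := sq_apply_of_fix c5 c6 fun y hy => by
      by_cases hy0 : y = 0
      · rw [hy0, map_zero]
      obtain ⟨k, hk, rfl⟩ := hG.exists_μ_eq (π := fun x => e.symm (m x))
        (μ := fun d => e.symm (m (d⁻¹ * ω * d))) hω hω1 c3 c4 c2 hy0 (hq ▸ hy)
      have h8 := hφ _ (hG.conj_Q (KK_le hk) hω)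
      rw [show v⁻¹ * (k⁻¹ * ω * k) * v = (k * v)⁻¹ * ω * (k * v) by group, hG.K_W_comm hk hv,
        show (v * k)⁻¹ * ω * (v * k) = k⁻¹ * (v⁻¹ * ω * v) * k by group,
        c2 k hk _ (hG.conj_Q hv.1 hω), mul_comm] at h8
      refine (mul_left_cancel₀ (fun h => hω0 ?_) h8).symm
      simpa [mul_assoc] using hG.conj_Q0 (Subgroup.inv_mem _ hv).1.1
        ((c4 _ (hG.conj_Q hv.1 hω)).mp h)
    have h8 : ∀ x ∈ Q, e.symm (m ((v * v)⁻¹ * x * (v * v))) =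
        e.symm (m (v⁻¹ * ω * v)) * φ (e.symm (m (v⁻¹ * ω * v))) * e.symm (m x) := fun x hx => by
      rw [show (v * v)⁻¹ * x * (v * v) = v⁻¹ * (v⁻¹ * x * v) * v by group,
        hφ _ (hG.conj_Q hv.1 hx), hφ x hx, map_mul, h7, ← mul_assoc]
    intro x hx
    simp only [h8 x hx, h8 ω hω, hω1, mul_one]

end Hyp

end Suz
end H8
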