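import Mathlib
import Cfsg.Agent.H8.SuzU1

/-! Chapter IV §2: existence of `ω` and `ζ` with `f(ω) = (ω⁻¹)^ζ`. -/

set_option autoImplicit false

namespace H8
namespace Suz

open Cfsg MulAction H21.RankOne

variable {G Ω : Type*} [Group G] [MulAction G Ω] {a : Ω} {t : G} {Q : Subgroup G} {s r : G}

/-- all the coordinates of the unitary case -/
structure U3 (a : Ω) (t : G) (Q : Subgroup G) (s r : G) {F E : Type*} [Field F] [Field E]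
    (e : F → G) (κ : G → F) (n : ℕ) (π μ : G → E) : Prop where
  hyp : Hyp G Ω a t Q s r
  c2 : C2 a t Q
  fld : Fld a t Q s e κ
  lin : Lin a t Q n π μ

/-- `f(ω) = (ω e(α))^ζ` -/
def Nrm (a : Ω) (t : G) (Q : Subgroup G) {F : Type*} (e : F → G) (ζ ω : G) (α : F) : Prop :=
  ω ∈ Q ∧ ω ∉ Q0 Q ∧ ff a t Q ω = ζ⁻¹ * ω * ζ * e α

namespace U3

variable [Finite G] {F E : Type*} [Field F] [Field E] {e : F → G} {κ : G → F} {n : ℕ} {π μ : G → E}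
  (h : U3 a t Q s r e κ n π μ)
include h

theorem finite_E : Finite E := Nat.finite_of_card_ne_zero (by rw [h.lin.cardE]; positivity)

theorem finite_F : Finite F := Nat.finite_of_card_ne_zero (by rw [h.fld.card]; exact Nat.card_pos.ne')

theorem charP : CharP E 2 := CharTwo.of_one_ne_zero_of_two_eq_zero one_ne_zero h.lin.two

theorem add_self (x : E) : x + x = 0 := by linear_combination x * h.lin.two

theorem e_mem (x : F) : e x ∈ Q := Q0_le (h.fld.mem x)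

theorem π_e (x : F) : π (e x) = 0 := (h.lin.ker _ (h.e_mem x)).mpr (h.fld.mem x)

theorem π_one : π 1 = 0 := (h.lin.ker _ Q.one_mem).mpr (Subgroup.one_mem _)

theorem π_inv {x : G} (hx : x ∈ Q) : π x⁻¹ = π x := by
  have := h.lin.add _ (Q.inv_mem hx) _ hx
  rw [inv_mul_cancel, h.π_one] at this
  linear_combination -this - h.add_self (π x)

theorem π_mul_e {x : G} (hx : x ∈ Q) (y : F) : π (x * e y) = π x := by
  rw [h.lin.add _ hx _ (h.e_mem y), h.π_e, add_zero]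

theorem π_ne {x : G} (hx : x ∈ Q) (h0 : x ∉ Q0 Q) : π x ≠ 0 := fun e => h0 ((h.lin.ker x hx).mp e)

theorem exists_of_π_eq {x y : G} (hx : x ∈ Q) (hy : y ∈ Q) (e' : π x = π y) : ∃ b, y = x * e b := by
  obtain ⟨b, hb⟩ := h.fld.surj (x⁻¹ * y) ((h.lin.ker _ (Q.mul_mem (Q.inv_mem hx) hy)).mp (by
    rw [h.lin.add _ (Q.inv_mem hx) _ hy, h.π_inv hx, e', h.add_self]))
  exact ⟨b, by rw [hb, mul_inv_cancel_left]⟩

theorem μ_eq {d ω : G} (hd : d ∈ DD a t) (hω : ω ∈ Q) (h1 : π ω = 1) : μ d = π (d⁻¹ * ω * d) := by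
  obtain ⟨φ, hφ⟩ := h.lin.conjD d hd
  rw [hφ ω hω, h1, map_one, mul_one]

theorem μ_ne {d : G} (hd : d ∈ DD a t) : μ d ≠ 0 := by
  obtain ⟨ω, hω, h1⟩ := h.lin.surj 1
  rw [h.μ_eq hd hω h1]
  refine h.π_ne (h.hyp.conj_Q hd hω) fun h2 => one_ne_zero (h1 ▸ (h.lin.ker ω hω).mpr ?_)
  simpa [mul_assoc] using h.hyp.conj_Q0 (Subgroup.inv_mem _ hd).1 h2

theorem μ_one : μ 1 = 1 := by
  obtain ⟨ω, hω, h1⟩ := h.lin.surj 1
  rw [h.μ_eq (Subgroup.one_mem _) hω h1, ← h1]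
  simp

theorem μ_mul {c d : G} (hc : c ∈ DD a t) (hd : d ∈ DD a t)
    (h2 : ∀ x ∈ Q, π (d⁻¹ * x * d) = μ d * π x) : μ (c * d) = μ c * μ d := by
  obtain ⟨ω, hω, h1⟩ := h.lin.surj 1
  rw [h.μ_eq (Subgroup.mul_mem _ hc hd) hω h1, h.μ_eq hc hω h1, mul_comm, ← h2 _ (h.hyp.conj_Q hc hω)]
  congr 1
  group

theorem μ_mulK {c k : G} (hc : c ∈ DD a t) (hk : k ∈ KK a t) : μ (c * k) = μ c * μ k :=
  h.μ_mul hc (KK_le hk) (h.lin.conjK k hk)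

theorem μ_mulW {c w : G} (hc : c ∈ DD a t) (hw : w ∈ WW a t Q) : μ (c * w) = μ c * μ w :=
  h.μ_mul hc hw.1 (h.lin.conjW w hw)

theorem μ_invK {k : G} (hk : k ∈ KK a t) : μ k⁻¹ = (μ k)⁻¹ :=
  eq_inv_of_mul_eq_one_left (by
    rw [← h.μ_mulK (KK_le (Subgroup.inv_mem _ hk)) hk, inv_mul_cancel, h.μ_one])

theorem μ_invW {w : G} (hw : w ∈ WW a t Q) : μ w⁻¹ = (μ w)⁻¹ :=
  eq_inv_of_mul_eq_one_left (by
    rw [← h.μ_mulW (Subgroup.inv_mem _ hw).1 hw, inv_mul_cancel, h.μ_one])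

theorem μ_powK {k : G} (hk : k ∈ KK a t) (m : ℕ) : μ (k ^ m) = μ k ^ m := by
  induction m with
  | zero => rw [pow_zero, pow_zero, h.μ_one]
  | succ m ih => rw [pow_succ, pow_succ, h.μ_mulK (KK_le (Subgroup.pow_mem _ hk m)) hk, ih]

theorem μ_powW {w : G} (hw : w ∈ WW a t Q) (m : ℕ) : μ (w ^ m) = μ w ^ m := by
  induction m with
  | zero => rw [pow_zero, pow_zero, h.μ_one]
  | succ m ih => rw [pow_succ, pow_succ, h.μ_mulW (Subgroup.pow_mem _ hw m).1 hw, ih]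

theorem eq_one_of_μ_eq {k w : G} (hk : k ∈ KK a t) (hw : w ∈ WW a t Q) (e' : μ k = μ w) :
    k = 1 ∧ w = 1 := by
  obtain ⟨ω, hω, h1⟩ := h.lin.surj 1
  have h0 : ω ∉ Q0 Q := fun h2 => one_ne_zero (h1 ▸ (h.lin.ker ω hω).mpr h2)
  obtain ⟨b, hb⟩ := h.exists_of_π_eq (h.hyp.conj_Q (KK_le hk) hω) (h.hyp.conj_Q hw.1 hω)
    (by rw [h.lin.conjK k hk ω hω, h.lin.conjW w hw ω hω, e'])
  obtain rfl := h.hyp.K_eq_one_of_W hw hk hω h0 (h.hyp.sq_mem h.c2 hω)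
    (h.hyp.conj_Q0 (KK_le (Subgroup.inv_mem _ hk)).1 (h.fld.mem b)) (by rw [hb]; group)
  refine ⟨rfl, by_contra fun hw1 => h0 (h.hyp.W_fpf h.c2 hw hw1 hω ?_)⟩
  rw [hb]
  simpa using h.fld.mem b

theorem μ_injK {k l : G} (hk : k ∈ KK a t) (hl : l ∈ KK a t) (e' : μ k = μ l) : k = l :=
  mul_inv_eq_one.mp (h.eq_one_of_μ_eq (Subgroup.mul_mem _ hk (Subgroup.inv_mem _ hl))
    (Subgroup.one_mem _) (by
      rw [h.μ_mulK (KK_le hk) (Subgroup.inv_mem _ hl), h.μ_invK hl, e', h.μ_one,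
        mul_inv_cancel₀ (h.μ_ne (KK_le hl))])).1

theorem μ_injW {v w : G} (hv : v ∈ WW a t Q) (hw : w ∈ WW a t Q) (e' : μ v = μ w) : v = w :=
  mul_inv_eq_one.mp (h.eq_one_of_μ_eq (Subgroup.one_mem _)
    (Subgroup.mul_mem _ hv (Subgroup.inv_mem _ hw)) (by
      rw [h.μ_mulW hv.1 (Subgroup.inv_mem _ hw), h.μ_invW hw, e', h.μ_one,
        mul_inv_cancel₀ (h.μ_ne hw.1)])).2

theorem W_comm {v w : G} (hv : v ∈ WW a t Q) (hw : w ∈ WW a t Q) : v * w = w * v :=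
  h.μ_injW (Subgroup.mul_mem _ hv hw) (Subgroup.mul_mem _ hw hv) (by
    rw [h.μ_mulW hv.1 hw, h.μ_mulW hw.1 hv, mul_comm])

theorem pow_pow (x : E) : (x ^ 2 ^ n) ^ 2 ^ n = x :=
  have := h.finite_E
  pow_sq_card h.lin.cardE x

theorem μ_pow_q {k : G} (hk : k ∈ KK a t) : μ k ^ 2 ^ n = μ k := by
  rw [← h.lin.cardQ0, ← h.hyp.card_KK, pow_succ, ← h.μ_powK hk,
    show k ^ Nat.card (KK a t) = 1 from congrArg Subtype.val (pow_card_eq_one' (x := (⟨k, hk⟩ : KK a t))),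
    h.μ_one, one_mul]

theorem exists_μ_eq {x : E} (hx0 : x ≠ 0) (hx : x ^ 2 ^ n = x) : ∃ k ∈ KK a t, μ k = x := by
  obtain ⟨ω, hω, h1⟩ := h.lin.surj 1
  exact h.hyp.exists_μ_eq hω h1 h.lin.add h.lin.ker h.lin.conjK hx0 (h.lin.cardQ0 ▸ hx)

theorem W_pow {w : G} (hw : w ∈ WW a t Q) : w ^ (2 ^ n + 1) = 1 := by
  obtain ⟨k, hk, e'⟩ := h.exists_μ_eq (pow_ne_zero (2 ^ n + 1) (h.μ_ne hw.1)) (by
    rw [pow_succ, mul_pow, h.pow_pow, mul_comm])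
  exact (h.eq_one_of_μ_eq hk (Subgroup.pow_mem _ hw _) (by rw [e', h.μ_powW hw])).2

theorem μ_W_pow {w : G} (hw : w ∈ WW a t Q) : μ w ^ 2 ^ n = (μ w)⁻¹ :=
  eq_inv_of_mul_eq_one_left (by rw [← pow_succ, ← h.μ_powW hw, h.W_pow hw, h.μ_one])

theorem conj_e_W {w : G} (hw : w ∈ WW a t Q) (x : F) : w⁻¹ * e x * w = e x := by
  rw [mul_assoc, (mem_WW.mp hw).2 _ (h.fld.mem x), inv_mul_cancel_left]

theorem e_comm {y : G} (hy : y ∈ Q) (x : F) : e x * y = y * e x := h.hyp.Q0_central (h.fld.mem x) hy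

theorem mul_e_mem {y : G} (hy : y ∈ Q) (x : F) : y * e x ∈ Q := Q.mul_mem hy (h.e_mem x)

theorem mul_e_notMem {y : G} (h0 : y ∉ Q0 Q) (x : F) : y * e x ∉ Q0 Q := fun h1 =>
  h0 ((Subgroup.mul_mem_cancel_right _ (h.fld.mem x)).mp h1)

omit h [Finite G] in
theorem ne_one {y : G} (h0 : y ∉ Q0 Q) : y ≠ 1 := fun e => h0 (e ▸ Subgroup.one_mem _)

theorem conj_notMem {y d : G} (hd : d ∈ DD a t) (h0 : y ∉ Q0 Q) : d⁻¹ * y * d ∉ Q0 Q := fun h1 =>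
  h0 (by simpa [mul_assoc] using h.hyp.conj_Q0 (Subgroup.inv_mem _ hd).1 h1)

theorem r_sq : r * r = 1 := h.hyp.r_sq h.c2

theorem ff_mem {y : G} (hy : y ∈ Q) (h0 : y ∉ Q0 Q) : ff a t Q y ∈ Q := h.hyp.ff_mem hy (ne_one h0)

theorem ff_notMem {y : G} (hy : y ∈ Q) (h0 : y ∉ Q0 Q) : ff a t Q y ∉ Q0 Q :=
  h.hyp.ff_notMem_Q0 h.r_sq hy h0

theorem ff_conjK {y k : G} (hy : y ∈ Q) (h1 : y ≠ 1) (hk : k ∈ KK a t) :
    ff a t Q (k⁻¹ * y * k) = k * ff a t Q y * k⁻¹ := by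
  rw [(h.hyp.ghf_conj hy h1 (KK_le hk)).2.2, h.hyp.tKt hk, inv_inv]

theorem ff_conjV {y v : G} (hy : y ∈ Q) (h1 : y ≠ 1) (hv : v ∈ VV a t) :
    ff a t Q (v⁻¹ * y * v) = v⁻¹ * ff a t Q y * v := by
  rw [(h.hyp.ghf_conj hy h1 hv.1).2.2, h.hyp.tVt hv]

theorem hh_conjV {y v : G} (hy : y ∈ Q) (h1 : y ≠ 1) (hv : v ∈ VV a t) :
    hh a t Q (v⁻¹ * y * v) = v⁻¹ * hh a t Q y * v := by
  rw [(h.hyp.ghf_conj hy h1 hv.1).2.1, h.hyp.tVt hv]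

theorem ghf_e {k : G} (hk : k ∈ KK a t) :
    gg a t Q (e (κ k)) = e (κ k)⁻¹ ∧ hh a t Q (e (κ k)) = k * k ∧ ff a t Q (e (κ k)) = e (κ k)⁻¹ := by
  have h1 := h.fld.conj_s (Subgroup.inv_mem _ hk)
  rw [inv_inv, h.fld.κ_inv hk] at h1
  rw [← h.fld.conj_s hk, ← h1]
  exact h.hyp.ghf_Q0 h.r_sq hk

/-- Chapter IV, §2, (2) -/
theorem shift {ω k : G} (hω : ω ∈ Q) (h0 : ω ∉ Q0 Q) (hk : k ∈ KK a t) :
    ff a t Q (ω * e (κ k)) = k * k * ff a t Q (ff a t Q ω * e (κ k)⁻¹) * (k * k)⁻¹ * e (κ k)⁻¹ ∧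
    hh a t Q (ω * e (κ k)) = hh a t Q ω * hh a t Q (ff a t Q ω * e (κ k)⁻¹) * (k * k) := by
  obtain ⟨-, -, h2, h3⟩ := h.hyp.ghf_mul hω (ne_one h0) (h.e_mem (κ k))
    (fun e' => h.fld.κ_ne hk (h.fld.eq_one_iff.mp e')) (ne_one (h.mul_e_notMem h0 _))
  obtain ⟨h4, h5, h6⟩ := h.ghf_e hk
  rw [h4, h5] at h2 h3
  rw [h6, h.hyp.tKt (Subgroup.mul_mem _ hk hk), inv_inv] at h3
  exact ⟨h3, h2⟩

theorem π_shift {ω k : G} (hω : ω ∈ Q) (h0 : ω ∉ Q0 Q) (hk : k ∈ KK a t) :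
    π (ff a t Q (ff a t Q ω * e (κ k)⁻¹)) = μ k ^ 2 * π (ff a t Q (ω * e (κ k))) := by
  have h1 := h.ff_mem (h.mul_e_mem (h.ff_mem hω h0) (κ k)⁻¹) (h.mul_e_notMem (h.ff_notMem hω h0) _)
  have h2 := Subgroup.inv_mem _ (Subgroup.mul_mem _ hk hk)
  have h3 := h.lin.conjK _ h2 _ h1
  rw [inv_inv] at h3
  rw [(h.shift hω h0 hk).1, h.π_mul_e (conj_mem_Q h.hyp.setup (KK_le (Subgroup.mul_mem _ hk hk)).1 h1),
    h3, h.μ_invK (Subgroup.mul_mem _ hk hk), h.μ_mulK (KK_le hk) hk]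
  have := h.μ_ne (KK_le hk)
  field_simp

theorem π_ff_ne {ω k : G} (hω : ω ∈ Q) (h0 : ω ∉ Q0 Q) (hk : k ∈ KK a t) :
    π (ff a t Q ω) ≠ μ k * π ω := fun e' => by
  obtain ⟨b, hb⟩ := h.exists_of_π_eq (h.hyp.conj_Q (KK_le hk) hω) (h.ff_mem hω h0)
    (by rw [h.lin.conjK k hk ω hω, e'])
  exact h.hyp.ff_ne_conj_K h.r_sq hω h0
    (h.hyp.conj_Q0 (KK_le (Subgroup.inv_mem _ hk)).1 (h.fld.mem b)) hk (by rw [hb]; group)

theorem π_ff_inj {ω k : G} (hω : ω ∈ Q) (h0 : ω ∉ Q0 Q) (hk : k ∈ KK a t) {x y : F}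
    (e' : π (ff a t Q (ω * e x)) = μ k * π (ff a t Q (ω * e y))) : x = y ∧ k = 1 := by
  have h1 : x = y := by
    by_contra hne
    obtain ⟨l, hl, h2⟩ := h.fld.κ_surj (y + x) fun e' => hne (by
      linear_combination e' - h.fld.add_self y)
    have h3 := h.π_shift (h.mul_e_mem hω y) (h.mul_e_notMem h0 y) hl
    rw [mul_assoc ω, h2, ← h.fld.add, ← add_assoc, h.fld.add_self, zero_add, e'] at h3
    have h4 := h.ff_mem (h.mul_e_mem hω y) (h.mul_e_notMem h0 y)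
    refine h.π_ff_ne (h.mul_e_mem h4 (y + x)⁻¹)
      (h.mul_e_notMem (h.ff_notMem (h.mul_e_mem hω y) (h.mul_e_notMem h0 y)) _)
      (Subgroup.mul_mem _ (Subgroup.pow_mem _ hl 2) hk) ?_
    rw [h3, h.π_mul_e h4, h.μ_mulK (KK_le (Subgroup.pow_mem _ hl 2)) hk, h.μ_powK hl, mul_assoc]
  subst h1
  refine ⟨rfl, h.μ_injK hk (Subgroup.one_mem _) ?_⟩
  rw [h.μ_one]
  exact ((mul_eq_right₀ (h.π_ne (h.ff_mem (h.mul_e_mem hω x) (h.mul_e_notMem h0 x))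
    (h.ff_notMem (h.mul_e_mem hω x) (h.mul_e_notMem h0 x)))).mp e'.symm)

theorem tri_unique {ω u k l : G} (hω : ω ∈ Q) (h0 : ω ∉ Q0 Q) (hu : u ∈ Q) (hk : k ∈ KK a t)
    (hl : l ∈ KK a t) {x y x' y' : F} (e1 : ff a t Q (ω * e x) = k⁻¹ * (u * e y) * k)
    (e2 : ff a t Q (ω * e x') = l⁻¹ * (u * e y') * l) : x = x' ∧ y = y' ∧ k = l := by
  obtain ⟨rfl, h1⟩ := h.π_ff_inj hω h0 (Subgroup.mul_mem _ hk (Subgroup.inv_mem _ hl)) (x := x)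
    (y := x') (by
      rw [e1, e2, h.lin.conjK k hk _ (h.mul_e_mem hu _), h.lin.conjK l hl _ (h.mul_e_mem hu _),
        h.π_mul_e hu, h.π_mul_e hu, h.μ_mulK (KK_le hk) (Subgroup.inv_mem _ hl), h.μ_invK hl]
      have := h.μ_ne (KK_le hl)
      field_simp)
  obtain rfl := mul_inv_eq_one.mp h1
  rw [e1] at e2
  simp only [mul_left_inj, mul_right_inj] at e2
  exact ⟨rfl, h.fld.inj e2, rfl⟩

theorem exists_tri {ω u : G} (hω : ω ∈ Q) (h0 : ω ∉ Q0 Q) (hu : u ∈ Q) (hu0 : u ∉ Q0 Q)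
    (hne : ∀ k ∈ KK a t, π u ≠ μ k * π ω) :
    ∃ x y, ∃ k ∈ KK a t, ff a t Q (ω * e x) = k⁻¹ * (u * e y) * k := by
  have := h.finite_E
  have := h.finite_F
  have h1 : ∀ x, π (ff a t Q (ω * e x)) ≠ 0 := fun x =>
    h.π_ne (h.ff_mem (h.mul_e_mem hω x) (h.mul_e_notMem h0 x))
      (h.ff_notMem (h.mul_e_mem hω x) (h.mul_e_notMem h0 x))
  let ψ : Option F × KK a t → Eˣ := fun p => Units.mk0 (μ p.2 * p.1.elim (π ω)
    fun x => π (ff a t Q (ω * e x))) (mul_ne_zero (h.μ_ne (KK_le p.2.2)) (by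
      rcases p with ⟨_ | x, k⟩
      · exact h.π_ne hω h0
      · exact h1 x))
  have h2 : ∀ (x : F) (k l : KK a t), μ k * π (ff a t Q (ω * e x)) ≠ μ l * π ω := fun x k l e' =>
    h.π_ff_ne (h.mul_e_mem hω x) (h.mul_e_notMem h0 x)
      (Subgroup.mul_mem _ l.2 (Subgroup.inv_mem _ k.2)) (by
        rw [h.μ_mulK (KK_le l.2) (Subgroup.inv_mem _ k.2), h.μ_invK k.2, h.π_mul_e hω]
        have := h.μ_ne (KK_le k.2)
        field_simp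
        linear_combination e')
  have hψ : Function.Injective ψ := by
    rintro ⟨_ | x, k⟩ ⟨_ | y, l⟩ e'
    · have h3 : μ k * π ω = μ l * π ω := congrArg Units.val e'
      rw [Subtype.ext (h.μ_injK k.2 l.2 (mul_right_cancel₀ (h.π_ne hω h0) h3))]
    · exact absurd (congrArg Units.val e').symm (h2 y l k)
    · exact absurd (congrArg Units.val e') (h2 x k l)
    · have h3 : μ k * π (ff a t Q (ω * e x)) = μ l * π (ff a t Q (ω * e y)) := congrArg Units.val e'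
      obtain ⟨rfl, h4⟩ := h.π_ff_inj hω h0 (Subgroup.mul_mem _ l.2 (Subgroup.inv_mem _ k.2)) (x := x)
        (y := y) (by
          rw [h.μ_mulK (KK_le l.2) (Subgroup.inv_mem _ k.2), h.μ_invK k.2]
          have := h.μ_ne (KK_le k.2)
          field_simp
          linear_combination h3)
      rw [Subtype.ext (mul_inv_eq_one.mp h4)]
  obtain ⟨⟨_ | x, k⟩, e'⟩ := (hψ.bijective_of_nat_card_le (by
    rw [Nat.card_units, Nat.card_prod, Finite.card_option, h.lin.cardE, h.fld.card, ← h.lin.cardQ0,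
      ← h.hyp.card_KK]
    apply le_of_eq
    rw [Nat.sub_eq_iff_eq_add (Nat.one_le_pow _ _ (by omega))]
    ring)).2 (Units.mk0 _ (h.π_ne hu hu0))
  · exact absurd (congrArg Units.val e').symm (hne k k.2)
  · have h3 : μ k * π (ff a t Q (ω * e x)) = π u := congrArg Units.val e'
    have h4 := h.ff_mem (h.mul_e_mem hω x) (h.mul_e_notMem h0 x)
    obtain ⟨y, hy⟩ := h.exists_of_π_eq hu (h.hyp.conj_Q (KK_le k.2) h4)
      (by rw [h.lin.conjK _ k.2 _ h4, h3])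
    exact ⟨x, y, _, Subgroup.inv_mem _ k.2, by rw [← hy]; group⟩

section Norm

variable {ζ : G} (hζ : ζ ∈ WW a t Q) (hζ1 : ζ ≠ 1)
include hζ

theorem nrm_conj {ω w : G} {α : F} (hω : Nrm a t Q e ζ ω α) (hw : w ∈ WW a t Q) :
    Nrm a t Q e ζ (w⁻¹ * ω * w) α := by
  refine ⟨h.hyp.conj_Q hw.1 hω.1, h.conj_notMem hw.1 hω.2.1, ?_⟩
  rw [h.ff_conjV hω.1 (ne_one hω.2.1) (h.hyp.WW_le_VV hw), hω.2.2]
  calc _ = (ζ * w)⁻¹ * ω * (ζ * w) * (w⁻¹ * e α * w) := by group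
    _ = _ := by rw [h.conj_e_W hw, h.W_comm hζ hw]; group

include hζ1 in
theorem exists_nrm {u : G} (hu : u ∈ Q) (hu0 : u ∉ Q0 Q) :
    ∃ ω α, Nrm a t Q e ζ ω α ∧ ∃ k ∈ KK a t, ∃ y, u = k⁻¹ * (ω * e y) * k := by
  obtain ⟨x, y, k, hk, e'⟩ := h.exists_tri hu hu0 (h.hyp.conj_Q hζ.1 hu) (h.conj_notMem hζ.1 hu0)
    fun k hk e' => hζ1 (h.eq_one_of_μ_eq hk hζ (by
      rw [h.lin.conjW ζ hζ u hu] at e'
      exact (mul_right_cancel₀ (h.π_ne hu hu0) e').symm)).2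
  obtain ⟨l, hl, rfl⟩ := h.hyp.exists_sq KK_le hk
  refine ⟨l⁻¹ * (u * e x) * l, κ l * (x + y), ⟨h.hyp.conj_Q (KK_le hl) (h.mul_e_mem hu x),
    h.conj_notMem (KK_le hl) (h.mul_e_notMem hu0 x), ?_⟩, l⁻¹, Subgroup.inv_mem _ hl, κ l * x, ?_⟩
  · rw [h.ff_conjK (h.mul_e_mem hu x) (ne_one (h.mul_e_notMem hu0 x)) hl, e', ← h.fld.conjK l hl]
    calc _ = (ζ * l)⁻¹ * u * (ζ * l) * (l⁻¹ * e y * l) := by group
      _ = (l * ζ)⁻¹ * u * (ζ * (ζ⁻¹ * e x * ζ) * ζ⁻¹) * (l * ζ) * (l⁻¹ * e (x + y) * l) := by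
        rw [h.conj_e_W hζ, h.hyp.K_W_comm hl hζ, h.fld.add, ← h.fld.inv x]
        nth_rewrite 1 [h.fld.inv x]
        group
      _ = _ := by group
  · rw [← h.fld.conjK l hl, ← h.fld.inv x]
    nth_rewrite 1 [h.fld.inv x]
    group

theorem nrm_unique {ω ω' k : G} {α α' b : F} (hω : Nrm a t Q e ζ ω α) (hω' : Nrm a t Q e ζ ω' α')
    (hk : k ∈ KK a t) (e' : ω' = k⁻¹ * (ω * e b) * k) : k = 1 ∧ b = 0 ∧ ω' = ω ∧ α' = α := by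
  have h1 := hω'.2.2
  have h2 := h.mul_e_mem hω.1 b
  have h3 := h.mul_e_notMem hω.2.1 b
  nth_rewrite 1 [e'] at h1
  rw [h.ff_conjK h2 (ne_one h3) hk] at h1
  have h4 := h.lin.conjK _ hk _ (conj_mem_Q h.hyp.setup (KK_le hk).1 (h.ff_mem h2 h3))
  obtain ⟨rfl, h5⟩ := h.π_ff_inj hω.1 hω.2.1 (Subgroup.mul_mem _ hk hk) (x := b) (y := 0) (by
    rw [h.fld.zero, mul_one, hω.2.2, h.π_mul_e (h.hyp.conj_Q hζ.1 hω.1), h.lin.conjW _ hζ _ hω.1,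
      show ff a t Q (ω * e b) = k⁻¹ * (k * ff a t Q (ω * e b) * k⁻¹) * k by group, h4, h1,
      h.π_mul_e (h.hyp.conj_Q hζ.1 hω'.1), h.lin.conjW _ hζ _ hω'.1, e', h.lin.conjK _ hk _ h2,
      h.π_mul_e hω.1, h.μ_mulK (KK_le hk) hk]
    ring)
  obtain rfl := h.hyp.eq_one_of_sq (KK_le hk) h5
  obtain rfl : ω' = ω := by simpa [h.fld.zero] using e'
  exact ⟨rfl, rfl, rfl, h.fld.inj (mul_left_cancel (hω'.2.2.symm.trans hω.2.2))⟩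

theorem forward {ω u k l : G} {α y : F} (hω : Nrm a t Q e ζ ω α) (hk : k ∈ KK a t) (hl : l ∈ KK a t)
    (e' : ff a t Q (ω * e (κ l)) = k⁻¹ * (u * e y) * k) :
    ff a t Q (ω * e (α + (κ l)⁻¹)) =
      (k * l * l)⁻¹ * (ζ * u * ζ⁻¹ * e (y + (κ k)⁻¹ * (κ l)⁻¹)) * (k * l * l) ∧
    hh a t Q (ω * e (α + (κ l)⁻¹)) =
      ζ * (hh a t Q ω)⁻¹ * hh a t Q (ω * e (κ l)) * (l * l)⁻¹ * ζ⁻¹ := by
  obtain ⟨h1, h2⟩ := h.shift hω.1 hω.2.1 hl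
  have h3 : ff a t Q ω * e (κ l)⁻¹ = ζ⁻¹ * (ω * e (α + (κ l)⁻¹)) * ζ := by
    rw [hω.2.2, mul_assoc _ (e α), ← h.fld.add]
    nth_rewrite 1 [← h.conj_e_W hζ (α + _)]
    group
  have h4 := h.mul_e_mem hω.1 (α + (κ l)⁻¹)
  have h5 := ne_one (h.mul_e_notMem hω.2.1 (α + (κ l)⁻¹))
  rw [h3, h.ff_conjV h4 h5 (h.hyp.WW_le_VV hζ), e'] at h1
  rw [h3, h.hh_conjV h4 h5 (h.hyp.WW_le_VV hζ)] at h2
  refine ⟨?_, by rw [h2]; group⟩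
  have h6 := h.fld.conjK _ (Subgroup.inv_mem _ hk) (κ l)⁻¹
  rw [h.fld.κ_inv hk, inv_inv] at h6
  have h7 := h.hyp.K_W_comm (Subgroup.mul_mem _ (Subgroup.mul_mem _ hk hl) hl) (Subgroup.inv_mem _ hζ)
  calc _ = ζ * (l * l)⁻¹ * (l * l * (ζ⁻¹ * ff a t Q (ω * e (α + (κ l)⁻¹)) * ζ) * (l * l)⁻¹ *
        e (κ l)⁻¹) * (e (κ l)⁻¹)⁻¹ * (l * l) * ζ⁻¹ := by group
    _ = (k * l * l * ζ⁻¹)⁻¹ * (u * (e y * (k * e (κ l)⁻¹ * k⁻¹))) * (k * l * l * ζ⁻¹) := by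
      rw [← h1, h.fld.inv]; group
    _ = _ := by
      rw [h6, ← h.fld.add, h7]
      nth_rewrite 1 [← h.conj_e_W hζ (y + _)]
      group

theorem tri_symm {ω u k : G} {x y : F} (hω : ω ∈ Q) (h0 : ω ∉ Q0 Q) (hu : u ∈ Q) (hu0 : u ∉ Q0 Q)
    (hk : k ∈ KK a t) (e' : ff a t Q (ω * e x) = k⁻¹ * (u * e y) * k) :
    ff a t Q (u * e y) = k⁻¹ * (ω * e x) * k := by
  have := h.hyp.ff_ff (h.mul_e_mem hω x) (ne_one (h.mul_e_notMem h0 x))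
  rw [e', h.ff_conjK (h.mul_e_mem hu y) (ne_one (h.mul_e_notMem hu0 y)) hk] at this
  rw [← this]
  group

theorem tri_zero {ω u k : G} {α β y : F} (hω : Nrm a t Q e ζ ω α) (hu : Nrm a t Q e ζ u β)
    (hk : k ∈ KK a t) (e' : ff a t Q (ω * e 0) = k⁻¹ * (u * e y) * k) :
    k = 1 ∧ y = α ∧ ζ⁻¹ * ω * ζ = u ∧ α = β := by
  rw [h.fld.zero, mul_one, hω.2.2] at e'
  have h6 := h.fld.conjK _ (Subgroup.inv_mem _ hk) α
  obtain ⟨rfl, h1, h2, h3⟩ := h.nrm_unique hζ hu (h.nrm_conj hζ hω hζ) hk (b := y + κ k⁻¹ * α) (by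
    rw [h.fld.add, ← h6, eq_mul_inv_of_mul_eq e', h.fld.inv]
    group)
  rw [inv_one, h.fld.κ_one, one_mul] at h1
  exact ⟨rfl, by linear_combination h1 - h.fld.add_self α, h2, h3⟩

theorem tri_rel {ω u k : G} {α β x y : F} (hω : Nrm a t Q e ζ ω α) (hu : Nrm a t Q e ζ u β)
    (hk : k ∈ KK a t) (e' : ff a t Q (ω * e x) = k⁻¹ * (u * e y) * k) :
    α = β ∧ y = x + α ∧ κ k * (1 + x * y) = 1 := by
  have e2 := h.tri_symm hζ hω.1 hω.2.1 hu.1 hu.2.1 hk e'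
  by_cases hy : y = 0
  · subst hy
    obtain ⟨rfl, rfl, -, rfl⟩ := h.tri_zero hζ hu hω hk e2
    exact ⟨rfl, (h.fld.add_self _).symm, by rw [h.fld.κ_one]; ring⟩
  obtain ⟨l, hl, rfl⟩ := h.fld.κ_surj y hy
  have hk' := Subgroup.mul_mem _ (Subgroup.mul_mem _ hk hl) hl
  have hu' := h.nrm_conj hζ hu hζ
  have e3 : ff a t Q (ζ⁻¹ * u * ζ * e (β + (κ l)⁻¹)) =
      (k * l * l)⁻¹ * (ω * e (x + (κ k)⁻¹ * (κ l)⁻¹)) * (k * l * l) := by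
    have h1 := (h.forward hζ hu hk hl e2).1
    have h2 := h.ff_conjV (h.mul_e_mem hu.1 (β + (κ l)⁻¹)) (ne_one (h.mul_e_notMem hu.2.1 _))
      (h.hyp.WW_le_VV hζ)
    rw [h1] at h2
    calc _ = ff a t Q (ζ⁻¹ * (u * e (β + (κ l)⁻¹)) * ζ) := by
          nth_rewrite 1 [← h.conj_e_W hζ (β + _)]
          congr 1
          group
      _ = (k * l * l * ζ)⁻¹ * (ζ * ω * ζ⁻¹ * e (x + (κ k)⁻¹ * (κ l)⁻¹)) * (k * l * l * ζ) := by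
          rw [h2]; group
      _ = _ := by
          rw [h.hyp.K_W_comm hk' hζ]
          nth_rewrite 2 [← h.conj_e_W hζ (x + _)]
          group
  have e4 := h.tri_symm hζ hu'.1 hu'.2.1 hω.1 hω.2.1 hk' e3
  by_cases hX : x + (κ k)⁻¹ * (κ l)⁻¹ = 0
  · rw [hX] at e4
    obtain ⟨-, -, h1, -⟩ := h.tri_zero hζ hω hu' hk' e4
    obtain rfl : ω = u := by simpa using h1
    refine absurd ?_ (h.π_ff_ne (h.mul_e_mem hω.1 x) (h.mul_e_notMem hω.2.1 x) hk)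
    rw [e', h.lin.conjK _ hk _ (h.mul_e_mem hω.1 _), h.π_mul_e hω.1, h.π_mul_e hω.1]
  obtain ⟨m, hm, hX'⟩ := h.fld.κ_surj _ hX
  rw [← hX'] at e4
  have e5 := (h.forward hζ hω hk' hm e4).1
  rw [show ζ * (ζ⁻¹ * u * ζ) * ζ⁻¹ = u by group] at e5
  obtain ⟨k1, k2, k3⟩ := h.tri_unique hω.1 hω.2.1 hu.1 hk
    (Subgroup.mul_mem _ (Subgroup.mul_mem _ hk' hm) hm) e' e5
  have k4 : l * m = 1 := h.hyp.eq_one_of_sq (KK_le (Subgroup.mul_mem _ hl hm)) (by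
    rw [mul_assoc l, ← mul_assoc m, ← h.hyp.KK_comm hl hm]
    exact mul_left_cancel (a := k) (by rw [mul_one]; nth_rewrite 2 [k3]; group))
  have k5 : κ l * κ m = 1 := by rw [← h.fld.κ_mul hl hm, k4, h.fld.κ_one]
  rw [h.fld.κ_mul (Subgroup.mul_mem _ hk hl) hl, h.fld.κ_mul hk hl] at k2
  have n1 := h.fld.κ_ne hk
  have n2 := h.fld.two
  rw [eq_inv_of_mul_eq_one_right k5, inv_inv] at k1 k2
  rw [eq_inv_of_mul_eq_one_right k5] at hX'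
  field_simp at hX' k2
  grind

include hζ1 in
theorem hh_mem_KW (hp : (orderOf ζ).Prime) (hV : ∀ v ∈ VV a t, (orderOf v).Prime → v ∈ WW a t Q)
    {ω : G} {α : F} (hω : Nrm a t Q e ζ ω α) :
    ∃ k ∈ KK a t, ∃ w ∈ WW a t Q, hh a t Q ω = k * w := by
  have hD := h.hyp.hh_mem hω.1 (ne_one hω.2.1)
  have key : ∀ i, i + 1 < orderOf ζ → ∃ x y, ∃ k ∈ KK a t, ∃ k' ∈ KK a t,
      ff a t Q (ω * e x) = k⁻¹ * (ζ ^ (i + 1) * ω * (ζ ^ (i + 1))⁻¹ * e y) * k ∧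
      hh a t Q (ω * e x) = (ζ * (hh a t Q ω)⁻¹) ^ (i + 1) * (ζ ^ (i + 1))⁻¹ * k' := by
    intro i
    induction i with
    | zero =>
      intro _
      have h1 : ff a t Q ω = ζ⁻¹ * (ω * e α) * ζ := by
        rw [hω.2.2]
        nth_rewrite 1 [← h.conj_e_W hζ α]
        group
      obtain ⟨-, -, h2, h3⟩ := h.hyp.ghf_ff hω.1 (ne_one hω.2.1)
      have h4 := h.mul_e_mem hω.1 α
      have h5 := ne_one (h.mul_e_notMem hω.2.1 α)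
      rw [h1, h.ff_conjV h4 h5 (h.hyp.WW_le_VV hζ)] at h3
      rw [h1, h.hh_conjV h4 h5 (h.hyp.WW_le_VV hζ)] at h2
      refine ⟨α, 0, 1, Subgroup.one_mem _, 1, Subgroup.one_mem _, ?_, ?_⟩
      · rw [h.fld.zero]
        nth_rewrite 2 [← h3]
        group
      · rw [← h2]
        group
    | succ i ih =>
      intro hi
      obtain ⟨x, y, k, hk, k', hk', h1, h2⟩ := ih (by omega)
      have hw := Subgroup.inv_mem _ (Subgroup.pow_mem _ hζ (i + 1))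
      have hx : x ≠ 0 := by
        rintro rfl
        have h3 := h.nrm_conj hζ hω hw
        rw [inv_inv] at h3
        obtain ⟨-, -, h4, -⟩ := h.tri_zero hζ hω h3 hk h1
        refine hω.2.1 (h.hyp.W_fpf h.c2 (Subgroup.pow_mem _ hζ (i + 1 + 1))
          (pow_ne_one_of_lt_orderOf (by omega) hi) hω.1 ?_)
        have h5 : (ζ ^ (i + 1 + 1))⁻¹ * ω * ζ ^ (i + 1 + 1) = ω := by
          calc _ = (ζ ^ (i + 1))⁻¹ * (ζ⁻¹ * ω * ζ) * ζ ^ (i + 1) := by group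
            _ = _ := by rw [h4]; group
        rw [h5, inv_mul_cancel]
        exact Subgroup.one_mem _
      obtain ⟨l, hl, rfl⟩ := h.fld.κ_surj x hx
      obtain ⟨h3, h4⟩ := h.forward hζ hω hk hl h1
      have hm := Subgroup.mul_mem _ hk' (Subgroup.inv_mem _ (Subgroup.mul_mem _ hl hl))
      refine ⟨_, y + (κ k)⁻¹ * (κ l)⁻¹, _, Subgroup.mul_mem _ (Subgroup.mul_mem _ hk hl) hl, _, hm,
        by rw [h3]; group, ?_⟩
      rw [h4, h2]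
      calc _ = ζ * (hh a t Q ω)⁻¹ * (ζ * (hh a t Q ω)⁻¹) ^ (i + 1) * (ζ ^ (i + 1))⁻¹ *
            (k' * (l * l)⁻¹ * ζ⁻¹) := by group
        _ = _ := by
          rw [h.hyp.K_W_comm hm (Subgroup.inv_mem _ hζ), ← pow_succ' _ (i + 1)]
          group
  obtain ⟨i, hi⟩ : ∃ i, orderOf ζ = i + 1 + 1 := ⟨orderOf ζ - 2, by have := hp.two_le; omega⟩
  obtain ⟨x, y, k, hk, k', hk', h1, h2⟩ := key i (by omega)
  have h3 : ζ ^ (i + 1) = ζ⁻¹ := eq_inv_of_mul_eq_one_left (by rw [← pow_succ, ← hi, pow_orderOf_eq_one])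
  rw [h3, inv_inv] at h1 h2
  obtain ⟨rfl, -⟩ := h.tri_unique hω.1 hω.2.1 (h.hyp.conj_Q hζ.1 hω.1) hk (Subgroup.one_mem _) h1
    (x' := 0) (y' := α) (by rw [h.fld.zero, mul_one, hω.2.2]; group)
  rw [h.fld.zero, mul_one] at h2
  have h4 : (ζ * (hh a t Q ω)⁻¹) ^ orderOf ζ ∈ KK a t := by
    have : (ζ * (hh a t Q ω)⁻¹) ^ orderOf ζ = ζ⁻¹⁻¹ * k'⁻¹ * ζ⁻¹ := by
      rw [hi, pow_succ', eq_mul_inv_of_mul_eq (eq_mul_inv_of_mul_eq h2.symm)]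
      group
    rw [this]
    exact h.hyp.conj_KK (Subgroup.inv_mem _ hζ).1 (Subgroup.inv_mem _ hk')
  obtain ⟨l, hl, v, hv, h5⟩ := h.hyp.exists_KV (Subgroup.mul_mem _ hζ.1 (Subgroup.inv_mem _ hD))
  have h6 : ∀ m : ℕ, (l * v) ^ m * (v ^ m)⁻¹ ∈ KK a t := fun m => by
    induction m with
    | zero => simp
    | succ m ih =>
      have := Subgroup.mul_mem _ hl (h.hyp.conj_KK (Subgroup.inv_mem _ hv).1 ih)
      rw [pow_succ' (l * v), pow_succ]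
      convert this using 1
      group
  have h7 : v ^ orderOf ζ = 1 := h.hyp.eq_one_of_K_V (by
    rw [h5] at h4
    simpa using Subgroup.mul_mem _ (Subgroup.inv_mem _ (h6 (orderOf ζ))) h4) (Subgroup.pow_mem _ hv _)
  have h8 : v ∈ WW a t Q := by
    by_cases hv1 : v = 1
    · rw [hv1]; exact Subgroup.one_mem _
    · have := Fact.mk hp
      exact hV v hv ((orderOf_eq_prime h7 hv1).symm ▸ hp)
  refine ⟨l⁻¹, Subgroup.inv_mem _ hl, v⁻¹ * ζ, Subgroup.mul_mem _ (Subgroup.inv_mem _ h8) hζ, ?_⟩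
  rw [h.hyp.K_W_comm hl h8] at h5
  rw [← mul_assoc, ← mul_inv_rev, ← h5]
  group

end Norm

/-- `f(f(x)⁻¹) = g(x) ^ h(x)` -/
theorem braid {x : G} (hx : x ∈ Q) (h1 : x ≠ 1) :
    ff a t Q (ff a t Q x)⁻¹ = (hh a t Q x)⁻¹ * (ff a t Q x⁻¹)⁻¹ * hh a t Q x := by
  rw [(h.hyp.ghf_inv (h.hyp.ff_mem hx h1) (h.hyp.ff_ne_one hx h1)).2.2, (h.hyp.ghf_ff hx h1).2.1,
    (h.hyp.ghf_inv hx h1).2.2]
  group

theorem inv_eq {ω : G} {ρ : F} (e' : e ρ = ω * ω) : ω⁻¹ = ω * e ρ := by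
  rw [inv_eq_iff_mul_eq_one, ← mul_assoc, ← e', h.fld.mul_self]

theorem exists_omega (hV : ∀ v ∈ VV a t, (orderOf v).Prime → v ∈ WW a t Q) :
    ∃ ω ∈ Q, ω * ω ≠ 1 ∧ ∃ ζ ∈ WW a t Q, ζ ≠ 1 ∧ ff a t Q ω = ζ⁻¹ * ω⁻¹ * ζ := by
  obtain ⟨p, hp, hd⟩ := Nat.exists_prime_and_dvd (n := Nat.card (WW a t Q))
    fun e' => h.c2.W_ne (Subgroup.card_eq_one.mp e')
  have := Fact.mk hp
  obtain ⟨⟨ζ, hζ⟩, ho⟩ := exists_prime_orderOf_dvd_card' p hd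
  rw [Subgroup.orderOf_mk] at ho
  have hζ1 : ζ ≠ 1 := fun e' => hp.ne_one (by rw [← ho, e', orderOf_one])
  obtain ⟨u, hu, hu1⟩ := h.lin.surj 1
  obtain ⟨ω, α, hω, -⟩ := h.exists_nrm hζ hζ1 hu fun h0 =>
    one_ne_zero (hu1 ▸ (h.lin.ker u hu).mpr h0)
  obtain ⟨k0, hk0, w, hw, h0⟩ := h.hh_mem_KW hζ hζ1 (ho ▸ hp) hV hω
  obtain ⟨ρ, hρ⟩ := h.fld.surj _ (h.hyp.sq_mem h.c2 hω.1)
  obtain ⟨ω2, α2, hω2, k, hk, y, e2⟩ := h.exists_nrm hζ hζ1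
    (h.ff_mem (h.mul_e_mem hω.1 ρ) (h.mul_e_notMem hω.2.1 ρ))
    (h.ff_notMem (h.mul_e_mem hω.1 ρ) (h.mul_e_notMem hω.2.1 ρ))
  obtain ⟨ω3, α3, hω3, k', hk', y', e3⟩ := h.exists_nrm hζ hζ1
    (h.ff_mem (h.mul_e_mem hω.1 (ρ + α)) (h.mul_e_notMem hω.2.1 _))
    (h.ff_notMem (h.mul_e_mem hω.1 (ρ + α)) (h.mul_e_notMem hω.2.1 _))
  obtain ⟨rfl, rfl, k1⟩ := h.tri_rel hζ hω hω2 hk e2
  obtain ⟨rfl, rfl, k2⟩ := h.tri_rel hζ hω hω3 hk' e3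
  rw [add_assoc, h.fld.add_self, add_zero] at e3 k2
  obtain rfl : k = k' := h.hyp.κ_inj h.fld hk hk' (by
    rw [mul_comm (ρ + α)] at k2
    rw [eq_inv_of_mul_eq_one_left k1, eq_inv_of_mul_eq_one_left k2])
  obtain ⟨ρ2, hρ2⟩ := h.fld.surj _ (h.hyp.sq_mem h.c2 hω2.1)
  have hb := h.braid hω.1 (ne_one hω.2.1)
  have h1 : (ff a t Q ω)⁻¹ = ζ⁻¹ * (ω * e (ρ + α)) * ζ := by
    rw [hω.2.2, h.fld.add, ← mul_assoc ω, ← h.inv_eq hρ, ← h.e_comm (Q.inv_mem hω.1),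
      mul_inv_rev, h.fld.inv]
    nth_rewrite 1 [← h.conj_e_W hζ α]
    group
  rw [h1, h.ff_conjV (h.mul_e_mem hω.1 _) (ne_one (h.mul_e_notMem hω.2.1 _)) (h.hyp.WW_le_VV hζ), e3,
    h.inv_eq hρ, e2, h0] at hb
  have h2 : (ω2 * e (ρ + α))⁻¹ = ω2 * e (ρ2 + (ρ + α)) := by
    rw [mul_inv_rev, h.fld.inv, h.e_comm (Q.inv_mem hω2.1), h.inv_eq hρ2, h.fld.add ρ2, mul_assoc]
  have h3 := h.fld.conjK _ (Subgroup.inv_mem _ hk0) ρ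
  obtain ⟨rfl, k3, -⟩ := h.nrm_unique hζ (h.nrm_conj hζ hω2 hw) (h.nrm_conj hζ hω3 hζ) hk0
    (b := ρ2 + (ρ + α) + κ k0⁻¹ * ρ) (by
      rw [h.fld.add _ (_ * _), ← h3, ← h.fld.inv ρ]
      calc ζ⁻¹ * ω3 * ζ = k * (k * ζ)⁻¹ * (ω3 * e ρ) * (k * ζ) * k⁻¹ * (ζ⁻¹ * e ρ * ζ)⁻¹ := by
            rw [h.hyp.K_W_comm hk hζ]; group
        _ = k * (k * (k0 * w))⁻¹ * (ω2 * e (ρ + α))⁻¹ * (k * (k0 * w)) * k⁻¹ * (e ρ)⁻¹ := by
            rw [h.conj_e_W hζ]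
            calc _ = k * (ζ⁻¹ * (k⁻¹ * (ω3 * e ρ) * k) * ζ) * k⁻¹ * (e ρ)⁻¹ := by group
              _ = _ := by rw [hb]; group
        _ = _ := by
            rw [h2, ← mul_assoc k k0, h.hyp.KK_comm hk hk0, mul_assoc k0, h.hyp.K_W_comm hk hw,
              ← mul_assoc k0, h.hyp.K_W_comm hk0 hw]
            nth_rewrite 2 [← h.conj_e_W hw (ρ2 + _)]
            group)
  rw [inv_one, h.fld.κ_one, one_mul] at k3
  obtain rfl : ρ2 = α := by linear_combination k3 - h.fld.add_self ρ - h.fld.add_self α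
  refine ⟨ω2, hω2.1, fun e' => hω2.2.1 (h.hyp.mem_Q0.mpr ⟨hω2.1, e'⟩), ζ, hζ, hζ1, ?_⟩
  rw [hω2.2.2, h.inv_eq hρ2]
  nth_rewrite 1 [← h.conj_e_W hζ ρ2]
  group

end U3

end Suz
end H8
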