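import Mathlib
import Cfsg.Agent.H8.SuzU2

/-! Chapter IV §§3-4: `f` modulo `Q₀` on the coset `ω Q₀`, the squaring map is the norm. -/

set_option autoImplicit false

namespace H8
namespace Suz

open Cfsg MulAction H21.RankOne

section Field

variable {E : Type*} [Field E] [CharP E 2] {n : ℕ} {z : E}

theorem two_zero : (2 : E) = 0 := CharTwo.two_eq_zero

theorem add_inv_ne_zero (hz0 : z ≠ 0) (hz1 : z ≠ 1) : z + z⁻¹ ≠ 0 := fun h => hz1 (by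
  have h2 : (2 : E) = 0 := two_zero
  have : (z - 1) ^ 2 = 0 := by
    field_simp at h
    linear_combination h - z * h2
  exact sub_eq_zero.mp (pow_eq_zero_iff two_ne_zero |>.mp this))

theorem lin_indep (hz : z ^ 2 ^ n = z⁻¹) (hz0 : z ≠ 0) (hz1 : z ≠ 1) {A B : E}
    (hA : A ^ 2 ^ n = A) (hB : B ^ 2 ^ n = B) (h : A + B * z = 0) : A = 0 ∧ B = 0 := by
  have h2 : (2 : E) = 0 := two_zero
  have h1 := congrArg (· ^ 2 ^ n) h
  simp only [add_pow_char_pow, mul_pow, hA, hB, hz, zero_pow (pow_ne_zero n two_ne_zero)] at h1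
  have h3 : B = 0 := (mul_eq_zero.mp (show B * (z + z⁻¹) = 0 by
    linear_combination h + h1 - A * h2)).resolve_right (add_inv_ne_zero hz0 hz1)
  exact ⟨by simpa [h3] using h, h3⟩

theorem exists_sqrt_fix (hn : 1 ≤ n) {A : E} (hA : A ^ 2 ^ n = A) :
    ∃ c : E, c ^ 2 ^ n = c ∧ c * c = A := by
  obtain ⟨m, rfl⟩ := Nat.exists_eq_add_of_le' hn
  exact ⟨A ^ 2 ^ m, by rw [← pow_mul, mul_comm, pow_mul, hA], by
    rw [← pow_two, ← pow_mul, ← pow_succ, hA]⟩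

theorem fix_add_inv (hz : z ^ 2 ^ n = z⁻¹) : (z + z⁻¹) ^ 2 ^ n = z + z⁻¹ := by
  rw [add_pow_char_pow, inv_pow, hz, inv_inv, add_comm]

theorem norm_eq (hn : 1 ≤ n) (hE : ∀ x : E, (x ^ 2 ^ n) ^ 2 ^ n = x) (hz : z ^ 2 ^ n = z⁻¹)
    (hz0 : z ≠ 0) (hz1 : z ≠ 1) (N : E → E)
    (hb : ∀ x x' y, N (x + x' + y) + N (x + x') + N y =
      (N (x + y) + N x + N y) + (N (x' + y) + N x' + N y))
    (hs : ∀ A x, A ^ 2 ^ n = A → N (A * x) = A ^ 2 * N x) (hN : ∀ x, N (z * x) = N x)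
    (h1 : N 1 = z + z⁻¹) (x : E) : N x = (z + z⁻¹) * (x * x ^ 2 ^ n) := by
  have h2 : (2 : E) = 0 := two_zero
  obtain ⟨b, hb'⟩ : ∃ b : E → E → E, ∀ x y, b x y = N (x + y) + N x + N y := ⟨_, fun _ _ => rfl⟩
  have b1 : ∀ x x' y, b (x + x') y = b x y + b x' y := fun x x' y => by rw [hb', hb', hb', hb]
  have b2 : ∀ x y, b x y = b y x := fun x y => by rw [hb', hb', add_comm x y]; ring
  have b3 : ∀ A x y, A ^ 2 ^ n = A → b (A * x) (A * y) = A ^ 2 * b x y := fun A x y hA => by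
    rw [hb', hb', ← mul_add, hs _ _ hA, hs _ _ hA, hs _ _ hA]; ring
  have b4 : ∀ A x y, A ^ 2 ^ n = A → b (A * x) y = b x (A * y) := fun A x y hA => by
    have := b3 (A + 1) x y (by rw [add_pow_char_pow, hA, one_pow])
    rw [add_mul, add_mul, one_mul, one_mul, b1, b2 (A * x), b1, b2 x, b1, b2 (A * y) (A * x),
      b3 A x y hA, b2 y, b2 y, b2 (A * y)] at this
    linear_combination this + (A * b x y - b x (A * y)) * h2
  have b5 : ∀ A x y, A ^ 2 ^ n = A → b (A * x) y = A * b x y := fun A x y hA => by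
    obtain ⟨c, hc, rfl⟩ := exists_sqrt_fix hn hA
    rw [mul_assoc, b4 c _ _ hc, b3 c _ _ hc, pow_two]
  have key : ∀ A B : E, A ^ 2 ^ n = A → B ^ 2 ^ n = B →
      N (A + B * z) = (A ^ 2 + B ^ 2) * (z + z⁻¹) + A * B * b 1 z := fun A B hA hB => by
    have k1 := hb' (A * 1) (B * z)
    have k2 := hN 1
    rw [mul_one] at k2
    rw [b5 A _ _ hA, b2, b5 B _ _ hB, b2, hs A _ hA, hs B _ hB, k2, h1, mul_one] at k1
    linear_combination -k1 - ((A ^ 2 + B ^ 2) * (z + z⁻¹)) * h2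
  have hγ := add_inv_ne_zero hz0 hz1
  have k3 : b 1 z = (z + z⁻¹) ^ 2 := by
    have := key 1 (z + z⁻¹) (one_pow _) (fix_add_inv hz)
    rw [show 1 + (z + z⁻¹) * z = z * (z * 1) by field_simp; linear_combination h2, hN, hN, h1] at this
    apply mul_left_cancel₀ hγ
    linear_combination -this - (z + z⁻¹) ^ 3 * h2
  obtain ⟨B, hB⟩ : ∃ B, B = (x + x ^ 2 ^ n) / (z + z⁻¹) := ⟨_, rfl⟩
  have hB1 : B ^ 2 ^ n = B := by
    rw [hB, div_pow, fix_add_inv hz, add_pow_char_pow, hE, add_comm x]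
  have hB2 : B * (z + z⁻¹) = x + x ^ 2 ^ n := by rw [hB, div_mul_cancel₀ _ hγ]
  have hA : (x + B * z) ^ 2 ^ n = x + B * z := by
    rw [add_pow_char_pow, mul_pow, hB1, hz]
    linear_combination hB2 + (x ^ 2 ^ n - B * z) * h2
  have k4 := key _ _ hA hB1
  rw [show x + B * z + B * z = x by linear_combination B * z * h2, k3] at k4
  rw [k4, show x ^ 2 ^ n = x + B * (z + z⁻¹) by linear_combination -hB2 - x * h2]
  field_simp
  grind

theorem shift_eq (hz : z ^ 2 ^ n = z⁻¹) (hz0 : z ≠ 0) (hz1 : z ≠ 1) (m : E ≃+* E) (hm : m z = z)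
    {A B X : E} (hA : A ^ 2 ^ n = A) (hB : B ^ 2 ^ n = B) (h1 : A * m X = z⁻¹ * X + 1)
    (h3 : z * m X = B * X + 1) : B = m A + (z + z⁻¹) := by
  have h2 : (2 : E) = 0 := two_zero
  have k1 : X * (1 + A * B) = A + z := by
    field_simp at h1
    linear_combination -h1 + A * h3 + (A * B * X - z) * h2
  have k2 := congrArg m k1
  simp only [map_mul, map_add, map_one, hm] at k2
  have hA' : m A ^ 2 ^ n = m A := by rw [← map_pow, hA]
  have hB' : m B ^ 2 ^ n = m B := by rw [← map_pow, hB]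
  have k3 : 1 + A * B ≠ 0 := fun h => one_ne_zero (lin_indep hz hz0 hz1 hA (one_pow _) (by
    rw [one_mul, ← k1, h, mul_zero])).2
  obtain ⟨k4, k5⟩ := lin_indep hz hz0 hz1 (A := A * B + m A * m B)
    (B := (m A + (z + z⁻¹)) * (1 + A * B) + B * (1 + m A * m B))
    (by simp only [add_pow_char_pow, mul_pow, hA, hB, hA', hB'])
    (by simp only [add_pow_char_pow, mul_pow, hA, hB, hA', hB', one_pow, inv_pow, hz, inv_inv]; ring)
    (by field_simp; grind)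
  apply mul_left_cancel₀ k3
  grind

end Field

variable {G Ω : Type*} [Group G] [MulAction G Ω] {a : Ω} {t : G} {Q : Subgroup G} {s r : G}

namespace U3

variable [Finite G] {F E : Type*} [Field F] [Field E] {e : F → G} {κ : G → F} {n : ℕ} {π μ : G → E}
  (h : U3 a t Q s r e κ n π μ)
include h

theorem rel {u k : G} (hu : u ∈ Q) (h0 : u ∉ Q0 Q) (hk : k ∈ KK a t) :
    ff a t Q (ff a t Q u * e (κ k)) =
      ff a t Q (hh a t Q u * e (κ k)⁻¹ * (hh a t Q u)⁻¹ * ff a t Q u⁻¹) * u := by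
  have h1 := h.mul_e_mem (h.ff_mem hu h0) (κ k)
  have h2 := h.mul_e_notMem (h.ff_notMem hu h0) (κ k)
  have h3 := h.ff_mem h1 h2
  have h4 : ff a t Q (ff a t Q u * e (κ k)) * u⁻¹ ≠ 1 := fun e' => by
    have := h.hyp.ff_ff h1 (ne_one h2)
    rw [mul_inv_eq_one.mp e', left_eq_mul, h.fld.eq_one_iff] at this
    exact h.fld.κ_ne hk this
  obtain ⟨-, -, -, h5⟩ := h.hyp.ghf_mul h3 (ne_one (h.ff_notMem h1 h2)) (Q.inv_mem hu)
    (inv_ne_one.mpr (ne_one h0)) h4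
  obtain ⟨h6, h7, -⟩ := h.hyp.ghf_inv hu (ne_one h0)
  rw [h.hyp.ff_ff h1 (ne_one h2), h6, h7, show ff a t Q u * e (κ k) * (ff a t Q u)⁻¹ = e (κ k) by
    rw [← h.e_comm (h.ff_mem hu h0), mul_inv_cancel_right], (h.ghf_e hk).2.2, ← mul_assoc t, ← mul_assoc t, h.hyp.tt, one_mul, h.hyp.mul_tt, inv_inv] at h5
  rw [← h5, h.hyp.ff_ff (Q.mul_mem h3 (Q.inv_mem hu)) h4, inv_mul_cancel_right]

theorem exists_T : ∃ T : F → E, T 0 = 0 ∧ ∀ k ∈ KK a t, T (κ k) = μ k ^ 2 := by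
  classical
  refine ⟨fun y => if hy : y = 0 then 0 else μ (h.fld.κ_surj y hy).choose ^ 2, by simp, fun k hk => ?_⟩
  have := (h.fld.κ_surj _ (h.fld.κ_ne hk)).choose_spec
  simp only [dif_neg (h.fld.κ_ne hk)]
  rw [h.hyp.κ_inj h.fld this.1 hk this.2]

section

variable {ω ζ : G} (hω : ω ∈ Q) (h0 : ω ∉ Q0 Q) (hζ : ζ ∈ WW a t Q) (hζ1 : ζ ≠ 1)
  (hf : ff a t Q ω = ζ⁻¹ * ω⁻¹ * ζ)
include hω h0 hζ hf

theorem ff_inv : ff a t Q ω⁻¹ = ζ * ω * ζ⁻¹ := by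
  have := h.hyp.ff_ff hω (ne_one h0)
  rw [hf, h.ff_conjV (Q.inv_mem hω) (inv_ne_one.mpr (ne_one h0)) (h.hyp.WW_le_VV hζ)] at this
  nth_rewrite 2 [← this]
  group

theorem hh_spec : hh a t Q ω ∈ VV a t ∧ hh a t Q ω * ζ = ζ * hh a t Q ω ∧
    hh a t Q ω * ζ⁻¹ ^ 3 * ω = ω * (hh a t Q ω * ζ⁻¹ ^ 3) := by
  have hV := h.hyp.WW_le_VV hζ
  have h1 := (h.hyp.ghf_ff hω (ne_one h0)).2.2.1
  have h2 := h.braid hω (ne_one h0)
  rw [hf, h.hh_conjV (Q.inv_mem hω) (inv_ne_one.mpr (ne_one h0)) hV,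
    (h.hyp.ghf_inv hω (ne_one h0)).2.1] at h1
  rw [h.ff_inv hω h0 hζ hf, hf, show (ζ⁻¹ * ω⁻¹ * ζ)⁻¹ = ζ⁻¹ * ω * ζ by group,
    h.ff_conjV hω (ne_one h0) hV, hf] at h2
  obtain ⟨k, hk, v, hv, h3⟩ := h.hyp.exists_KV (h.hyp.hh_mem hω (ne_one h0))
  have h4 : t * (k * v)⁻¹ * t = v⁻¹ * k := by
    calc _ = (t * v⁻¹ * t) * (t * k⁻¹ * t) := by simp only [mul_inv_rev, mul_assoc, h.hyp.tt_mul]
      _ = _ := by rw [h.hyp.tVt (Subgroup.inv_mem _ hv), h.hyp.tKt (Subgroup.inv_mem _ hk), inv_inv]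
  rw [h3, h4, mul_assoc, mul_assoc, h.hyp.K_W_comm hk hζ] at h1
  obtain rfl : k = 1 := h.hyp.eq_one_of_sq (KK_le hk) (h.hyp.eq_one_of_K_V (Subgroup.mul_mem _ hk hk) (by
    have : k * k = ζ⁻¹ * v * ζ * v⁻¹ := by
      calc _ = ζ⁻¹ * v * ζ * (ζ⁻¹ * (v⁻¹ * (ζ * k))) * k := by group
        _ = _ := by rw [h1]; group
    rw [this]
    exact Subgroup.mul_mem _ (Subgroup.mul_mem _ (Subgroup.mul_mem _ (Subgroup.inv_mem _ hV) hv) hV)
      (Subgroup.inv_mem _ hv)))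
  rw [one_mul] at h3 h1
  rw [h3] at h2 ⊢
  have h5 : v * ζ = ζ * v := by
    calc _ = v * ζ * v⁻¹ * v := by group
      _ = _ := by rw [← h1]; group
  refine ⟨hv, h5, ?_⟩
  have h6 : Commute v ζ := h5
  calc _ = ζ⁻¹ * v * (ζ⁻¹ * (ζ⁻¹ * ω⁻¹ * ζ) * ζ)⁻¹ * ζ⁻¹ * ζ⁻¹ := by
        rw [← h6.inv_right.eq]; group
    _ = ω * (ζ⁻¹ * v * ζ⁻¹ * ζ⁻¹) := by rw [h2]; group
    _ = _ := by rw [← h6.inv_right.eq]; group

include hζ1 in
theorem core (h1 : π ω = 1) {ρ : F} (hρ : e ρ = ω * ω) : ∃ T : F →+* E,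
    (∀ k ∈ KK a t, T (κ k) = μ k ^ 2) ∧ T ρ = μ ζ + (μ ζ)⁻¹ ∧ hh a t Q ω = ζ ^ 3 ∧
      ∀ y, π (ff a t Q (ω * e y)) * ((μ ζ)⁻¹ + T y) = 1 := by
  have := h.charP
  have h2 := h.lin.two
  have hV := h.hyp.WW_le_VV hζ
  obtain ⟨T, T0, hT⟩ := h.exists_T
  obtain ⟨k1, k2, k3⟩ := h.hh_spec hω h0 hζ hf
  obtain ⟨η, hη⟩ : ∃ η, η = hh a t Q ω * ζ⁻¹ ^ 3 := ⟨_, rfl⟩
  have hηV : η ∈ VV a t := hη ▸ Subgroup.mul_mem _ k1 (Subgroup.pow_mem _ (Subgroup.inv_mem _ hV) 3)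
  have hηζ : η * ζ = ζ * η := by
    rw [hη]
    exact ((show Commute (hh a t Q ω) ζ from k2).mul_left ((Commute.refl ζ).inv_left.pow_left 3)).eq
  rw [← hη] at k3
  have k4 : η⁻¹ * ω * η = ω := by rw [mul_assoc, ← k3, inv_mul_cancel_left]
  obtain ⟨m, hm⟩ := h.lin.conjD η hηV.1
  rw [h.μ_eq hηV.1 hω h1, k4, h1] at hm
  simp only [one_mul] at hm
  obtain ⟨σ, hσ⟩ := h.fld.conjV η hηV
  have hmz : m (μ ζ) = μ ζ := by
    rw [h.μ_eq hζ.1 hω h1, ← hm _ (h.hyp.conj_Q hζ.1 hω)]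
    congr 1
    calc _ = (ζ * η)⁻¹ * ω * (ζ * η) := by group
      _ = ζ⁻¹ * (η⁻¹ * ω * η) * ζ := by rw [← hηζ]; group
      _ = _ := by rw [k4]
  have hμ : ∀ k ∈ KK a t, μ (η⁻¹ * k * η) = m (μ k) := fun k hk => by
    rw [h.μ_eq (KK_le hk) hω h1, ← hm _ (h.hyp.conj_Q (KK_le hk) hω),
      h.μ_eq (KK_le (h.hyp.conj_KK hηV.1 hk)) hω h1]
    nth_rewrite 1 [← k4]
    congr 1
    group
  have hσρ : σ ρ = ρ := h.fld.inj (by
    rw [← hσ, hρ]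
    nth_rewrite 3 4 [← k4]
    group)
  have hΦ : ∀ y, π (ff a t Q (ω * e (σ y))) = m (π (ff a t Q (ω * e y))) := fun y => by
    rw [← hm _ (h.ff_mem (h.mul_e_mem hω y) (h.mul_e_notMem h0 y)),
      ← h.ff_conjV (h.mul_e_mem hω y) (ne_one (h.mul_e_notMem h0 y)) hηV, ← hσ]
    nth_rewrite 1 [← k4]
    congr 2
    group
  have hc : ∀ w ∈ WW a t Q, ∀ y, π (ff a t Q (w⁻¹ * ω * w * e y)) = μ w * π (ff a t Q (ω * e y)) :=
    fun w hw y => by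
      rw [← h.lin.conjW w hw _ (h.ff_mem (h.mul_e_mem hω y) (h.mul_e_notMem h0 y)),
        ← h.ff_conjV (h.mul_e_mem hω y) (ne_one (h.mul_e_notMem h0 y)) (h.hyp.WW_le_VV hw)]
      nth_rewrite 1 [← h.conj_e_W hw y]
      congr 2
      group
  have hf' : ∀ y, ff a t Q ω * e y = ζ⁻¹ * ω * ζ * e (ρ + y) := fun y => by
    rw [hf, h.inv_eq hρ, h.fld.add]
    nth_rewrite 2 [← h.conj_e_W hζ ρ]
    group
  have hz0 := h.μ_ne hζ.1
  have hz1 : μ ζ ≠ 1 := fun e' => hζ1 (h.eq_one_of_μ_eq (Subgroup.one_mem _) hζ (by rw [e', h.μ_one])).2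
  have hS : ∀ k ∈ KK a t, μ ζ * π (ff a t Q (ω * e (ρ + (κ k)⁻¹))) =
      T (κ k) * π (ff a t Q (ω * e (κ k))) := fun k hk => by
    rw [hT k hk, ← h.π_shift hω h0 hk, hf', hc ζ hζ]
  have hR : ∀ k ∈ KK a t, μ ζ * m (π (ff a t Q (ω * e (ρ + (κ k)⁻¹)))) =
      (μ ζ)⁻¹ * π (ff a t Q (ω * e (κ k))) + 1 := fun k hk => by
    have hk' := Subgroup.inv_mem _ (h.hyp.conj_KK hηV.1 hk)
    have k5 := h.rel hω h0 hk'
    have k6 : hh a t Q ω * e (σ (κ k)) * (hh a t Q ω)⁻¹ = e (κ k) := by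
      rw [← h.conj_e_W (Subgroup.pow_mem _ hζ 3) (σ _), ← hσ, hη]
      group
    rw [h.fld.κ_inv (h.hyp.conj_KK hηV.1 hk), h.hyp.κ_conj h.fld hηV hσ hk, inv_inv, k6, hf',
      h.ff_inv hω h0 hζ hf, h.e_comm (conj_mem_Q h.hyp.setup hζ.1.1 hω)] at k5
    have k7 := hc _ (Subgroup.inv_mem _ hζ) (κ k)
    rw [inv_inv] at k7
    have k8 := conj_mem_Q h.hyp.setup hζ.1.1 hω
    have k9 := h.conj_notMem (Subgroup.inv_mem _ hζ).1 h0
    rw [inv_inv] at k9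
    rw [← hΦ, map_add, hσρ, map_inv₀, ← hc ζ hζ, k5, h.lin.add _ (h.ff_mem (h.mul_e_mem k8 _)
      (h.mul_e_notMem k9 _)) _ hω, k7, h1, h.μ_invW hζ]
  have Φ0 : π (ff a t Q (ω * e 0)) = μ ζ := by
    rw [h.fld.zero, mul_one, hf, h.lin.conjW ζ hζ _ (Q.inv_mem hω), h.π_inv hω, h1, mul_one]
  have Φρ : π (ff a t Q (ω * e ρ)) = (μ ζ)⁻¹ := by
    have := h.lin.conjW _ (Subgroup.inv_mem _ hζ) _ hω
    rw [inv_inv] at this
    rw [← h.inv_eq hρ, h.ff_inv hω h0 hζ hf, this, h1, mul_one, h.μ_invW hζ]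
  have hII : ∀ y, m (T y) * m (π (ff a t Q (ω * e y))) = (μ ζ)⁻¹ * π (ff a t Q (ω * e y)) + 1 := by
    intro y
    by_cases hy : y = 0
    · rw [hy, T0, Φ0, map_zero, zero_mul, inv_mul_cancel₀ hz0, one_add_one_eq_two, h2]
    · obtain ⟨k, hk, rfl⟩ := h.fld.κ_surj y hy
      rw [← hR k hk, ← map_mul, ← hS k hk, map_mul, hmz]
  have hI : ∀ y, μ ζ * m (π (ff a t Q (ω * e (ρ + y)))) = T y * π (ff a t Q (ω * e (ρ + y))) + 1 := by
    intro y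
    by_cases hy : y = 0
    · rw [hy, T0, add_zero, Φρ, map_inv₀, hmz, mul_inv_cancel₀ hz0, zero_mul, zero_add]
    · obtain ⟨k, hk, rfl⟩ := h.fld.κ_surj y hy
      have k5 := hR _ (Subgroup.inv_mem _ hk)
      have k6 := hS _ (Subgroup.inv_mem _ hk)
      rw [hT _ (Subgroup.inv_mem _ hk), h.μ_invK hk] at k6
      rw [h.fld.κ_inv hk, inv_inv] at k5 k6
      rw [k5, hT k hk]
      have := h.μ_ne (KK_le hk)
      field_simp at k6 ⊢
      linear_combination -k6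
  have hTq : ∀ y, T y ^ 2 ^ n = T y := fun y => by
    by_cases hy : y = 0
    · rw [hy, T0, zero_pow (pow_ne_zero n two_ne_zero)]
    · obtain ⟨k, hk, rfl⟩ := h.fld.κ_surj y hy
      rw [hT k hk, ← pow_mul, mul_comm, pow_mul, h.μ_pow_q hk]
  have hsh : ∀ y, T y = m (m (T (ρ + y))) + (μ ζ + (μ ζ)⁻¹) := fun y =>
    shift_eq (h.μ_W_pow hζ) hz0 hz1 m hmz (by rw [← map_pow, hTq]) (hTq y) (hII _) (hI y)
  have hη1 : η = 1 := by
    refine h.hyp.eq_one_of_sq hηV.1 (h.hyp.eq_one_of_sq (Subgroup.mul_mem _ hηV hηV).1 ?_)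
    have hW : η * η * (η * η) ∈ WW a t Q := h.hyp.mem_WW_iff.mpr ⟨Subgroup.mul_mem _
      (Subgroup.mul_mem _ hηV hηV) (Subgroup.mul_mem _ hηV hηV), fun l hl => by
        obtain ⟨k, hk, rfl⟩ := h.hyp.exists_sq KK_le hl
        have c1 := h.hyp.conj_KK hηV.1 hl
        have c2 := h.hyp.conj_KK hηV.1 c1
        have c3 := h.hyp.conj_KK hηV.1 c2
        have k5 := hsh (κ k)
        rw [hsh (ρ + κ k), ← add_assoc ρ, h.fld.add_self, zero_add, hT k hk, pow_two,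
          ← h.μ_mulK (KK_le hk) hk] at k5
        simp only [map_add, map_inv₀, hmz] at k5
        have := h.μ_injK (h.hyp.conj_KK hηV.1 c3) hl (by
          rw [hμ _ c3, hμ _ c2, hμ _ c1, hμ _ hl]
          linear_combination -k5 - (μ ζ + (μ ζ)⁻¹) * h2)
        nth_rewrite 2 [← this]
        group⟩
    by_contra hne
    refine h0 (h.hyp.W_fpf h.c2 hW hne hω ?_)
    have c : Commute η ω := k3
    rw [mul_assoc _ ω, ← ((c.mul_left c).mul_left (c.mul_left c)).eq, inv_mul_cancel_left,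
      inv_mul_cancel]
    exact Subgroup.one_mem _
  have hm1 : ∀ x, m x = x := fun x => by
    obtain ⟨u, hu, rfl⟩ := h.lin.surj x
    rw [← hm u hu, hη1]
    simp
  simp only [hm1] at hsh hII
  have Tρ : T ρ = μ ζ + (μ ζ)⁻¹ := by rw [hsh ρ, h.fld.add_self, T0, zero_add]
  have Tmul : ∀ x y, T (x * y) = T x * T y := fun x y => by
    by_cases hx : x = 0
    · rw [hx, zero_mul, T0, zero_mul]
    by_cases hy : y = 0
    · rw [hy, mul_zero, T0, mul_zero]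
    obtain ⟨k, hk, rfl⟩ := h.fld.κ_surj x hx
    obtain ⟨l, hl, rfl⟩ := h.fld.κ_surj y hy
    rw [← h.fld.κ_mul hk hl, hT _ (Subgroup.mul_mem _ hk hl), hT k hk, hT l hl,
      h.μ_mulK (KK_le hk) hl, mul_pow]
  have hρ0 : ρ ≠ 0 := fun e' => h0 (h.hyp.mem_Q0.mpr ⟨hω, by rw [← hρ, e', h.fld.zero]⟩)
  refine ⟨⟨⟨⟨T, ?_⟩, Tmul⟩, T0, fun x y => ?_⟩, hT, Tρ, ?_, fun y => ?_⟩
  · rw [← h.fld.κ_one, hT 1 (Subgroup.one_mem _), h.μ_one, one_pow]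
  · change T (x + y) = T x + T y
    by_cases hx : x = 0
    · rw [hx, zero_add, T0, zero_add]
    have k5 := hsh (y * ρ / x)
    have k6 : T (ρ + y * ρ / x) = T ρ + T (y * ρ / x) := by
      rw [k5, Tρ]
      linear_combination (-(μ ζ + (μ ζ)⁻¹)) * h2
    rw [show x + y = x / ρ * (ρ + y * ρ / x) by field_simp, Tmul, k6, mul_add, ← Tmul, ← Tmul]
    congr 2 <;> field_simp
  · rw [hη, mul_eq_one_iff_eq_inv, inv_pow, inv_inv] at hη1
    exact hη1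
  · change _ * (_ + T y) = 1
    linear_combination hII y + ((μ ζ)⁻¹ * π (ff a t Q (ω * e y))) * h2

end

end U3

end Suz
end H8
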