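import Mathlib
import Cfsg.Agent.H8.SuzU3

/-! Chapter IV §§3-4: coordinates in which `Q` and `f` are those of `PSU₃(q)`. -/

set_option autoImplicit false

namespace H8
namespace Suz

open Cfsg MulAction H21.RankOne

variable {G Ω : Type*} [Group G] [MulAction G Ω] {a : Ω} {t : G} {Q : Subgroup G} {s r : G}

/-- unitary coordinates `(p, y)` on `Q` -/
structure Crd3 (a : Ω) (t : G) (Q : Subgroup G) {F E : Type*} [Field F] [Field E] (e : F → G)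
    (κ : G → F) (n : ℕ) (π μ : G → E) (ζ : G) (T : F →+* E) (c : E) (y : G → E) : Prop where
  T_κ : ∀ k ∈ KK a t, T (κ k) = μ k ^ 2
  c_ne : c ≠ 0
  c_fix : c ^ 2 ^ n = c
  mul : ∀ u ∈ Q, ∀ v ∈ Q, y (u * v) = y u + y v + c * π u * (c * π v) ^ 2 ^ n
  y_e : ∀ b, y (e b) = T b
  conjζ : ∀ u ∈ Q, y (ζ⁻¹ * u * ζ) = y u
  conjK : ∀ k ∈ KK a t, ∀ u ∈ Q, y (k⁻¹ * u * k) = μ k ^ 2 * y u
  herm : ∀ u ∈ Q, y u + y u ^ 2 ^ n = c * π u * (c * π u) ^ 2 ^ n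

/-- the formula for `f` holds at `u` -/
def Good (a : Ω) (t : G) (Q : Subgroup G) {E : Type*} [Field E] (π y : G → E) (u : G) : Prop :=
  π (ff a t Q u) * y u = π u ∧ y (ff a t Q u) * y u = 1

namespace U3

variable [Finite G] {F E : Type*} [Field F] [Field E] {e : F → G} {κ : G → F} {n : ℕ} {π μ : G → E}
  (h : U3 a t Q s r e κ n π μ)
include h

theorem congr_π {g : G → E} (hg : ∀ u ∈ Q, ∀ b, g (u * e b) = g u) {u v : G} (hu : u ∈ Q)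
    (hv : v ∈ Q) (e' : π u = π v) : g u = g v := by
  obtain ⟨b, rfl⟩ := h.exists_of_π_eq hu hv e'
  exact (hg u hu b).symm

theorem μ_ne_one {ζ : G} (hζ : ζ ∈ WW a t Q) (hζ1 : ζ ≠ 1) : μ ζ ≠ 1 := fun e' =>
  hζ1 (h.eq_one_of_μ_eq (Subgroup.one_mem _) hζ (by rw [e', h.μ_one])).2

theorem μ_add_one_ne {ζ : G} (hζ : ζ ∈ WW a t Q) (hζ1 : ζ ≠ 1) : μ ζ + 1 ≠ 0 := fun e' =>
  h.μ_ne_one hζ hζ1 (by linear_combination e' - h.lin.two)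

theorem add_eq_zero {ζ : G} (hζ : ζ ∈ WW a t Q) (hζ1 : ζ ≠ 1) {g : G → E}
    (h1 : ∀ u ∈ Q, ∀ v ∈ Q, g (u * v) = g u + g v) (h2 : ∀ b, g (e b) = 0)
    (h3 : ∀ u ∈ Q, g (ζ⁻¹ * u * ζ) = g u) {u : G} (hu : u ∈ Q) : g u = 0 := by
  obtain ⟨v, hv, h4⟩ := h.lin.surj (π u / (μ ζ + 1))
  have h5 := h.hyp.conj_Q hζ.1 hv
  rw [h.congr_π (g := g) (fun u hu b => by rw [h1 u hu _ (h.e_mem b), h2, add_zero]) hu
    (Q.mul_mem h5 hv) (by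
      rw [h.lin.add _ h5 _ hv, h.lin.conjW ζ hζ v hv, h4]
      have := h.μ_add_one_ne hζ hζ1
      field_simp), h1 _ h5 _ hv, h3 v hv, h.add_self]

theorem T_fix {T : F →+* E} (hT : ∀ k ∈ KK a t, T (κ k) = μ k ^ 2) (b : F) : T b ^ 2 ^ n = T b := by
  by_cases hb : b = 0
  · rw [hb, map_zero, zero_pow (pow_ne_zero n two_ne_zero)]
  · obtain ⟨k, hk, rfl⟩ := h.fld.κ_surj b hb
    rw [hT k hk, ← pow_mul, mul_comm, pow_mul, h.μ_pow_q hk]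

theorem exists_T_eq {T : F →+* E} (hT : ∀ k ∈ KK a t, T (κ k) = μ k ^ 2) {x : E}
    (hx : x ^ 2 ^ n = x) : ∃ b, T b = x := by
  by_cases hx0 : x = 0
  · exact ⟨0, by rw [hx0, map_zero]⟩
  obtain ⟨l, hl, rfl⟩ := h.exists_μ_eq hx0 hx
  obtain ⟨k, hk, rfl⟩ := h.hyp.exists_sq KK_le hl
  exact ⟨κ k, by rw [hT k hk, h.μ_mulK (KK_le hk) hk, pow_two]⟩

theorem sq_eq {ω ζ : G} (hω : ω ∈ Q) (hζ : ζ ∈ WW a t Q) (hζ1 : ζ ≠ 1) (h1 : π ω = 1) {ρ : F}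
    (hρ : e ρ = ω * ω) {T : F →+* E} (hT : ∀ k ∈ KK a t, T (κ k) = μ k ^ 2)
    (Tρ : T ρ = μ ζ + (μ ζ)⁻¹) {u : G} (hu : u ∈ Q) {b : F} (hb : e b = u * u) :
    T b = (μ ζ + (μ ζ)⁻¹) * (π u * π u ^ 2 ^ n) := by
  have := h.charP
  choose sec hs1 hs2 using h.lin.surj
  have hε : ∀ b, Function.invFun e (e b) = b := Function.leftInverse_invFun h.fld.inj
  obtain ⟨N, hN⟩ : ∃ N : G → E, ∀ u, N u = T (Function.invFun e (u * u)) := ⟨_, fun _ => rfl⟩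
  have k1 : ∀ u b, e b = u * u → N u = T b := fun u b hb => by rw [hN, ← hb, hε]
  have k2 : ∀ u ∈ Q, ∃ b, e b = u * u := fun u hu => h.fld.surj _ (h.hyp.sq_mem h.c2 hu)
  have k3 : ∀ u ∈ Q, ∀ v ∈ Q, π u = π v → N u = N v := fun u hu v hv =>
    h.congr_π (fun u hu b => by rw [hN, hN, h.hyp.sq_mul_Q0 hu (h.fld.mem b)]) hu hv
  have k4 : ∀ u ∈ Q, ∀ v ∈ Q, ∀ c, e c = u⁻¹ * v * u * v⁻¹ → N (u * v) + N u + N v = T c := by
    intro u hu v hv c hc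
    obtain ⟨b, hb⟩ := k2 u hu
    obtain ⟨b', hb'⟩ := k2 v hv
    rw [k1 u b hb, k1 v b' hb', k1 (u * v) (b + c + b') (by
      rw [h.fld.add, h.fld.add, hb, hb', hc]; group), map_add, map_add]
    linear_combination (T b + T b') * h.lin.two
  have k5 : ∀ u ∈ Q, ∀ v ∈ Q, ∃ c, e c = u⁻¹ * v * u * v⁻¹ := fun u hu v hv =>
    h.fld.surj _ (by simpa using h.hyp.comm_mem h.c2 hu (Q.inv_mem hv))
  have k6 : ∀ x y, N (sec (x + y)) = N (sec x * sec y) := fun x y =>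
    k3 _ (hs1 _) _ (Q.mul_mem (hs1 _) (hs1 _)) (by rw [h.lin.add _ (hs1 _) _ (hs1 _), hs2, hs2, hs2])
  rw [← k1 u b hb, k3 u hu _ (hs1 (π u)) (hs2 _).symm]
  refine norm_eq (by have := h.lin.two_le; omega) h.pow_pow (h.μ_W_pow hζ) (h.μ_ne hζ.1)
    (h.μ_ne_one hζ hζ1) (fun x => N (sec x)) (fun x x' y => ?_) (fun A x hA => ?_) (fun x => ?_) ?_ _
  · obtain ⟨c, hc⟩ := k5 _ (hs1 x) _ (hs1 y)
    obtain ⟨c', hc'⟩ := k5 _ (hs1 x') _ (hs1 y)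
    have h2 := Q.mul_mem (hs1 x) (hs1 x')
    rw [k6 x y, k6 x' y, k4 _ (hs1 x) _ (hs1 y) c hc, k4 _ (hs1 x') _ (hs1 y) c' hc', k6 x x',
      k3 _ (hs1 _) _ (Q.mul_mem h2 (hs1 y)) (by
        rw [h.lin.add _ h2 _ (hs1 _), h.lin.add _ (hs1 _) _ (hs1 _), hs2, hs2, hs2, hs2]),
      k4 _ h2 _ (hs1 y) (c + c') (by
        rw [h.fld.add, hc', ← mul_assoc, ← mul_assoc, ← mul_assoc, h.e_comm (Q.inv_mem (hs1 x')), hc]
        group), map_add]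
  · by_cases hA0 : A = 0
    · rw [hA0, zero_mul, k3 _ (hs1 0) 1 Q.one_mem (by rw [hs2, h.π_one]),
        k1 1 0 (by rw [h.fld.zero, mul_one]), map_zero]
      ring
    obtain ⟨k, hk, rfl⟩ := h.exists_μ_eq hA0 hA
    obtain ⟨b, hb⟩ := k2 _ (hs1 x)
    rw [k1 _ b hb, k3 _ (hs1 _) _ (h.hyp.conj_Q (KK_le hk) (hs1 x)) (by
      rw [h.lin.conjK k hk _ (hs1 x), hs2, hs2]), k1 _ (κ k * b) (by
        rw [← h.fld.conjK k hk, hb]; group), map_mul, hT k hk]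
  · obtain ⟨b, hb⟩ := k2 _ (hs1 x)
    rw [k1 _ b hb, k3 _ (hs1 _) _ (h.hyp.conj_Q hζ.1 (hs1 x)) (by
      rw [h.lin.conjW ζ hζ _ (hs1 x), hs2, hs2]), k1 _ b (by
        rw [← h.conj_e_W hζ, hb]; group)]
  · rw [k3 _ (hs1 1) ω hω (by rw [hs2, h1]), k1 ω ρ hρ, Tρ]

theorem exists_crd3 {ω ζ : G} (hω : ω ∈ Q) (hζ : ζ ∈ WW a t Q) (hζ1 : ζ ≠ 1) (h1 : π ω = 1) {ρ : F}
    (hρ : e ρ = ω * ω) {T : F →+* E} (hT : ∀ k ∈ KK a t, T (κ k) = μ k ^ 2)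
    (Tρ : T ρ = μ ζ + (μ ζ)⁻¹) :
    ∃ c y, c * c = μ ζ + (μ ζ)⁻¹ ∧ Crd3 a t Q e κ n π μ ζ T c y := by
  classical
  have := h.charP
  have h2 := h.lin.two
  have hz := h.μ_W_pow hζ
  have hz0 := h.μ_ne hζ.1
  obtain ⟨c, hc, hcc⟩ := exists_sqrt_fix (by have := h.lin.two_le; omega) (fix_add_inv hz)
  have hε : ∀ b, Function.invFun e (e b) = b := Function.leftInverse_invFun h.fld.inj
  obtain ⟨η, hη1, hη2⟩ := H21.exists_eta (P := Q) (W := E) (fun w => by rw [two_nsmul, h.add_self])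
    (fun u v => c * π u * (c * π v) ^ 2 ^ n)
    (fun u v w => by rw [Subgroup.coe_mul, h.lin.add _ u.2 _ v.2]; ring)
    (fun u v w => by rw [Subgroup.coe_mul, h.lin.add _ v.2 _ w.2, mul_add, add_pow_char_pow]; ring)
    ((Q0 Q).subgroupOf Q) (fun u => T (Function.invFun e u))
    (fun u hu v hv => by
      obtain ⟨b, hb⟩ := h.fld.surj u hu
      obtain ⟨b', hb'⟩ := h.fld.surj v hv
      rw [Subgroup.coe_mul, ← hb, ← hb', ← h.fld.add, hε, hε, hε, map_add])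
    (fun u hu v _ => by rw [(h.lin.ker _ u.2).mpr hu, mul_zero, zero_mul])
    (fun u => ⟨h.hyp.sq_mem h.c2 u.2, by
      obtain ⟨b, hb⟩ := h.fld.surj _ (h.hyp.sq_mem h.c2 u.2)
      rw [Subgroup.coe_mul, ← hb, hε, h.sq_eq hω hζ hζ1 h1 hρ hT Tρ u.2 hb, mul_pow, hc, ← hcc]
      ring⟩)
  obtain ⟨y0, k1, k2⟩ : ∃ y0 : G → E, (∀ u ∈ Q, ∀ v ∈ Q,
      y0 (u * v) = y0 u + y0 v + c * π u * (c * π v) ^ 2 ^ n) ∧ ∀ b, y0 (e b) = T b :=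
    ⟨fun u => if hu : u ∈ Q then η ⟨u, hu⟩ else 0, fun u hu v hv => by
      simp only [dif_pos hu, dif_pos hv, dif_pos (Q.mul_mem hu hv)]
      exact hη1 ⟨u, hu⟩ ⟨v, hv⟩, fun b => by
      simp only [dif_pos (h.e_mem b)]
      rw [hη2 _ (h.fld.mem b), hε]⟩
  have k3 : ∀ d ∈ DD a t, ∀ u v : G, d⁻¹ * (u * v) * d = d⁻¹ * u * d * (d⁻¹ * v * d) :=
    fun d _ u v => by group
  obtain ⟨l, hl⟩ : ∃ l : G → E, ∀ u, l u = y0 (ζ⁻¹ * u * ζ) + y0 u := ⟨_, fun _ => rfl⟩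
  have l1 : ∀ u ∈ Q, ∀ v ∈ Q, l (u * v) = l u + l v := fun u hu v hv => by
    rw [hl, hl, hl, k3 ζ hζ.1, k1 _ (h.hyp.conj_Q hζ.1 hu) _ (h.hyp.conj_Q hζ.1 hv), k1 u hu v hv,
      h.lin.conjW ζ hζ u hu, h.lin.conjW ζ hζ v hv]
    simp only [mul_pow, hz]
    field_simp
    linear_combination (c * π u * c ^ 2 ^ n * π v ^ 2 ^ n) * h2
  have l2 : ∀ u ∈ Q, ∀ v ∈ Q, π u = π v → l u = l v := fun u hu v hv =>
    h.congr_π (fun u hu b => by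
      rw [l1 u hu _ (h.e_mem b), hl (e b), h.conj_e_W hζ, h.add_self, add_zero]) hu hv
  choose sec hs1 hs2 using h.lin.surj
  have l3 : ∀ x x', l (sec (x + x')) = l (sec x) + l (sec x') := fun x x' => by
    rw [← l1 _ (hs1 _) _ (hs1 _)]
    exact l2 _ (hs1 _) _ (Q.mul_mem (hs1 _) (hs1 _)) (by
      rw [h.lin.add _ (hs1 _) _ (hs1 _), hs2, hs2, hs2])
  have hz1 := h.μ_add_one_ne hζ hζ1
  obtain ⟨y, hy⟩ : ∃ y : G → E, ∀ u, y u = y0 u + l (sec (π u / (μ ζ + 1))) := ⟨_, fun _ => rfl⟩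
  have y1 : ∀ u ∈ Q, ∀ v ∈ Q, y (u * v) = y u + y v + c * π u * (c * π v) ^ 2 ^ n :=
    fun u hu v hv => by
      rw [hy, hy, hy, k1 u hu v hv, h.lin.add u hu v hv, add_div, l3]
      ring
  have y2 : ∀ b, y (e b) = T b := fun b => by
    have := l3 0 0
    rw [add_zero, h.add_self] at this
    rw [hy, k2, h.π_e, zero_div, this, add_zero]
  have y3 : ∀ u ∈ Q, y (ζ⁻¹ * u * ζ) = y u := fun u hu => by
    have k4 := l3 (μ ζ * π u / (μ ζ + 1)) (π u / (μ ζ + 1))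
    rw [show μ ζ * π u / (μ ζ + 1) + π u / (μ ζ + 1) = π u by field_simp,
      l2 _ (hs1 _) u hu (hs2 _), hl] at k4
    rw [hy, hy, h.lin.conjW ζ hζ u hu]
    linear_combination k4 + (l (sec (μ ζ * π u / (μ ζ + 1))) - y0 u) * h2
  refine ⟨c, y, hcc, hT, fun e' => add_inv_ne_zero hz0 (h.μ_ne_one hζ hζ1) (by
    rw [← hcc, e', mul_zero]), hc, y1, y2, y3, fun k hk u hu => ?_, fun u hu => ?_⟩
  · have := h.add_eq_zero hζ hζ1 (g := fun u => y (k⁻¹ * u * k) + μ k ^ 2 * y u) (fun u hu v hv => by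
      rw [k3 k (KK_le hk), y1 _ (h.hyp.conj_Q (KK_le hk) hu) _ (h.hyp.conj_Q (KK_le hk) hv),
        y1 u hu v hv, h.lin.conjK k hk u hu, h.lin.conjK k hk v hv]
      simp only [mul_pow, h.μ_pow_q hk]
      linear_combination (μ k ^ 2 * c * π u * c ^ 2 ^ n * π v ^ 2 ^ n) * h2) (fun b => by
      rw [h.fld.conjK k hk, y2, y2, map_mul, hT k hk, h.add_self]) (fun u hu => by
      rw [y3 u hu, ← y3 _ (h.hyp.conj_Q (KK_le hk) hu)]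
      congr 2
      calc _ = (ζ * k)⁻¹ * u * (ζ * k) := by group
        _ = _ := by rw [← h.hyp.K_W_comm hk hζ]; group) hu
    linear_combination this - (μ k ^ 2 * y u) * h2
  · have := h.add_eq_zero hζ hζ1 (g := fun u => y u + y u ^ 2 ^ n + c * π u * (c * π u) ^ 2 ^ n)
      (fun u hu v hv => by
        rw [y1 u hu v hv, h.lin.add u hu v hv]
        simp only [mul_pow, add_pow_char_pow, h.pow_pow, hc]
        linear_combination (c ^ 2 * π u * π v ^ 2 ^ n + c ^ 2 * π v * π u ^ 2 ^ n) * h2) (fun b => by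
      rw [y2, h.T_fix hT, h.π_e, h.add_self, mul_zero, zero_mul, add_zero]) (fun u hu => by
      rw [y3 u hu, h.lin.conjW ζ hζ u hu]
      simp only [mul_pow, hz]
      field_simp) hu
    linear_combination this - (c * π u * (c * π u) ^ 2 ^ n) * h2

section

variable {ζ : G} {T : F →+* E} {c : E} {y : G → E} (hc : Crd3 a t Q e κ n π μ ζ T c y)
include hc

theorem y_mul_e {u : G} (hu : u ∈ Q) (b : F) : y (u * e b) = y u + T b := by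
  rw [hc.mul u hu _ (h.e_mem b), hc.y_e, h.π_e, mul_zero, zero_pow (pow_ne_zero n two_ne_zero),
    mul_zero, add_zero]

theorem y_ne {u : G} (hu : u ∈ Q) (h1 : u ≠ 1) : y u ≠ 0 := fun e' => by
  have h2 := hc.herm u hu
  rw [e', zero_pow (pow_ne_zero n two_ne_zero), add_zero, ← pow_succ', eq_comm,
    pow_eq_zero_iff (Nat.succ_ne_zero _), mul_eq_zero, or_iff_right hc.c_ne, h.lin.ker u hu] at h2
  obtain ⟨b, rfl⟩ := h.fld.surj u h2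
  rw [hc.y_e, map_eq_zero] at e'
  exact h1 (by rw [e', h.fld.zero])

theorem y_inv {u : G} (hu : u ∈ Q) : y u⁻¹ = y u ^ 2 ^ n := by
  have h1 := hc.mul _ (Q.inv_mem hu) _ hu
  rw [inv_mul_cancel, ← h.fld.zero, hc.y_e, map_zero, h.π_inv hu, ← hc.herm u hu] at h1
  linear_combination -h1 - (y u + y u ^ 2 ^ n) * h.lin.two

theorem y_shift {u k : G} (hu : u ∈ Q) (h0 : u ∉ Q0 Q) (hk : k ∈ KK a t) :
    y (ff a t Q (ff a t Q u * e (κ k)⁻¹)) = T (κ k) ^ 2 * y (ff a t Q (u * e (κ k))) + T (κ k) := by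
  have h1 := h.ff_mem (h.mul_e_mem (h.ff_mem hu h0) (κ k)⁻¹) (h.mul_e_notMem (h.ff_notMem hu h0) _)
  have h3 := hc.conjK _ (Subgroup.inv_mem _ (Subgroup.mul_mem _ hk hk)) _ h1
  rw [inv_inv] at h3
  rw [(h.shift hu h0 hk).1, h.y_mul_e hc
    (conj_mem_Q h.hyp.setup (KK_le (Subgroup.mul_mem _ hk hk)).1 h1), h3,
    h.μ_invK (Subgroup.mul_mem _ hk hk), h.μ_mulK (KK_le hk) hk, map_inv₀, hc.T_κ k hk]
  have := h.μ_ne (KK_le hk)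
  field_simp
  linear_combination (-μ k ^ 2) * h.lin.two

theorem good_conjK {u k : G} (hu : u ∈ Q) (h1 : u ≠ 1) (hk : k ∈ KK a t) (hg : Good a t Q π y u) :
    Good a t Q π y (k⁻¹ * u * k) := by
  have h2 := h.hyp.ff_mem hu h1
  have h3 := h.lin.conjK _ (Subgroup.inv_mem _ hk) _ h2
  have h4 := hc.conjK _ (Subgroup.inv_mem _ hk) _ h2
  rw [inv_inv, h.μ_invK hk] at h3 h4
  have := h.μ_ne (KK_le hk)
  obtain ⟨g1, g2⟩ := hg
  unfold Good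
  rw [h.ff_conjK hu h1 hk, h3, h4, h.lin.conjK k hk u hu, hc.conjK k hk u hu, ← g1]
  constructor
  · field_simp
  · field_simp
    exact g2

theorem good_ff {u : G} (hu : u ∈ Q) (h0 : u ∉ Q0 Q) (hg : ∀ b, Good a t Q π y (u * e b)) (b : F) :
    Good a t Q π y (ff a t Q u * e b) := by
  obtain ⟨g1, g2⟩ := hg 0
  rw [h.fld.zero, mul_one] at g1 g2
  have h1 := h.ff_mem hu h0
  by_cases hb : b = 0
  · unfold Good
    rw [hb, h.fld.zero, mul_one, h.hyp.ff_ff hu (ne_one h0), ← g1, mul_assoc, mul_comm (y u), g2,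
      mul_one]
    exact ⟨rfl, rfl⟩
  obtain ⟨k, hk, rfl⟩ := h.fld.κ_surj b hb
  have h2 := h.π_shift h1 (h.ff_notMem hu h0) hk
  have h3 := h.y_shift hc h1 (h.ff_notMem hu h0) hk
  rw [h.hyp.ff_ff hu (ne_one h0)] at h2 h3
  obtain ⟨g3, g4⟩ := hg (κ k)⁻¹
  rw [h2, h.y_mul_e hc hu, h.π_mul_e hu, map_inv₀, ← hc.T_κ k hk] at g3
  rw [h3, h.y_mul_e hc hu, map_inv₀] at g4
  unfold Good
  rw [h.y_mul_e hc h1, h.π_mul_e h1, eq_inv_of_mul_eq_one_left g2]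
  have n1 := h.y_ne hc hu (ne_one h0)
  have n2 : T (κ k) ≠ 0 := (map_ne_zero T).mpr hb
  have n3 := h.lin.two
  rw [← g1] at g3
  constructor
  · field_simp at g3 ⊢
    linear_combination g3
  · field_simp at g4 ⊢
    apply mul_left_cancel₀ n2
    linear_combination g4 - (T (κ k) * y u) * n3

theorem good_ω {ω : G} (hω : ω ∈ Q) (h0 : ω ∉ Q0 Q) (hζ : ζ ∈ WW a t Q) (hζ1 : ζ ≠ 1)
    (hf : ff a t Q ω = ζ⁻¹ * ω⁻¹ * ζ) (h1 : π ω = 1) {ρ : F} (hρ : e ρ = ω * ω)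
    (Tρ : T ρ = μ ζ + (μ ζ)⁻¹) (hcc : c * c = μ ζ + (μ ζ)⁻¹) (hh3 : hh a t Q ω = ζ ^ 3)
    (hΦ : ∀ b, π (ff a t Q (ω * e b)) * ((μ ζ)⁻¹ + T b) = 1) (b : F) :
    Good a t Q π y (ω * e b) := by
  have n3 := h.lin.two
  have hz0 := h.μ_ne hζ.1
  have hz1 := h.μ_add_one_ne hζ hζ1
  have hV := h.hyp.WW_le_VV hζ
  have hf' : ∀ b, ff a t Q ω * e b = ζ⁻¹ * (ω * e (ρ + b)) * ζ := fun b => by
    rw [hf, h.inv_eq hρ, h.fld.add]
    nth_rewrite 1 [← h.conj_e_W hζ b]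
    group
  have m1 : ∀ b, ff a t Q (ω * e b) ∈ Q := fun b =>
    h.ff_mem (h.mul_e_mem hω b) (h.mul_e_notMem h0 b)
  have k0 : ∀ b, y (ff a t Q (ff a t Q ω * e b)) = y (ff a t Q (ω * e (ρ + b))) := fun b => by
    rw [hf', h.ff_conjV (h.mul_e_mem hω _) (ne_one (h.mul_e_notMem h0 _)) hV, hc.conjζ _ (m1 _)]
  have k1 : ∀ b, b ≠ 0 → y (ff a t Q (ω * e (ρ + b⁻¹))) = T b ^ 2 * y (ff a t Q (ω * e b)) + T b :=
    fun b hb => by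
      obtain ⟨k, hk, rfl⟩ := h.fld.κ_surj b hb
      rw [← h.y_shift hc hω h0 hk, k0]
  have k2 : ∀ b, b ≠ 0 → y (ff a t Q (ω * e (ρ + b⁻¹))) = y (ff a t Q (ω * e b)) + y ω +
      (μ ζ + (μ ζ)⁻¹) * (μ ζ)⁻¹ * π (ff a t Q (ω * e b)) := fun b hb => by
    obtain ⟨k, hk, rfl⟩ := h.fld.κ_surj b hb
    have k3 := h.rel hω h0 (Subgroup.inv_mem _ hk)
    have k4 : hh a t Q ω * e (κ k) * (hh a t Q ω)⁻¹ * ff a t Q ω⁻¹ = ζ⁻¹⁻¹ * (ω * e (κ k)) * ζ⁻¹ := by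
      rw [hh3, h.ff_inv hω h0 hζ hf, ← h.e_comm hω]
      nth_rewrite 1 [← h.conj_e_W (Subgroup.pow_mem _ hζ 3) (κ k)]
      nth_rewrite 2 [← h.conj_e_W hζ (κ k)]
      group
    rw [h.fld.κ_inv hk, inv_inv, k4, h.ff_conjV (h.mul_e_mem hω _) (ne_one (h.mul_e_notMem h0 _))
      (Subgroup.inv_mem _ hV)] at k3
    have k5 := h.hyp.conj_Q (Subgroup.inv_mem _ hζ).1 (m1 (κ k))
    have k6 := hc.conjζ _ k5
    rw [show ζ⁻¹ * (ζ⁻¹⁻¹ * ff a t Q (ω * e (κ k)) * ζ⁻¹) * ζ = ff a t Q (ω * e (κ k)) by group] at k6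
    rw [← k0, k3, hc.mul _ k5 _ hω, ← k6, h.lin.conjW _ (Subgroup.inv_mem _ hζ) _ (m1 _), h1, mul_one,
      hc.c_fix, h.μ_invW hζ, ← hcc]
    ring
  have k3 : y ω = (μ ζ)⁻¹ := by
    have k4 := k1 1 one_ne_zero
    have k5 := hΦ 1
    rw [k2 1 one_ne_zero, map_one] at k4
    rw [map_one] at k5
    field_simp at k4 k5 ⊢
    apply mul_left_cancel₀ hz1
    grind
  have k4 : ∀ b, b ≠ 1 → y (ff a t Q (ω * e b)) * ((μ ζ)⁻¹ + T b) = 1 := fun b hb1 => by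
    by_cases hb : b = 0
    · have := hf' 0
      rw [h.fld.zero, mul_one] at this
      rw [hb, h.fld.zero, mul_one, this, hc.conjζ _ (h.mul_e_mem hω _), h.y_mul_e hc hω, add_zero, Tρ,
        k3, map_zero]
      field_simp
      linear_combination n3
    have k5 := k1 b hb
    have k6 := hΦ b
    have k7 : T b + 1 ≠ 0 := fun e' => hb1 (T.injective (by
      rw [map_one]; linear_combination e' - n3))
    rw [k2 b hb, k3] at k5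
    field_simp at k5 k6 ⊢
    apply mul_left_cancel₀ (pow_ne_zero 2 k7)
    apply mul_left_cancel₀ hz0
    grind
  refine ⟨by rw [h.y_mul_e hc hω, k3, hΦ, h.π_mul_e hω, h1], ?_⟩
  rw [h.y_mul_e hc hω, k3]
  by_cases hb : b = 1
  · have k5 := k4 (ρ + 1) fun e' => h0 (h.hyp.mem_Q0.mpr ⟨hω, by
      rw [← hρ, add_eq_right.mp e', h.fld.zero]⟩)
    have k6 := k1 1 one_ne_zero
    rw [inv_one] at k6
    rw [k6, map_add, Tρ, map_one] at k5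
    rw [hb, map_one]
    field_simp at k5 ⊢
    grind
  · exact k4 b hb

theorem good_all {ω : G} (hω : ω ∈ Q) (h0 : ω ∉ Q0 Q) (hg : ∀ b, Good a t Q π y (ω * e b)) {u : G}
    (hu : u ∈ Q) (h1 : u ≠ 1) : Good a t Q π y u := by
  by_cases hu0 : u ∈ Q0 Q
  · obtain ⟨b, rfl⟩ := h.fld.surj u hu0
    obtain ⟨k, hk, rfl⟩ := h.fld.κ_surj b fun e' => h1 (by rw [e', h.fld.zero])
    unfold Good
    rw [(h.ghf_e hk).2.2, h.π_e, h.π_e, hc.y_e, hc.y_e, ← map_mul,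
      inv_mul_cancel₀ (h.fld.κ_ne hk), map_one, zero_mul]
    exact ⟨rfl, rfl⟩
  by_cases hk : ∃ k ∈ KK a t, π u = μ k * π ω
  · obtain ⟨k, hk, e'⟩ := hk
    obtain ⟨b, rfl⟩ := h.exists_of_π_eq (h.hyp.conj_Q (KK_le hk) hω) hu
      (by rw [h.lin.conjK k hk ω hω, e'])
    have := h.good_conjK hc (h.mul_e_mem hω _) (ne_one (h.mul_e_notMem h0 _)) hk (hg (κ k⁻¹ * b))
    rw [← h.fld.conjK _ (Subgroup.inv_mem _ hk)] at this
    convert this using 1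
    group
  push Not at hk
  obtain ⟨x, x', k, hk, e'⟩ := h.exists_tri hω h0 hu hu0 hk
  have h2 := h.mul_e_mem hω x
  have h3 := h.mul_e_notMem h0 x
  have := h.good_conjK hc (h.mul_e_mem (h.ff_mem h2 h3) _)
    (ne_one (h.mul_e_notMem (h.ff_notMem h2 h3) _)) (Subgroup.inv_mem _ hk)
    (h.good_ff hc h2 h3 (fun b => by rw [mul_assoc, ← h.fld.add]; exact hg _) (κ k * x'))
  rw [← h.fld.conjK _ hk, e'] at this
  nth_rewrite 2 [← h.fld.inv x'] at this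
  convert this using 1
  group

theorem hh_mem (hg : ∀ u ∈ Q, u ≠ 1 → Good a t Q π y u) {v : G} (hv : v ∈ Q) (hv1 : v ≠ 1) :
    ∃ k ∈ KK a t, ∃ w ∈ WW a t Q, hh a t Q v = k * w := by
  have := h.charP
  have n3 := h.lin.two
  have hd := h.hyp.tDt (h.hyp.hh_mem hv hv1)
  have hgv := h.hyp.gg_mem hv hv1
  have hgv1 := h.hyp.gg_ne_one hv hv1
  have hvi := inv_ne_one.mpr hv1
  have e1 : gg a t Q v = (ff a t Q v⁻¹)⁻¹ := by rw [(h.hyp.ghf_inv hv hv1).2.2, inv_inv]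
  obtain ⟨g1, g2⟩ := hg _ (Q.inv_mem hv) hvi
  obtain ⟨g3, -⟩ := hg v hv hv1
  have n1 := h.y_ne hc hv hv1
  rw [h.y_inv hc hv, h.π_inv hv] at g1
  rw [h.y_inv hc hv] at g2
  have g4 : y (gg a t Q v) = (y v)⁻¹ := by
    rw [e1, h.y_inv hc (h.hyp.ff_mem (Q.inv_mem hv) hvi), eq_inv_of_mul_eq_one_left g2, inv_pow,
      h.pow_pow]
  rw [← h.π_inv (h.hyp.ff_mem (Q.inv_mem hv) hvi), ← e1] at g1
  have key : ∀ x ∈ Q, x ≠ 1 → x ≠ ff a t Q (gg a t Q v) →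
      π ((t * hh a t Q v * t)⁻¹ * x * (t * hh a t Q v * t)) = y v ^ 2 ^ n / y v ^ 2 * π x := by
    intro x hx hx1 hx2
    have h1 := h.hyp.ff_mem hx hx1
    have h2 := Q.mul_mem h1 (Q.inv_mem hgv)
    have h3 : ff a t Q x * (gg a t Q v)⁻¹ ≠ 1 := fun e' => hx2 (by
      rw [← mul_inv_eq_one.mp e', h.hyp.ff_ff hx hx1])
    have h4 := h.hyp.ff_mem h2 h3
    have h5 := h.hyp.ff_ne_one h2 h3
    have h6 := h.hyp.ff_ff h2 h3
    generalize ff a t Q (ff a t Q x * (gg a t Q v)⁻¹) = u at h4 h5 h6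
    have h7 : u * v ≠ 1 := fun e' => h.hyp.ff_ne_one hx hx1 (by
      rw [eq_inv_of_mul_eq_one_left e', (h.hyp.ghf_inv hv hv1).2.2] at h6
      exact (mul_eq_right.mp h6.symm))
    obtain ⟨-, -, -, h8⟩ := h.hyp.ghf_mul h4 h5 hv hv1 h7
    have h9 : ff a t Q u * gg a t Q v = ff a t Q x := by rw [h6, inv_mul_cancel_right]
    rw [h9, h.hyp.ff_ff hx hx1] at h8
    obtain ⟨k1, -⟩ := hg _ (Q.mul_mem h4 hv) h7
    obtain ⟨k2, k3⟩ := hg u h4 h5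
    obtain ⟨k4, -⟩ := hg _ h1 (h.hyp.ff_ne_one hx hx1)
    have n2 := h.y_ne hc (Q.mul_mem h4 hv) h7
    rw [h8, h.lin.add _ (h.hyp.conj_Q hd hx) _ (h.hyp.ff_mem hv hv1), h.lin.add u h4 v hv] at k1
    rw [h.hyp.ff_ff hx hx1, ← h9, hc.mul _ (h.hyp.ff_mem h4 h5) _ hgv,
      h.lin.add _ (h.hyp.ff_mem h4 h5) _ hgv, g4] at k4
    have k5 := hc.herm v hv
    have k6 := congrArg (· ^ 2 ^ n) g1
    simp only [mul_pow, h.pow_pow] at k6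
    rw [hc.mul u h4 v hv] at k1 n2
    simp only [mul_pow, hc.c_fix] at k1 n2 k4 k5
    have n4 := h.y_ne hc h4 h5
    rw [eq_inv_of_mul_eq_one_left k3, eq_div_of_mul_eq n4 k2, eq_div_of_mul_eq n1 k6,
      eq_div_of_mul_eq (pow_ne_zero _ n1) g1] at k4
    rw [eq_div_of_mul_eq n1 g3] at k1
    have n5 := pow_ne_zero (2 ^ n) n1
    generalize y v ^ 2 ^ n = Y at *
    generalize π v ^ 2 ^ n = X at *
    field_simp at k1 k4 ⊢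
    apply mul_left_cancel₀ n2
    linear_combination y v * k1 - k4 + (y v * π u) * k5 - (y v * π u * Y + y v * π v * y u) * n3
  have key2 : ∀ x ∈ Q,
      π ((t * hh a t Q v * t)⁻¹ * x * (t * hh a t Q v * t)) = y v ^ 2 ^ n / y v ^ 2 * π x := by
    intro x hx
    by_cases hx0 : x ∈ Q0 Q
    · rw [(h.lin.ker x hx).mpr hx0, (h.lin.ker _ (h.hyp.conj_Q hd hx)).mpr (h.hyp.conj_Q0 hd.1 hx0),
        mul_zero]
    by_cases hx2 : x = ff a t Q (gg a t Q v)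
    · have := key _ (h.mul_e_mem hx 1) (ne_one (h.mul_e_notMem hx0 1)) fun e' =>
        one_ne_zero (h.fld.eq_one_iff.mp (mul_eq_left.mp (e'.trans hx2.symm)))
      rw [h.π_mul_e hx] at this
      rw [← this, show ∀ d : G, d⁻¹ * (x * e 1) * d = d⁻¹ * x * d * (d⁻¹ * e 1 * d) from
        fun d => by group, h.lin.add _ (h.hyp.conj_Q hd hx) _ (h.hyp.conj_Q hd (h.e_mem 1)),
        (h.lin.ker _ (h.hyp.conj_Q hd (h.e_mem 1))).mpr (h.hyp.conj_Q0 hd.1 (h.fld.mem 1)), add_zero]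
    · exact key x hx (ne_one hx0) hx2
  obtain ⟨k, hk, w, hw, e2⟩ := h.hyp.exists_KV hd
  have e3 : hh a t Q v = k⁻¹ * w := by
    rw [← h.hyp.tKt hk, ← h.hyp.tVt hw, mul_assoc (t * k), mul_assoc t w, h.hyp.tt_mul,
      ← mul_assoc, mul_assoc t, ← e2]
    simp only [mul_assoc, h.hyp.tt_mul, h.hyp.tt, mul_one]
  refine ⟨_, Subgroup.inv_mem _ hk, w, h.hyp.mem_WW_iff.mpr ⟨hw, fun l hl => ?_⟩, e3⟩
  obtain ⟨ω, hω, h1⟩ := h.lin.surj 1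
  have hl' := h.hyp.conj_KK hw.1 hl
  have k1 := key2 _ (h.hyp.conj_Q (KK_le hl) hω)
  have k2 := h.lin.conjK _ hl' _ (h.hyp.conj_Q hd hω)
  rw [key2 ω hω] at k2
  rw [e2] at k1 k2
  rw [show (k * w)⁻¹ * (l⁻¹ * ω * l) * (k * w) = (l * k * w)⁻¹ * ω * (l * k * w) by group,
    h.hyp.KK_comm hl hk, show (k * l * w)⁻¹ * ω * (k * l * w) =
      (w⁻¹ * l * w)⁻¹ * ((k * w)⁻¹ * ω * (k * w)) * (w⁻¹ * l * w) by group, k2,
    h.lin.conjK l hl ω hω, h1, mul_one, mul_one, mul_comm] at k1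
  have := h.μ_injK hl' hl (mul_left_cancel₀ (div_ne_zero (pow_ne_zero _ n1) (pow_ne_zero _ n1)) k1)
  nth_rewrite 2 [← this]
  group

end

end U3

namespace Hyp

variable [Finite G]

theorem exists_U3 (hG : Hyp G Ω a t Q s r) (hC : C2 a t Q) {ω : G} (hω : ω ∈ Q) (h0 : ω ∉ Q0 Q) :
    ∃ (F E : Type) (_ : Field F) (_ : Field E) (_ : Fintype E) (e : F → G) (κ : G → F) (n : ℕ)
      (π μ : G → E), U3 a t Q s r e κ n π μ ∧ π ω = 1 := by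
  obtain ⟨F, _, _, e, κ, hF⟩ := hG.exists_fld
  obtain ⟨E, _, _, n, π, μ, hL, h1⟩ := hG.exists_lin hC hω h0
  exact ⟨F, E, inferInstance, inferInstance, inferInstance, e, κ, n, π, μ, ⟨hG, hC, hF, hL⟩, h1⟩

theorem isCyclic_KW (hG : Hyp G Ω a t Q s r) (hC : C2 a t Q) :
    IsCyclic ↥(KK a t ⊔ WW a t Q) ∧ Nat.card (WW a t Q) ∣ Nat.card (Q0 Q) + 1 := by
  obtain ⟨ω, hω, h0⟩ := hG.exists_notMem_Q0 (by norm_num) hC.card
  obtain ⟨F, E, _, _, _, e, κ, n, π, μ, h, -⟩ := hG.exists_U3 hC hω h0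
  have h1 : ∀ d ∈ KK a t ⊔ WW a t Q, ∃ k ∈ KK a t, ∃ w ∈ WW a t Q, k * w = d := fun d hd => by
    rwa [← SetLike.mem_coe, Subgroup.coe_mul_of_right_le_normalizer_left _ _
      (le_normalizer_of_conj fun w hw k hk => hG.conj_KK (WW_le hw) hk)] at hd
  let φ : ↥(KK a t ⊔ WW a t Q) →* E := ⟨⟨fun d => μ d, h.μ_one⟩, fun c d => by
    obtain ⟨k, hk, w, hw, e'⟩ := h1 d d.2
    have hc : (c : G) ∈ DD a t := sup_le KK_le WW_le c.2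
    simp only [Subgroup.coe_mul]
    rw [← e', ← mul_assoc, h.μ_mulW (Subgroup.mul_mem _ hc (KK_le hk)) hw, h.μ_mulK hc hk,
      h.μ_mulW (KK_le hk) hw, mul_assoc]⟩
  have h2 : IsCyclic ↥(KK a t ⊔ WW a t Q) := isCyclic_of_subgroup_isDomain φ
    ((injective_iff_map_eq_one _).mpr fun d hd => by
      obtain ⟨k, hk, w, hw, e'⟩ := h1 d d.2
      have h3 : μ d = 1 := hd
      rw [← e', h.μ_mulW (KK_le hk) hw] at h3
      obtain ⟨rfl, h4⟩ := h.eq_one_of_μ_eq hk (Subgroup.inv_mem _ hw) (by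
        rw [h.μ_invW hw, eq_inv_of_mul_eq_one_left h3])
      exact Subtype.ext (by rw [← e', inv_eq_one.mp h4, mul_one]; rfl))
  have h3 : IsCyclic (WW a t Q) := Subgroup.isCyclic_of_le (le_sup_right (a := KK a t))
  refine ⟨h2, ?_⟩
  rw [← IsCyclic.exponent_eq_card, h.lin.cardQ0]
  exact Monoid.exponent_dvd_of_forall_pow_eq_one fun w => Subtype.ext (h.W_pow w.2)

theorem isCyclic_WW (hG : Hyp G Ω a t Q s r) (hC : C2 a t Q) :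
    IsCyclic (WW a t Q) ∧ Nat.card (WW a t Q) ∣ Nat.card (Q0 Q) + 1 :=
  have := (hG.isCyclic_KW hC).1
  ⟨Subgroup.isCyclic_of_le (le_sup_right (a := KK a t)), (hG.isCyclic_KW hC).2⟩

/-- Chapter IV, §2 -/
theorem exists_omega (hG : Hyp G Ω a t Q s r) (hC : C2 a t Q)
    (hV : ∀ v ∈ VV a t, (orderOf v).Prime → v ∈ WW a t Q) :
    ∃ ω ∈ Q, ω * ω ≠ 1 ∧ ∃ ζ ∈ WW a t Q, ζ ≠ 1 ∧ ff a t Q ω = ζ⁻¹ * ω⁻¹ * ζ := by
  obtain ⟨ω, hω, h0⟩ := hG.exists_notMem_Q0 (by norm_num) hC.card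
  obtain ⟨F, E, _, _, _, e, κ, n, π, μ, h, -⟩ := hG.exists_U3 hC hω h0
  exact h.exists_omega hV

theorem exists_u3' (hG : Hyp G Ω a t Q s r) (hC : C2 a t Q) {ω ζ : G} (hω : ω ∈ Q)
    (hω2 : ω * ω ≠ 1) (hζ : ζ ∈ WW a t Q) (hζ1 : ζ ≠ 1) (hf : ff a t Q ω = ζ⁻¹ * ω⁻¹ * ζ) :
    (∀ v ∈ Q, v ≠ 1 → ∃ k ∈ KK a t, ∃ w ∈ WW a t Q, hh a t Q v = k * w) ∧
    ∃ (E : Type) (_ : Field E) (_ : Fintype E) (n : ℕ) (π η : G → E), 2 ≤ n ∧
      Nat.card (Q0 Q) = 2 ^ n ∧ Fintype.card E = (2 ^ n) ^ 2 ∧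
      (∀ u ∈ Q, η u + η u ^ 2 ^ n = π u ^ (2 ^ n + 1)) ∧
      (∀ u ∈ Q, ∀ v ∈ Q, π u = π v → η u = η v → u = v) ∧
      (∀ x y : E, y + y ^ 2 ^ n = x ^ (2 ^ n + 1) → ∃ u ∈ Q, π u = x ∧ η u = y) ∧
      (∀ u ∈ Q, ∀ v ∈ Q, π (u * v) = π u + π v ∧ η (u * v) = η u + η v + π u * π v ^ 2 ^ n) ∧
      (∀ u ∈ Q, u ≠ 1 → π (ff a t Q u) = π u / η u ∧ η (ff a t Q u) = (η u)⁻¹) := by
  have h0 : ω ∉ Q0 Q := fun h => hω2 (hG.mem_Q0.mp h).2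
  obtain ⟨F, E, _, _, _, e, κ, n, π, μ, h, h1⟩ := hG.exists_U3 hC hω h0
  have := h.charP
  obtain ⟨ρ, hρ⟩ := h.fld.surj _ (hG.sq_mem hC hω)
  obtain ⟨T, hT, Tρ, hh3, hΦ⟩ := h.core hω h0 hζ hζ1 hf h1 hρ
  obtain ⟨c, y, hcc, hc⟩ := h.exists_crd3 hω hζ hζ1 h1 hρ hT Tρ
  have hg : ∀ u ∈ Q, u ≠ 1 → Good a t Q π y u := fun u =>
    h.good_all hc hω h0 (h.good_ω hc hω h0 hζ hζ1 hf h1 hρ Tρ hcc hh3 hΦ)
  refine ⟨fun v => h.hh_mem hc hg, E, inferInstance, inferInstance, n, fun u => c * π u, y,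
    h.lin.two_le, h.lin.cardQ0, by rw [← Nat.card_eq_fintype_card, h.lin.cardE],
    fun u hu => by rw [hc.herm u hu, pow_succ'], fun u hu v hv e1 e2 => ?_, fun x z hz => ?_,
    fun u hu v hv => ⟨by simp only [h.lin.add u hu v hv, mul_add], hc.mul u hu v hv⟩, fun u hu hu1 => ?_⟩
  · obtain ⟨b, rfl⟩ := h.exists_of_π_eq hu hv (mul_left_cancel₀ hc.c_ne e1)
    rw [h.y_mul_e hc hu, left_eq_add, map_eq_zero] at e2
    rw [e2, h.fld.zero, mul_one]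
  · obtain ⟨u, hu, h2⟩ := h.lin.surj (x / c)
    have h3 : c * π u = x := by rw [h2, mul_div_cancel₀ _ hc.c_ne]
    have h4 := hc.herm u hu
    rw [h3, ← pow_succ', ← hz] at h4
    obtain ⟨b, hb⟩ := h.exists_T_eq hT (x := y u + z) (by
      rw [add_pow_char_pow]
      linear_combination h4 + (z ^ 2 ^ n - y u) * h.lin.two)
    refine ⟨u * e b, h.mul_e_mem hu b, by simp only [h.π_mul_e hu, h3], ?_⟩
    rw [h.y_mul_e hc hu, hb, ← add_assoc, h.add_self, zero_add]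
  · obtain ⟨g1, g2⟩ := hg u hu hu1
    refine ⟨?_, eq_inv_of_mul_eq_one_left g2⟩
    simp only
    rw [eq_div_of_mul_eq (h.y_ne hc hu hu1) g1, mul_div_assoc]

/-- Chapter IV, §§3-4: coordinates in which `Q` and `f` are those of `PSU₃(q)`. -/
theorem exists_u3 (hG : Hyp G Ω a t Q s r) (hC : C2 a t Q) {ω ζ : G} (hω : ω ∈ Q)
    (hω2 : ω * ω ≠ 1) (hζ : ζ ∈ WW a t Q) (hζ1 : ζ ≠ 1) (hf : ff a t Q ω = ζ⁻¹ * ω⁻¹ * ζ) :
    ∃ (E : Type) (_ : Field E) (_ : Fintype E) (n : ℕ) (π η : G → E), 2 ≤ n ∧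
      Nat.card (Q0 Q) = 2 ^ n ∧ Fintype.card E = (2 ^ n) ^ 2 ∧
      (∀ u ∈ Q, η u + η u ^ 2 ^ n = π u ^ (2 ^ n + 1)) ∧
      (∀ u ∈ Q, ∀ v ∈ Q, π u = π v → η u = η v → u = v) ∧
      (∀ x y : E, y + y ^ 2 ^ n = x ^ (2 ^ n + 1) → ∃ u ∈ Q, π u = x ∧ η u = y) ∧
      (∀ u ∈ Q, ∀ v ∈ Q, π (u * v) = π u + π v ∧ η (u * v) = η u + η v + π u * π v ^ 2 ^ n) ∧
      (∀ u ∈ Q, u ≠ 1 → π (ff a t Q u) = π u / η u ∧ η (ff a t Q u) = (η u)⁻¹) :=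
  (hG.exists_u3' hC hω hω2 hζ hζ1 hf).2

end Hyp

end Suz
end H8
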