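import Mathlib
import Cfsg.Agent.H8.SuzC
import Cfsg.Agent.H8.SuzU

/-! Chapter III, §1 and Chapter IV, §4: the second case. -/

set_option autoImplicit false

namespace H8
namespace Suz

open Cfsg MulAction H21.RankOne

theorem exists_pow_of_fix {F : Type*} [Field F] [Finite F] (σ τ : F ≃+* F)
    (h : ∀ x, σ x = x → τ x = x) : ∃ i : ℕ, ∀ x, τ x = (σ ^ i) x := by
  obtain ⟨⟨_, i, rfl⟩, hi⟩ := FixedPoints.toAlgAut_surjective (Subgroup.zpowers σ) F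
    (AlgEquiv.ofRingEquiv (f := τ) fun x => h x (x.2 ⟨σ, Subgroup.mem_zpowers σ⟩))
  obtain ⟨j, hj⟩ := (mem_powers_iff_mem_zpowers (x := σ)).mpr ⟨i, rfl⟩
  exact ⟨j, fun x => by rw [show σ ^ j = σ ^ i from hj]; exact (congrArg (· x) hi).symm⟩

variable {G Ω : Type*} [Group G] [Finite G] [MulAction G Ω] {a : Ω} {t : G} {Q : Subgroup G} {s r : G}

theorem exists_prime_zpowers {U : Subgroup G} (hU : U ≠ ⊥) :
    ∃ x ∈ U, (orderOf x).Prime := by
  obtain ⟨p, hp, hd⟩ := Nat.exists_prime_and_dvd (n := Nat.card U)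
    fun e => hU (Subgroup.card_eq_one.mp e)
  have := Fact.mk hp
  obtain ⟨⟨x, hx⟩, ho⟩ := exists_prime_orderOf_dvd_card' p hd
  rw [Subgroup.orderOf_mk] at ho
  exact ⟨x, hx, ho ▸ hp⟩

omit [Finite G] in
theorem mem_cent_zpowers {x y : G} :
    y ∈ Subgroup.centralizer (Subgroup.zpowers x : Set G) ↔ x * y = y * x := by
  rw [Subgroup.zpowers_eq_closure, Subgroup.centralizer_closure,
    Subgroup.mem_centralizer_singleton_iff, eq_comm]

namespace Hyp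

theorem odd_orderOf (hG : Hyp G Ω a t Q s r) {d : G} (hd : d ∈ DD a t) : Odd (orderOf d) :=
  hG.odd_D.of_dvd_nat (Subgroup.orderOf_dvd_natCard _ hd)

/-- an element of `V` centralising `C_{Q₀}(x)` lies in `⟨x⟩ W` -/
theorem exists_pow_mul_W (hG : Hyp G Ω a t Q s r) {x v : G} (hx : x ∈ VV a t) (hv : v ∈ VV a t)
    (h : ∀ z ∈ Q0 Q, x * z = z * x → z * v = v * z) : ∃ i : ℕ, (x ^ i)⁻¹ * v ∈ WW a t Q := by
  obtain ⟨F, _, _, e, κ, hF⟩ := hG.exists_fld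
  obtain ⟨σ, hσ⟩ := hF.conjV x hx
  obtain ⟨τ, hτ⟩ := hF.conjV v hv
  obtain ⟨i, hi⟩ := exists_pow_of_fix σ τ fun y hy => hF.inj (by
    rw [← hτ, mul_assoc, h _ (hF.mem y) (by
      nth_rewrite 1 [← hy]
      rw [← hσ]
      group), inv_mul_cancel_left])
  have h1 : ∀ (j : ℕ) y, (x ^ j)⁻¹ * e y * x ^ j = e ((σ ^ j) y) := fun j => by
    induction j with
    | zero => simp
    | succ j ih =>
      intro y
      rw [pow_succ σ, RingAut.mul_apply, ← ih, ← hσ]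
      group
  refine ⟨i, mem_WW.mpr ⟨(Subgroup.mul_mem _ (Subgroup.inv_mem _ (Subgroup.pow_mem _ hx i)) hv).1,
    fun z hz => ?_⟩⟩
  obtain ⟨y, rfl⟩ := hF.surj z hz
  obtain ⟨y, rfl⟩ := (σ ^ i).surjective y
  nth_rewrite 2 [← hi]
  rw [← h1, ← hτ]
  have h2 := (h1 i y).trans ((congrArg e (hi y)).symm.trans (hτ y).symm)
  calc _ = (x ^ i)⁻¹ * e y * v := by group
    _ = (x ^ i)⁻¹ * v * (v⁻¹ * e y * v) := by group

theorem fpf_of_loc (hG : Hyp G Ω a t Q s r)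
    (hL : ∀ x ∈ VV a t, (orderOf x).Prime → CentStruct a t Q r (Subgroup.zpowers x)) {d : G}
    (hd : d ∈ DD a t) (hd1 : d ≠ 1) {y : G} (hy : y ∈ Q) (ho : Odd (orderOf y))
    (h : d * y = y * d) : y = 1 := by
  by_contra hy1
  obtain ⟨_, ⟨i, rfl⟩, hp⟩ := exists_prime_zpowers (Subgroup.zpowers_ne_bot.mpr hd1)
  have hx := Subgroup.zpow_mem _ hd i
  have hc : d ^ i * y = y * d ^ i := ((show Commute d y from h).zpow_left i).eq
  obtain ⟨k, hk, h1⟩ := s1126 hG.setup {d ^ i} (by simpa using hx) ⟨a, t • a, y • t • a,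
    (ta_ne hG.setup).symm, (smul_ne_of_fix (Q_fix hG.setup hy) (ta_ne hG.setup)).symm,
    fun e => hy1 (eq_one_of_mem_Q_of_fix_b hG.setup hy e.symm), by
      rintro _ rfl
      exact ⟨hx.1, hx.2, by rw [← mul_smul, hc, mul_smul, show d ^ i • t • a = t • a from hx.2]⟩⟩
  have h2 := (hL (k * d ^ i * k⁻¹) (mem_VV.mpr ⟨Subgroup.mul_mem _ (Subgroup.mul_mem _ hk hx)
    (Subgroup.inv_mem _ hk), (h1 _ rfl).symm⟩)
    (by rwa [← MulAut.conj_apply, MulEquiv.orderOf_eq])).two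
  obtain ⟨m, hm⟩ := h2 ⟨k * y * k⁻¹, conj_mem_Q hG.setup hk.1 hy, mem_cent_zpowers.mpr (by
    simp only [mul_assoc, inv_mul_cancel_left, mul_right_inj]
    rw [← mul_assoc, hc, mul_assoc])⟩
  have h3 : y ^ 2 ^ m = 1 := by simpa using congrArg Subtype.val hm
  exact hy1 (orderOf_eq_one_iff.mp (Nat.Coprime.eq_one_of_dvd ((Nat.coprime_two_right.mpr ho).pow_right m)
    (orderOf_dvd_of_pow_eq_one h3)))

theorem sq_eq_one_of_loc (hG : Hyp G Ω a t Q s r) (h2 : IsPGroup 2 Q) {x : G} (hx : x ∈ VV a t)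
    (hp : (orderOf x).Prime) (hL : CentStruct a t Q r (Subgroup.zpowers x))
    (hc : ∀ x ∈ Q, ∀ y ∈ Q, x * y = y * x) : ∀ y ∈ Q, y * y = 1 := by
  by_contra hne
  push Not at hne
  obtain ⟨y, hy, hy2⟩ : ∃ y ∈ Q, y * y ≠ 1 ∧ y * y ∈ Q0 Q := by
    obtain ⟨y, hy, hy2⟩ := hne
    obtain ⟨m, hm⟩ := h2 ⟨y, hy⟩
    replace hm : y ^ 2 ^ m = 1 := congrArg Subtype.val hm
    induction m generalizing y with
    | zero => exact absurd (by rw [show y = 1 by simpa using hm, mul_one]) hy2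
    | succ m ih =>
      by_cases h : y * y * (y * y) = 1
      · exact ⟨y, hy, hy2, hG.mem_Q0.mpr ⟨Q.mul_mem hy hy, h⟩⟩
      · exact ih _ (Q.mul_mem hy hy) h (by rw [← pow_two, ← pow_mul, ← pow_succ', hm])
  obtain ⟨k, hk, e⟩ := hG.exists_K_conj_s hy2.2 hy2.1
  obtain ⟨u, hu, hu2⟩ : ∃ u ∈ Q, u * u = s :=
    ⟨k * y * k⁻¹, conj_mem_Q hG.setup (KK_le hk).1 hy, by
      calc _ = k * (y * y) * k⁻¹ := by group
        _ = _ := by rw [← e]; group⟩
  let f : {y // y ∈ Q ∧ y * y = s} → {y // y ∈ Q ∧ y * y = s} := fun y =>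
    ⟨x⁻¹ * y * x, hG.conj_Q hx.1 y.2.1, by
      calc _ = x⁻¹ * ((y : G) * y * x) := by group
        _ = _ := by rw [y.2.2, (hG.mem_VV_iff.mp hx).2, inv_mul_cancel_left]⟩
  have hf : ∀ (j : ℕ) y, (f^[j] y : G) = (x ^ j)⁻¹ * y * x ^ j := fun j => by
    induction j with
    | zero => simp
    | succ j ih =>
      intro y
      rw [Function.iterate_succ_apply, ih]
      simp only [f]
      group
  have hcard : Nat.card {y // y ∈ Q ∧ y * y = s} = Nat.card (Q0 Q) :=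
    (Nat.card_eq_of_bijective (fun z : Q0 Q => (⟨u * z, Q.mul_mem hu (Q0_le z.2), by
      rw [hG.sq_mul_Q0 hu z.2, hu2]⟩ : {y // y ∈ Q ∧ y * y = s}))
      ⟨fun z w e => Subtype.ext (mul_left_cancel (congrArg Subtype.val e)), fun y =>
        ⟨⟨u⁻¹ * y, hG.mem_Q0.mpr ⟨Q.mul_mem (Q.inv_mem hu) y.2.1, by
          rw [mul_assoc, ← mul_assoc (y : G), hc _ y.2.1 _ (Q.inv_mem hu), mul_assoc, y.2.2, ← hu2]
          group⟩⟩, Subtype.ext (mul_inv_cancel_left _ _)⟩⟩).symm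
  have := Fact.mk hp
  have := Fintype.ofFinite {y // y ∈ Q ∧ y * y = s}
  obtain ⟨y, hy⟩ := Equiv.Perm.exists_fixed_point_of_prime (p := orderOf x) (n := 1)
    (σ := Equiv.ofBijective f (Finite.injective_iff_bijective.mp fun y z e =>
      Subtype.ext (by simpa [f] using congrArg Subtype.val e))) (by
      obtain ⟨n, -, hn⟩ := hG.card_Q0
      rw [← Nat.card_eq_fintype_card, hcard, hn]
      intro h
      have := (Nat.prime_dvd_prime_iff_eq hp Nat.prime_two).mp (hp.dvd_of_dvd_pow h)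
      exact absurd (this ▸ hG.odd_orderOf hx.1) (by decide)) (by
      ext y
      rw [Equiv.Perm.coe_pow, pow_one]
      change (f^[orderOf x] y : G) = y
      rw [hf, pow_orderOf_eq_one]
      simp)
  have hy' : x⁻¹ * y * x = y := congrArg Subtype.val hy
  refine hG.s_ne (y.2.2.symm.trans (hL.ab (fun u hu v hv => hc u hu.1 v hv.1) y
    ⟨y.2.1, mem_cent_zpowers.mpr ?_⟩))
  nth_rewrite 1 [← hy']
  group

theorem omega_of_loc (hG : Hyp G Ω a t Q s r) (h2 : IsPGroup 2 Q) {x : G} (hx : x ∈ VV a t)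
    (hxW : x ∉ WW a t Q) (hp : (orderOf x).Prime) (hL : CentStruct a t Q r (Subgroup.zpowers x))
    (hc : Nat.card Q = Nat.card (Q0 Q) ^ 3) :
    ∃ ω ∈ Q, ω * ω ≠ 1 ∧ ∃ ζ ∈ WW a t Q, ζ ≠ 1 ∧ ff a t Q ω = ζ⁻¹ * ω⁻¹ * ζ := by
  have hP : Subgroup.zpowers x ≤ VV a t := Subgroup.zpowers_le.mpr hx
  have hp' : (Nat.card (Subgroup.zpowers x)).Prime := by rwa [Nat.card_zpowers]
  have hPW : ¬ Subgroup.zpowers x ≤ WW a t Q := fun h => hxW (h (Subgroup.mem_zpowers x))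
  have hcop : ¬ Nat.card (Subgroup.zpowers x) ∣ Nat.card Q := fun h => by
    obtain ⟨n, hn⟩ := IsPGroup.iff_card.mp h2
    rw [hn, Nat.card_zpowers] at h
    have := (Nat.prime_dvd_prime_iff_eq hp Nat.prime_two).mp (hp.dvd_of_dvd_pow h)
    exact absurd (this ▸ hG.odd_orderOf hx.1) (by decide)
  have h3 := hG.card_eq_pow_cent hP hp' hPW le_rfl (fun k hk _ h => hG.conj_Q (KK_le hk) h)
    (fun k hk _ h => hG.conj_Q (hP hk).1 h) hcop
  have h4 := hG.card_eq_pow_cent hP hp' hPW Q0_le (fun k hk _ h => hG.conj_Q0 (KK_le hk).1 h)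
    (fun k hk _ h => hG.conj_Q0 (hP hk).1.1 h) fun h => hcop (h.trans (Subgroup.card_dvd_of_le Q0_le))
  have h5 := hG.four_le_card_Q0
  rw [hc, h4, ← pow_mul, mul_comm, pow_mul] at h3
  replace h3 := Nat.pow_left_injective hp'.ne_zero h3
  have h6 : 2 ≤ Nat.card ↥(Q0 Q ⊓ Subgroup.centralizer (Subgroup.zpowers x : Set G)) := by
    by_contra h
    rw [show Nat.card ↥(Q0 Q ⊓ Subgroup.centralizer (Subgroup.zpowers x : Set G)) = 1 by
      have := Nat.card_pos (α := ↥(Q0 Q ⊓ Subgroup.centralizer (Subgroup.zpowers x : Set G)))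
      omega, one_pow] at h4
    omega
  rcases hL.card with k | ⟨k, -⟩ | ⟨-, ω, hω, hω2, ζ, hζ, k1, ⟨y, hy, k2⟩, k3⟩
  · have := Nat.pow_right_injective h6 (h3.trans (k.trans (pow_one _).symm))
    omega
  · have := Nat.pow_right_injective h6 (h3.trans k)
    omega
  obtain ⟨i, hi⟩ := hG.exists_pow_mul_W hx
    (hG.mem_VV_iff.mpr ⟨hζ.1, k1 s ⟨hG.s_mem_Q0, mem_cent_zpowers.mpr (hG.mem_VV_iff.mp hx).2.symm⟩⟩)
    fun z hz h => k1 z ⟨hz, mem_cent_zpowers.mpr h⟩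
  refine ⟨ω, hω.1, hω2, _, hi, fun e => k2 ?_, ?_⟩
  · rw [← inv_mul_eq_one.mp e]
    exact (hy.2 _ ⟨i, zpow_natCast x i⟩).symm
  · have : x ^ i * ω = ω * x ^ i := hω.2 _ ⟨i, zpow_natCast x i⟩
    rw [k3]
    calc _ = ζ⁻¹ * x ^ i * (x ^ i * ω)⁻¹ * ζ := by rw [this]; group
      _ = _ := by group

end Hyp

theorem Hyp.struct_of_C1 [IsSimpleGroup G] (hG : Hyp G Ω a t Q s r) (hL : Loc a t Q s r)
    (hV : VV a t ≠ ⊥) (hC : ∀ P : Subgroup G, P ≤ VV a t → (Nat.card P).Prime →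
      ∃ z ∈ Q0 Q ⊓ Subgroup.centralizer (P : Set G), z ≠ 1 ∧ z ≠ s) : Struct a t Q := by
  have h1 : ∀ x ∈ VV a t, (orderOf x).Prime → CentStruct a t Q r (Subgroup.zpowers x) :=
    fun x hx hp => hL _ (Subgroup.zpowers_le.mpr hx)
      (Subgroup.zpowers_ne_bot.mpr fun e => hp.ne_one (by rw [e, orderOf_one]))
      (hC _ (Subgroup.zpowers_le.mpr hx) (by rwa [Nat.card_zpowers]))
  have h2 := hG.two_group hV fun d hd hd1 y hy => hG.fpf_of_loc h1 hd hd1 hy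
  obtain ⟨x, hx, hp⟩ := exists_prime_zpowers hV
  have h3 := hG.sq_eq_one_of_loc h2 hx hp (h1 x hx hp)
  refine ⟨h2, h3, fun hc => ?_⟩
  by_cases h4 : ∀ v ∈ VV a t, (orderOf v).Prime → v ∈ WW a t Q
  · refine hG.exists_omega ⟨h2, ?_, hc, fun e => hp.ne_one ?_⟩ h4
    · by_contra h
      push Not at h
      obtain ⟨y, hy, hy0⟩ := hG.exists_notMem_Q0 (by norm_num) hc
      exact hy0 (hG.mem_Q0.mpr ⟨hy, h3 h y hy⟩)
    · rw [show x = 1 from e.le (h4 x hx hp), orderOf_one]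
  · push Not at h4
    obtain ⟨v, hv, hvp, hvW⟩ := h4
    exact hG.omega_of_loc h2 hv hvW hvp (h1 v hv hvp) hc

end Suz
end H8
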