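import Mathlib
import Cfsg.Agent.H8.SuzK
import Cfsg.Agent.H21.Suz4
import Cfsg.Agent.H21.Suz5

/-! Identification of `PSL₂(q)`. -/

set_option autoImplicit false

namespace H8
namespace Suz

open Cfsg MulAction

variable {G Ω : Type*} [Group G] [Finite G] [MulAction G Ω] {a : Ω} {t : G} {Q : Subgroup G} {s r : G}

theorem Hyp.iso_psl (hG : Hyp G Ω a t Q s r) (h : ∀ x ∈ Q, x * x = 1) :
    ∃ (F : Type) (_ : Field F) (_ : Fintype F), Fintype.card F = Nat.card (Q0 Q) ∧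
      Nonempty (LL t Q ≃* Matrix.ProjectiveSpecialLinearGroup (Fin 2) F) := by
  classical
  obtain ⟨F, _, _, e, κ, hF⟩ := hG.exists_fld
  have hQ : Q0 Q = Q := le_antisymm Q0_le fun x hx => hG.mem_Q0.mpr ⟨hx, h x hx⟩
  obtain ⟨E, hE1, hE2⟩ := H21.exists_equiv_option hG e (fun x => Q0_le (hF.mem x)) hF.inj
    fun y hy => hF.surj y (hQ.ge hy)
  refine ⟨F, inferInstance, inferInstance, by rw [← hF.card, Nat.card_eq_fintype_card], ?_⟩
  let E' : OnePoint F ≃ Ω := E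
  have hE1' : E' OnePoint.infty = a := hE1
  have hE2' : ∀ x : F, E' x = e x • t • a := hE2
  refine H21.iso_LL hG E' _ (fun y hy => ?_) ?_ ?_
  · obtain ⟨y, rfl⟩ := hF.surj y (hQ.ge hy)
    refine H21.mem_psl_of_affine (α := 1) (β := y) one_ne_zero IsSquare.one ?_ fun x => ?_
    · rw [hE1']; exact H21.RankOne.Q_fix hG.setup hy
    · rw [hE2', hE2', one_mul, add_comm, hF.add, mul_smul]
  · refine H21.mem_psl_of_inv (c := 1) one_ne_zero ⟨1, ?_⟩ ?_ ?_ fun x hx => ?_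
    · linear_combination -hF.two
    · rw [hE1', hE2', hF.zero, one_smul]
    · rw [hE1', hE2', hF.zero, one_smul, H21.RankOne.tta hG.setup]
    · obtain ⟨k, hk, rfl⟩ := hF.κ_surj x hx
      rw [hE2', hE2', hG.t_smul (Q0_le (hF.mem _)) (fun h => hx (hF.eq_one_iff.mp h)),
        ← hF.conj_s hk, (hG.ghf_Q0 (h r hG.r_mem) hk).1, one_div, ← hF.κ_inv hk,
        ← hF.conj_s (Subgroup.inv_mem _ hk), inv_inv]
  · obtain ⟨n, hn, hq⟩ := hG.card_Q0
    obtain ⟨φ⟩ := H21.pgl_iso_psl_of_even F (by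
      rw [hF.card, hq]; exact (Nat.even_pow' (by omega)).mpr even_two)
    rw [← Nat.card_congr φ.toEquiv, H21.card_pgl_two, hF.card, ← hG.card_KK, hG.card_KK, hQ]
    have := hG.card_KK
    rw [hQ] at this
    rw [← this, Nat.add_sub_cancel]
    exact le_of_eq (by ring)

end Suz
end H8
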