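import Mathlib
import Cfsg.Prelude.Def_Classical
import Cfsg.Agent.H8.SuzK
import Cfsg.Agent.H12.U3

/-! Identification of `PSU₃(q)`. -/

set_option autoImplicit false

namespace H8
namespace Suz

open Cfsg MulAction H12.U3

variable {G Ω : Type*} [Group G] [Finite G] [MulAction G Ω] {a : Ω} {t : G} {Q : Subgroup G} {s r : G}

theorem Hyp.iso_psu (hG : Hyp G Ω a t Q s r) {E : Type} [Field E] [Fintype E] {n : ℕ}
    {π η : G → E} (hn : 2 ≤ n) (hE : Fintype.card E = (2 ^ n) ^ 2)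
    (h1 : ∀ u ∈ Q, η u + η u ^ 2 ^ n = π u ^ (2 ^ n + 1))
    (h2 : ∀ u ∈ Q, ∀ v ∈ Q, π u = π v → η u = η v → u = v)
    (h3 : ∀ x y : E, y + y ^ 2 ^ n = x ^ (2 ^ n + 1) → ∃ u ∈ Q, π u = x ∧ η u = y)
    (h4 : ∀ u ∈ Q, ∀ v ∈ Q, π (u * v) = π u + π v ∧ η (u * v) = η u + η v + π u * π v ^ 2 ^ n)
    (h5 : ∀ u ∈ Q, u ≠ 1 → π (ff a t Q u) = π u / η u ∧ η (ff a t Q u) = (η u)⁻¹) :
    Nonempty (LL t Q ≃* PSU 3 E (2 ^ n)) := by
  classical
  have hchar : CharP E 2 := by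
    obtain ⟨p, k, hp, hc, hk, e⟩ := H15.exists_char_pow hE
    have : p = 2 := by
      have h : p ∣ 2 ^ n := e ▸ dvd_pow_self p hk.ne'
      exact (Nat.prime_dvd_prime_iff_eq hp Nat.prime_two).1 (hp.dvd_of_dvd_pow h)
    exact this ▸ hc
  have hq : 2 ^ n ≠ 2 := by
    have : 2 ^ 2 ≤ 2 ^ n := Nat.pow_le_pow_right (by norm_num) hn
    omega
  have hS := hG.setup
  obtain ⟨c, hc⟩ := exists_c (hF := hE)
  -- the isomorphism `Q → Uq`
  let ψ : Q →* Uq hE := MonoidHom.mk'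
    (fun u => ⟨π u, η u, by rw [H15.mul_frob, H15.frob_apply]; exact h1 u u.2⟩) fun u v => by
      ext
      · exact (h4 u u.2 v v.2).1
      · exact (h4 u u.2 v v.2).2
  have ψinj : Function.Injective ψ := fun u v h =>
    Subtype.ext (h2 u u.2 v v.2 (congrArg Uq.x h) (congrArg Uq.y h))
  have ψsurj : Function.Surjective ψ := fun b => by
    obtain ⟨u, hu, e1, e2⟩ := h3 b.x b.y (by
      have := b.rel; rwa [H15.mul_frob, H15.frob_apply] at this)
    exact ⟨⟨u, hu⟩, Uq.ext e1 e2⟩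
  have hex : ∀ ω : Ω, ω ≠ a → ∃ u : Q, (u : G) • t • a = ω := fun ω h => by
    obtain ⟨u, hu, e⟩ := H21.RankOne.exists_Q_smul_b hS h
    exact ⟨⟨u, hu⟩, e⟩
  choose! uu huu using hex
  have hne : ∀ u : Q, (u : G) • t • a ≠ a := fun u =>
    H21.RankOne.smul_ne_of_fix (H21.RankOne.Q_fix hS u.2) (H21.RankOne.ta_ne hS)
  let v : Ω → Fin 3 → E := fun ω => if ω = a then vec c 0 0 1 else pt c (ψ (uu ω))
  have va : v a = vec c 0 0 1 := if_pos rfl
  have vu : ∀ u : Q, v ((u : G) • t • a) = pt c (ψ u) := fun u => by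
    have : uu ((u : G) • t • a) = u := Subtype.ext
      (H21.RankOne.eq_of_mem_Q_of_smul_eq hS (uu _).2 u.2 (H21.RankOne.ta_ne hS) (huu _ (hne u)))
    simp only [v, if_neg (hne u), this]
  have cases : ∀ ω : Ω, ω = a ∨ ∃ u : Q, ω = (u : G) • t • a := fun ω => by
    by_cases h : ω = a
    · exact Or.inl h
    · exact Or.inr ⟨uu ω, (huu ω h).symm⟩
  have vinj : ∀ (ω ω' : Ω) (l : E), v ω = l • v ω' → ω = ω' := by
    intro ω ω' l h
    rcases cases ω with rfl | ⟨u, rfl⟩ <;> rcases cases ω' with rfl | ⟨u', rfl⟩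
    · rfl
    · rw [va, vu, pt, smul_vec] at h
      obtain ⟨e1, -, e3⟩ := vec_inj h
      have : l = 0 := by simpa using e1.symm
      simp [this] at e3
    · rw [va, vu, pt, smul_vec] at h
      simpa using (vec_inj h).1
    · rw [vu, vu, pt, pt, smul_vec] at h
      obtain ⟨e1, e2, e3⟩ := vec_inj h
      have hl : l = 1 := by simpa using e1.symm
      rw [hl, one_mul] at e2 e3
      rw [ψinj (Uq.ext ((H15.frob hE).injective e2) e3)]
  let R0 : G → SU 3 E (2 ^ n) → Prop := fun g M => ∀ ω, ∃ l : E, act M (v ω) = l • v (g • ω)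
  have R0mul : ∀ g g' M M', R0 g M → R0 g' M' → R0 (g * g') (M * M') := by
    intro g g' M M' h h' ω
    obtain ⟨l', e'⟩ := h' ω
    obtain ⟨l, e⟩ := h (g' • ω)
    exact ⟨l' * l, by rw [act_mul, e', act_smul, e, smul_smul, mul_smul g]⟩
  have vne : ∀ ω, v ω ≠ 0 := fun ω h => by
    have h0 : (0 : Fin 3 → E) = vec c 0 0 0 := by ext i; fin_cases i <;> simp [vec]
    rw [h0] at h
    rcases cases ω with rfl | ⟨u, rfl⟩
    · rw [va] at h; simpa using (vec_inj h).2.2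
    · rw [vu, pt] at h; simpa using (vec_inj h).1
  have R0inv : ∀ g M, R0 g M → R0 g⁻¹ M⁻¹ := by
    intro g M h ω
    obtain ⟨l, e⟩ := h (g⁻¹ • ω)
    rw [smul_inv_smul] at e
    have e' := congrArg (act M⁻¹) e
    rw [act_inv_act, act_smul] at e'
    have hl : l ≠ 0 := by
      rintro rfl
      exact vne _ (by rw [e', zero_smul])
    exact ⟨l⁻¹, by rw [eq_inv_smul_iff₀ hl, e']⟩
  have R0Q : ∀ u : Q, R0 u (toSU (ψ u)) := fun u ω => by
    refine ⟨1, ?_⟩
    rcases cases ω with rfl | ⟨u', rfl⟩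
    · rw [H21.RankOne.Q_fix hS u.2, va, act_toSU_e, one_smul]
    · rw [← mul_smul (u : G), ← Subgroup.coe_mul, vu, vu, act_toSU_pt, map_mul, one_smul]
  have vb : v (t • a) = vec c 1 0 0 := by
    have := vu 1
    rwa [Subgroup.coe_one, one_smul, map_one, pt_one] at this
  have R0t : R0 t (tSU hc) := fun ω => by
    rcases cases ω with rfl | ⟨u, rfl⟩
    · exact ⟨1, by rw [va, vb, act_tSU, one_smul]⟩
    · by_cases hu : u = 1
      · subst hu
        exact ⟨1, by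
          rw [Subgroup.coe_one, one_smul, H21.RankOne.tta hS, va, vb, act_tSU, one_smul]⟩
      · have hu' : (u : G) ≠ 1 := fun h => hu (Subtype.ext h)
        have hi : (u : G)⁻¹ ≠ 1 := inv_ne_one.2 hu'
        have hy : (ψ u).y ≠ 0 := y_ne_zero fun h => hu (ψinj (by rw [h, map_one]))
        have hy' : H15.frob hE (ψ u).y ≠ 0 := (map_ne_zero _).2 hy
        let f : Q := ⟨ff a t Q (u : G)⁻¹, hG.ff_mem (Q.inv_mem u.2) hi⟩
        have e1 : gg a t Q u = ((f⁻¹ : Q) : G) := by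
          show _ = (ff a t Q (u : G)⁻¹)⁻¹
          rw [(hG.ghf_inv u.2 hu').2.2, inv_inv]
        have fx : (ψ f).x = (ψ u).x / H15.frob hE (ψ u).y := by
          have := (h5 _ (Q.inv_mem u.2) hi).1
          have k1 : π (u : G)⁻¹ = (ψ u⁻¹).x := rfl
          have k2 : η (u : G)⁻¹ = (ψ u⁻¹).y := rfl
          rw [k1, k2, map_inv, inv_x, inv_y] at this
          exact this
        have fy : (ψ f).y = (H15.frob hE (ψ u).y)⁻¹ := by
          have := (h5 _ (Q.inv_mem u.2) hi).2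
          have k2 : η (u : G)⁻¹ = (ψ u⁻¹).y := rfl
          rw [k2, map_inv, inv_y] at this
          exact this
        refine ⟨(ψ u).y, ?_⟩
        rw [hG.t_smul u.2 hu', e1, vu, vu, map_inv, pt, pt, act_tSU, smul_vec, inv_x, inv_y, fx, fy]
        simp only [map_div₀, map_inv₀, ss]
        congr 1 <;> field_simp
  have R0ex : ∀ g ∈ LL t Q, ∃ M, R0 g M := by
    let S : Subgroup G :=
      { carrier := {g | ∃ M, R0 g M}
        one_mem' := ⟨1, fun ω => ⟨1, by rw [act_one, one_smul, one_smul]⟩⟩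
        mul_mem' := fun ⟨M, h⟩ ⟨M', h'⟩ => ⟨_, R0mul _ _ _ _ h h'⟩
        inv_mem' := fun ⟨M, h⟩ => ⟨_, R0inv _ _ h⟩ }
    have : LL t Q ≤ S := sup_le (fun u hu => ⟨_, R0Q ⟨u, hu⟩⟩)
      (Subgroup.zpowers_le.2 ⟨_, R0t⟩)
    exact fun g hg => this hg
  have R0one : ∀ M, R0 1 M → M ∈ Subgroup.center _ := fun M h => by
    refine mem_center_of_fix hc ?_ fun b => ?_
    · have := h a
      rwa [one_smul, va] at this
    · obtain ⟨u, rfl⟩ := ψsurj b
      have := h ((u : G) • t • a)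
      rwa [one_smul, vu] at this
  have R0uniq : ∀ g M M', R0 g M → R0 g M' →
      (QuotientGroup.mk M : PSU 3 E (2 ^ n)) = QuotientGroup.mk M' := fun g M M' h h' => by
    refine QuotientGroup.eq.2 (R0one _ ?_)
    have := R0mul _ _ _ _ (R0inv _ _ h) h'
    rwa [inv_mul_cancel] at this
  choose M hM using fun g : LL t Q => R0ex g g.2
  let φ : LL t Q →* PSU 3 E (2 ^ n) := MonoidHom.mk' (fun g => QuotientGroup.mk (M g)) fun g g' => by
    rw [← QuotientGroup.mk_mul]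
    exact R0uniq _ _ _ (hM _) (R0mul _ _ _ _ (hM g) (hM g'))
  refine ⟨MulEquiv.ofBijective φ ⟨(injective_iff_map_eq_one φ).2 fun g hg => ?_, ?_⟩⟩
  · have hz : M g ∈ Subgroup.center _ := (QuotientGroup.eq_one_iff _).1 hg
    obtain ⟨l, k1, k2⟩ := fix_of_mem_center hc hz
    have hv : ∀ ω, act (M g) (v ω) = l • v ω := fun ω => by
      rcases cases ω with rfl | ⟨u, rfl⟩
      · rw [va, k1]
      · rw [vu, k2]
    have hl := (act_w hc k1).1
    refine Subtype.ext (hG.faithful _ fun ω => ?_)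
    obtain ⟨l', e⟩ := hM g ω
    rw [hv] at e
    exact (vinj _ _ (l⁻¹ * l') (by rw [mul_smul, ← e, inv_smul_smul₀ hl])).symm
  · have : φ.range.comap (QuotientGroup.mk' _) = ⊤ := by
      refine eq_top hc hq (fun b => ?_) ?_ fun z hz => ?_
      · obtain ⟨u, rfl⟩ := ψsurj b
        exact ⟨⟨u, le_LL u.2⟩, R0uniq _ _ _ (hM _) (R0Q u)⟩
      · exact ⟨⟨t, t_mem_LL⟩, R0uniq _ _ _ (hM _) R0t⟩
      · have : QuotientGroup.mk' _ z = 1 := (QuotientGroup.eq_one_iff _).2 hz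
        rw [Subgroup.mem_comap, this]
        exact Subgroup.one_mem _
    intro k
    obtain ⟨z, rfl⟩ := QuotientGroup.mk'_surjective _ k
    have h : z ∈ φ.range.comap (QuotientGroup.mk' _) := this ▸ Subgroup.mem_top z
    exact h

end Suz
end H8
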