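import Mathlib

/-!
Matrices of prime order acting irreducibly (Singer-cycle situation): centralisers are cyclic and
at most `n` conjugates commute with the matrix. Also a counting lemma for TI subgroups.
-/

set_option autoImplicit false

namespace H8

open Polynomial Matrix

universe u

section

variable {F : Type u} [Field F] [Finite F] {n : ℕ}

theorem minpoly_irreducible_of_prime_order (g : Matrix (Fin n) (Fin n) F) {p : ℕ}
    (hp : p.Prime) (hpF : (p : F) ≠ 0) (hd : ∀ d, 0 < d → d < n → ¬ p ∣ Nat.card F ^ d - 1)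
    (h1 : g ^ p = 1) (h2 : g ≠ 1) :
    Irreducible (minpoly F g) ∧ (minpoly F g).natDegree = n := by
  classical
  have hint : IsIntegral F g := Algebra.IsIntegral.isIntegral g
  have hn : Nontrivial (Matrix (Fin n) (Fin n) F) := ⟨⟨g, 1, h2⟩⟩
  have hμ := minpoly.monic hint
  let Φ : F[X] := ∑ i ∈ Finset.range p, X ^ i
  have hΦ : (X - 1) * Φ = X ^ p - 1 := mul_geom_sum X p
  have hdvd : minpoly F g ∣ (X - 1) * Φ := by
    rw [hΦ]
    apply minpoly.dvd
    simp [h1]
  have hncop : ¬ IsCoprime (minpoly F g) Φ := by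
    intro h
    obtain ⟨c, hc⟩ := h.dvd_of_dvd_mul_right hdvd
    have := congrArg (aeval g) hc
    simp only [map_sub, aeval_X, map_one, map_mul, minpoly.aeval, zero_mul] at this
    exact h2 (sub_eq_zero.mp this)
  rw [← EuclideanDomain.gcd_isUnit_iff] at hncop
  obtain ⟨π₀, hπ₀, hπ₀d⟩ := WfDvdMonoid.exists_irreducible_factor hncop
    (by rw [Ne, EuclideanDomain.gcd_eq_zero_iff]; exact fun h => hμ.ne_zero h.1)
  let π := normalize π₀
  have hπ : Irreducible π := (normalize_associated π₀).symm.irreducible hπ₀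
  have hπm : π.Monic := monic_normalize hπ₀.ne_zero
  have hπ1 : π ∣ minpoly F g :=
    (normalize_associated π₀).dvd.trans (hπ₀d.trans (EuclideanDomain.gcd_dvd_left _ _))
  have hπ2 : π ∣ Φ :=
    (normalize_associated π₀).dvd.trans (hπ₀d.trans (EuclideanDomain.gcd_dvd_right _ _))
  have : Fact (Irreducible π) := ⟨hπ⟩
  let pb := AdjoinRoot.powerBasis hπ.ne_zero
  have hfin : Module.Finite F (AdjoinRoot π) := pb.finite
  have hcard : Nat.card (AdjoinRoot π) = Nat.card F ^ π.natDegree := by
    rw [Module.natCard_eq_pow_finrank (K := F), pb.finrank]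
    rfl
  have hfin' : Finite (AdjoinRoot π) := Module.finite_of_finite F
  let ζ := AdjoinRoot.root π
  have hζΦ : aeval ζ Φ = 0 := by
    obtain ⟨c, hc⟩ := hπ2
    rw [hc, map_mul, AdjoinRoot.aeval_eq, AdjoinRoot.mk_self, zero_mul]
  have hζp : ζ ^ p = 1 := by
    have := congrArg (aeval ζ) hΦ
    rw [map_mul, hζΦ, mul_zero] at this
    simp only [map_sub, map_pow, aeval_X, map_one] at this
    exact (sub_eq_zero.mp this.symm)
  have hζ1 : ζ ≠ 1 := by
    intro h
    rw [h] at hζΦ
    simp only [Φ, map_sum, map_pow, aeval_X, one_pow, Finset.sum_const, Finset.card_range,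
      nsmul_eq_mul, mul_one] at hζΦ
    apply hpF
    apply (algebraMap F (AdjoinRoot π)).injective
    simpa using hζΦ
  have hζ0 : ζ ≠ 0 := by
    intro h
    rw [h, zero_pow hp.ne_zero] at hζp
    exact zero_ne_one hζp
  have : Fact p.Prime := ⟨hp⟩
  have hord : orderOf ζ = p := orderOf_eq_prime hζp hζ1
  have hpd : p ∣ Nat.card F ^ π.natDegree - 1 := by
    have := Fintype.ofFinite (AdjoinRoot π)
    rw [← hord, ← hcard, Nat.card_eq_fintype_card]
    exact orderOf_dvd_of_pow_eq_one (FiniteField.pow_card_sub_one_eq_one ζ hζ0)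
  have hge : n ≤ π.natDegree := by
    by_contra h
    exact hd _ hπ.natDegree_pos (by omega) hpd
  have hle : (minpoly F g).natDegree ≤ n := by
    have := natDegree_le_of_dvd (Matrix.minpoly_dvd_charpoly g) g.charpoly_monic.ne_zero
    rwa [Matrix.charpoly_natDegree_eq_dim, Fintype.card_fin] at this
  have heq : minpoly F g = π := eq_of_monic_of_dvd_of_natDegree_le hπm hμ hπ1 (by omega)
  refine ⟨heq ▸ hπ, le_antisymm hle (heq ▸ hge)⟩

omit [Finite F] in
theorem exists_field_centralizer (g : Matrix (Fin n) (Fin n) F)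
    (hirr : Irreducible (minpoly F g)) (hdeg : (minpoly F g).natDegree = n) :
    ∃ (K : Type u) (_ : Field K) (_ : Algebra F K) (φ : K →ₐ[F] Matrix (Fin n) (Fin n) F),
      Function.Injective φ ∧ ∀ c, c * g = g * c → ∃ k, φ k = c := by
  have : Fact (Irreducible (minpoly F g)) := ⟨hirr⟩
  have hn : 0 < n := hdeg ▸ hirr.natDegree_pos
  have : Nonempty (Fin n) := ⟨⟨0, hn⟩⟩
  let φ : AdjoinRoot (minpoly F g) →ₐ[F] Matrix (Fin n) (Fin n) F :=
    Ideal.Quotient.liftₐ (Ideal.span {minpoly F g}) (aeval g) (by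
      intro a ha
      obtain ⟨c, rfl⟩ := Ideal.mem_span_singleton'.mp ha
      simp)
  have hφ : ∀ a, φ (AdjoinRoot.mk _ a) = aeval g a := fun a => rfl
  refine ⟨AdjoinRoot (minpoly F g), inferInstance, inferInstance, φ, φ.toRingHom.injective, ?_⟩
  intro c hc
  have hcomm : ∀ k, c * φ k = φ k * c := by
    intro k
    obtain ⟨a, rfl⟩ := AdjoinRoot.mk_surjective k
    rw [hφ]
    induction a using Polynomial.induction_on' with
    | add a b ha hb => simp [mul_add, add_mul, ha, hb]
    | monomial k a =>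
      have : Commute c (g ^ k) := Commute.pow_right hc k
      simp [aeval_monomial, Algebra.algebraMap_eq_smul_one, this.eq]
  let e : Fin n → F := Pi.single ⟨0, hn⟩ 1
  have he : e ≠ 0 := by
    intro h
    have := congrFun h ⟨0, hn⟩
    simp [e] at this
  let ψ : AdjoinRoot (minpoly F g) →ₗ[F] (Fin n → F) :=
    { toFun := fun k => φ k *ᵥ e
      map_add' := fun a b => by simp [Matrix.add_mulVec]
      map_smul' := fun a b => by simp [Matrix.smul_mulVec] }
  have hψ : ∀ k, ψ k = φ k *ᵥ e := fun k => rfl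
  have hinj : Function.Injective ψ := by
    rw [injective_iff_map_eq_zero]
    intro k hk
    by_contra h
    apply he
    have : φ k⁻¹ *ᵥ (φ k *ᵥ e) = e := by
      rw [Matrix.mulVec_mulVec, ← map_mul, inv_mul_cancel₀ h, map_one, Matrix.one_mulVec]
    rw [← this, ← hψ, hk, Matrix.mulVec_zero]
  let pb := AdjoinRoot.powerBasis hirr.ne_zero
  have hfin : Module.Finite F (AdjoinRoot (minpoly F g)) := pb.finite
  have hsurj : Function.Surjective ψ := by
    rw [← LinearMap.injective_iff_surjective_of_finrank_eq_finrank]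
    · exact hinj
    · rw [pb.finrank, Module.finrank_fin_fun]
      exact hdeg
  obtain ⟨k, hk⟩ := hsurj (c *ᵥ e)
  refine ⟨k, ?_⟩
  apply Matrix.toLin'.injective
  refine LinearMap.ext fun v => ?_
  obtain ⟨a, rfl⟩ := hsurj v
  rw [Matrix.toLin'_apply, Matrix.toLin'_apply, hψ, Matrix.mulVec_mulVec, Matrix.mulVec_mulVec,
    hcomm, ← map_mul, mul_comm, map_mul, ← Matrix.mulVec_mulVec, ← Matrix.mulVec_mulVec, ← hψ, hk]

variable {G : Type*} [Group G] [Finite G]

omit [Finite F] in
theorem isCyclic_centralizer_of_irreducible (ρ : G →* Matrix (Fin n) (Fin n) F)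
    (hρ : Function.Injective ρ) (g : G) (hirr : Irreducible (minpoly F (ρ g)))
    (hdeg : (minpoly F (ρ g)).natDegree = n) :
    IsCyclic (Subgroup.centralizer ({g} : Set G)) := by
  obtain ⟨K, _, _, φ, hφ, h⟩ := exists_field_centralizer (ρ g) hirr hdeg
  have key : ∀ c : Subgroup.centralizer ({g} : Set G), ∃ k, φ k = ρ c := by
    intro c
    apply h
    rw [← map_mul, ← map_mul, Subgroup.mem_centralizer_singleton_iff.mp c.2]
  choose f hf using key
  let f' : Subgroup.centralizer ({g} : Set G) →* K :=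
    { toFun := f
      map_one' := hφ (by simp [hf])
      map_mul' := fun a b => hφ (by simp [hf]) }
  apply isCyclic_of_injective_ringHom f'
  intro a b hab
  apply Subtype.ext
  apply hρ
  rw [← hf, ← hf]
  exact congrArg φ hab

omit [Finite F] [Finite G] in
theorem ncard_conj_commute_le (ρ : G →* Matrix (Fin n) (Fin n) F)
    (hρ : Function.Injective ρ) (g : G) (hirr : Irreducible (minpoly F (ρ g)))
    (hdeg : (minpoly F (ρ g)).natDegree = n) :
    {y : G | IsConj g y ∧ y * g = g * y}.ncard ≤ n := by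
  classical
  obtain ⟨K, _, _, φ, hφ, h⟩ := exists_field_centralizer (ρ g) hirr hdeg
  have key : ∀ y : G, ∃ k, y * g = g * y → φ k = ρ y := by
    intro y
    by_cases hy : y * g = g * y
    · obtain ⟨k, hk⟩ := h (ρ y) (by rw [← map_mul, ← map_mul, hy])
      exact ⟨k, fun _ => hk⟩
    · exact ⟨0, fun h => absurd h hy⟩
  choose f hf using key
  have h1 : {y : G | IsConj g y ∧ y * g = g * y}.ncard ≤
      (((minpoly F (ρ g)).aroots K).toFinset : Set K).ncard := by
    apply Set.ncard_le_ncard_of_injOn f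
    · rintro y ⟨hy1, hy2⟩
      obtain ⟨x, rfl⟩ := isConj_iff.mp hy1
      simp only [Finset.mem_coe, Multiset.mem_toFinset, mem_aroots]
      refine ⟨hirr.ne_zero, hφ ?_⟩
      rw [← aeval_algHom_apply, hf _ hy2, map_zero]
      have hx : ρ x * ρ x⁻¹ = 1 := by rw [← map_mul, mul_inv_cancel, map_one]
      have hx' : ρ x⁻¹ * ρ x = 1 := by rw [← map_mul, inv_mul_cancel, map_one]
      have : ∀ a : F[X], aeval (ρ (x * g * x⁻¹)) a = ρ x * aeval (ρ g) a * ρ x⁻¹ := by
        intro a
        induction a using Polynomial.induction_on' with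
        | add a b ha hb => simp only [map_add, mul_add, add_mul, ha, hb]
        | monomial k a =>
          rw [aeval_monomial, aeval_monomial, ← map_pow, conj_pow, map_mul, map_mul, map_pow]
          simp [Algebra.algebraMap_eq_smul_one]
      rw [this, minpoly.aeval, mul_zero, zero_mul]
    · rintro y ⟨-, hy⟩ z ⟨-, hz⟩ e
      apply hρ
      rw [← hf y hy, ← hf z hz, e]
  refine h1.trans ?_
  rw [Set.ncard_coe_finset]
  refine (Multiset.toFinset_card_le _).trans ((card_roots' _).trans ?_)
  rw [natDegree_map, hdeg]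

end

section

variable {G : Type*} [Group G] [Finite G]

/-- Counting the non-identity elements conjugate into a TI subgroup `A` with normaliser `N`. -/
theorem card_conj_mul_card (A N : Subgroup G) (h1 : ∀ x ∈ N, ∀ a ∈ A, x * a * x⁻¹ ∈ A)
    (h2 : ∀ x, ∀ a ∈ A, a ≠ 1 → x * a * x⁻¹ ∈ A → x ∈ N) :
    Nat.card {g : G // g ≠ 1 ∧ ∃ x, x * g * x⁻¹ ∈ A} * Nat.card N =
      Nat.card G * (Nat.card A - 1) := by
  classical
  have hc : ∀ g : {g : G // g ≠ 1 ∧ ∃ x, x * g * x⁻¹ ∈ A}, ∃ x, x * (g : G) * x⁻¹ ∈ A :=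
    fun g => g.2.2
  choose c hc using hc
  let f : {g : G // g ≠ 1 ∧ ∃ x, x * g * x⁻¹ ∈ A} × N → G × {a : A // a ≠ 1} := fun p =>
    (p.2 * c p.1, ⟨⟨p.2 * (c p.1 * p.1 * (c p.1)⁻¹) * (p.2 : G)⁻¹, h1 _ p.2.2 _ (hc p.1)⟩, by
      intro h
      have h := congrArg Subtype.val h
      simp only [OneMemClass.coe_one, conj_eq_one_iff] at h
      exact p.1.2.1 h⟩)
  have hf : Function.Bijective f := by
    constructor
    · rintro ⟨g, n⟩ ⟨g', n'⟩ h
      have e1 : (n : G) * c g = n' * c g' := congrArg Prod.fst h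
      have e2 : (n : G) * (c g * g * (c g)⁻¹) * (n : G)⁻¹ =
          n' * (c g' * g' * (c g')⁻¹) * (n' : G)⁻¹ :=
        congrArg (fun p : G × {a : A // a ≠ 1} => ((p.2 : A) : G)) h
      have e3 : (g : G) = g' := by
        have : (n * c g) * (g : G) * (n * c g)⁻¹ = (n' * c g') * (g' : G) * (n' * c g')⁻¹ := by
          simpa [mul_assoc] using e2
        rw [e1] at this
        simpa using this
      obtain rfl : g = g' := Subtype.ext e3
      obtain rfl : n = n' := Subtype.ext (mul_right_cancel e1)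
      rfl
    · rintro ⟨x, ⟨a, ha⟩, ha1⟩
      have ha1' : a ≠ 1 := fun h => ha1 (Subtype.ext h)
      let g : {g : G // g ≠ 1 ∧ ∃ x, x * g * x⁻¹ ∈ A} :=
        ⟨x⁻¹ * a * x, by
          intro h
          apply ha1'
          calc a = x * (x⁻¹ * a * x) * x⁻¹ := by group
            _ = 1 := by rw [h]; group, x, by simpa [mul_assoc] using ha⟩
      have hn : c g * x⁻¹ ∈ N := by
        apply h2 _ a ha ha1'
        have := hc g
        simpa [g, mul_assoc] using this
      refine ⟨(g, ⟨(c g * x⁻¹)⁻¹, N.inv_mem hn⟩), ?_⟩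
      apply Prod.ext
      · simp [f]
      · apply Subtype.ext
        apply Subtype.ext
        simp [f, g, mul_assoc]
  have := Nat.card_eq_of_bijective f hf
  rw [Nat.card_prod, Nat.card_prod] at this
  rw [this]
  congr 1
  have := Fintype.ofFinite A
  simp [Nat.card_eq_fintype_card, Fintype.card_subtype_compl]

/-- The index of the centraliser of `g` in a subgroup `N` normalising the centraliser is bounded
by the number of conjugates of `g` commuting with `g`. -/
theorem card_normalizer_le (g : G) :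
    ∃ k ≤ {y : G | IsConj g y ∧ y * g = g * y}.ncard,
      Nat.card (Subgroup.normalizer (Subgroup.centralizer ({g} : Set G) : Set G)) =
        k * Nat.card (Subgroup.centralizer ({g} : Set G)) := by
  set A := Subgroup.centralizer ({g} : Set G)
  set N := Subgroup.normalizer (A : Set G)
  have hAN : A ≤ N := Subgroup.le_normalizer
  letI : MulAction N G := MulAction.compHom G (MulAut.conj.comp N.subtype)
  have hsm : ∀ (x : N) (y : G), x • y = x * y * (x : G)⁻¹ := fun x y => rfl
  have hst : MulAction.stabilizer N g = A.subgroupOf N := by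
    ext x
    rw [MulAction.mem_stabilizer_iff, hsm, Subgroup.mem_subgroupOf,
      Subgroup.mem_centralizer_singleton_iff, mul_inv_eq_iff_eq_mul]
  refine ⟨(A.subgroupOf N).index, ?_, ?_⟩
  · rw [← hst, MulAction.index_stabilizer]
    apply Set.ncard_le_ncard _ (Set.toFinite _)
    rintro _ ⟨x, rfl⟩
    refine ⟨isConj_iff.mpr ⟨x, rfl⟩, ?_⟩
    have hg : g ∈ A := Subgroup.mem_centralizer_singleton_iff.mpr rfl
    have := (Subgroup.mem_normalizer_iff.mp x.2 g).mp hg
    exact Subgroup.mem_centralizer_singleton_iff.mp this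
  · rw [← (A.subgroupOf N).index_mul_card,
      Nat.card_congr (Subgroup.subgroupOfEquivOfLe hAN).toEquiv]

end

end H8
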