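import Mathlib

/-!
Groups generated by a family of involutions: length, the exchange condition, deletion,
Matsumoto's lemma and the Coxeter presentation.
-/

set_option autoImplicit false

namespace H8

/-- A family `σ` of elements of square one generating the group `W`. -/
structure GenSys (I : Type*) (W : Type*) [Group W] where
  σ : I → W
  sq : ∀ i, σ i * σ i = 1
  gen : ∀ w, ∃ l : List I, (l.map σ).prod = w

namespace GenSys

variable {I : Type*} {W : Type*} [Group W] (D : GenSys I W)

/-- The product of a word. -/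
def π (l : List I) : W := (l.map D.σ).prod

@[simp] theorem π_nil : D.π [] = 1 := rfl

@[simp] theorem π_cons (i : I) (l : List I) : D.π (i :: l) = D.σ i * D.π l := by
  simp [π]

@[simp] theorem π_append (l l' : List I) : D.π (l ++ l') = D.π l * D.π l' := by
  simp [π]

theorem π_singleton (i : I) : D.π [i] = D.σ i := by simp

theorem σ_inv (i : I) : (D.σ i)⁻¹ = D.σ i :=
  inv_eq_of_mul_eq_one_right (D.sq i)

@[simp] theorem σ_σ_mul (i : I) (w : W) : D.σ i * (D.σ i * w) = w := by
  rw [← mul_assoc, D.sq, one_mul]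

@[simp] theorem mul_σ_σ (i : I) (w : W) : w * D.σ i * D.σ i = w := by
  rw [mul_assoc, D.sq, mul_one]

theorem π_reverse (l : List I) : D.π l.reverse = (D.π l)⁻¹ := by
  induction l with
  | nil => simp
  | cons i l ih => simp [ih, D.σ_inv]

theorem exists_len (w : W) : ∃ n : ℕ, ∃ l : List I, D.π l = w ∧ l.length = n := by
  obtain ⟨l, hl⟩ := D.gen w
  exact ⟨_, l, hl, rfl⟩

open Classical in
/-- The length of an element. -/
noncomputable def len (w : W) : ℕ := Nat.find (D.exists_len w)

theorem exists_reduced (w : W) : ∃ l : List I, D.π l = w ∧ l.length = D.len w := by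
  classical
  exact Nat.find_spec (D.exists_len w)

theorem len_le (l : List I) : D.len (D.π l) ≤ l.length := by
  classical
  exact Nat.find_min' (D.exists_len _) ⟨l, rfl, rfl⟩

@[simp] theorem len_one : D.len 1 = 0 := by
  simpa using D.len_le []

theorem len_eq_zero_iff {w : W} : D.len w = 0 ↔ w = 1 := by
  constructor
  · intro h
    obtain ⟨l, hl, hl'⟩ := D.exists_reduced w
    rw [h, List.length_eq_zero_iff] at hl'
    subst hl'
    simpa using hl.symm
  · rintro rfl
    simp

theorem len_mul_le (w w' : W) : D.len (w * w') ≤ D.len w + D.len w' := by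
  obtain ⟨l, rfl, hl⟩ := D.exists_reduced w
  obtain ⟨l', rfl, hl'⟩ := D.exists_reduced w'
  have := D.len_le (l ++ l')
  simp only [π_append, List.length_append] at this
  omega

theorem len_σ_le (i : I) : D.len (D.σ i) ≤ 1 := by
  simpa using D.len_le [i]

theorem len_σ_mul_le (i : I) (w : W) : D.len (D.σ i * w) ≤ D.len w + 1 := by
  have := D.len_mul_le (D.σ i) w
  have := D.len_σ_le i
  omega

theorem len_le_σ_mul (i : I) (w : W) : D.len w ≤ D.len (D.σ i * w) + 1 := by
  simpa using D.len_σ_mul_le i (D.σ i * w)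

theorem len_mul_σ_le (i : I) (w : W) : D.len (w * D.σ i) ≤ D.len w + 1 := by
  have := D.len_mul_le w (D.σ i)
  have := D.len_σ_le i
  omega

theorem len_le_mul_σ (i : I) (w : W) : D.len w ≤ D.len (w * D.σ i) + 1 := by
  simpa using D.len_mul_σ_le i (w * D.σ i)

theorem len_inv_le (w : W) : D.len w⁻¹ ≤ D.len w := by
  obtain ⟨l, rfl, hl⟩ := D.exists_reduced w
  have := D.len_le l.reverse
  rw [D.π_reverse, List.length_reverse] at this
  omega

@[simp] theorem len_inv (w : W) : D.len w⁻¹ = D.len w :=
  le_antisymm (D.len_inv_le w) (by simpa using D.len_inv_le w⁻¹)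

/-- A word is reduced if its length is the length of its product. -/
def Reduced (l : List I) : Prop := D.len (D.π l) = l.length

theorem Reduced.left {D : GenSys I W} {l l' : List I} (h : D.Reduced (l ++ l')) : D.Reduced l := by
  unfold Reduced at *
  have h1 := D.len_le l
  have h2 := D.len_le l'
  have h3 := D.len_mul_le (D.π l) (D.π l')
  simp only [π_append, List.length_append] at h
  omega

theorem Reduced.right {D : GenSys I W} {l l' : List I} (h : D.Reduced (l ++ l')) :
    D.Reduced l' := by
  unfold Reduced at *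
  have h1 := D.len_le l
  have h2 := D.len_le l'
  have h3 := D.len_mul_le (D.π l) (D.π l')
  simp only [π_append, List.length_append] at h
  omega

theorem Reduced.tail {D : GenSys I W} {i : I} {l : List I} (h : D.Reduced (i :: l)) :
    D.Reduced l := Reduced.right (l := [i]) h

theorem Reduced.reverse {D : GenSys I W} {l : List I} (h : D.Reduced l) :
    D.Reduced l.reverse := by
  unfold Reduced at *
  rw [D.π_reverse, D.len_inv, List.length_reverse, h]

theorem exists_reduced' (w : W) : ∃ l : List I, D.π l = w ∧ D.Reduced l := by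
  obtain ⟨l, hl, hl'⟩ := D.exists_reduced w
  exact ⟨l, hl, by unfold Reduced; rw [hl, hl']⟩

/-- Every non-identity element has a left descent. -/
theorem exists_left_descent {w : W} (hw : w ≠ 1) :
    ∃ i w', w = D.σ i * w' ∧ D.len w = D.len w' + 1 := by
  obtain ⟨l, rfl, hl⟩ := D.exists_reduced' w
  cases l with
  | nil => simp at hw
  | cons i l =>
    refine ⟨i, D.π l, by simp, ?_⟩
    have h1 := hl.tail
    unfold Reduced at hl h1
    rw [hl, h1]; simp

/-- Every non-identity element has a right descent. -/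
theorem exists_right_descent {w : W} (hw : w ≠ 1) :
    ∃ i w', w = w' * D.σ i ∧ D.len w = D.len w' + 1 := by
  obtain ⟨i, w', h1, h2⟩ := D.exists_left_descent (inv_ne_one.mpr hw)
  refine ⟨i, w'⁻¹, ?_, by simpa using h2⟩
  rw [← inv_inv w, h1, mul_inv_rev, D.σ_inv]

/-- The (strong form of the) exchange condition, for all words. -/
def Exchange : Prop :=
  ∀ (i : I) (l : List I), D.len (D.σ i * D.π l) ≤ D.len (D.π l) →
    ∃ l₁ j l₂, l = l₁ ++ j :: l₂ ∧ D.σ i * D.π l₁ = D.π l₁ * D.σ j

/-- Bourbaki IV.1.7, Proposition 6, first step. -/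
theorem exists_split_of_notMem (Q : I → Set W) (h1 : ∀ i, (1 : W) ∈ Q i)
    (hC : ∀ i j w, w ∈ Q i → w * D.σ j ∉ Q i → D.σ i * w = w * D.σ j)
    (i : I) (l : List I) (hl : D.π l ∉ Q i) :
    ∃ l₁ j l₂, l = l₁ ++ j :: l₂ ∧ D.σ i * D.π l₁ = D.π l₁ * D.σ j := by
  induction l using List.reverseRecOn with
  | nil => exact absurd (h1 i) hl
  | append_singleton l j ih =>
    by_cases h : D.π l ∈ Q i
    · refine ⟨l, j, [], rfl, hC i j _ h ?_⟩
      simpa using hl
    · obtain ⟨l₁, k, l₂, rfl, hk⟩ := ih h
      exact ⟨l₁, k, l₂ ++ [j], by simp, hk⟩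

theorem π_delete {i j : I} {l₁ l₂ : List I} (h : D.σ i * D.π l₁ = D.π l₁ * D.σ j) :
    D.σ i * D.π (l₁ ++ j :: l₂) = D.π (l₁ ++ l₂) := by
  simp only [π_append, π_cons]
  rw [← mul_assoc, h, mul_assoc, σ_σ_mul]

theorem len_lt_of_notMem (Q : I → Set W) (h1 : ∀ i, (1 : W) ∈ Q i)
    (hC : ∀ i j w, w ∈ Q i → w * D.σ j ∉ Q i → D.σ i * w = w * D.σ j)
    (i : I) (w : W) (hw : w ∉ Q i) : D.len (D.σ i * w) < D.len w := by
  obtain ⟨l, rfl, hl⟩ := D.exists_reduced w
  obtain ⟨l₁, j, l₂, rfl, h⟩ := D.exists_split_of_notMem Q h1 hC i l hw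
  rw [D.π_delete h, ← hl]
  have := D.len_le (l₁ ++ l₂)
  simp only [List.length_append, List.length_cons] at this ⊢
  omega

theorem mem_iff_len_lt (Q : I → Set W) (h1 : ∀ i, (1 : W) ∈ Q i)
    (hB : ∀ i w, w ∈ Q i → D.σ i * w ∉ Q i)
    (hC : ∀ i j w, w ∈ Q i → w * D.σ j ∉ Q i → D.σ i * w = w * D.σ j)
    (i : I) (w : W) : w ∈ Q i ↔ D.len w < D.len (D.σ i * w) := by
  constructor
  · intro hw
    simpa using D.len_lt_of_notMem Q h1 hC i _ (hB i w hw)
  · intro h
    by_contra hw
    have := D.len_lt_of_notMem Q h1 hC i w hw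
    omega

/-- Bourbaki IV.1.7, Proposition 6. -/
theorem exchange_of_family (Q : I → Set W) (h1 : ∀ i, (1 : W) ∈ Q i)
    (hB : ∀ i w, w ∈ Q i → D.σ i * w ∉ Q i)
    (hC : ∀ i j w, w ∈ Q i → w * D.σ j ∉ Q i → D.σ i * w = w * D.σ j) : D.Exchange := by
  intro i l hl
  apply D.exists_split_of_notMem Q h1 hC i l
  rw [D.mem_iff_len_lt Q h1 hB hC]
  omega

variable {D}

theorem Exchange.len_σ_mul (hD : D.Exchange) (i : I) (w : W) :
    D.len (D.σ i * w) = D.len w + 1 ∨ D.len (D.σ i * w) + 1 = D.len w := by
  by_cases h : D.len (D.σ i * w) ≤ D.len w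
  · right
    obtain ⟨l, rfl, hl⟩ := D.exists_reduced w
    obtain ⟨l₁, j, l₂, rfl, h'⟩ := hD i l h
    have h2 := D.len_le (l₁ ++ l₂)
    have h3 := D.len_le_σ_mul i (D.π (l₁ ++ j :: l₂))
    rw [D.π_delete h'] at h3 ⊢
    rw [← hl] at h3 ⊢
    simp only [List.length_append, List.length_cons] at h2 h3 ⊢
    omega
  · left
    have := D.len_σ_mul_le i w
    omega

theorem Exchange.len_mul_σ (hD : D.Exchange) (i : I) (w : W) :
    D.len (w * D.σ i) = D.len w + 1 ∨ D.len (w * D.σ i) + 1 = D.len w := by
  have := hD.len_σ_mul i w⁻¹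
  rw [← D.len_inv (D.σ i * w⁻¹), mul_inv_rev, inv_inv, D.σ_inv, D.len_inv] at this
  exact this

theorem Exchange.len_σ (hD : D.Exchange) (i : I) : D.len (D.σ i) = 1 := by
  have := hD.len_σ_mul i 1
  simp only [mul_one, len_one] at this
  omega

theorem Exchange.σ_ne_one (hD : D.Exchange) (i : I) : D.σ i ≠ 1 := by
  intro h
  have := hD.len_σ i
  rw [h] at this
  simp at this

/-- Deletion: every word has a reduced subword with the same product. -/
theorem Exchange.exists_reduced_sublist (hD : D.Exchange) (l : List I) :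
    ∃ l', l'.Sublist l ∧ D.π l' = D.π l ∧ D.Reduced l' := by
  induction l with
  | nil => exact ⟨[], List.Sublist.slnil, rfl, by simp [Reduced]⟩
  | cons i l ih =>
    obtain ⟨l', hs, hπ, hr⟩ := ih
    by_cases h : D.len (D.σ i * D.π l') ≤ D.len (D.π l')
    · obtain ⟨l₁, j, l₂, rfl, h'⟩ := hD i l' h
      refine ⟨l₁ ++ l₂, ?_, ?_, ?_⟩
      · refine List.Sublist.cons _ (List.Sublist.trans ?_ hs)
        exact List.Sublist.append_left (List.sublist_cons_self j l₂) l₁
      · rw [← D.π_delete h', hπ, π_cons]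
      · unfold Reduced at *
        have h2 := D.len_le (l₁ ++ l₂)
        have h3 := D.len_le_σ_mul i (D.π (l₁ ++ j :: l₂))
        rw [D.π_delete h', hr] at h3
        simp only [List.length_append, List.length_cons] at h2 h3 ⊢
        omega
    · refine ⟨i :: l', hs.cons_cons i, by simp [hπ], ?_⟩
      unfold Reduced at *
      have := D.len_σ_mul_le i (D.π l')
      simp only [π_cons, List.length_cons]
      omega

theorem mem_closure_iff (D : GenSys I W) (J : Set I) (w : W) :
    w ∈ Subgroup.closure (D.σ '' J) ↔ ∃ l : List I, (∀ i ∈ l, i ∈ J) ∧ D.π l = w := by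
  constructor
  · intro hw
    induction hw using Subgroup.closure_induction with
    | mem x hx =>
      obtain ⟨i, hi, rfl⟩ := hx
      exact ⟨[i], by simpa using hi, by simp⟩
    | one => exact ⟨[], by simp, rfl⟩
    | mul x y _ _ hx hy =>
      obtain ⟨l, hl, rfl⟩ := hx
      obtain ⟨l', hl', rfl⟩ := hy
      refine ⟨l ++ l', ?_, by simp⟩
      intro i hi
      rcases List.mem_append.mp hi with h | h
      exacts [hl i h, hl' i h]
    | inv x _ hx =>
      obtain ⟨l, hl, rfl⟩ := hx
      exact ⟨l.reverse, by simpa using hl, D.π_reverse l⟩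
  · rintro ⟨l, hl, rfl⟩
    induction l with
    | nil => simp
    | cons i l ih =>
      rw [π_cons]
      exact Subgroup.mul_mem _ (Subgroup.subset_closure ⟨i, hl i (by simp), rfl⟩)
        (ih fun j hj => hl j (by simp [hj]))

theorem Exchange.exists_reduced_of_mem_closure (hD : D.Exchange) {J : Set I} {w : W}
    (hw : w ∈ Subgroup.closure (D.σ '' J)) :
    ∃ l : List I, (∀ i ∈ l, i ∈ J) ∧ D.π l = w ∧ D.Reduced l := by
  obtain ⟨l, hl, rfl⟩ := (D.mem_closure_iff J w).mp hw
  obtain ⟨l', hs, h1, h2⟩ := hD.exists_reduced_sublist l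
  exact ⟨l', fun i hi => hl i (hs.subset hi), h1, h2⟩

/-- A generator lying in the subgroup generated by `J` is one of the generators in `J`. -/
theorem Exchange.σ_mem_closure (hD : D.Exchange) {J : Set I} {i : I}
    (hi : D.σ i ∈ Subgroup.closure (D.σ '' J)) : ∃ j ∈ J, D.σ j = D.σ i := by
  obtain ⟨l, hl, h1, h2⟩ := hD.exists_reduced_of_mem_closure hi
  unfold Reduced at h2
  rw [h1, hD.len_σ] at h2
  obtain ⟨j, rfl⟩ := List.length_eq_one_iff.mp h2.symm
  exact ⟨j, hl j (by simp), by simpa using h1⟩

/-- A left descent of an element of `W_J` lies in `W_J`. -/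
theorem Exchange.σ_mem_closure_of_len_le (hD : D.Exchange) {J : Set I} {i : I} {w : W}
    (hw : w ∈ Subgroup.closure (D.σ '' J)) (h : D.len (D.σ i * w) ≤ D.len w) :
    D.σ i ∈ Subgroup.closure (D.σ '' J) := by
  obtain ⟨l, hl, rfl⟩ := (D.mem_closure_iff J w).mp hw
  obtain ⟨l₁, j, l₂, rfl, h'⟩ := hD i l h
  have h1 : D.π (l₁ ++ l₂) ∈ Subgroup.closure (D.σ '' J) := by
    rw [D.mem_closure_iff]
    refine ⟨_, ?_, rfl⟩
    intro k hk
    apply hl
    simp only [List.mem_append, List.mem_cons] at hk ⊢
    tauto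
  rw [← D.π_delete h'] at h1
  have := Subgroup.mul_mem _ h1 (Subgroup.inv_mem _ hw)
  rwa [mul_inv_cancel_right] at this

/-- All letters of a reduced word for an element of `W_J` lie in `W_J`. -/
theorem Exchange.σ_mem_closure_of_reduced (hD : D.Exchange) {J : Set I} {l : List I}
    (hl : D.Reduced l) (hw : D.π l ∈ Subgroup.closure (D.σ '' J)) :
    ∀ i ∈ l, D.σ i ∈ Subgroup.closure (D.σ '' J) := by
  induction l with
  | nil => simp
  | cons i l ih =>
    have hi : D.σ i ∈ Subgroup.closure (D.σ '' J) := by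
      apply hD.σ_mem_closure_of_len_le hw
      have h1 := hl.tail
      unfold Reduced at hl h1
      rw [hl, π_cons, σ_σ_mul, h1]
      simp
    have h2 : D.π l ∈ Subgroup.closure (D.σ '' J) := by
      simpa using Subgroup.mul_mem _ hi hw
    intro j hj
    rcases List.mem_cons.mp hj with rfl | hj
    · exact hi
    · exact ih hl.tail h2 j hj

/-- The alternating word `a b a b ...` of length `n`. -/
def alt : I → I → ℕ → List I
  | _, _, 0 => []
  | a, b, n + 1 => a :: alt b a n

@[simp] theorem length_alt (a b : I) (n : ℕ) : (alt a b n).length = n := by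
  induction n generalizing a b with
  | zero => rfl
  | succ n ih => simp [alt, ih]

theorem alt_prefix_succ (a b : I) (n : ℕ) : alt a b n <+: alt a b (n + 1) := by
  induction n generalizing a b with
  | zero => exact List.nil_prefix
  | succ n ih =>
    show a :: alt b a n <+: a :: alt b a (n + 1)
    exact List.cons_prefix_cons.mpr ⟨rfl, ih b a⟩

theorem prod_alt {M : Type*} [Group M] (f : I → M) (hf : ∀ i, f i * f i = 1) (a b : I) (n : ℕ) :
    ((alt a b n).map f).prod * (((alt b a n).map f).prod)⁻¹ = (f a * f b) ^ n := by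
  induction n generalizing a b with
  | zero => simp [alt]
  | succ n ih =>
    have hb : (f b)⁻¹ = f b := inv_eq_of_mul_eq_one_right (hf b)
    simp only [alt, List.map_cons, List.prod_cons, mul_inv_rev, hb]
    have := ih b a
    calc f a * (List.map f (alt b a n)).prod * ((List.map f (alt a b n)).prod⁻¹ * f b)
        = f a * ((List.map f (alt b a n)).prod * (List.map f (alt a b n)).prod⁻¹) * f b := by
          simp only [mul_assoc]
      _ = f a * (f b * f a) ^ n * f b := by rw [this]
      _ = (f a * f b) ^ (n + 1) := by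
          rw [← mul_pow_mul, mul_assoc, ← pow_succ]

/-- Matsumoto's lemma, for maps to groups. -/
theorem Exchange.matsumoto (hD : D.Exchange) {M : Type*} [Group M] (f : I → M)
    (hf : ∀ i, f i * f i = 1)
    (hb : ∀ (i j : I) (n : ℕ), (D.σ i * D.σ j) ^ n = 1 → (f i * f j) ^ n = 1) (q : ℕ) :
    ∀ l l' : List I, D.Reduced l → D.Reduced l' → l.length = q → D.π l = D.π l' →
      (l.map f).prod = (l'.map f).prod := by
  induction q using Nat.strong_induction_on with
  | _ q ih =>
  have hlen : ∀ l l' : List I, D.Reduced l → D.Reduced l' → D.π l = D.π l' →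
      l.length = l'.length := by
    intro l l' h h' he
    unfold Reduced at h h'
    rw [← h, ← h', he]
  -- one exchange step
  have step : ∀ (x : List I) (b : I) (t : List I), D.Reduced x → D.Reduced (b :: t) →
      x.length = q → D.π x = D.π (b :: t) → (x.map f).prod ≠ ((b :: t).map f).prod →
      D.Reduced (b :: x.dropLast) ∧ D.π (b :: x.dropLast) = D.π x ∧
        ((b :: x.dropLast).map f).prod = ((b :: t).map f).prod := by
    intro x b t hx hy hq he hne
    have hl := hlen _ _ hx hy he
    have hle : D.len (D.σ b * D.π x) ≤ D.len (D.π x) := by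
      have h1 := hy.tail
      unfold Reduced at hy h1
      rw [he, hy, π_cons, σ_σ_mul, h1]
      simp
    obtain ⟨l₁, j, l₂, rfl, h'⟩ := hD b x hle
    have hπ : D.π (b :: (l₁ ++ l₂)) = D.π (l₁ ++ j :: l₂) := by
      rw [π_cons, ← D.π_delete h', σ_σ_mul]
    have hred : D.Reduced (b :: (l₁ ++ l₂)) := by
      unfold Reduced at *
      rw [hπ, hx]
      simp only [List.length_append, List.length_cons]
      omega
    have hft : ((b :: (l₁ ++ l₂)).map f).prod = ((b :: t).map f).prod := by
      simp only [List.map_cons, List.prod_cons]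
      congr 1
      apply ih (l₁ ++ l₂).length _ _ _ hred.tail hy.tail rfl
      · have := hπ.trans he
        simpa using this
      · rw [← hq]; simp
    by_cases h2 : l₂ = []
    · subst h2
      have : (l₁ ++ [j]).dropLast = l₁ ++ [] := by simp
      rw [this]
      exact ⟨hred, hπ, hft⟩
    · exfalso
      apply hne
      rw [← hft]
      have h3 : ((l₁ ++ [j]).map f).prod = ((b :: l₁).map f).prod := by
        apply ih (l₁ ++ [j]).length _ _ _ _ _ rfl
        · simp [h']
        · rw [← hq]
          have := List.length_pos_iff.mpr h2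
          simp only [List.length_append, List.length_cons, List.length_nil]
          omega
        · have : l₁ ++ j :: l₂ = (l₁ ++ [j]) ++ l₂ := by simp
          rw [this] at hx
          exact hx.left
        · exact Reduced.left (l := b :: l₁) (l' := l₂) hred
      simp only [List.map_append, List.map_cons, List.prod_append, List.prod_cons, List.map_nil,
        List.prod_nil, mul_one] at h3 ⊢
      rw [← mul_assoc, h3, mul_assoc]
  intro l l' hl hl' hq he
  by_contra hne
  have hl2 := hlen _ _ hl hl' he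
  rcases l with _ | ⟨a, s⟩
  · have : l' = [] := List.length_eq_zero_iff.mp hl2.symm
    subst this
    exact hne rfl
  rcases l' with _ | ⟨b, t⟩
  · simp at hl2
  have hq1 : 1 ≤ q := by rw [← hq]; simp
  have inv : ∀ k, 1 ≤ k → k ≤ q → ∃ x y : List I, D.Reduced x ∧ D.Reduced y ∧ x.length = q ∧
      D.π x = D.π y ∧ (x.map f).prod ≠ (y.map f).prod ∧ alt a b k <+: x ∧ alt b a k <+: y := by
    intro k hk1
    induction k, hk1 using Nat.le_induction with
    | base =>
      intro _
      exact ⟨a :: s, b :: t, hl, hl', hq, he, hne, by simp [alt], by simp [alt]⟩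
    | succ k hk1 ihk =>
      intro hkq
      obtain ⟨x, y, hx, hy, hxq, hxy, hne', hpx, hpy⟩ := ihk (by omega)
      obtain ⟨k, rfl⟩ : ∃ k', k = k' + 1 := ⟨k - 1, by omega⟩
      have hdrop : ∀ (u z : List I), u <+: z → u.length < z.length → u <+: z.dropLast := by
        rintro u z ⟨v, rfl⟩ hlt
        have hv : v ≠ [] := by
          rintro rfl
          simp at hlt
        rw [List.dropLast_append_of_ne_nil hv]
        exact List.prefix_append _ _
      obtain ⟨ty, rfl⟩ : ∃ ty, y = b :: ty := by
        obtain ⟨v, rfl⟩ := hpy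
        exact ⟨_, rfl⟩
      obtain ⟨tx, hxa⟩ : ∃ tx, x = a :: tx := by
        obtain ⟨v, rfl⟩ := hpx
        exact ⟨_, rfl⟩
      obtain ⟨h1, h2, h3⟩ := step x b ty hx hy hxq hxy hne'
      have hx'len : (b :: x.dropLast).length = q := by
        simp only [List.length_cons, List.length_dropLast]; omega
      have hpx' : alt b a (k + 1 + 1) <+: b :: x.dropLast :=
        List.cons_prefix_cons.mpr ⟨rfl, hdrop _ _ hpx (by simp; omega)⟩
      have hne2 : ((b :: x.dropLast).map f).prod ≠ ((a :: tx).map f).prod := by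
        rw [h3, ← hxa]; exact hne'.symm
      obtain ⟨h4, h5, h6⟩ := step (b :: x.dropLast) a tx h1 (hxa ▸ hx) hx'len (hxa ▸ h2) hne2
      refine ⟨a :: (b :: x.dropLast).dropLast, b :: x.dropLast, h4, h1, ?_, h5, ?_, ?_, hpx'⟩
      · simp only [List.length_cons, List.length_dropLast] at hx'len ⊢; omega
      · rw [h6]; exact hne2.symm
      · refine List.cons_prefix_cons.mpr ⟨rfl, hdrop _ _ ?_ ?_⟩
        · exact (alt_prefix_succ b a (k + 1)).trans hpx'
        · rw [hx'len]; simp; omega
  obtain ⟨x, y, hx, hy, hxq, hxy, hne', hpx, hpy⟩ := inv q hq1 le_rfl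
  have hyq := hlen _ _ hx hy hxy
  have ex : alt a b q = x := hpx.eq_of_length (by simp [hxq])
  have ey : alt b a q = y := hpy.eq_of_length (by simp [← hyq, hxq])
  subst ex ey
  apply hne'
  have h1 := prod_alt D.σ D.sq a b q
  have h2 := prod_alt f hf a b q
  unfold π at hxy
  rw [hxy, mul_inv_cancel] at h1
  rw [hb a b q h1.symm] at h2
  exact mul_inv_eq_one.mp h2

/-- The universal property of a group with the exchange condition. -/
theorem Exchange.exists_lift (hD : D.Exchange) {M : Type*} [Group M] (f : I → M)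
    (hf : ∀ i, f i * f i = 1)
    (hb : ∀ (i j : I) (n : ℕ), (D.σ i * D.σ j) ^ n = 1 → (f i * f j) ^ n = 1) :
    ∃ φ : W →* M, ∀ i, φ (D.σ i) = f i := by
  classical
  let ψ : W → M := fun w => ((D.exists_reduced' w).choose.map f).prod
  have hψ : ∀ l, D.Reduced l → ψ (D.π l) = (l.map f).prod := by
    intro l hl
    have := (D.exists_reduced' (D.π l)).choose_spec
    exact hD.matsumoto f hf hb _ _ _ this.2 hl rfl this.1
  have hup : ∀ i w, D.len w < D.len (D.σ i * w) → ψ (D.σ i * w) = f i * ψ w := by
    intro i w h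
    obtain ⟨l, rfl, hl⟩ := D.exists_reduced' w
    have : D.Reduced (i :: l) := by
      unfold Reduced at *
      have := D.len_σ_mul_le i (D.π l)
      simp only [π_cons, List.length_cons]
      omega
    rw [← π_cons, hψ _ this, hψ _ hl]
    simp
  have hσ : ∀ i w, ψ (D.σ i * w) = f i * ψ w := by
    intro i w
    rcases hD.len_σ_mul i w with h | h
    · exact hup i w (by omega)
    · have := hup i (D.σ i * w) (by rw [σ_σ_mul]; omega)
      rw [σ_σ_mul] at this
      rw [this, ← mul_assoc, hf, one_mul]
  have h1 : ψ 1 = 1 := by simpa using hψ [] (by simp [Reduced])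
  have hπ : ∀ l w, ψ (D.π l * w) = (l.map f).prod * ψ w := by
    intro l w
    induction l with
    | nil => simp
    | cons i l ih => simp [mul_assoc, hσ, ih]
  refine ⟨MonoidHom.mk' ψ ?_, ?_⟩
  · intro w w'
    obtain ⟨l, rfl⟩ := D.gen w
    have h2 := hπ l w'
    have h3 := hπ l 1
    rw [h1, mul_one, mul_one] at h3
    unfold π at h2 h3
    rw [h2, h3]
  · intro i
    have := hσ i 1
    simpa [h1] using this

/-- The Coxeter matrix of an injective family of involutions. -/
noncomputable def coxeterMatrix (D : GenSys I W) (hinj : Function.Injective D.σ) :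
    CoxeterMatrix I where
  M := Matrix.of fun i j => orderOf (D.σ i * D.σ j)
  isSymm := by
    ext i j
    simp only [Matrix.transpose_apply, Matrix.of_apply]
    rw [← orderOf_inv, mul_inv_rev, D.σ_inv, D.σ_inv]
  diagonal := by
    intro i
    simp [D.sq]
  off_diagonal := by
    intro i j hij h
    simp only [Matrix.of_apply, orderOf_eq_one_iff] at h
    apply hij
    apply hinj
    rw [← D.σ_inv i]
    exact inv_eq_of_mul_eq_one_right h

/-- The exchange condition characterises Coxeter systems. -/
theorem Exchange.exists_coxeterSystem (hD : D.Exchange) (hinj : Function.Injective D.σ) :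
    ∃ cs : CoxeterSystem (D.coxeterMatrix hinj) W, ∀ i, cs.simple i = D.σ i := by
  set M := D.coxeterMatrix hinj with hM
  obtain ⟨φ, hφ⟩ := hD.exists_lift M.simple
    (fun i => M.toCoxeterSystem.simple_mul_simple_self i) (by
      intro i j n hn
      obtain ⟨k, rfl⟩ := orderOf_dvd_of_pow_eq_one hn
      have := M.toCoxeterSystem.simple_mul_simple_pow i j
      simp only [CoxeterMatrix.toCoxeterSystem_simple] at this
      rw [pow_mul]
      change ((M.simple i * M.simple j) ^ M i j) ^ k = 1
      rw [this, one_pow])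
  have hlift : M.IsLiftable D.σ := fun i j => pow_orderOf_eq_one _
  let χ : M.Group →* W := M.toCoxeterSystem.lift ⟨D.σ, hlift⟩
  have hχ : ∀ i, χ (M.simple i) = D.σ i := fun i =>
    M.toCoxeterSystem.lift_apply_simple hlift i
  have h1 : χ.comp φ = MonoidHom.id W := by
    ext w
    obtain ⟨l, rfl⟩ := D.gen w
    induction l with
    | nil => simp
    | cons i l ih =>
      simp only [List.map_cons, List.prod_cons, map_mul, ih]
      simp [hφ, hχ]
  have h2 : φ.comp χ = MonoidHom.id _ := by
    apply M.toCoxeterSystem.ext_simple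
    intro i
    simp [hφ, hχ]
  refine ⟨⟨MonoidHom.toMulEquiv φ χ h1 h2⟩, fun i => ?_⟩
  exact hχ i

end GenSys

end H8
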