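import Mathlib
import Cfsg.Prelude.Def_LieExceptional
import Cfsg.Agent.H8.Exchange

/-!
The theory of (B,N)-pairs: Weyl group, Bruhat decomposition (the map `δ : G → W`), the exchange
condition, parabolic subgroups and Tits' simplicity criterion.
-/

set_option autoImplicit false

namespace H8
namespace BN

open Cfsg

variable {G : Type*} [Group G] (P : BNPair G)

instance instNormalTorus : ((P.B ⊓ P.N).subgroupOf P.N).Normal := by
  refine ⟨fun t ht n => ?_⟩
  rw [Subgroup.mem_subgroupOf] at ht ⊢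
  exact ⟨P.conj_mem n n.2 t ht, (n * t * n⁻¹).2⟩

/-- The Weyl group. -/
abbrev W : Type _ := P.N ⧸ (P.B ⊓ P.N).subgroupOf P.N

/-- The class in the Weyl group of an element of `N`. -/
abbrev mk (n : P.N) : W P := QuotientGroup.mk n

theorem mk_eq_iff (n n' : P.N) : mk P n = mk P n' ↔ (n : G)⁻¹ * n' ∈ P.B := by
  rw [QuotientGroup.eq, Subgroup.mem_subgroupOf]
  exact ⟨fun h => h.1, fun h => ⟨h, (n⁻¹ * n').2⟩⟩

theorem mk_eq_one_iff (n : P.N) : mk P n = 1 ↔ (n : G) ∈ P.B := by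
  rw [QuotientGroup.eq_one_iff, Subgroup.mem_subgroupOf]
  exact ⟨fun h => h.1, fun h => ⟨h, n.2⟩⟩

/-- A distinguished representative as an element of `N`. -/
abbrev rep (s : P.S) : P.N := ⟨(s : G), P.subset s.2⟩

theorem inv_eq_of_mem_S {s : G} (s' : G) (h : s' = (s * s)⁻¹) : s⁻¹ = s' * s := by
  subst h; group

/-- The Weyl group with its distinguished generators. -/
def gens : GenSys P.S (W P) where
  σ s := mk P (rep P s)
  sq s := by
    rw [← QuotientGroup.mk_mul, mk_eq_one_iff]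
    exact P.sq_mem s s.2
  gen w := by
    obtain ⟨⟨n, hn⟩, rfl⟩ := QuotientGroup.mk_surjective w
    have hsq : ∀ s : P.S, mk P (rep P s) * mk P (rep P s) = 1 := by
      intro s
      rw [← QuotientGroup.mk_mul, mk_eq_one_iff]
      exact P.sq_mem s s.2
    have hn' : n ∈ Subgroup.closure (P.S ∪ ((P.B ⊓ P.N : Subgroup G) : Set G)) := by
      rw [Subgroup.closure_union, Subgroup.closure_eq, P.closure_sup]
      exact hn
    have key : ∀ x ∈ Subgroup.closure (P.S ∪ ((P.B ⊓ P.N : Subgroup G) : Set G)),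
        ∃ hx : x ∈ P.N, ∃ l : List P.S,
          (l.map fun s => mk P (rep P s)).prod = mk P ⟨x, hx⟩ := by
      intro x hx
      induction hx using Subgroup.closure_induction with
      | mem x hx =>
        rcases hx with hx | hx
        · exact ⟨P.subset hx, [⟨x, hx⟩], by simp⟩
        · refine ⟨hx.2, [], ?_⟩
          simp only [List.map_nil, List.prod_nil]
          exact ((mk_eq_one_iff P _).mpr hx.1).symm
      | one => exact ⟨P.N.one_mem, [], rfl⟩
      | mul x y _ _ hx hy =>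
        obtain ⟨hx, l, hl⟩ := hx
        obtain ⟨hy, l', hl'⟩ := hy
        refine ⟨P.N.mul_mem hx hy, l ++ l', ?_⟩
        rw [List.map_append, List.prod_append, hl, hl']
        rfl
      | inv x _ hx =>
        obtain ⟨hx, l, hl⟩ := hx
        refine ⟨P.N.inv_mem hx, l.reverse, ?_⟩
        have : mk P ⟨x⁻¹, P.N.inv_mem hx⟩ = (mk P ⟨x, hx⟩)⁻¹ := rfl
        rw [this, ← hl]
        clear hl this
        induction l with
        | nil => simp
        | cons i l ih =>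
          simp only [List.reverse_cons, List.map_append, List.prod_append, ih, List.map_cons,
            List.map_nil, List.prod_cons, List.prod_nil, mul_one, mul_inv_rev]
          rw [inv_eq_of_mul_eq_one_right (hsq i)]
    obtain ⟨_, l, hl⟩ := key n hn'
    exact ⟨l, hl⟩

theorem gens_σ (s : P.S) : (gens P).σ s = mk P (rep P s) := rfl

theorem σ_injective : Function.Injective (gens P).σ := by
  intro s s' h
  rw [gens_σ, gens_σ, mk_eq_iff] at h
  exact Subtype.ext (P.inj s s.2 s' s'.2 h)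

theorem exists_conj_notMem {s : G} (hs : s ∈ P.S) : ∃ b ∈ P.B, s * b * s ∉ P.B := by
  by_contra h
  push Not at h
  apply P.conj_ne s hs
  ext x
  constructor
  · rintro ⟨b, hb, rfl⟩
    exact h b hb
  · intro hx
    have h2 := P.sq_mem s hs
    refine ⟨(s * s)⁻¹ * (s * x * s) * (s * s)⁻¹, ?_, ?_⟩
    · exact P.B.mul_mem (P.B.mul_mem (P.B.inv_mem h2) (h x hx)) (P.B.inv_mem h2)
    · group

theorem notMem_B_of_mem_S {s : G} (hs : s ∈ P.S) : s ∉ P.B := by
  intro h
  obtain ⟨b, hb, hb'⟩ := exists_conj_notMem P hs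
  exact hb' (P.B.mul_mem (P.B.mul_mem h hb) h)

theorem σ_ne_one (s : P.S) : (gens P).σ s ≠ 1 := by
  rw [gens_σ, Ne, mk_eq_one_iff]
  exact notMem_B_of_mem_S P s.2

/-- `g` lies in the Bruhat cell of `w`. -/
def Cell (w : W P) (g : G) : Prop :=
  ∃ n : P.N, mk P n = w ∧ ∃ b₁ ∈ P.B, ∃ b₂ ∈ P.B, g = b₁ * n * b₂

variable {P}

theorem Cell.mul_left {w : W P} {g b : G} (h : Cell P w g) (hb : b ∈ P.B) : Cell P w (b * g) := by
  obtain ⟨n, hn, b₁, h₁, b₂, h₂, rfl⟩ := h
  exact ⟨n, hn, b * b₁, P.B.mul_mem hb h₁, b₂, h₂, by group⟩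

theorem Cell.mul_right {w : W P} {g b : G} (h : Cell P w g) (hb : b ∈ P.B) :
    Cell P w (g * b) := by
  obtain ⟨n, hn, b₁, h₁, b₂, h₂, rfl⟩ := h
  exact ⟨n, hn, b₁, h₁, b₂ * b, P.B.mul_mem h₂ hb, by group⟩

theorem Cell.self (n : P.N) : Cell P (mk P n) n :=
  ⟨n, rfl, 1, P.B.one_mem, 1, P.B.one_mem, by simp⟩

theorem Cell.inv {w : W P} {g : G} (h : Cell P w g) : Cell P w⁻¹ g⁻¹ := by
  obtain ⟨n, hn, b₁, h₁, b₂, h₂, rfl⟩ := h
  refine ⟨n⁻¹, by rw [← hn]; rfl, b₂⁻¹, P.B.inv_mem h₂, b₁⁻¹, P.B.inv_mem h₁, ?_⟩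
  simp [mul_assoc]

theorem cell_one_iff {g : G} : Cell P 1 g ↔ g ∈ P.B := by
  constructor
  · rintro ⟨n, hn, b₁, h₁, b₂, h₂, rfl⟩
    exact P.B.mul_mem (P.B.mul_mem h₁ ((mk_eq_one_iff P n).mp hn)) h₂
  · intro h
    exact ⟨1, rfl, g, h, 1, P.B.one_mem, by simp⟩

theorem cell_mk_iff (n : P.N) (g : G) :
    Cell P (mk P n) g ↔ g ∈ DoubleCoset.doubleCoset (n : G) (P.B : Set G) P.B := by
  rw [DoubleCoset.mem_doubleCoset]
  constructor
  · rintro ⟨n', hn, b₁, h₁, b₂, h₂, rfl⟩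
    rw [eq_comm, mk_eq_iff] at hn
    exact ⟨b₁, h₁, (n : G)⁻¹ * n' * b₂, P.B.mul_mem hn h₂, by group⟩
  · rintro ⟨b₁, h₁, b₂, h₂, rfl⟩
    exact ⟨n, rfl, b₁, h₁, b₂, h₂, rfl⟩

theorem Cell.simple_mul {w : W P} {g : G} (h : Cell P w g) (s : P.S) :
    Cell P ((gens P).σ s * w) (s * g) ∨ Cell P w (s * g) := by
  obtain ⟨n, rfl, b₁, h₁, b₂, h₂, rfl⟩ := h
  have e : (s : G) * (b₁ * n * b₂) = s * b₁ * n * b₂ := by group
  rw [e]
  rcases P.mul_mem_union s s.2 n n.2 b₁ h₁ with h | h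
  · left
    exact ((cell_mk_iff (rep P s * n) _).mpr h).mul_right h₂
  · right
    exact ((cell_mk_iff n _).mpr h).mul_right h₂

theorem exists_cell_of_mem_parabolic (J : Set P.S) {g : G}
    (hg : g ∈ P.parabolic (Subtype.val '' J)) :
    ∃ w ∈ Subgroup.closure ((gens P).σ '' J), Cell P w g := by
  unfold BNPair.parabolic at hg
  rw [← Subgroup.closure_eq P.B, ← Subgroup.closure_union] at hg
  have hs : ∀ s ∈ J, ∀ y, (∃ w ∈ Subgroup.closure ((gens P).σ '' J), Cell P w y) →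
      ∃ w ∈ Subgroup.closure ((gens P).σ '' J), Cell P w (s * y) := by
    rintro s hs y ⟨w, hw, hy⟩
    rcases hy.simple_mul s with h | h
    · exact ⟨_, Subgroup.mul_mem _ (Subgroup.subset_closure ⟨s, hs, rfl⟩) hw, h⟩
    · exact ⟨_, hw, h⟩
  induction hg using Subgroup.closure_induction_left with
  | one => exact ⟨1, Subgroup.one_mem _, cell_one_iff.mpr P.B.one_mem⟩
  | mul_left x hx y _ ih =>
    rcases hx with hx | ⟨s, hsJ, rfl⟩
    · obtain ⟨w, hw, hy⟩ := ih
      exact ⟨w, hw, hy.mul_left hx⟩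
    · exact hs s hsJ y ih
  | inv_mul_cancel x hx y _ ih =>
    rcases hx with hx | ⟨s, hsJ, rfl⟩
    · obtain ⟨w, hw, hy⟩ := ih
      exact ⟨w, hw, hy.mul_left (P.B.inv_mem hx)⟩
    · obtain ⟨w, hw, hy⟩ := hs s hsJ y ih
      refine ⟨w, hw, ?_⟩
      have := hy.mul_left (P.B.inv_mem (P.sq_mem s s.2))
      convert this using 1
      group

theorem parabolic_S (P : BNPair G) : P.parabolic P.S = ⊤ := by
  unfold BNPair.parabolic
  rw [eq_top_iff, ← P.sup_eq_top]
  refine sup_le le_sup_left ?_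
  rw [← P.closure_sup]
  exact sup_le le_sup_right (inf_le_left.trans le_sup_left)

theorem exists_cell (P : BNPair G) (g : G) : ∃ w, Cell P w g := by
  have : g ∈ P.parabolic (Subtype.val '' (Set.univ : Set P.S)) := by
    rw [Subtype.coe_image_univ, parabolic_S]; trivial
  obtain ⟨w, _, hw⟩ := exists_cell_of_mem_parabolic _ this
  exact ⟨w, hw⟩

theorem cell_unique_aux (q : ℕ) : ∀ (w w' : W P) (g : G), (gens P).len w' = q →
    q ≤ (gens P).len w → Cell P w g → Cell P w' g → w = w' := by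
  induction q with
  | zero =>
    intro w w' g h1 _ hw hw'
    rw [GenSys.len_eq_zero_iff] at h1
    subst h1
    rw [cell_one_iff] at hw'
    obtain ⟨n, rfl, b₁, h₁, b₂, h₂, rfl⟩ := hw
    rw [mk_eq_one_iff]
    have := P.B.mul_mem (P.B.mul_mem (P.B.inv_mem h₁) hw') (P.B.inv_mem h₂)
    convert this using 1
    group
  | succ q ih =>
    intro w w' g h1 h2 hw hw'
    have hne : w' ≠ 1 := by
      rintro rfl
      simp at h1
    obtain ⟨s, w'', rfl, h3⟩ := (gens P).exists_left_descent hne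
    obtain ⟨n, hn, b₁, h₁, b₂, h₂, rfl⟩ := hw'
    have hwn : Cell P w n := by
      have := (hw.mul_left (P.B.inv_mem h₁)).mul_right (P.B.inv_mem h₂)
      convert this using 1
      group
    have h4 : Cell P w'' (s * n) := by
      have := Cell.self (rep P s * n)
      change Cell P ((gens P).σ s * mk P n) _ at this
      rw [hn, GenSys.σ_σ_mul] at this
      exact this
    rcases hwn.simple_mul s with h5 | h5
    · have h6 := (gens P).len_le_σ_mul s w
      rw [← ih _ w'' _ (by omega) (by omega) h5 h4, GenSys.σ_σ_mul]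
    · have := ih _ w'' _ (by omega) (by omega) h5 h4
      subst this
      omega

theorem Cell.unique {w w' : W P} {g : G} (h : Cell P w g) (h' : Cell P w' g) : w = w' := by
  rcases le_total ((gens P).len w') ((gens P).len w) with hl | hl
  · exact cell_unique_aux _ w w' g rfl hl h h'
  · exact (cell_unique_aux _ w' w g rfl hl h' h).symm

/-- The Bruhat map: `δ g` is the element of the Weyl group whose cell contains `g`. -/
noncomputable def δ (P : BNPair G) (g : G) : W P := (exists_cell P g).choose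

theorem cell_δ (g : G) : Cell P (δ P g) g := (exists_cell P g).choose_spec

theorem δ_eq_iff {g : G} {w : W P} : δ P g = w ↔ Cell P w g :=
  ⟨fun h => h ▸ cell_δ g, fun h => (cell_δ g).unique h⟩

theorem δ_eq_mk_iff (g : G) (n : P.N) :
    δ P g = mk P n ↔ g ∈ DoubleCoset.doubleCoset (n : G) (P.B : Set G) P.B := by
  rw [δ_eq_iff, cell_mk_iff]

theorem δ_coe (n : P.N) : δ P (n : G) = mk P n := δ_eq_iff.mpr (Cell.self n)

theorem δ_of_mem {n : G} (hn : n ∈ P.N) : δ P n = mk P ⟨n, hn⟩ := δ_coe ⟨n, hn⟩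

theorem δ_simple (s : P.S) : δ P (s : G) = (gens P).σ s := δ_coe (rep P s)

theorem δ_mul_left {b : G} (hb : b ∈ P.B) (g : G) : δ P (b * g) = δ P g :=
  δ_eq_iff.mpr ((cell_δ g).mul_left hb)

theorem δ_mul_right (g : G) {b : G} (hb : b ∈ P.B) : δ P (g * b) = δ P g :=
  δ_eq_iff.mpr ((cell_δ g).mul_right hb)

theorem δ_inv (g : G) : δ P g⁻¹ = (δ P g)⁻¹ := δ_eq_iff.mpr (cell_δ g).inv

theorem δ_eq_one_iff {g : G} : δ P g = 1 ↔ g ∈ P.B := by rw [δ_eq_iff, cell_one_iff]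

theorem δ_mul_of_mem {n n' : G} (hn : n ∈ P.N) (hn' : n' ∈ P.N) :
    δ P (n * n') = δ P n * δ P n' := by
  rw [δ_of_mem hn, δ_of_mem hn', δ_of_mem (P.N.mul_mem hn hn')]
  rfl

theorem exists_decomp (P : BNPair G) (g : G) :
    ∃ b₁ ∈ P.B, ∃ n ∈ P.N, ∃ b₂ ∈ P.B, g = b₁ * n * b₂ ∧ δ P n = δ P g := by
  obtain ⟨n, hn, b₁, h₁, b₂, h₂, h⟩ := cell_δ (P := P) g
  exact ⟨b₁, h₁, n, n.2, b₂, h₂, h, by rw [δ_coe, hn]⟩

theorem δ_surjective (P : BNPair G) (w : W P) : ∃ n ∈ P.N, δ P n = w := by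
  obtain ⟨n, rfl⟩ := QuotientGroup.mk_surjective w
  exact ⟨n, n.2, δ_coe n⟩

theorem δ_eq_δ_iff {g g' : G} :
    δ P g = δ P g' ↔ ∃ b₁ ∈ P.B, ∃ b₂ ∈ P.B, g = b₁ * g' * b₂ := by
  constructor
  · intro h
    obtain ⟨n, hn, b₁, h₁, b₂, h₂, e⟩ := cell_δ (P := P) g'
    rw [← hn, δ_eq_mk_iff, DoubleCoset.mem_doubleCoset] at h
    obtain ⟨c₁, k₁, c₂, k₂, e'⟩ := h
    refine ⟨c₁ * b₁⁻¹, P.B.mul_mem k₁ (P.B.inv_mem h₁), b₂⁻¹ * c₂,
      P.B.mul_mem (P.B.inv_mem h₂) k₂, ?_⟩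
    rw [e', e]; group
  · rintro ⟨b₁, h₁, b₂, h₂, rfl⟩
    rw [δ_mul_right _ h₂, δ_mul_left h₁]

theorem δ_eq_δ_iff_of_mem {n n' : G} (hn : n ∈ P.N) (hn' : n' ∈ P.N) :
    δ P n = δ P n' ↔ n⁻¹ * n' ∈ P.B := by
  rw [δ_of_mem hn, δ_of_mem hn', mk_eq_iff]

theorem δ_simple_mul (s : P.S) (g : G) :
    δ P (s * g) = (gens P).σ s * δ P g ∨ δ P (s * g) = δ P g := by
  rcases (cell_δ (P := P) g).simple_mul s with h | h
  · exact Or.inl (δ_eq_iff.mpr h)
  · exact Or.inr (δ_eq_iff.mpr h)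

theorem δ_simple_inv_mul (s : P.S) (g : G) : δ P ((s : G)⁻¹ * g) = δ P (s * g) := by
  rw [← δ_mul_left (P.B.inv_mem (P.sq_mem s s.2)) (s * g)]
  congr 1
  group

theorem δ_mul_simple_inv (s : P.S) (g : G) : δ P (g * (s : G)⁻¹) = δ P (g * s) := by
  rw [← δ_mul_right (g * s) (P.B.inv_mem (P.sq_mem s s.2))]
  congr 1
  group

theorem δ_mul_simple (s : P.S) (g : G) :
    δ P (g * s) = δ P g * (gens P).σ s ∨ δ P (g * s) = δ P g := by
  have h := δ_simple_mul s g⁻¹
  rw [← δ_simple_inv_mul, ← mul_inv_rev, δ_inv, δ_inv, inv_inj, inv_eq_iff_eq_inv, mul_inv_rev,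
    inv_inv, GenSys.σ_inv] at h
  exact h

/-- The family of sets `P_s` of Bourbaki IV.2.4. -/
def Q (P : BNPair G) (s : P.S) : Set (W P) :=
  {w | ∀ g, δ P g = w → δ P (s * g) = (gens P).σ s * w}

theorem one_mem_Q (s : P.S) : (1 : W P) ∈ Q P s := by
  intro g hg
  rw [δ_eq_one_iff] at hg
  rw [δ_mul_right _ hg, δ_simple, mul_one]

theorem exists_δ_conj (s : P.S) : ∃ b ∈ P.B, δ P (s * b * s) = (gens P).σ s := by
  obtain ⟨b, hb, hb'⟩ := exists_conj_notMem P s.2
  refine ⟨b, hb, ?_⟩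
  rcases δ_mul_simple s (s * b) with h | h
  · rw [δ_mul_right _ hb, δ_simple, GenSys.sq, δ_eq_one_iff] at h
    exact absurd h hb'
  · rw [h, δ_mul_right _ hb, δ_simple]

theorem notMem_Q (s : P.S) (w : W P) (hw : w ∈ Q P s) : (gens P).σ s * w ∉ Q P s := by
  intro hw'
  obtain ⟨b, hb, h⟩ := exists_δ_conj s
  rw [← δ_simple, δ_eq_δ_iff] at h
  obtain ⟨b₁, h₁, b₂, h₂, e⟩ := h
  obtain ⟨g, -, rfl⟩ := δ_surjective P w
  have h3 := hw' (b * (s * g)) (by rw [δ_mul_left hb, hw g rfl])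
  have h4 := hw (b₂ * g) (δ_mul_left h₂ g)
  have e2 : (s : G) * (b * (s * g)) = b₁ * (s * (b₂ * g)) := by
    calc (s : G) * (b * (s * g)) = (s * b * s) * g := by group
      _ = _ := by rw [e]; group
  rw [e2, δ_mul_left h₁, h4, GenSys.σ_σ_mul] at h3
  exact σ_ne_one P s (by simpa using h3)

theorem exists_δ_simple_mul_of_notMem_Q {s : P.S} {w : W P} (hw : w ∉ Q P s) :
    ∃ g, δ P g = w ∧ δ P (s * g) = w := by
  unfold Q at hw
  simp only [Set.mem_ofPred_eq, not_forall] at hw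
  obtain ⟨g, rfl, h⟩ := hw
  exact ⟨g, rfl, (δ_simple_mul s g).resolve_left h⟩

theorem Q_exchange (s t : P.S) (w : W P) (hw : w ∈ Q P s) (hw' : w * (gens P).σ t ∉ Q P s) :
    (gens P).σ s * w = w * (gens P).σ t := by
  obtain ⟨g, h1, h2⟩ := exists_δ_simple_mul_of_notMem_Q hw'
  obtain ⟨b₁, h₁, n, hn, b₂, h₂, rfl, h3⟩ := exists_decomp P g
  have h4 : δ P (n * (t : G)⁻¹) = w := by
    rw [δ_mul_simple_inv, δ_mul_of_mem hn (P.subset t.2), h3, h1, δ_simple, GenSys.mul_σ_σ]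
  have h5 := hw (b₁ * (n * (t : G)⁻¹)) (by rw [δ_mul_left h₁, h4])
  have e : (s : G) * (b₁ * n * b₂) = s * (b₁ * (n * (t : G)⁻¹)) * t * b₂ := by group
  rw [e, δ_mul_right _ h₂] at h2
  rcases δ_mul_simple t (s * (b₁ * (n * (t : G)⁻¹))) with h | h
  · rw [h5, h2, mul_assoc] at h
    exact absurd (by simpa using h) (σ_ne_one P s)
  · rw [← h5, ← h, h2]

theorem exchange (P : BNPair G) : (gens P).Exchange :=
  (gens P).exchange_of_family (Q P) one_mem_Q notMem_Q Q_exchange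

theorem mem_Q_iff (s : P.S) (w : W P) :
    w ∈ Q P s ↔ (gens P).len w < (gens P).len ((gens P).σ s * w) :=
  (gens P).mem_iff_len_lt (Q P) one_mem_Q notMem_Q Q_exchange s w

theorem δ_simple_mul_of_lt {s : P.S} {g : G}
    (h : (gens P).len (δ P g) < (gens P).len ((gens P).σ s * δ P g)) :
    δ P (s * g) = (gens P).σ s * δ P g :=
  (mem_Q_iff s _).mpr h g rfl

theorem δ_mul_simple_of_lt {s : P.S} {g : G}
    (h : (gens P).len (δ P g) < (gens P).len (δ P g * (gens P).σ s)) :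
    δ P (g * s) = δ P g * (gens P).σ s := by
  have h1 := δ_simple_mul_of_lt (s := s) (g := g⁻¹) (by
    rw [δ_inv, GenSys.len_inv, ← GenSys.len_inv _ (_ * _), mul_inv_rev, inv_inv, GenSys.σ_inv]
    exact h)
  rw [← δ_simple_inv_mul, ← mul_inv_rev, δ_inv, δ_inv, inv_eq_iff_eq_inv, mul_inv_rev,
    inv_inv, GenSys.σ_inv] at h1
  exact h1

theorem exists_δ_simple_mul_of_le {s : P.S} {w : W P}
    (h : (gens P).len ((gens P).σ s * w) ≤ (gens P).len w) :
    ∃ g, δ P g = w ∧ δ P (s * g) = w :=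
  exists_δ_simple_mul_of_notMem_Q (by rw [mem_Q_iff]; omega)

/-- If lengths add, Bruhat cells multiply. -/
theorem δ_mul_of_len_add (g g' : G)
    (h : (gens P).len (δ P g * δ P g') = (gens P).len (δ P g) + (gens P).len (δ P g')) :
    δ P (g * g') = δ P g * δ P g' := by
  generalize hq : (gens P).len (δ P g) = q at h
  induction q generalizing g with
  | zero =>
    rw [GenSys.len_eq_zero_iff] at hq
    rw [hq, one_mul, δ_mul_left (δ_eq_one_iff.mp hq)]
  | succ q ih =>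
    have hne : δ P g ≠ 1 := by
      intro h0
      rw [h0] at hq
      simp at hq
    obtain ⟨s, w, hw, h3⟩ := (gens P).exists_left_descent hne
    obtain ⟨b₁, h₁, n, hn, b₂, h₂, e, h4⟩ := exists_decomp P g
    have h5 : δ P ((s : G)⁻¹ * n * b₂) = w := by
      rw [δ_mul_right _ h₂, δ_simple_inv_mul, δ_mul_of_mem (P.subset s.2) hn, h4, hw, δ_simple,
        GenSys.σ_σ_mul]
    have h6 := (gens P).len_σ_mul_le s (w * δ P g')
    have h7 := (gens P).len_mul_le w (δ P g')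
    rw [hw, mul_assoc] at h
    have h8 := ih ((s : G)⁻¹ * n * b₂) (by rw [h5]; omega) (by rw [h5]; omega)
    have e2 : g * g' = b₁ * (s * ((s : G)⁻¹ * n * b₂ * g')) := by rw [e]; group
    rw [e2, δ_mul_left h₁, δ_simple_mul_of_lt (by rw [h8, h5]; omega), h8, h5, hw, mul_assoc]

theorem B_le_parabolic (J : Set G) : P.B ≤ P.parabolic J := le_sup_left

theorem subset_parabolic (J : Set G) : J ⊆ P.parabolic J :=
  fun _ hx => (le_sup_right : Subgroup.closure J ≤ P.parabolic J) (Subgroup.subset_closure hx)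

theorem parabolic_le_iff {J : Set G} {M : Subgroup G} :
    P.parabolic J ≤ M ↔ P.B ≤ M ∧ J ⊆ M := by
  unfold BNPair.parabolic
  rw [sup_le_iff, Subgroup.closure_le]

theorem parabolic_mono {J K : Set G} (h : J ⊆ K) : P.parabolic J ≤ P.parabolic K :=
  parabolic_le_iff.mpr ⟨B_le_parabolic K, h.trans (subset_parabolic K)⟩

theorem mem_of_δ_eq {M : Subgroup G} (hM : P.B ≤ M) {g g' : G} (h : δ P g = δ P g')
    (hg' : g' ∈ M) : g ∈ M := by
  obtain ⟨b₁, h₁, b₂, h₂, rfl⟩ := δ_eq_δ_iff.mp h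
  exact M.mul_mem (M.mul_mem (hM h₁) hg') (hM h₂)

theorem prod_mem_N (l : List P.S) : (l.map Subtype.val).prod ∈ P.N := by
  apply Subgroup.list_prod_mem
  intro x hx
  obtain ⟨s, _, rfl⟩ := List.mem_map.mp hx
  exact P.subset s.2

theorem δ_prod (l : List P.S) : δ P (l.map Subtype.val).prod = (gens P).π l := by
  induction l with
  | nil => simpa using δ_eq_one_iff.mpr P.B.one_mem
  | cons s l ih =>
    rw [List.map_cons, List.prod_cons, δ_mul_of_mem (P.subset s.2) (prod_mem_N l), ih, δ_simple,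
      GenSys.π_cons]

/-- `P_J = B W_J B`. -/
theorem mem_parabolic_iff_δ (J : Set P.S) (g : G) :
    g ∈ P.parabolic (Subtype.val '' J) ↔ δ P g ∈ Subgroup.closure ((gens P).σ '' J) := by
  constructor
  · intro hg
    obtain ⟨w, hw, h⟩ := exists_cell_of_mem_parabolic J hg
    rwa [δ_eq_iff.mpr h]
  · intro hg
    obtain ⟨l, hl, h⟩ := ((gens P).mem_closure_iff J _).mp hg
    rw [← δ_prod] at h
    apply mem_of_δ_eq (B_le_parabolic _) h.symm
    apply Subgroup.list_prod_mem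
    intro x hx
    obtain ⟨s, hs, rfl⟩ := List.mem_map.mp hx
    exact subset_parabolic _ ⟨s, hl s hs, rfl⟩

theorem image_preimage_of_subset {J : Set G} (hJ : J ⊆ P.S) :
    Subtype.val '' (Subtype.val ⁻¹' J : Set P.S) = J := by
  rw [Subtype.image_preimage_val]
  exact Set.inter_eq_right.mpr hJ

/-- A distinguished generator in `P_J` lies in `J`. -/
theorem mem_of_mem_parabolic {J : Set G} (hJ : J ⊆ P.S) {s : G} (hs : s ∈ P.S)
    (h : s ∈ P.parabolic J) : s ∈ J := by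
  rw [← image_preimage_of_subset hJ, mem_parabolic_iff_δ] at h
  have h' : δ P s = (gens P).σ ⟨s, hs⟩ := δ_simple ⟨s, hs⟩
  rw [h'] at h
  obtain ⟨j, hj, e⟩ := (exchange P).σ_mem_closure h
  have := σ_injective P e
  subst this
  exact hj

theorem simple_mem_of_conj_le {M : Subgroup G} (hM : P.B ≤ M) {g : G}
    (hg : ∀ b ∈ P.B, g * b * g⁻¹ ∈ M) {s : P.S}
    (h : (gens P).len ((gens P).σ s * δ P g) ≤ (gens P).len (δ P g)) : (s : G) ∈ M := by
  obtain ⟨g', h1, h2⟩ := exists_δ_simple_mul_of_le h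
  obtain ⟨b₁, h₁, b₂, h₂, rfl⟩ := δ_eq_δ_iff.mp h1
  obtain ⟨c₁, k₁, c₂, k₂, e⟩ := δ_eq_δ_iff.mp h2
  have : (s : G) = c₁ * (g * (c₂ * b₂⁻¹) * g⁻¹) * b₁⁻¹ := by
    calc (s : G) = s * (b₁ * g * b₂) * (b₁ * g * b₂)⁻¹ := by group
      _ = _ := by rw [e]; group
  rw [this]
  exact M.mul_mem (M.mul_mem (hM k₁) (hg _ (P.B.mul_mem k₂ (P.B.inv_mem h₂)))) (hM (P.B.inv_mem h₁))

theorem letters_mem_of_conj_le {M : Subgroup G} (hM : P.B ≤ M) (l : List P.S)
    (hl : (gens P).Reduced l) : ∀ g : G, δ P g = (gens P).π l →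
    (∀ b ∈ P.B, g * b * g⁻¹ ∈ M) → ∀ s ∈ l, (s : G) ∈ M := by
  induction l with
  | nil => simp
  | cons s l ih =>
    intro g h1 hg
    have hs : (s : G) ∈ M := by
      apply simple_mem_of_conj_le hM hg
      have h2 := hl.tail
      unfold GenSys.Reduced at hl h2
      rw [h1, hl, GenSys.π_cons, GenSys.σ_σ_mul, h2]
      simp
    obtain ⟨b₁, h₁, n, hn, b₂, h₂, e, h4⟩ := exists_decomp P g
    have h5 : δ P ((s : G)⁻¹ * n) = (gens P).π l := by
      rw [δ_simple_inv_mul, δ_mul_of_mem (P.subset s.2) hn, h4, h1, δ_simple, GenSys.π_cons,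
        GenSys.σ_σ_mul]
    have h6 := ih hl.tail _ h5 (by
      intro b hb
      have h7 := hg (b₂⁻¹ * b * b₂) (P.B.mul_mem (P.B.mul_mem (P.B.inv_mem h₂) hb) h₂)
      have h8 := M.mul_mem (M.mul_mem (M.inv_mem (M.mul_mem (hM h₁) hs)) h7)
        (M.mul_mem (hM h₁) hs)
      convert h8 using 1
      rw [e]; group)
    intro t ht
    rcases List.mem_cons.mp ht with rfl | ht
    · exact hs
    · exact h6 t ht

/-- If an overgroup of `B` contains `g B g⁻¹` then it contains `g`, and `g` lies in the parabolic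
subgroup given by the distinguished generators in it. -/
theorem mem_parabolic_of_conj_le {M : Subgroup G} (hM : P.B ≤ M) {g : G}
    (hg : ∀ b ∈ P.B, g * b * g⁻¹ ∈ M) : g ∈ P.parabolic (P.S ∩ M) := by
  obtain ⟨l, h1, hl⟩ := (gens P).exists_reduced' (δ P g)
  have h2 := letters_mem_of_conj_le hM l hl g h1.symm hg
  rw [← δ_prod] at h1
  apply mem_of_δ_eq (B_le_parabolic _) h1.symm
  apply Subgroup.list_prod_mem
  intro x hx
  obtain ⟨s, hs, rfl⟩ := List.mem_map.mp hx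
  exact subset_parabolic _ ⟨s.2, h2 s hs⟩

theorem parabolic_inter_le {M : Subgroup G} (hM : P.B ≤ M) : P.parabolic (P.S ∩ M) ≤ M :=
  parabolic_le_iff.mpr ⟨hM, Set.inter_subset_right⟩

theorem mem_of_conj_le {M : Subgroup G} (hM : P.B ≤ M) {g : G}
    (hg : ∀ b ∈ P.B, g * b * g⁻¹ ∈ M) : g ∈ M :=
  parabolic_inter_le hM (mem_parabolic_of_conj_le hM hg)

/-- Every overgroup of `B` is a standard parabolic subgroup. -/
theorem eq_parabolic {M : Subgroup G} (hM : P.B ≤ M) : M = P.parabolic (P.S ∩ M) := by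
  refine le_antisymm (fun g hg => mem_parabolic_of_conj_le hM fun b hb => ?_)
    (parabolic_inter_le hM)
  exact M.mul_mem (M.mul_mem hg (hM hb)) (M.inv_mem hg)

theorem inter_parabolic {J : Set G} (hJ : J ⊆ P.S) : P.S ∩ P.parabolic J = J :=
  Set.Subset.antisymm (fun _ hs => mem_of_mem_parabolic hJ hs.1 hs.2)
    (Set.subset_inter hJ (subset_parabolic J))

/-- Overgroups of `B` are self-normalising. -/
theorem normalizer_eq_self {M : Subgroup G} (hM : P.B ≤ M) :
    Subgroup.normalizer (M : Set G) = M := by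
  refine le_antisymm (fun g hg => mem_of_conj_le hM fun b hb => ?_) Subgroup.le_normalizer
  exact (Subgroup.mem_normalizer_iff.mp hg b).mp (hM hb)

theorem parabolic_inf {J K : Set G} (hJ : J ⊆ P.S) (hK : K ⊆ P.S) :
    P.parabolic J ⊓ P.parabolic K = P.parabolic (J ∩ K) := by
  rw [eq_parabolic (le_inf (B_le_parabolic J) (B_le_parabolic K))]
  congr 1
  rw [Subgroup.coe_inf, Set.inter_inter_distrib_left, inter_parabolic hJ, inter_parabolic hK]

theorem parabolic_empty (P : BNPair G) : P.parabolic ∅ = P.B := by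
  simp [BNPair.parabolic]

/-- For a normal subgroup `K`, the generators in `B K` commute (modulo `B`) with the others. -/
theorem commute_of_normal (K : Subgroup G) [hK : K.Normal] {s t : G} (hs : s ∈ P.S)
    (ht : t ∈ P.S) (hsM : s ∈ P.B ⊔ K) (htM : t ∉ P.B ⊔ K) : s * t * s⁻¹ * t⁻¹ ∈ P.B := by
  have hM : P.B ≤ P.B ⊔ K := le_sup_left
  obtain ⟨D, hD⟩ : ∃ D, D = gens P := ⟨_, rfl⟩
  have hE : D.Exchange := hD ▸ exchange P
  let J : Set P.S := Subtype.val ⁻¹' (P.S ∩ (P.B ⊔ K : Subgroup G))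
  have hJ : ∀ g, g ∈ P.B ⊔ K ↔ δ P g ∈ Subgroup.closure (D.σ '' J) := by
    intro g
    rw [hD, ← mem_parabolic_iff_δ, image_preimage_of_subset Set.inter_subset_left,
      ← eq_parabolic hM]
  let s' : P.S := ⟨s, hs⟩
  let t' : P.S := ⟨t, ht⟩
  have hδs : δ P s = D.σ s' := hD ▸ δ_simple s'
  have hδt : δ P t = D.σ t' := hD ▸ δ_simple t'
  have hsJ : D.σ s' ∈ Subgroup.closure (D.σ '' J) := hδs ▸ (hJ s).mp hsM
  have htJ : D.σ t' ∉ Subgroup.closure (D.σ '' J) := fun h => htM ((hJ t).mpr (hδt ▸ h))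
  have hst : D.σ t' ≠ D.σ s' := fun h => htJ (h ▸ hsJ)
  have hlen2 : ∀ a b : P.S, D.σ a ≠ D.σ b → D.len (D.σ a * D.σ b) = 2 := by
    intro a b hab
    rcases hE.len_σ_mul a (D.σ b) with h | h
    · rw [hE.len_σ] at h; exact h
    · rw [hE.len_σ] at h
      have : D.len (D.σ a * D.σ b) = 0 := by omega
      rw [GenSys.len_eq_zero_iff] at this
      exact absurd ((D.σ_inv a).symm.trans (inv_eq_of_mul_eq_one_right this)) hab
  obtain ⟨b, hb, k, hk, e⟩ : ∃ b ∈ P.B, ∃ k ∈ K, b * k = s := by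
    have : s ∈ ((P.B ⊔ K : Subgroup G) : Set G) := hsM
    rw [Subgroup.mul_normal] at this
    exact this
  have hδk : δ P k = D.σ s' := by rw [← δ_mul_left hb, e, hδs]
  have h1 : δ P (t * k) = D.σ t' * D.σ s' := by
    rw [← hδk, hD]
    apply δ_simple_mul_of_lt (s := t')
    rw [← hD, hδk, hE.len_σ, hlen2 _ _ hst]
    norm_num
  have h2 : δ P (t * k * t⁻¹) ∈ Subgroup.closure (D.σ '' J) :=
    (hJ _).mp ((le_sup_right : K ≤ P.B ⊔ K) (hK.conj_mem k hk t))
  have h3 : D.σ t' * D.σ s' * D.σ t' ∈ Subgroup.closure (D.σ '' J) := by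
    rw [δ_mul_simple_inv t'] at h2
    rcases δ_mul_simple t' (t * k) with h | h
    · rwa [h, h1, ← hD] at h2
    · rw [h, h1] at h2
      exfalso
      apply htJ
      simpa using Subgroup.mul_mem _ h2 hsJ
  have h4 : D.len (D.σ t' * D.σ s' * D.σ t') < 2 := by
    by_contra hcon
    apply htJ
    apply hE.σ_mem_closure_of_len_le h3
    rw [mul_assoc] at hcon
    rw [mul_assoc, GenSys.σ_σ_mul, hlen2 _ _ hst.symm]
    omega
  have h5 : D.len (D.σ t' * D.σ s' * D.σ t') = 1 := by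
    rcases hE.len_mul_σ t' (D.σ t' * D.σ s') with h | h
    · rw [hlen2 _ _ hst] at h; omega
    · rw [hlen2 _ _ hst] at h; omega
  obtain ⟨l, hl, hl1, hl2⟩ := hE.exists_reduced_of_mem_closure h3
  unfold GenSys.Reduced at hl2
  rw [hl1, h5] at hl2
  obtain ⟨u, rfl⟩ := List.length_eq_one_iff.mp hl2.symm
  rw [GenSys.π_singleton] at hl1
  have h6 : D.σ s' ∈ Subgroup.closure (D.σ '' {t', u}) := by
    have : D.σ s' = D.σ t' * D.σ u * D.σ t' := by rw [hl1]; simp [mul_assoc, D.sq]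
    rw [this]
    have ht' : D.σ t' ∈ Subgroup.closure (D.σ '' {t', u}) :=
      Subgroup.subset_closure ⟨t', by simp, rfl⟩
    have hu : D.σ u ∈ Subgroup.closure (D.σ '' {t', u}) :=
      Subgroup.subset_closure ⟨u, by simp, rfl⟩
    exact Subgroup.mul_mem _ (Subgroup.mul_mem _ ht' hu) ht'
  obtain ⟨j, hj, hj'⟩ := hE.σ_mem_closure h6
  rcases hj with rfl | rfl
  · exact absurd hj' hst
  · rw [hj'] at hl1
    have hsN := P.subset hs
    have htN := P.subset ht
    rw [← δ_eq_one_iff, δ_mul_of_mem (P.N.mul_mem (P.N.mul_mem hsN htN) (P.N.inv_mem hsN))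
      (P.N.inv_mem htN), δ_mul_of_mem (P.N.mul_mem hsN htN) (P.N.inv_mem hsN),
      δ_mul_of_mem hsN htN, δ_inv, δ_inv, hδs, hδt, D.σ_inv, D.σ_inv, mul_assoc, mul_assoc,
      ← mul_assoc (D.σ t'), ← hl1, D.sq]

/-- In an irreducible (B,N)-pair a normal subgroup lies in `B` or supplements `B`. -/
theorem normal_le_or_sup_eq_top (hirr : P.Irreducible) (K : Subgroup G) [K.Normal] :
    K ≤ P.B ∨ P.B ⊔ K = ⊤ := by
  have hM : P.B ≤ P.B ⊔ K := le_sup_left
  by_cases h1 : (P.S ∩ (P.B ⊔ K : Subgroup G)).Nonempty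
  · by_cases h2 : (P.S \ (P.S ∩ (P.B ⊔ K : Subgroup G))).Nonempty
    · obtain ⟨s, hs, t, ht, h⟩ := hirr _ Set.inter_subset_left h1 h2
      exact absurd (commute_of_normal K hs.1 ht.1 hs.2 fun h => ht.2 ⟨ht.1, h⟩) h
    · right
      rw [Set.not_nonempty_iff_eq_empty, Set.sdiff_eq_empty] at h2
      rw [eq_parabolic hM, eq_top_iff, ← parabolic_S P]
      exact parabolic_mono h2
  · left
    rw [Set.not_nonempty_iff_eq_empty] at h1
    have := eq_parabolic hM
    rw [h1, parabolic_empty] at this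
    rw [← this]
    exact le_sup_right

/-- If `B` is solvable, `G` perfect and `G = B K` with `K` normal, then `K = G`. -/
theorem eq_top_of_sup_eq_top_of_solvable {B K : Subgroup G} [K.Normal]
    (hsolv : Group.IsSolvable B) (hperf : commutator G = ⊤) (h : B ⊔ K = ⊤) : K = ⊤ := by
  have hsurj : Function.Surjective ((QuotientGroup.mk' K).comp B.subtype) := by
    intro x
    obtain ⟨g, rfl⟩ := QuotientGroup.mk_surjective x
    have : g ∈ ((B ⊔ K : Subgroup G) : Set G) := by rw [h]; trivial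
    rw [Subgroup.mul_normal] at this
    obtain ⟨b, hb, k, hk, rfl⟩ := this
    refine ⟨⟨b, hb⟩, ?_⟩
    simp only [MonoidHom.comp_apply, Subgroup.subtype_apply, QuotientGroup.mk'_apply]
    rw [QuotientGroup.eq]
    simpa using hk
  have hq : Group.IsSolvable (G ⧸ K) := Group.isSolvable_of_surjective hsurj
  by_contra hne
  have hnt : Nontrivial (G ⧸ K) := QuotientGroup.nontrivial_iff.mpr hne
  have h1 := Group.IsSolvable.commutator_lt_top_of_nontrivial (G ⧸ K)
  have h2 : commutator (G ⧸ K) = ⊤ := by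
    have := Subgroup.map_commutator (⊤ : Subgroup G) ⊤ (QuotientGroup.mk' K)
    rw [← commutator_def, hperf,
      Subgroup.map_top_of_surjective _ (QuotientGroup.mk'_surjective K)] at this
    exact this.symm
  exact h1.ne h2

/-- Tits' simplicity criterion. -/
theorem isSimpleGroup [Nontrivial G] (hirr : P.Irreducible) (hsolv : Group.IsSolvable P.B)
    (hperf : commutator G = ⊤) (hcore : P.B.normalCore = ⊥) : IsSimpleGroup G := by
  refine ⟨fun K hK => ?_⟩
  rcases normal_le_or_sup_eq_top hirr K with h | h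
  · left
    rw [eq_bot_iff, ← hcore]
    exact Subgroup.normal_le_normalCore.mpr h
  · right
    exact eq_top_of_sup_eq_top_of_solvable hsolv hperf h

end BN
end H8
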