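import Mathlib
import Cfsg.Prelude.Def_LieExceptional

/-!
The Suzuki group `Cfsg.Sz F m` as the stabiliser of the Suzuki–Tits ovoid: explicit elements
`u a b`, `h k`, `w`, their action on the ovoid, and the point stabilisers.
-/

set_option autoImplicit false

namespace H8
namespace Sz

open Cfsg Matrix
open scoped LinearAlgebra.Projectivization Pointwise

/-- The data of a Tits endomorphism `σ = (· ^ 2 ^ (m + 1))` on a field with more than two
elements. -/
structure Ctx (F : Type*) [Field F] (m : ℕ) where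
  σ : F →+* F
  σ_eq : ∀ x, σ x = x ^ 2 ^ (m + 1)
  sq : ∀ x, σ (σ x) = x ^ 2
  exists_ne : ∃ t : F, t ≠ 0 ∧ t ≠ 1

variable {F : Type*} [Field F] {m : ℕ}

theorem charP_two [Fintype F] (hF : Fintype.card F = 2 ^ (2 * m + 1)) : CharP F 2 := by
  obtain ⟨p, hp⟩ := CharP.exists F
  obtain ⟨n, hpp, hn⟩ := FiniteField.card F p
  have : p ∣ 2 ^ (2 * m + 1) := by
    rw [← hF, hn]
    exact dvd_pow_self p n.ne_zero
  have h2 := (Nat.prime_dvd_prime_iff_eq hpp Nat.prime_two).mp (hpp.dvd_of_dvd_pow this)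
  exact h2 ▸ hp

theorem nonempty_ctx [Fintype F] (hm : 1 ≤ m) (hF : Fintype.card F = 2 ^ (2 * m + 1)) :
    Nonempty (Ctx F m) := by
  have := charP_two hF
  refine ⟨⟨iterateFrobenius F 2 (m + 1), fun x => rfl, fun x => ?_, ?_⟩⟩
  · simp only [iterateFrobenius_def]
    rw [← pow_mul, ← pow_add, show m + 1 + (m + 1) = (2 * m + 1) + 1 by ring, pow_succ, pow_mul,
      ← hF, FiniteField.pow_card]
  · by_contra hcon
    push Not at hcon
    classical
    have : (Finset.univ : Finset F) ⊆ {0, 1} := by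
      intro t _
      by_cases h : t = 0
      · simp [h]
      · simp [hcon t h]
    have h1 := Finset.card_le_card this
    have h2 : ({0, 1} : Finset F).card ≤ 2 := Finset.card_le_two
    rw [Finset.card_univ, hF] at h1
    have h3 : 2 ^ 3 ≤ 2 ^ (2 * m + 1) := Nat.pow_le_pow_right (by norm_num) (by omega)
    omega

namespace Ctx

variable (T : Ctx F m)

include T in
theorem two_eq_zero : (2 : F) = 0 := by
  have h := T.sq (1 + 1)
  simp only [map_add, map_one] at h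
  linear_combination -h

theorem σ_eq_zero {x : F} : T.σ x = 0 ↔ x = 0 := map_eq_zero T.σ

theorem σ_inj {x y : F} : T.σ x = T.σ y ↔ x = y := T.σ.injective.eq_iff

theorem eq_one_of_σ_eq_one {x : F} (h : T.σ x = 1) : x = 1 := by
  rw [← T.σ_inj, h, map_one]

theorem eq_one_of_σ_mul {x : F} (h : T.σ x * x = 1) : x = 1 := by
  have h2 := congrArg T.σ h
  rw [map_mul, T.sq, map_one] at h2
  calc x = x * (T.σ x * x) := by rw [h, mul_one]
    _ = x ^ 2 * T.σ x := by ring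
    _ = 1 := h2

theorem eq_one_of_σ_mul_sq {x : F} (h : T.σ x * x ^ 2 = 1) : x = 1 := by
  have h2 := congrArg T.σ h
  rw [map_mul, T.sq, map_one, map_pow] at h2
  have h0 := T.two_eq_zero
  apply T.eq_one_of_σ_mul
  have : (T.σ x * x - 1) ^ 2 = 0 := by grind
  have := pow_eq_zero_iff (n := 2) (by norm_num) |>.mp this
  exact sub_eq_zero.mp this

theorem exists_σ_ne_sq : ∃ t : F, T.σ t ≠ t ^ 2 := by
  obtain ⟨t, h0, h1⟩ := T.exists_ne
  refine ⟨t, fun h => ?_⟩
  have h2 := congrArg T.σ h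
  rw [T.sq, map_pow, h] at h2
  have h3 := T.two_eq_zero
  have : t ^ 2 * (t - 1) ^ 2 = 0 := by grind
  rcases mul_eq_zero.mp this with h | h
  · exact h0 (pow_eq_zero_iff (by norm_num) |>.mp h)
  · exact h1 (sub_eq_zero.mp (pow_eq_zero_iff (by norm_num) |>.mp h))

theorem exists_σ_ne : ∃ t : F, T.σ t ≠ t := by
  obtain ⟨t, h0, h1⟩ := T.exists_ne
  refine ⟨t, fun h => ?_⟩
  have h2 := T.sq t
  rw [h, h] at h2
  have : t * (t - 1) = 0 := by linear_combination -h2
  rcases mul_eq_zero.mp this with h | h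
  · exact h0 h
  · exact h1 (sub_eq_zero.mp h)

/-- The function defining the ovoid. -/
def f (x y : F) : F := x * y + T.σ x * x ^ 2 + T.σ y

theorem σ_f (x y : F) : T.σ (T.f x y) = T.σ x * T.σ y + x ^ 2 * T.σ x ^ 2 + y ^ 2 := by
  simp [f, T.sq]

@[simp] theorem f_zero : T.f 0 0 = 0 := by simp [f]

theorem f_identity (x y : F) :
    x * y * T.σ (T.f x y) + T.σ y * y ^ 2 + T.σ x * T.f x y ^ 2 = T.σ (T.f x y) * T.f x y := by
  have h2 := T.two_eq_zero
  rw [σ_f, f]
  grind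

theorem f_eq_zero {x y : F} (h : T.f x y = 0) : x = 0 ∧ y = 0 := by
  have h1 := T.f_identity x y
  rw [h] at h1
  simp only [map_zero, mul_zero, zero_add, ne_eq, OfNat.ofNat_ne_zero, not_false_eq_true,
    zero_pow, add_zero, mul_eq_zero, map_eq_zero, pow_eq_zero_iff, or_self] at h1
  subst h1
  simpa [f] using h

theorem f_div {x y : F} (h : T.f x y ≠ 0) :
    T.f (y / T.f x y) (x / T.f x y) = 1 / T.f x y := by
  have h1 := T.f_identity x y
  have h2 : T.σ (T.f x y) ≠ 0 := fun h' => h (T.σ_eq_zero.mp h')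
  generalize T.f x y = z at *
  simp only [f, map_div₀]
  field_simp
  linear_combination h1

/-- The vector spanning the ovoid point with parameters `x`, `y`. -/
def vec (x y : F) : Fin 4 → F := ![T.f x y, y, x, 1]

theorem vec_ne_zero (x y : F) : T.vec x y ≠ 0 := by
  intro h
  have := congrFun h 3
  simp [vec] at this

/-- The ovoid point with parameters `x`, `y`. -/
def pt (x y : F) : ℙ F (Fin 4 → F) := Projectivization.mk F (T.vec x y) (T.vec_ne_zero x y)

end Ctx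

/-- The point at infinity. -/
abbrev inf (F : Type*) [Field F] : ℙ F (Fin 4 → F) := suzukiPointInfinity F

theorem e0_ne_zero : (![1, 0, 0, 0] : Fin 4 → F) ≠ 0 := by simp

theorem inf_def : inf F = Projectivization.mk F ![1, 0, 0, 0] e0_ne_zero := rfl

theorem smul_mk_eq_mk_iff (g : SpecialLinearGroup (Fin 4) F) {v v' : Fin 4 → F} (hv : v ≠ 0)
    (hv' : v' ≠ 0) : g • Projectivization.mk F v hv = Projectivization.mk F v' hv' ↔
      ∃ c : F, (g : Matrix (Fin 4) (Fin 4) F) *ᵥ v = c • v' := by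
  rw [Projectivization.smul_mk, Projectivization.mk_eq_mk_iff']
  exact ⟨fun ⟨c, hc⟩ => ⟨c, hc.symm⟩, fun ⟨c, hc⟩ => ⟨c, hc.symm⟩⟩

theorem mulVec_ne_zero (g : SpecialLinearGroup (Fin 4) F) {v : Fin 4 → F} (hv : v ≠ 0) :
    (g : Matrix (Fin 4) (Fin 4) F) *ᵥ v ≠ 0 :=
  (smul_ne_zero_iff_ne g).mpr hv

namespace Ctx

variable (T : Ctx F m)

theorem pt_zero : T.pt 0 0 = suzukiPointZero F := by
  simp [pt, vec, suzukiPointZero]

theorem pt_ne_inf (x y : F) : T.pt x y ≠ inf F := by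
  intro h
  rw [pt, inf_def, Projectivization.mk_eq_mk_iff'] at h
  obtain ⟨c, hc⟩ := h
  have := congrFun hc 3
  simp [vec] at this

theorem pt_inj {x y x' y' : F} : T.pt x y = T.pt x' y' ↔ x = x' ∧ y = y' := by
  constructor
  · intro h
    rw [pt, pt, Projectivization.mk_eq_mk_iff'] at h
    obtain ⟨c, hc⟩ := h
    have h3 := congrFun hc 3
    have h2 := congrFun hc 2
    have h1 := congrFun hc 1
    simp [vec] at h1 h2 h3
    subst h3
    exact ⟨by simpa using h2.symm, by simpa using h1.symm⟩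
  · rintro ⟨rfl, rfl⟩
    rfl

theorem mem_ovoid_iff (p : ℙ F (Fin 4 → F)) :
    p ∈ suzukiOvoid F m ↔ p = inf F ∨ ∃ x y, p = T.pt x y := by
  have key : ∀ x y : F, (![x * y + x ^ (2 ^ (m + 1) + 2) + y ^ (2 ^ (m + 1)), y, x, 1] :
      Fin 4 → F) = T.vec x y := by
    intro x y
    simp only [vec, f, T.σ_eq, pow_add]
  constructor
  · rintro ⟨v, hv, rfl, h | ⟨x, y, h⟩⟩
    · left; subst h; rfl
    · right
      rw [key] at h
      subst h
      exact ⟨x, y, rfl⟩
  · rintro (rfl | ⟨x, y, rfl⟩)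
    · exact ⟨_, _, rfl, Or.inl rfl⟩
    · exact ⟨_, _, rfl, Or.inr ⟨x, y, (key x y).symm⟩⟩

include T in
theorem inf_mem : inf F ∈ suzukiOvoid F m := (T.mem_ovoid_iff _).mpr (Or.inl rfl)

theorem pt_mem (x y : F) : T.pt x y ∈ suzukiOvoid F m :=
  (T.mem_ovoid_iff _).mpr (Or.inr ⟨x, y, rfl⟩)

end Ctx

theorem mem_Sz_of {g : SpecialLinearGroup (Fin 4) F}
    (h1 : ∀ p ∈ suzukiOvoid F m, g • p ∈ suzukiOvoid F m)
    (h2 : ∀ p ∈ suzukiOvoid F m, g⁻¹ • p ∈ suzukiOvoid F m) : g ∈ Cfsg.Sz F m := by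
  rw [MulAction.mem_stabilizer_iff]
  ext p
  rw [Set.mem_smul_set_iff_inv_smul_mem]
  exact ⟨fun h => by simpa using h1 _ h, h2 p⟩

theorem smul_mem (g : Cfsg.Sz F m) {p : ℙ F (Fin 4 → F)} (hp : p ∈ suzukiOvoid F m) :
    g • p ∈ suzukiOvoid F m := by
  have := MulAction.mem_stabilizer_iff.mp g.2
  rw [← this]
  exact Set.smul_mem_smul_set hp

/-- The matrix of an element of the Suzuki group. -/
abbrev mat (g : Cfsg.Sz F m) : Matrix (Fin 4) (Fin 4) F :=
  ((g : SpecialLinearGroup (Fin 4) F) : Matrix (Fin 4) (Fin 4) F)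

theorem mat_injective {g g' : Cfsg.Sz F m} (h : mat g = mat g') : g = g' :=
  Subtype.ext (Subtype.ext h)

theorem mat_mul (g g' : Cfsg.Sz F m) : mat (g * g') = mat g * mat g' := rfl

theorem mat_one : mat (1 : Cfsg.Sz F m) = 1 := rfl

theorem smul_def (g : Cfsg.Sz F m) (p : ℙ F (Fin 4 → F)) :
    g • p = (g : SpecialLinearGroup (Fin 4) F) • p := rfl

namespace Ctx

variable (T : Ctx F m)

/-- The unipotent matrices. -/
def uSL (a b : F) : SpecialLinearGroup (Fin 4) F :=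
  ⟨!![1, a, b + T.σ a * a, T.f a b; 0, 1, T.σ a, b; 0, 0, 1, a; 0, 0, 0, 1], by
    simp [Matrix.det_succ_column_zero, Fin.sum_univ_succ]⟩

/-- The diagonal matrices. -/
def hSL (k : Fˣ) : SpecialLinearGroup (Fin 4) F :=
  ⟨!![T.σ k * k, 0, 0, 0; 0, k, 0, 0; 0, 0, (k : F)⁻¹, 0; 0, 0, 0, (T.σ k * k)⁻¹], by
    have : T.σ k ≠ 0 := by simp
    simp [Matrix.det_succ_column_zero, Fin.sum_univ_succ]
    field_simp⟩

/-- The Weyl element. -/
def wSL (F : Type*) [Field F] : SpecialLinearGroup (Fin 4) F :=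
  ⟨!![0, 0, 0, 1; 0, 0, 1, 0; 0, 1, 0, 0; 1, 0, 0, 0], by
    simp [Matrix.det_succ_column_zero, Fin.sum_univ_succ, Fin.succAbove]
    norm_num⟩

theorem uSL_mul (a b c d : F) : T.uSL a b * T.uSL c d = T.uSL (a + c) (b + d + T.σ a * c) := by
  have h2 := T.two_eq_zero
  ext i j
  change ((T.uSL a b).1 * (T.uSL c d).1) i j = _
  fin_cases i <;> fin_cases j <;>
    simp [uSL, Matrix.mul_apply, Fin.sum_univ_four, f, T.sq] <;> grind

theorem uSL_zero : T.uSL 0 0 = 1 := by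
  ext i j
  fin_cases i <;> fin_cases j <;> simp [uSL]

theorem uSL_inv (a b : F) : (T.uSL a b)⁻¹ = T.uSL a (b + T.σ a * a) := by
  have h2 := T.two_eq_zero
  rw [inv_eq_iff_mul_eq_one, uSL_mul, ← T.uSL_zero]
  congr 1 <;> grind

theorem hSL_mul (k l : Fˣ) : T.hSL k * T.hSL l = T.hSL (k * l) := by
  ext i j
  change ((T.hSL k).1 * (T.hSL l).1) i j = _
  fin_cases i <;> fin_cases j <;>
    simp [hSL, Matrix.mul_apply, Fin.sum_univ_four] <;> ring

theorem hSL_one : T.hSL 1 = 1 := by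
  ext i j
  fin_cases i <;> fin_cases j <;> simp [hSL]

theorem hSL_inv (k : Fˣ) : (T.hSL k)⁻¹ = T.hSL k⁻¹ := by
  rw [inv_eq_iff_mul_eq_one, hSL_mul, mul_inv_cancel, hSL_one]

theorem wSL_mul_wSL : wSL F * wSL F = 1 := by
  ext i j
  change ((wSL F).1 * (wSL F).1) i j = (1 : Matrix (Fin 4) (Fin 4) F) i j
  fin_cases i <;> fin_cases j <;> simp [wSL, Matrix.mul_apply, Fin.sum_univ_four]

theorem uSL_inf (a b : F) : T.uSL a b • inf F = inf F := by
  rw [inf_def, smul_mk_eq_mk_iff]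
  refine ⟨1, ?_⟩
  ext i
  fin_cases i <;> simp [uSL, Matrix.mulVec, dotProduct, Fin.sum_univ_four]

theorem uSL_pt (a b x y : F) : T.uSL a b • T.pt x y = T.pt (x + a) (y + b + T.σ a * x) := by
  have h2 := T.two_eq_zero
  rw [pt, pt, smul_mk_eq_mk_iff]
  refine ⟨1, ?_⟩
  ext i
  fin_cases i <;>
    simp [uSL, vec, Matrix.mulVec, dotProduct, Fin.sum_univ_four, f, T.sq] <;> grind

theorem hSL_inf (k : Fˣ) : T.hSL k • inf F = inf F := by
  rw [inf_def, smul_mk_eq_mk_iff]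
  refine ⟨T.σ k * k, ?_⟩
  ext i
  fin_cases i <;> simp [hSL, Matrix.mulVec, dotProduct, Fin.sum_univ_four]

theorem hSL_pt (k : Fˣ) (x y : F) :
    T.hSL k • T.pt x y = T.pt (T.σ k * x) (T.σ k * k ^ 2 * y) := by
  have : T.σ k ≠ 0 := by simp
  rw [pt, pt, smul_mk_eq_mk_iff]
  refine ⟨(T.σ k * k)⁻¹, ?_⟩
  ext i
  fin_cases i <;>
    simp [hSL, vec, Matrix.mulVec, dotProduct, Fin.sum_univ_four, f, T.sq] <;> field_simp

theorem wSL_inf : wSL F • inf F = T.pt 0 0 := by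
  rw [inf_def, pt, smul_mk_eq_mk_iff]
  refine ⟨1, ?_⟩
  ext i
  fin_cases i <;> simp [wSL, vec, Matrix.mulVec, dotProduct, Fin.sum_univ_four]

theorem wSL_pt_zero : wSL F • T.pt 0 0 = inf F := by
  rw [inf_def, pt, smul_mk_eq_mk_iff]
  refine ⟨1, ?_⟩
  ext i
  fin_cases i <;> simp [wSL, vec, Matrix.mulVec, dotProduct, Fin.sum_univ_four]

theorem wSL_pt {x y : F} (h : T.f x y ≠ 0) :
    wSL F • T.pt x y = T.pt (y / T.f x y) (x / T.f x y) := by
  rw [pt, pt, smul_mk_eq_mk_iff]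
  refine ⟨T.f x y, ?_⟩
  ext i
  fin_cases i <;>
    simp [wSL, vec, Matrix.mulVec, dotProduct, Fin.sum_univ_four, T.f_div h] <;> field_simp

theorem uSL_mem (a b : F) : T.uSL a b ∈ Cfsg.Sz F m := by
  have key : ∀ a b, ∀ p ∈ suzukiOvoid F m, T.uSL a b • p ∈ suzukiOvoid F m := by
    intro a b p hp
    rcases (T.mem_ovoid_iff p).mp hp with rfl | ⟨x, y, rfl⟩
    · rw [uSL_inf]; exact hp
    · rw [uSL_pt]; exact T.pt_mem _ _
  exact mem_Sz_of (key a b) (T.uSL_inv a b ▸ key _ _)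

theorem hSL_mem (k : Fˣ) : T.hSL k ∈ Cfsg.Sz F m := by
  have key : ∀ k, ∀ p ∈ suzukiOvoid F m, T.hSL k • p ∈ suzukiOvoid F m := by
    intro k p hp
    rcases (T.mem_ovoid_iff p).mp hp with rfl | ⟨x, y, rfl⟩
    · rw [hSL_inf]; exact hp
    · rw [hSL_pt]; exact T.pt_mem _ _
  exact mem_Sz_of (key k) (T.hSL_inv k ▸ key _)

include T in
theorem wSL_mem : wSL F ∈ Cfsg.Sz F m := by
  have key : ∀ p ∈ suzukiOvoid F m, wSL F • p ∈ suzukiOvoid F m := by
    intro p hp
    rcases (T.mem_ovoid_iff p).mp hp with rfl | ⟨x, y, rfl⟩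
    · rw [T.wSL_inf]; exact T.pt_mem _ _
    · by_cases h : T.f x y = 0
      · obtain ⟨rfl, rfl⟩ := T.f_eq_zero h
        rw [wSL_pt_zero]; exact T.inf_mem
      · rw [T.wSL_pt h]; exact T.pt_mem _ _
  refine mem_Sz_of key ?_
  rw [inv_eq_of_mul_eq_one_right (wSL_mul_wSL (F := F))]
  exact key

/-- The unipotent elements of the Suzuki group. -/
def u (a b : F) : Cfsg.Sz F m := ⟨T.uSL a b, T.uSL_mem a b⟩

/-- The diagonal elements of the Suzuki group. -/
def h (k : Fˣ) : Cfsg.Sz F m := ⟨T.hSL k, T.hSL_mem k⟩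

/-- The Weyl element of the Suzuki group. -/
def w : Cfsg.Sz F m := ⟨wSL F, T.wSL_mem⟩

theorem mat_u (a b : F) : mat (T.u a b) =
    !![1, a, b + T.σ a * a, T.f a b; 0, 1, T.σ a, b; 0, 0, 1, a; 0, 0, 0, 1] := rfl

theorem mat_h (k : Fˣ) : mat (T.h k) =
    !![T.σ k * k, 0, 0, 0; 0, k, 0, 0; 0, 0, (k : F)⁻¹, 0; 0, 0, 0, (T.σ k * k)⁻¹] := rfl

theorem mat_w : mat T.w = !![0, 0, 0, 1; 0, 0, 1, 0; 0, 1, 0, 0; 1, 0, 0, 0] := rfl

theorem u_mul (a b c d : F) : T.u a b * T.u c d = T.u (a + c) (b + d + T.σ a * c) :=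
  Subtype.ext (T.uSL_mul a b c d)

theorem u_zero : T.u 0 0 = 1 := Subtype.ext T.uSL_zero

theorem u_inv (a b : F) : (T.u a b)⁻¹ = T.u a (b + T.σ a * a) := Subtype.ext (T.uSL_inv a b)

theorem h_mul (k l : Fˣ) : T.h k * T.h l = T.h (k * l) := Subtype.ext (T.hSL_mul k l)

theorem h_one : T.h 1 = 1 := Subtype.ext T.hSL_one

theorem h_inv (k : Fˣ) : (T.h k)⁻¹ = T.h k⁻¹ := Subtype.ext (T.hSL_inv k)

theorem w_mul_w : T.w * T.w = 1 := Subtype.ext wSL_mul_wSL

theorem w_inv : T.w⁻¹ = T.w := inv_eq_of_mul_eq_one_right T.w_mul_w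

theorem u_inf (a b : F) : T.u a b • inf F = inf F := T.uSL_inf a b

theorem u_pt (a b x y : F) : T.u a b • T.pt x y = T.pt (x + a) (y + b + T.σ a * x) :=
  T.uSL_pt a b x y

theorem h_inf (k : Fˣ) : T.h k • inf F = inf F := T.hSL_inf k

theorem h_pt (k : Fˣ) (x y : F) : T.h k • T.pt x y = T.pt (T.σ k * x) (T.σ k * k ^ 2 * y) :=
  T.hSL_pt k x y

theorem w_inf : T.w • inf F = T.pt 0 0 := T.wSL_inf

theorem w_pt_zero : T.w • T.pt 0 0 = inf F := T.wSL_pt_zero

theorem w_pt {x y : F} (h : T.f x y ≠ 0) :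
    T.w • T.pt x y = T.pt (y / T.f x y) (x / T.f x y) := T.wSL_pt h

theorem u_pt_zero (a b : F) : T.u a b • T.pt 0 0 = T.pt a b := by simp [u_pt]

theorem h_pt_zero (k : Fˣ) : T.h k • T.pt 0 0 = T.pt 0 0 := by simp [h_pt]

theorem u_inj {a b c d : F} : T.u a b = T.u c d ↔ a = c ∧ b = d := by
  constructor
  · intro h
    rw [← T.pt_inj, ← T.u_pt_zero a b, ← T.u_pt_zero c d, h]
  · rintro ⟨rfl, rfl⟩
    rfl

theorem h_inj {k l : Fˣ} : T.h k = T.h l ↔ k = l := by
  constructor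
  · intro h
    have := congrFun (congrFun (congrArg mat h) 1) 1
    simpa [mat_h, Units.ext_iff] using this
  · rintro rfl
    rfl

theorem h_mul_u (k : Fˣ) (a b : F) :
    T.h k * T.u a b = T.u (T.σ k * a) (T.σ k * k ^ 2 * b) * T.h k := by
  have : T.σ k ≠ 0 := by simp
  apply mat_injective
  rw [mat_mul, mat_mul, mat_u, mat_u, mat_h]
  ext i j
  fin_cases i <;> fin_cases j <;>
    simp [Matrix.mul_apply, Fin.sum_univ_four, f, T.sq] <;> field_simp

theorem w_mul_h (k : Fˣ) : T.w * T.h k = T.h k⁻¹ * T.w := by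
  apply mat_injective
  rw [mat_mul, mat_mul, mat_w, mat_h, mat_h]
  ext i j
  fin_cases i <;> fin_cases j <;>
    simp [Matrix.mul_apply, Fin.sum_univ_four, mul_comm]

include T in
/-- An element fixing the point at infinity preserves the tangent plane there. -/
theorem entries_of_fix_inf (g : Cfsg.Sz F m) (hg : g • inf F = inf F) :
    mat g 1 0 = 0 ∧ mat g 2 0 = 0 ∧ mat g 3 0 = 0 ∧ mat g 3 1 = 0 ∧ mat g 3 2 = 0 := by
  have h1 := hg
  rw [smul_def, inf_def, smul_mk_eq_mk_iff] at h1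
  obtain ⟨c, hc⟩ := h1
  have e1 := congrFun hc 1
  have e2 := congrFun hc 2
  have e3 := congrFun hc 3
  simp [Matrix.mulVec, dotProduct, Fin.sum_univ_four] at e1 e2 e3
  have key : ∀ x y : F, mat g 3 1 * y + mat g 3 2 * x + mat g 3 3 ≠ 0 := by
    intro x y h
    rcases (T.mem_ovoid_iff _).mp (smul_mem g (T.pt_mem x y)) with h' | ⟨x', y', h'⟩
    · rw [← hg] at h'
      exact T.pt_ne_inf x y (smul_left_cancel g h')
    · rw [smul_def, pt, pt, smul_mk_eq_mk_iff] at h'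
      obtain ⟨d, hd⟩ := h'
      have e := congrFun hd 3
      simp [Matrix.mulVec, dotProduct, Fin.sum_univ_four, vec, e3] at e
      have hd0 : d = 0 := by rw [← e, ← h]
      rw [hd0, zero_smul] at hd
      exact mulVec_ne_zero _ (T.vec_ne_zero x y) hd
  refine ⟨e1, e2, e3, ?_, ?_⟩
  · by_contra h
    apply key 0 (-mat g 3 3 / mat g 3 1)
    field_simp
    ring
  · by_contra h
    apply key (-mat g 3 3 / mat g 3 2) 0
    field_simp
    ring

theorem aux_diag {l α β γ δ : F} (hl : l ≠ 0)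
    (H : ∀ x y, l * T.f x y = T.f (α * x + β * y) (γ * x + δ * y)) :
    β = 0 ∧ γ = 0 ∧ δ = T.σ α * α ∧ l = T.σ α * α ^ 2 := by
  have h2 := T.two_eq_zero
  obtain ⟨t, ht⟩ := T.exists_σ_ne_sq
  have ht' : T.σ t + t ^ 2 ≠ 0 := fun h => ht (by grind)
  have hβ : β = 0 := by
    have e1 := H 0 1
    have e2 := H 0 t
    have e3 := H 0 (1 + t)
    simp only [f, map_add, map_mul, map_one, map_zero] at e1 e2 e3
    have : T.σ β * β ^ 2 * (T.σ t + t ^ 2) = 0 := by grind
    simpa [ht'] using this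
  subst hβ
  have hl' : l = T.σ α * α ^ 2 := by
    have e1 := H 1 0
    have e2 := H t 0
    have e3 := H (1 + t) 0
    simp only [f, map_add, map_mul, map_one, map_zero] at e1 e2 e3
    have : (l - T.σ α * α ^ 2) * (T.σ t + t ^ 2) = 0 := by grind
    exact sub_eq_zero.mp ((mul_eq_zero.mp this).resolve_right ht')
  have hα : α ≠ 0 := by
    rintro rfl
    simp at hl'
    exact hl hl'
  have hδ : δ = T.σ α * α := by
    have e1 := H 1 0
    have e2 := H 0 1
    have e3 := H 1 1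
    simp only [f, map_add, map_mul, map_one, map_zero] at e1 e2 e3
    have : α * (δ - T.σ α * α) = 0 := by grind
    exact sub_eq_zero.mp ((mul_eq_zero.mp this).resolve_left hα)
  refine ⟨rfl, ?_, hδ, hl'⟩
  have e1 := H 1 0
  have e2 := H t 0
  simp only [f, map_add, map_mul, map_one, map_zero] at e1 e2
  have : α * γ * (T.σ t + t ^ 2) = 0 := by grind
  simpa [ht', hα] using this

/-- The two-point stabiliser is the diagonal torus. -/
theorem exists_eq_h (g : Cfsg.Sz F m) (h1 : g • inf F = inf F) (h0 : g • T.pt 0 0 = T.pt 0 0) :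
    ∃ k, g = T.h k := by
  have h2 := T.two_eq_zero
  obtain ⟨a10, a20, a30, a31, a32⟩ := T.entries_of_fix_inf g h1
  have h1' : (T.w * g * T.w) • inf F = inf F := by
    rw [mul_smul, mul_smul, w_inf, h0, w_pt_zero]
  obtain ⟨a23, a13, a03, a02, a01⟩ := T.entries_of_fix_inf _ h1'
  simp [mat_mul, mat_w, Matrix.mul_apply, Fin.sum_univ_four, Matrix.vecMul,
    dotProduct] at a23 a13 a03 a02 a01
  have hdet : (mat g).det = 1 := g.1.2
  have hg : mat g = !![mat g 0 0, 0, 0, 0; 0, mat g 1 1, mat g 1 2, 0;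
      0, mat g 2 1, mat g 2 2, 0; 0, 0, 0, mat g 3 3] := by
    ext i j
    fin_cases i <;> fin_cases j <;> simp [*]
  generalize mat g 0 0 = a at hg
  generalize mat g 1 1 = b at hg
  generalize mat g 1 2 = c at hg
  generalize mat g 2 1 = d at hg
  generalize mat g 2 2 = e at hg
  generalize mat g 3 3 = z at hg
  rw [hg] at hdet
  simp [Matrix.det_succ_column_zero, Fin.sum_univ_succ, Fin.succAbove] at hdet
  have hz : z ≠ 0 := by
    rintro rfl
    simp at hdet
  have ha : a ≠ 0 := by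
    rintro rfl
    simp at hdet
  have H : ∀ x y, a / z * T.f x y = T.f (e / z * x + d / z * y) (c / z * x + b / z * y) := by
    intro x y
    rcases (T.mem_ovoid_iff _).mp (smul_mem g (T.pt_mem x y)) with h' | ⟨x', y', h'⟩
    · rw [← h1] at h'
      exact absurd (smul_left_cancel g h') (T.pt_ne_inf x y)
    · rw [smul_def, pt, pt, smul_mk_eq_mk_iff] at h'
      obtain ⟨s, hs⟩ := h'
      change mat g *ᵥ _ = _ at hs
      rw [hg] at hs
      have e0 := congrFun hs 0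
      have e1 := congrFun hs 1
      have e2 := congrFun hs 2
      have e3 := congrFun hs 3
      simp [Matrix.mulVec, dotProduct, Fin.sum_univ_four, vec] at e0 e1 e2 e3
      subst e3
      have ex : e / z * x + d / z * y = x' := by field_simp; linear_combination e2
      have ey : c / z * x + b / z * y = y' := by field_simp; linear_combination e1
      rw [ex, ey]
      field_simp
      exact e0
  obtain ⟨k1, k2, k3, k4⟩ := T.aux_diag (div_ne_zero ha hz) H
  have hd : d = 0 := by simpa [hz] using k1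
  have hc : c = 0 := by simpa [hz] using k2
  subst hd hc
  obtain ⟨α, hα⟩ : ∃ α, α = e / z := ⟨_, rfl⟩
  rw [← hα] at k3 k4
  have ee : e = α * z := by rw [hα]; field_simp
  have eb : b = T.σ α * α * z := by rw [← k3]; field_simp
  have ea : a = T.σ α * α ^ 2 * z := by rw [← k4]; field_simp
  have h4 : (z ^ 2 * T.σ α * α ^ 2 - 1) ^ 2 = 0 := by
    rw [ee, eb, ea] at hdet
    grind
  have h5 : z ^ 2 * T.σ α * α ^ 2 = 1 :=
    sub_eq_zero.mp (pow_eq_zero_iff (by norm_num) |>.mp h4)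
  have h6 := congrArg T.σ h5
  simp only [map_mul, map_pow, T.sq, map_one] at h6
  have h7 : (T.σ z * α * T.σ α - 1) ^ 2 = 0 := by grind
  have h8 : T.σ z * α * T.σ α = 1 :=
    sub_eq_zero.mp (pow_eq_zero_iff (by norm_num) |>.mp h7)
  have hα0 : α ≠ 0 := by
    rintro rfl
    simp at h5
  have hb : b ≠ 0 := by
    rw [eb]
    simp [hα0, hz]
  have hσb : T.σ b = α := by
    rw [eb]
    simp only [map_mul, T.sq]
    linear_combination α * h8
  refine ⟨Units.mk0 b hb, mat_injective ?_⟩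
  rw [hg, mat_h]
  simp only [Units.val_mk0, hσb]
  have i1 : b⁻¹ = e := by
    apply inv_eq_of_mul_eq_one_right
    rw [eb, ee]
    linear_combination h5
  have i2 : (α * b)⁻¹ = z := by
    apply inv_eq_of_mul_eq_one_right
    rw [eb]
    linear_combination h5
  have i3 : α * b = a := by rw [eb, ea]; ring
  rw [i1, i2, i3]

/-- The stabiliser of the point at infinity. -/
theorem exists_eq_u_mul_h (g : Cfsg.Sz F m) (h1 : g • inf F = inf F) :
    ∃ a b k, g = T.u a b * T.h k := by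
  rcases (T.mem_ovoid_iff _).mp (smul_mem g (T.pt_mem 0 0)) with h' | ⟨a, b, h'⟩
  · rw [← h1] at h'
    exact absurd (smul_left_cancel g h') (T.pt_ne_inf 0 0)
  · obtain ⟨k, hk⟩ := T.exists_eq_h ((T.u a b)⁻¹ * g)
      (by rw [mul_smul, h1, inv_smul_eq_iff, u_inf])
      (by rw [mul_smul, h', inv_smul_eq_iff, u_pt_zero])
    exact ⟨a, b, k, by rw [← hk]; group⟩

/-- The Bruhat decomposition. -/
theorem bruhat (g : Cfsg.Sz F m) :
    (∃ a b k, g = T.u a b * T.h k) ∨ ∃ a b c d k, g = T.u a b * T.w * (T.u c d * T.h k) := by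
  rcases (T.mem_ovoid_iff _).mp (smul_mem g T.inf_mem) with h' | ⟨a, b, h'⟩
  · exact Or.inl (T.exists_eq_u_mul_h g h')
  · obtain ⟨c, d, k, hk⟩ := T.exists_eq_u_mul_h ((T.u a b * T.w)⁻¹ * g)
      (by rw [mul_smul, h', inv_smul_eq_iff, mul_smul, w_inf, u_pt_zero])
    exact Or.inr ⟨a, b, c, d, k, by rw [← hk]; group⟩

/-- Induction principle: the Suzuki group is generated by the `u a b`, `h k` and `w`. -/
theorem induction_on {P : Cfsg.Sz F m → Prop} (hu : ∀ a b, P (T.u a b)) (hh : ∀ k, P (T.h k))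
    (hw : P T.w) (hmul : ∀ g g', P g → P g' → P (g * g')) (g : Cfsg.Sz F m) : P g := by
  rcases T.bruhat g with ⟨a, b, k, rfl⟩ | ⟨a, b, c, d, k, rfl⟩
  · exact hmul _ _ (hu a b) (hh k)
  · exact hmul _ _ (hmul _ _ (hu a b) hw) (hmul _ _ (hu c d) (hh k))

theorem u_mul_h_inj {a b c d : F} {k l : Fˣ} (e : T.u a b * T.h k = T.u c d * T.h l) :
    a = c ∧ b = d ∧ k = l := by
  have h1 := congrArg (· • T.pt 0 0) e
  simp only [mul_smul, h_pt_zero, u_pt_zero, pt_inj] at h1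
  obtain ⟨rfl, rfl⟩ := h1
  exact ⟨rfl, rfl, T.h_inj.mp (mul_left_cancel e)⟩

include T in
theorem exists_smul_inf {p : ℙ F (Fin 4 → F)} (hp : p ∈ suzukiOvoid F m) :
    ∃ g : Cfsg.Sz F m, g • inf F = p := by
  rcases (T.mem_ovoid_iff _).mp hp with rfl | ⟨a, b, rfl⟩
  · exact ⟨1, one_smul _ _⟩
  · exact ⟨T.u a b * T.w, by rw [mul_smul, w_inf, u_pt_zero]⟩

/-- Double transitivity on the ovoid. -/
theorem exists_smul_pair {p q : ℙ F (Fin 4 → F)} (hp : p ∈ suzukiOvoid F m)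
    (hq : q ∈ suzukiOvoid F m) (hpq : p ≠ q) :
    ∃ g : Cfsg.Sz F m, g • inf F = p ∧ g • T.pt 0 0 = q := by
  obtain ⟨g, rfl⟩ := T.exists_smul_inf hp
  rcases (T.mem_ovoid_iff _).mp (smul_mem g⁻¹ hq) with h | ⟨a, b, h⟩
  · rw [inv_smul_eq_iff] at h
    exact absurd h.symm hpq
  · refine ⟨g * T.u a b, by rw [mul_smul, u_inf], ?_⟩
    rw [mul_smul, u_pt_zero, ← h, smul_inv_smul]

theorem eq_one_of_h_pt {k : Fˣ} {x y : F} (hxy : ¬ (x = 0 ∧ y = 0))
    (h : T.h k • T.pt x y = T.pt x y) : k = 1 := by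
  rw [h_pt, pt_inj] at h
  ext
  by_cases hx : x = 0
  · have hy : y ≠ 0 := fun hy => hxy ⟨hx, hy⟩
    exact T.eq_one_of_σ_mul_sq (mul_right_cancel₀ hy (by rw [h.2, one_mul]))
  · exact T.eq_one_of_σ_eq_one (mul_right_cancel₀ hx (by rw [h.1, one_mul]))

include T in
/-- Only the identity fixes three points of the ovoid. -/
theorem eq_one_of_fix_three (g : Cfsg.Sz F m) {p q r : ℙ F (Fin 4 → F)}
    (hp : p ∈ suzukiOvoid F m) (hq : q ∈ suzukiOvoid F m) (hr : r ∈ suzukiOvoid F m)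
    (hpq : p ≠ q) (hqr : q ≠ r) (hpr : p ≠ r) (h1 : g • p = p) (h2 : g • q = q)
    (h3 : g • r = r) : g = 1 := by
  obtain ⟨x, rfl, rfl⟩ := T.exists_smul_pair hp hq hpq
  obtain ⟨k, hk⟩ := T.exists_eq_h (x⁻¹ * g * x)
    (by rw [mul_smul, mul_smul, h1, inv_smul_smul]) (by rw [mul_smul, mul_smul, h2, inv_smul_smul])
  rcases (T.mem_ovoid_iff _).mp (smul_mem x⁻¹ hr) with h | ⟨a, b, h⟩
  · rw [inv_smul_eq_iff] at h
    exact absurd h.symm hpr
  · have h4 : k = 1 := by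
      apply T.eq_one_of_h_pt (x := a) (y := b)
      · rintro ⟨rfl, rfl⟩
        rw [inv_smul_eq_iff] at h
        exact hqr h.symm
      · rw [← hk, ← h, mul_smul, mul_smul, smul_inv_smul, h3]
    rw [h4, h_one] at hk
    calc g = x * (x⁻¹ * g * x) * x⁻¹ := by group
      _ = 1 := by rw [hk]; group

end Ctx

end Sz
end H8
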