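import Mathlib
import Cfsg.Prelude.Def_LieExceptional
import Cfsg.Agent.H8.SzBasic
import Cfsg.Agent.H8.BNPair

/-!
The Suzuki group `Cfsg.Sz F m`: the subgroups `U`, `H`, `B`, orders, simplicity, the
Zassenhaus property and the Sylow 2-subgroups.
-/

set_option autoImplicit false

namespace H8
namespace Sz

open Cfsg Matrix
open scoped LinearAlgebra.Projectivization Pointwise commutatorElement

variable {F : Type*} [Field F] {m : ℕ}

theorem card_ovoid (F : Type*) [Field F] [Finite F] (m : ℕ) :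
    Nat.card (suzukiOvoid F m) = Nat.card F ^ 2 + 1 := by
  let v : F × F → Fin 4 → F := fun p =>
    ![p.1 * p.2 + p.1 ^ (2 ^ (m + 1) + 2) + p.2 ^ (2 ^ (m + 1)), p.2, p.1, 1]
  have hv : ∀ p, v p ≠ 0 := by
    intro p h
    have := congrFun h 3
    simp [v] at this
  let e : Option (F × F) → suzukiOvoid F m := fun o =>
    match o with
    | none => ⟨inf F, _, e0_ne_zero, rfl, Or.inl rfl⟩
    | some p => ⟨Projectivization.mk F (v p) (hv p), _, hv p, rfl, Or.inr ⟨p.1, p.2, rfl⟩⟩
  have hne : ∀ p, Projectivization.mk F (v p) (hv p) ≠ inf F := by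
    intro p h
    rw [inf_def, Projectivization.mk_eq_mk_iff'] at h
    obtain ⟨c, hc⟩ := h
    have := congrFun hc 3
    simp [v] at this
  have he : Function.Bijective e := by
    constructor
    · rintro (_ | p) (_ | p') h
      · rfl
      · exact absurd (congrArg Subtype.val h).symm (hne p')
      · exact absurd (congrArg Subtype.val h) (hne p)
      · have h := congrArg Subtype.val h
        simp only [e] at h
        rw [Projectivization.mk_eq_mk_iff'] at h
        obtain ⟨c, hc⟩ := h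
        have h3 := congrFun hc 3
        have h2 := congrFun hc 2
        have h1 := congrFun hc 1
        simp [v] at h1 h2 h3
        subst h3
        congr 1
        exact Prod.ext (by simpa using h2.symm) (by simpa using h1.symm)
    · rintro ⟨p, w, hw, rfl, rfl | ⟨x, y, rfl⟩⟩
      · exact ⟨none, rfl⟩
      · exact ⟨some (x, y), rfl⟩
  rw [← Nat.card_eq_of_bijective e he, Finite.card_option, Nat.card_prod, sq]

instance instFiniteOvoid [Finite F] : Finite (suzukiOvoid F m) :=
  Nat.finite_of_card_ne_zero (by rw [card_ovoid]; omega)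

theorem coe_smul_ovoid (g : Cfsg.Sz F m) (p : suzukiOvoid F m) :
    ((g • p : suzukiOvoid F m) : ℙ F (Fin 4 → F)) = g • (p : ℙ F (Fin 4 → F)) := rfl

/-- The Borel subgroup: the stabiliser of the point at infinity. -/
abbrev B (F : Type*) [Field F] (m : ℕ) : Subgroup (Cfsg.Sz F m) :=
  MulAction.stabilizer (Cfsg.Sz F m) (inf F)

namespace Ctx

variable (T : Ctx F m)

/-- The unipotent subgroup. -/
def U : Subgroup (Cfsg.Sz F m) where
  carrier := {g | ∃ a b, g = T.u a b}
  one_mem' := ⟨0, 0, T.u_zero.symm⟩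
  mul_mem' := by
    rintro _ _ ⟨a, b, rfl⟩ ⟨c, d, rfl⟩
    exact ⟨_, _, T.u_mul a b c d⟩
  inv_mem' := by
    rintro _ ⟨a, b, rfl⟩
    exact ⟨_, _, T.u_inv a b⟩

theorem mem_U {g : Cfsg.Sz F m} : g ∈ T.U ↔ ∃ a b, g = T.u a b := Iff.rfl

theorem u_mem_U (a b : F) : T.u a b ∈ T.U := ⟨a, b, rfl⟩

/-- The torus as a homomorphism. -/
def hHom : Fˣ →* Cfsg.Sz F m where
  toFun := T.h
  map_one' := T.h_one
  map_mul' k l := (T.h_mul k l).symm

theorem hHom_apply (k : Fˣ) : T.hHom k = T.h k := rfl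

theorem hHom_injective : Function.Injective T.hHom := fun _ _ h => T.h_inj.mp h

/-- The torus. -/
def H : Subgroup (Cfsg.Sz F m) := T.hHom.range

theorem mem_H {g : Cfsg.Sz F m} : g ∈ T.H ↔ ∃ k, g = T.h k :=
  ⟨fun ⟨k, hk⟩ => ⟨k, hk.symm⟩, fun ⟨k, hk⟩ => ⟨k, hk.symm⟩⟩

theorem mem_B {g : Cfsg.Sz F m} : g ∈ B F m ↔ ∃ a b k, g = T.u a b * T.h k := by
  constructor
  · exact T.exists_eq_u_mul_h g
  · rintro ⟨a, b, k, rfl⟩
    rw [MulAction.mem_stabilizer_iff, mul_smul, h_inf, u_inf]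

theorem U_le_B : T.U ≤ B F m := by
  rintro _ ⟨a, b, rfl⟩
  exact T.u_inf a b

theorem H_le_B : T.H ≤ B F m := by
  rintro _ ⟨k, rfl⟩
  exact T.h_inf k

theorem H_eq : B F m ⊓ MulAction.stabilizer (Cfsg.Sz F m) (T.pt 0 0) = T.H := by
  ext g
  rw [mem_H]
  constructor
  · rintro ⟨h1, h2⟩
    exact T.exists_eq_h g h1 h2
  · rintro ⟨k, rfl⟩
    exact ⟨T.h_inf k, T.h_pt_zero k⟩

/-- The torus is isomorphic to the multiplicative group of the field. -/
noncomputable def hEquiv : Fˣ ≃* T.H := MonoidHom.ofInjective T.hHom_injective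

theorem h_conj_u (k : Fˣ) (a b : F) :
    T.h k * T.u a b * (T.h k)⁻¹ = T.u (T.σ k * a) (T.σ k * k ^ 2 * b) := by
  rw [h_mul_u, mul_inv_cancel_right]

theorem conj_mem_U {g x : Cfsg.Sz F m} (hg : g ∈ B F m) (hx : x ∈ T.U) : g * x * g⁻¹ ∈ T.U := by
  obtain ⟨a, b, k, rfl⟩ := T.mem_B.mp hg
  obtain ⟨c, d, rfl⟩ := hx
  have : T.u a b * T.h k * T.u c d * (T.u a b * T.h k)⁻¹ =
      T.u a b * (T.h k * T.u c d * (T.h k)⁻¹) * (T.u a b)⁻¹ := by group
  rw [this, h_conj_u]
  exact T.U.mul_mem (T.U.mul_mem (T.u_mem_U _ _) (T.u_mem_U _ _)) (T.U.inv_mem (T.u_mem_U _ _))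

theorem normal_U : (T.U.subgroupOf (B F m)).Normal :=
  ⟨fun _ hx g => T.conj_mem_U g.2 hx⟩

theorem card_U : Nat.card T.U = Nat.card F ^ 2 := by
  have : Function.Bijective (fun p : F × F => (⟨T.u p.1 p.2, T.u_mem_U _ _⟩ : T.U)) := by
    constructor
    · intro p p' h
      have := T.u_inj.mp (congrArg Subtype.val h)
      exact Prod.ext this.1 this.2
    · rintro ⟨_, a, b, rfl⟩
      exact ⟨(a, b), rfl⟩
  rw [← Nat.card_eq_of_bijective _ this, Nat.card_prod, pow_two]

theorem card_H : Nat.card T.H = Nat.card F - 1 := by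
  rw [← Nat.card_congr T.hEquiv.toEquiv, Nat.card_units]

include T in
theorem card_B : Nat.card (B F m) = Nat.card F ^ 2 * (Nat.card F - 1) := by
  have : Function.Bijective (fun p : (F × F) × Fˣ =>
      (⟨T.u p.1.1 p.1.2 * T.h p.2, T.mem_B.mpr ⟨_, _, _, rfl⟩⟩ : B F m)) := by
    constructor
    · intro p p' h
      have := T.u_mul_h_inj (congrArg Subtype.val h)
      exact Prod.ext (Prod.ext this.1 this.2.1) this.2.2
    · rintro ⟨g, hg⟩
      obtain ⟨a, b, k, rfl⟩ := T.mem_B.mp hg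
      exact ⟨((a, b), k), rfl⟩
  rw [← Nat.card_eq_of_bijective _ this, Nat.card_prod, Nat.card_prod, Nat.card_units, pow_two]

include T in
theorem index_B [Finite F] : (B F m).index = Nat.card F ^ 2 + 1 := by
  rw [MulAction.index_stabilizer, ← card_ovoid F m, ← Nat.card_coe_set_eq]
  congr 2
  ext p
  constructor
  · rintro ⟨g, rfl⟩
    exact smul_mem g T.inf_mem
  · exact fun hp => T.exists_smul_inf hp

include T in
theorem card_Sz [Finite F] :
    Nat.card (Cfsg.Sz F m) = Nat.card F ^ 2 * (Nat.card F ^ 2 + 1) * (Nat.card F - 1) := by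
  rw [← (B F m).index_mul_card, T.index_B, T.card_B]
  ring

include T in
theorem two_transitive :
    MulAction.IsMultiplyPretransitive (Cfsg.Sz F m) (suzukiOvoid F m) 2 := by
  rw [MulAction.is_two_pretransitive_iff]
  intro a b c d hab hcd
  obtain ⟨g, h1, h2⟩ := T.exists_smul_pair a.2 b.2 (fun h => hab (Subtype.ext h))
  obtain ⟨g', h1', h2'⟩ := T.exists_smul_pair c.2 d.2 (fun h => hcd (Subtype.ext h))
  refine ⟨g' * g⁻¹, Subtype.ext ?_, Subtype.ext ?_⟩
  · rw [coe_smul_ovoid, ← h1, ← h1', mul_smul, inv_smul_smul]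
  · rw [coe_smul_ovoid, ← h2, ← h2', mul_smul, inv_smul_smul]

theorem pt_ne_pt_zero : T.pt 0 0 ≠ T.pt 0 1 := by
  rw [Ne, pt_inj]; simp

include T in
theorem eq_one_of_fix_all (g : Cfsg.Sz F m) (h : ∀ p ∈ suzukiOvoid F m, g • p = p) : g = 1 :=
  T.eq_one_of_fix_three g T.inf_mem (T.pt_mem 0 0) (T.pt_mem 0 1) (T.pt_ne_inf 0 0).symm
    T.pt_ne_pt_zero (T.pt_ne_inf 0 1).symm (h _ T.inf_mem) (h _ (T.pt_mem 0 0))
    (h _ (T.pt_mem 0 1))

include T in
theorem normal_eq_bot_or (K : Subgroup (Cfsg.Sz F m)) [hK : K.Normal] :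
    K = ⊥ ∨ B F m ⊔ K = ⊤ := by
  by_cases h : K ≤ B F m
  · left
    rw [eq_bot_iff]
    intro g hg
    rw [Subgroup.mem_bot]
    apply T.eq_one_of_fix_all
    intro p hp
    obtain ⟨x, rfl⟩ := T.exists_smul_inf hp
    have : (x⁻¹ * g * x⁻¹⁻¹) • inf F = inf F := h (hK.conj_mem g hg x⁻¹)
    rw [inv_inv, mul_smul, mul_smul, inv_smul_eq_iff] at this
    exact this
  · right
    obtain ⟨k, hk, hkB⟩ := Set.not_subset.mp h
    rw [eq_top_iff]
    intro g _
    by_cases hg : g ∈ B F m
    · exact Subgroup.mem_sup_left hg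
    · obtain ⟨a, b, h1⟩ := ((T.mem_ovoid_iff _).mp (smul_mem k T.inf_mem)).resolve_left hkB
      obtain ⟨c, d, h2⟩ := ((T.mem_ovoid_iff _).mp (smul_mem g T.inf_mem)).resolve_left hg
      have h3 : (T.u c d * (T.u a b)⁻¹ * k)⁻¹ * g ∈ B F m := by
        rw [MulAction.mem_stabilizer_iff, mul_smul, inv_smul_eq_iff, mul_smul, h1, h2, mul_smul,
          ← T.u_pt_zero a b, inv_smul_smul, u_pt_zero]
      have : g = T.u c d * (T.u a b)⁻¹ * k * ((T.u c d * (T.u a b)⁻¹ * k)⁻¹ * g) := by group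
      rw [this]
      refine Subgroup.mul_mem _ (Subgroup.mul_mem _ (Subgroup.mem_sup_left ?_)
        (Subgroup.mem_sup_right hk)) (Subgroup.mem_sup_left h3)
      exact T.U_le_B (T.U.mul_mem (T.u_mem_U _ _) (T.U.inv_mem (T.u_mem_U _ _)))

include T in
theorem exists_unit_ne_one : ∃ k : Fˣ, k ≠ 1 := by
  obtain ⟨t, h0, h1⟩ := T.exists_ne
  exact ⟨Units.mk0 t h0, fun h => h1 (congrArg Units.val h)⟩

theorem u_ne_one {a b : F} (h : ¬ (a = 0 ∧ b = 0)) : T.u a b ≠ 1 := by
  rw [← T.u_zero, Ne, u_inj]; exact h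

include T in
theorem exists_sq [Finite F] (x : F) : ∃ y, y ^ 2 = x := by
  have : Function.Surjective T.σ := Finite.surjective_of_injective T.σ.injective
  obtain ⟨y, rfl⟩ := this x
  obtain ⟨z, rfl⟩ := this y
  exact ⟨z, (T.sq z).symm⟩

theorem exists_σ_mul [Finite F] (x : F) : ∃ y, T.σ y * y = x := by
  have : Function.Injective fun y => T.σ y * y := by
    intro y z h
    simp only at h
    by_cases hz : z = 0
    · subst hz
      simpa using h
    · have := T.eq_one_of_σ_mul (x := y / z) (by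
        have : T.σ z ≠ 0 := by simpa using hz
        rw [map_div₀]
        field_simp
        exact h)
      exact (div_eq_one_iff_eq hz).mp this
  exact Finite.surjective_of_injective this x

theorem U_le_commutator : T.U ≤ commutator (Cfsg.Sz F m) := by
  have h2 := T.two_eq_zero
  obtain ⟨k, hk⟩ := T.exists_unit_ne_one
  have hα : T.σ k + 1 ≠ 0 := fun h => hk (Units.ext (T.eq_one_of_σ_eq_one (by grind)))
  have hβ : T.σ k * k ^ 2 + 1 ≠ 0 := fun h => hk (Units.ext (T.eq_one_of_σ_mul_sq (by grind)))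
  have key : ∀ a b, T.u (T.σ k * a + a) (T.σ k * k ^ 2 * b + (b + T.σ a * a) +
      T.σ (T.σ k * a) * a) ∈ commutator (Cfsg.Sz F m) := by
    intro a b
    rw [← u_mul, ← u_inv, ← h_conj_u, ← commutatorElement_def]
    exact Subgroup.commutator_mem_commutator (Subgroup.mem_top _) (Subgroup.mem_top _)
  have k1 : ∀ c, T.u 0 c ∈ commutator (Cfsg.Sz F m) := by
    intro c
    convert key 0 (c / (T.σ k * k ^ 2 + 1)) using 2
    · simp
    · simp only [map_zero, mul_zero, add_zero]
      field_simp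
  rintro _ ⟨a, b, rfl⟩
  obtain ⟨c, hc⟩ : ∃ c, T.u a c ∈ commutator (Cfsg.Sz F m) := by
    have := key (a / (T.σ k + 1)) 0
    rw [show T.σ k * (a / (T.σ k + 1)) + a / (T.σ k + 1) = a by field_simp] at this
    exact ⟨_, this⟩
  have := Subgroup.mul_mem _ hc (k1 (b - c))
  rw [u_mul] at this
  simpa using this

theorem H_le_commutator [Finite F] : T.H ≤ commutator (Cfsg.Sz F m) := by
  rintro _ ⟨k, rfl⟩
  obtain ⟨y, hy⟩ := T.exists_sq (k : F)
  have hy0 : y ≠ 0 := by
    rintro rfl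
    exact k.ne_zero (by simpa using hy.symm)
  have : T.hHom k = ⁅T.h (Units.mk0 y hy0), T.w⁆ := by
    rw [commutatorElement_def, h_inv, mul_assoc (T.h _), w_mul_h, inv_inv, ← mul_assoc,
      mul_inv_cancel_right, h_mul, hHom_apply]
    congr 1
    ext
    simp [← hy, pow_two]
  rw [this]
  exact Subgroup.commutator_mem_commutator (Subgroup.mem_top _) (Subgroup.mem_top _)

include T in
theorem commutator_eq_top [Finite F] : commutator (Cfsg.Sz F m) = ⊤ := by
  have hB : B F m ≤ commutator (Cfsg.Sz F m) := by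
    intro g hg
    obtain ⟨a, b, k, rfl⟩ := T.mem_B.mp hg
    exact Subgroup.mul_mem _ (T.U_le_commutator (T.u_mem_U a b)) (T.H_le_commutator ⟨k, rfl⟩)
  rcases T.normal_eq_bot_or (commutator (Cfsg.Sz F m)) with h | h
  · have := T.U_le_commutator (T.u_mem_U 0 1)
    rw [h, Subgroup.mem_bot] at this
    exact absurd this (T.u_ne_one (by simp))
  · rwa [sup_eq_right.mpr hB] at h

theorem u_sq (a b : F) : T.u a b ^ 2 = T.u 0 (T.σ a * a) := by
  have h2 := T.two_eq_zero
  rw [pow_two, u_mul]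
  congr 1 <;> grind

theorem u_pow_four (a b : F) : T.u a b ^ 4 = 1 := by
  change T.u a b ^ (2 * 2) = 1
  rw [pow_mul, u_sq, u_sq, ← T.u_zero]
  simp

theorem isPGroup_U : IsPGroup 2 T.U := by
  rintro ⟨_, a, b, rfl⟩
  exact ⟨2, Subtype.ext (T.u_pow_four a b)⟩

include T in
theorem isSolvable_B [Finite F] : Group.IsSolvable (B F m) := by
  have := T.normal_U
  have h1 : Group.IsNilpotent T.U := T.isPGroup_U.isNilpotent
  have h2 : Group.IsSolvable (T.U.subgroupOf (B F m)) :=
    Group.isSolvable_of_surjective (f := (Subgroup.subgroupOfEquivOfLe T.U_le_B).symm.toMonoidHom)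
      (Subgroup.subgroupOfEquivOfLe T.U_le_B).symm.surjective
  have h3 : Group.IsSolvable (B F m ⧸ T.U.subgroupOf (B F m)) := by
    apply Group.isSolvable_of_surjective (f := (QuotientGroup.mk' _).comp
      (T.hHom.codRestrict (B F m) fun k => T.h_inf k))
    intro x
    obtain ⟨⟨g, hg⟩, rfl⟩ := QuotientGroup.mk_surjective x
    obtain ⟨a, b, k, rfl⟩ := T.mem_B.mp hg
    refine ⟨k, ?_⟩
    simp only [MonoidHom.comp_apply, QuotientGroup.mk'_apply]
    rw [QuotientGroup.eq, Subgroup.mem_subgroupOf]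
    have := T.conj_mem_U ((B F m).inv_mem (T.h_inf k)) (T.u_mem_U a b)
    rw [inv_inv, mul_assoc] at this
    exact this
  exact Group.isSolvable_of_ker_le_range (T.U.subgroupOf (B F m)).subtype
    (QuotientGroup.mk' (T.U.subgroupOf (B F m))) (by simp)

include T in
theorem isSimpleGroup [Finite F] : IsSimpleGroup (Cfsg.Sz F m) := by
  have : Nontrivial (Cfsg.Sz F m) := ⟨⟨_, _, T.u_ne_one (a := 0) (b := 1) (by simp)⟩⟩
  refine ⟨fun K hK => ?_⟩
  rcases T.normal_eq_bot_or K with h | h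
  · exact Or.inl h
  · exact Or.inr (BN.eq_top_of_sup_eq_top_of_solvable T.isSolvable_B T.commutator_eq_top h)

include T in
theorem isZassenhaus [Finite F] : IsZassenhausGroup (Cfsg.Sz F m) (suzukiOvoid F m) := by
  have := T.isSimpleGroup
  refine ⟨⟨fun {g g'} h => ?_⟩, T.two_transitive, ?_, ?_, ?_⟩
  · rw [← inv_mul_eq_one]
    apply T.eq_one_of_fix_all
    intro p hp
    rw [mul_smul, inv_smul_eq_iff]
    exact (congrArg Subtype.val (h ⟨p, hp⟩)).symm
  · intro g a b c hab hbc hac h1 h2 h3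
    exact T.eq_one_of_fix_three g a.2 b.2 c.2 (fun h => hab (Subtype.ext h))
      (fun h => hbc (Subtype.ext h)) (fun h => hac (Subtype.ext h)) (congrArg Subtype.val h1)
      (congrArg Subtype.val h2) (congrArg Subtype.val h3)
  · obtain ⟨k, hk⟩ := T.exists_unit_ne_one
    refine ⟨T.h k, ?_, ⟨_, T.inf_mem⟩, ⟨_, T.pt_mem 0 0⟩, ?_, Subtype.ext (T.h_inf k),
      Subtype.ext (T.h_pt_zero k)⟩
    · rw [← T.h_one, Ne, h_inj]; exact hk
    · exact fun h => T.pt_ne_inf 0 0 (congrArg Subtype.val h).symm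
  · intro N hN htr
    rcases hN.eq_bot_or_eq_top with rfl | rfl
    · obtain ⟨⟨g, hg⟩, h⟩ := htr.exists_smul_eq (⟨_, T.pt_mem 0 0⟩ : suzukiOvoid F m)
        ⟨_, T.inf_mem⟩
      rw [Subgroup.mem_bot] at hg
      subst hg
      exact absurd (by simpa using congrArg Subtype.val h) (T.pt_ne_inf 0 0)
    · refine ⟨⟨_, T.inf_mem⟩, fun h => ?_⟩
      have : (⟨T.u 0 1, Subgroup.mem_top _⟩ : (⊤ : Subgroup (Cfsg.Sz F m))) ∈
          MulAction.stabilizer (⊤ : Subgroup (Cfsg.Sz F m))
            (⟨_, T.inf_mem⟩ : suzukiOvoid F m) := Subtype.ext (T.u_inf 0 1)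
      rw [h, Subgroup.mem_bot] at this
      exact T.u_ne_one (by simp) (congrArg Subtype.val this)

include T in
theorem even_card [Finite F] : Even (Nat.card F) := by
  have h1 : addOrderOf (1 : F) = 2 := by
    have := T.two_eq_zero
    apply addOrderOf_eq_prime _ one_ne_zero
    simpa [two_nsmul, one_add_one_eq_two] using this
  exact even_iff_two_dvd.mpr (h1 ▸ addOrderOf_dvd_natCard (1 : F))

theorem index_U [Finite F] : T.U.index = (Nat.card F ^ 2 + 1) * (Nat.card F - 1) := by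
  have h := T.U.index_mul_card
  rw [T.card_U, T.card_Sz] at h
  have : 0 < Nat.card F ^ 2 := pow_pos Nat.card_pos 2
  apply Nat.eq_of_mul_eq_mul_right this
  rw [h]; ring

theorem odd_index_U [Finite F] : Odd T.U.index := by
  rw [T.index_U]
  have h := T.even_card
  have h0 : 0 < Nat.card F := Nat.card_pos
  exact Odd.mul (Even.add_one (Nat.even_pow.mpr ⟨h, by norm_num⟩)) (Nat.Even.sub_odd h0 h odd_one)

/-- `U` as a Sylow 2-subgroup. -/
noncomputable def sylowU [Finite F] : Sylow 2 (Cfsg.Sz F m) :=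
  T.isPGroup_U.toSylow (by
    rw [← even_iff_two_dvd, Nat.not_even_iff_odd]; exact T.odd_index_U)

theorem coe_sylowU [Finite F] : (T.sylowU : Subgroup (Cfsg.Sz F m)) = T.U := rfl

theorem exponent_U : Monoid.exponent T.U = 4 := by
  have h1 : Monoid.exponent T.U ∣ 2 ^ 2 := by
    apply Monoid.exponent_dvd_of_forall_pow_eq_one
    rintro ⟨_, a, b, rfl⟩
    exact Subtype.ext (T.u_pow_four a b)
  have h2 : ¬ Monoid.exponent T.U ∣ 2 ^ 1 := by
    intro h
    have := Monoid.exponent_dvd_iff_forall_pow_eq_one.mp h ⟨T.u 1 0, T.u_mem_U _ _⟩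
    have h3 : T.u 1 0 ^ 2 = 1 := congrArg Subtype.val this
    rw [u_sq] at h3
    exact T.u_ne_one (by simp) h3
  exact Nat.eq_prime_pow_of_dvd_least_prime_pow Nat.prime_two h2 h1

theorem u_comm_iff {a b c d : F} :
    T.u a b * T.u c d = T.u c d * T.u a b ↔ T.σ a * c = T.σ c * a := by
  rw [u_mul, u_mul, u_inj]
  constructor
  · rintro ⟨-, h⟩
    linear_combination h
  · intro h
    exact ⟨add_comm _ _, by linear_combination h⟩

theorem mem_center_U {a b : F} :
    (⟨T.u a b, T.u_mem_U a b⟩ : T.U) ∈ Subgroup.center T.U ↔ a = 0 := by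
  rw [Subgroup.mem_center_iff]
  constructor
  · intro h
    obtain ⟨t, ht⟩ := T.exists_σ_ne
    have h1 := T.u_comm_iff.mp (congrArg Subtype.val (h ⟨T.u (t * a) 0, T.u_mem_U _ _⟩))
    rw [map_mul] at h1
    have : (T.σ t - t) * (T.σ a * a) = 0 := by linear_combination h1
    simpa [sub_eq_zero, ht] using this
  · rintro rfl ⟨_, c, d, rfl⟩
    exact Subtype.ext (T.u_comm_iff.mpr (by simp))

theorem card_center_U : Nat.card (Subgroup.center T.U) = Nat.card F := by
  have : Function.Bijective (fun b : F =>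
      (⟨⟨T.u 0 b, T.u_mem_U _ _⟩, T.mem_center_U.mpr rfl⟩ : Subgroup.center T.U)) := by
    constructor
    · intro b b' h
      exact (T.u_inj.mp (congrArg Subtype.val (congrArg Subtype.val h))).2
    · rintro ⟨⟨_, a, b, rfl⟩, h⟩
      obtain rfl := T.mem_center_U.mp h
      exact ⟨b, rfl⟩
  rw [← Nat.card_eq_of_bijective _ this]

theorem commutator_u (a b c d : F) : ⁅T.u a b, T.u c d⁆ = T.u 0 (T.σ a * c + T.σ c * a) := by
  have h2 := T.two_eq_zero
  rw [commutatorElement_def, u_inv, u_inv, u_mul, u_mul, u_mul]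
  simp only [map_add]
  congr 1 <;> grind

theorem center_U_eq [Finite F] : Subgroup.center T.U = commutator T.U := by
  apply le_antisymm
  · rintro ⟨_, a, b, rfl⟩ h
    obtain rfl := T.mem_center_U.mp h
    obtain ⟨t, ht⟩ := T.exists_σ_ne
    have h2 := T.two_eq_zero
    have ht' : t + T.σ t ≠ 0 := fun h => ht (by grind)
    obtain ⟨a, ha⟩ := T.exists_σ_mul (b / (t + T.σ t))
    have : (⟨T.u 0 b, T.u_mem_U _ _⟩ : T.U) =
        ⁅(⟨T.u a 0, T.u_mem_U _ _⟩ : T.U), ⟨T.u (t * a) 0, T.u_mem_U _ _⟩⁆ := by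
      apply Subtype.ext
      change T.u 0 b = ⁅T.u a 0, T.u (t * a) 0⁆
      rw [commutator_u, map_mul]
      congr 1
      rw [eq_div_iff ht'] at ha
      linear_combination -ha
    rw [this]
    exact Subgroup.commutator_mem_commutator (Subgroup.mem_top _) (Subgroup.mem_top _)
  · rw [commutator_def, Subgroup.commutator_le]
    rintro ⟨_, a, b, rfl⟩ - ⟨_, c, d, rfl⟩ -
    have : ⁅(⟨T.u a b, T.u_mem_U _ _⟩ : T.U), (⟨T.u c d, T.u_mem_U _ _⟩ : T.U)⁆ =
        ⟨T.u 0 (T.σ a * c + T.σ c * a), T.u_mem_U _ _⟩ := Subtype.ext (T.commutator_u a b c d)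
    rw [this]
    exact T.mem_center_U.mpr rfl

include T in
theorem preserves_form (g : Cfsg.Sz F m) :
    (mat g).transpose * suzukiForm F * mat g = suzukiForm F := by
  have h2 := T.two_eq_zero
  induction g using T.induction_on with
  | hu a b =>
    rw [mat_u]
    ext i j
    fin_cases i <;> fin_cases j <;>
      simp [suzukiForm, Matrix.mul_apply, Fin.sum_univ_four, Matrix.vecMul, dotProduct] <;> grind
  | hh k =>
    have : T.σ k ≠ 0 := by simp
    rw [mat_h]
    ext i j
    fin_cases i <;> fin_cases j <;>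
      simp [suzukiForm, Matrix.mul_apply, Fin.sum_univ_four, Matrix.vecMul, dotProduct] <;>
      field_simp
  | hw =>
    rw [mat_w]
    ext i j
    fin_cases i <;> fin_cases j <;>
      simp [suzukiForm, Matrix.mul_apply, Fin.sum_univ_four, Matrix.vecMul, dotProduct]
  | hmul g g' h h' =>
    rw [mat_mul, Matrix.transpose_mul]
    calc (mat g').transpose * (mat g).transpose * suzukiForm F * (mat g * mat g')
        = (mat g').transpose * ((mat g).transpose * suzukiForm F * mat g) * mat g' := by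
          simp only [Matrix.mul_assoc]
      _ = suzukiForm F := by rw [h, h']

end Ctx

theorem center_eq_commutator_of_equiv {G G' : Type*} [Group G] [Group G'] (e : G ≃* G')
    (h : Subgroup.center G = commutator G) : Subgroup.center G' = commutator G' := by
  have h1 : (commutator G).map e.toMonoidHom = commutator G' := by
    rw [commutator_def, Subgroup.map_commutator, Subgroup.map_top_of_surjective _ e.surjective,
      commutator_def]
  rw [← h1, ← h]
  ext x
  obtain ⟨x, rfl⟩ := e.surjective x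
  rw [Subgroup.mem_map]
  constructor
  · intro hx
    refine ⟨x, ?_, rfl⟩
    rw [Subgroup.mem_center_iff] at hx ⊢
    intro g
    apply e.injective
    simp [hx]
  · rintro ⟨y, hy, he⟩
    obtain rfl : y = x := e.injective he
    rw [Subgroup.mem_center_iff] at hy ⊢
    intro g
    obtain ⟨g, rfl⟩ := e.surjective g
    rw [← map_mul, hy, map_mul]

end Sz
end H8
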