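import Mathlib
import Cfsg.Prelude.Def_LieExceptional
import Cfsg.Agent.H8.SzGroup
import Cfsg.Agent.H8.Singer

/-!
Centralisers in the Suzuki group; the cyclic subgroups of orders `q ± 2r + 1`.
-/

set_option autoImplicit false

namespace H8
namespace Sz

open Cfsg Matrix
open scoped LinearAlgebra.Projectivization Pointwise

variable {F : Type*} [Field F] {m : ℕ}

/-- An element fixing no point of the ovoid. -/
def Fpf (g : Cfsg.Sz F m) : Prop := ∀ p ∈ suzukiOvoid F m, g • p ≠ p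

theorem Fpf.conj {g : Cfsg.Sz F m} (h : Fpf g) (x : Cfsg.Sz F m) : Fpf (x * g * x⁻¹) := by
  intro p hp e
  apply h (x⁻¹ • p) (smul_mem _ hp)
  rw [mul_smul, mul_smul, smul_eq_iff_eq_inv_smul] at e
  exact e

instance instFiniteSz [Finite F] : Finite (Cfsg.Sz F m) := inferInstance

/-- The matrix representation as a homomorphism. -/
def matHom (F : Type*) [Field F] (m : ℕ) : Cfsg.Sz F m →* Matrix (Fin 4) (Fin 4) F where
  toFun := mat
  map_one' := mat_one
  map_mul' := mat_mul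

theorem matHom_injective : Function.Injective (matHom F m) := fun _ _ h => mat_injective h

namespace Ctx

variable (T : Ctx F m)

include T in
theorem Fpf_ne_one {g : Cfsg.Sz F m} (h : Fpf g) : g ≠ 1 := by
  rintro rfl
  exact h _ T.inf_mem (one_smul _ _)

theorem trichotomy (g : Cfsg.Sz F m) :
    (∃ x, x * g * x⁻¹ ∈ T.U) ∨ (∃ x, x * g * x⁻¹ ∈ T.H) ∨ Fpf g := by
  have h2 := T.two_eq_zero
  by_cases h : Fpf g
  · exact Or.inr (Or.inr h)
  unfold Fpf at h
  push Not at h
  obtain ⟨p, hp, e⟩ := h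
  obtain ⟨x, rfl⟩ := T.exists_smul_inf hp
  obtain ⟨a, b, k, hk⟩ := T.exists_eq_u_mul_h (x⁻¹ * g * x⁻¹⁻¹)
    (by rw [inv_inv, mul_smul, mul_smul, e, inv_smul_smul])
  by_cases hk1 : k = 1
  · left
    refine ⟨x⁻¹, a, b, ?_⟩
    rw [hk, hk1, h_one, mul_one]
  · right; left
    have hα : T.σ k + 1 ≠ 0 := fun h => hk1 (Units.ext (T.eq_one_of_σ_eq_one (by grind)))
    have hβ : T.σ k * k ^ 2 + 1 ≠ 0 :=
      fun h => hk1 (Units.ext (T.eq_one_of_σ_mul_sq (by grind)))
    obtain ⟨s, hs⟩ : ∃ s, s * (T.σ k + 1) = a := ⟨a / (T.σ k + 1), by field_simp⟩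
    obtain ⟨t, ht⟩ : ∃ t, t * (T.σ k * k ^ 2 + 1) = b + T.σ a * (T.σ k * s) :=
      ⟨_ / (T.σ k * k ^ 2 + 1), div_mul_cancel₀ _ hβ⟩
    have hfix : (T.u a b * T.h k) • T.pt s t = T.pt s t := by
      rw [mul_smul, h_pt, u_pt, pt_inj]
      constructor <;> grind
    refine ⟨(T.u s t)⁻¹ * x⁻¹, ?_⟩
    have : (T.u s t)⁻¹ * x⁻¹ * g * ((T.u s t)⁻¹ * x⁻¹)⁻¹ =
        (T.u s t)⁻¹ * (x⁻¹ * g * x⁻¹⁻¹) * T.u s t := by group
    rw [this, hk, ← H_eq]
    constructor
    · change _ • _ = _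
      rw [mul_smul, mul_smul, mul_smul, u_inf, h_inf, u_inf, inv_smul_eq_iff, u_inf]
    · change _ • _ = _
      rw [mul_smul, mul_smul, u_pt_zero, hfix, inv_smul_eq_iff, u_pt_zero]

theorem eq_inf_of_U {g : Cfsg.Sz F m} (hg : g ∈ T.U) (h1 : g ≠ 1) {p : ℙ F (Fin 4 → F)}
    (hp : p ∈ suzukiOvoid F m) (e : g • p = p) : p = inf F := by
  obtain ⟨a, b, rfl⟩ := hg
  rcases (T.mem_ovoid_iff _).mp hp with rfl | ⟨x, y, rfl⟩
  · rfl
  · rw [u_pt, pt_inj] at e
    have ha : a = 0 := by simpa using e.1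
    subst ha
    have hb : b = 0 := by simpa using e.2
    subst hb
    exact absurd T.u_zero h1

theorem eq_of_H {g : Cfsg.Sz F m} (hg : g ∈ T.H) (h1 : g ≠ 1) {p : ℙ F (Fin 4 → F)}
    (hp : p ∈ suzukiOvoid F m) (e : g • p = p) : p = inf F ∨ p = T.pt 0 0 := by
  obtain ⟨k, rfl⟩ := T.mem_H.mp hg
  rcases (T.mem_ovoid_iff _).mp hp with rfl | ⟨x, y, rfl⟩
  · exact Or.inl rfl
  · right
    by_contra hne
    rw [pt_inj] at hne
    rw [T.eq_one_of_h_pt hne e] at h1
    exact h1 T.h_one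

theorem mem_B_of_conj_mem_U {x g : Cfsg.Sz F m} (hg : g ∈ T.U) (h1 : g ≠ 1)
    (h : x * g * x⁻¹ ∈ T.U) : x ∈ B F m := by
  apply T.eq_inf_of_U h (by simpa using h1) (smul_mem x T.inf_mem)
  rw [mul_smul, mul_smul, inv_smul_smul, T.U_le_B hg]

theorem mem_U_of_commute {c g : Cfsg.Sz F m} (hg : g ∈ T.U) (h1 : g ≠ 1)
    (h : c * g = g * c) : c ∈ T.U := by
  have h2 := T.two_eq_zero
  have hc := T.mem_B_of_conj_mem_U (x := c) hg h1 (by rwa [h, mul_inv_cancel_right])
  obtain ⟨a', b', k, rfl⟩ := T.mem_B.mp hc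
  obtain ⟨a, b, rfl⟩ := hg
  by_cases hk1 : k = 1
  · rw [hk1, h_one, mul_one]
    exact T.u_mem_U _ _
  · exfalso
    have hα : T.σ k + 1 ≠ 0 := fun h => hk1 (Units.ext (T.eq_one_of_σ_eq_one (by grind)))
    have hβ : T.σ k * k ^ 2 + 1 ≠ 0 :=
      fun h => hk1 (Units.ext (T.eq_one_of_σ_mul_sq (by grind)))
    rw [mul_assoc, h_mul_u, ← mul_assoc, ← mul_assoc, mul_left_inj, u_mul, u_mul, u_inj] at h
    have ha : a = 0 := by
      have : a * (T.σ k + 1) = 0 := by grind
      exact (mul_eq_zero.mp this).resolve_right hα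
    subst ha
    have hb : b = 0 := by
      have h3 := h.2
      simp only [mul_zero, add_zero, map_zero, zero_mul] at h3
      have : b * (T.σ k * k ^ 2 + 1) = 0 := by grind
      exact (mul_eq_zero.mp this).resolve_right hβ
    subst hb
    exact h1 T.u_zero

theorem mem_or_of_conj_mem_H {x g : Cfsg.Sz F m} (hg : g ∈ T.H) (h1 : g ≠ 1)
    (h : x * g * x⁻¹ ∈ T.H) : x ∈ T.H ∨ T.w * x ∈ T.H := by
  have hg' := hg
  rw [← H_eq] at hg'
  have e1 := T.eq_of_H h (by simpa using h1) (smul_mem x T.inf_mem)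
    (by rw [mul_smul, mul_smul, inv_smul_smul, hg'.1])
  have e2 := T.eq_of_H h (by simpa using h1) (smul_mem x (T.pt_mem 0 0))
    (by rw [mul_smul, mul_smul, inv_smul_smul, hg'.2])
  have hne : x • inf F ≠ x • T.pt 0 0 := fun h => T.pt_ne_inf 0 0 (smul_left_cancel x h).symm
  rw [← H_eq]
  rcases e1 with e1 | e1 <;> rcases e2 with e2 | e2
  · exact absurd (e1.trans e2.symm) hne
  · exact Or.inl ⟨e1, e2⟩
  · right
    constructor
    · change _ • _ = _
      rw [mul_smul, e1, w_pt_zero]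
    · change _ • _ = _
      rw [mul_smul, e2, w_inf]
  · exact absurd (e1.trans e2.symm) hne

theorem H_comm {a b : Cfsg.Sz F m} (ha : a ∈ T.H) (hb : b ∈ T.H) : a * b = b * a := by
  obtain ⟨k, rfl⟩ := T.mem_H.mp ha
  obtain ⟨l, rfl⟩ := T.mem_H.mp hb
  rw [h_mul, h_mul, mul_comm]

theorem mem_H_of_commute {c g : Cfsg.Sz F m} (hg : g ∈ T.H) (h1 : g ≠ 1)
    (h : c * g = g * c) : c ∈ T.H := by
  have h2 := T.two_eq_zero
  rcases T.mem_or_of_conj_mem_H (x := c) hg h1 (by rwa [h, mul_inv_cancel_right]) with hc | hc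
  · exact hc
  · exfalso
    have h3 := T.H_comm hc hg
    rw [mul_assoc, h, ← mul_assoc, ← mul_assoc, mul_left_inj] at h3
    obtain ⟨k, rfl⟩ := T.mem_H.mp hg
    rw [w_mul_h, mul_left_inj, h_inj] at h3
    have h4 : (k : F) * k = 1 := by
      have := congrArg (fun x : Fˣ => ((x * k : Fˣ) : F)) h3
      simpa using this.symm
    have h5 : ((k : F) - 1) ^ 2 = 0 := by grind
    have h6 : k = 1 := Units.ext (sub_eq_zero.mp (pow_eq_zero_iff (by norm_num) |>.mp h5))
    exact h1 (h6 ▸ T.h_one)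

include T in
/-- A non-identity element commuting with a fixed-point-free element is fixed-point-free. -/
theorem fpf_of_commute {c g : Cfsg.Sz F m} (hg : Fpf g) (h1 : c ≠ 1) (h : g * c = c * g) :
    Fpf c := by
  have key : ∀ x : Cfsg.Sz F m, x * g * x⁻¹ * (x * c * x⁻¹) = x * c * x⁻¹ * (x * g * x⁻¹) := by
    intro x
    calc x * g * x⁻¹ * (x * c * x⁻¹) = x * (g * c) * x⁻¹ := by group
      _ = _ := by rw [h]; group
  rcases T.trichotomy c with ⟨x, hx⟩ | ⟨x, hx⟩ | h3
  · exact absurd (T.U_le_B (T.mem_U_of_commute hx (by simpa using h1) (key x)))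
      (hg.conj x _ T.inf_mem)
  · exact absurd (T.H_le_B (T.mem_H_of_commute hx (by simpa using h1) (key x)))
      (hg.conj x _ T.inf_mem)
  · exact h3

include T in
theorem card_dvd_of_fpf [Finite F] (A : Subgroup (Cfsg.Sz F m)) (h : ∀ a ∈ A, a ≠ 1 → Fpf a) :
    Nat.card A ∣ Nat.card F ^ 2 + 1 := by
  have := MulAction.selfEquivOrbitsQuotientProd (G := A) (X := suzukiOvoid F m) (by
    intro p
    rw [eq_bot_iff]
    intro a ha
    rw [Subgroup.mem_bot]
    by_contra h1
    exact h a a.2 (fun e => h1 (Subtype.ext e)) p p.2 (congrArg Subtype.val ha))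
  rw [← card_ovoid F m, Nat.card_congr this, Nat.card_prod]
  exact Dvd.intro_left _ rfl

include T in
theorem minpoly_of_fpf [Finite F] {g : Cfsg.Sz F m} (hg : Fpf g) (hp : (orderOf g).Prime) :
    Irreducible (minpoly F (matHom F m g)) ∧ (minpoly F (matHom F m g)).natDegree = 4 := by
  have hdvd : orderOf g ∣ Nat.card F ^ 2 + 1 := by
    rw [← Nat.card_zpowers]
    apply T.card_dvd_of_fpf
    rintro _ ⟨n, rfl⟩ h1
    exact T.fpf_of_commute hg h1 (Commute.self_zpow g n)
  generalize hq : Nat.card F = q at hdvd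
  have hqe : Even q := hq ▸ T.even_card
  have hq0 : 0 < q := hq ▸ Nat.card_pos
  set p := orderOf g
  have : Fact p.Prime := ⟨hp⟩
  have h1 : (q : ZMod p) ^ 2 + 1 = 0 := by
    have := (ZMod.natCast_eq_zero_iff _ _).mpr hdvd
    simpa using this
  have hp2 : (2 : ZMod p) ≠ 0 := by
    intro h
    have h2 : p ∣ 2 := (ZMod.natCast_eq_zero_iff 2 p).mp (by simpa using h)
    have h3 := (Nat.prime_dvd_prime_iff_eq hp Nat.prime_two).mp h2
    rw [h3] at hdvd
    have : Even (q ^ 2) := Nat.even_pow.mpr ⟨hqe, by norm_num⟩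
    rw [← even_iff_two_dvd, Nat.even_add_one] at hdvd
    exact hdvd this
  apply minpoly_irreducible_of_prime_order _ hp
  · intro h
    have hodd : Odd p := by
      rcases hp.eq_two_or_odd' with h2 | h2
      · exact absurd (by rw [← h2]; exact ZMod.natCast_self p : ((2 : ℕ) : ZMod p) = 0)
          (by simpa using hp2)
      · exact h2
    obtain ⟨k, hk⟩ := hodd
    rw [hk] at h
    push_cast at h
    rw [T.two_eq_zero] at h
    simp at h
  · intro d hd0 hd4 hd
    rw [hq] at hd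
    have h2 : (q : ZMod p) ^ d = 1 := by
      have := (ZMod.natCast_eq_zero_iff _ _).mpr hd
      rw [Nat.cast_sub (Nat.one_le_pow _ _ hq0)] at this
      simpa [sub_eq_zero] using this
    apply hp2
    interval_cases d
    · linear_combination h1 - ((q : ZMod p) + 1) * h2
    · linear_combination h1 - h2
    · linear_combination (1 - (q : ZMod p) ^ 2 + q) * h1 + ((q : ZMod p) - 1) * h2
  · rw [← map_pow, pow_orderOf_eq_one, map_one]
  · rw [← map_one (matHom F m)]
    exact fun h => T.Fpf_ne_one hg (matHom_injective h)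

include T in
theorem exists_prime_power [Finite F] {g : Cfsg.Sz F m} (hg : Fpf g) :
    ∃ n : ℕ, Fpf (g ^ n) ∧ (orderOf (g ^ n)).Prime ∧
      Subgroup.centralizer ({g ^ n} : Set (Cfsg.Sz F m)) = Subgroup.centralizer {g} ∧
      IsCyclic (Subgroup.centralizer ({g} : Set (Cfsg.Sz F m))) := by
  have h1 : orderOf g ≠ 1 := by simpa using T.Fpf_ne_one hg
  obtain ⟨p, hp, hd⟩ := Nat.exists_prime_and_dvd h1
  have h2 : orderOf (g ^ (orderOf g / p)) = p :=
    orderOf_pow_orderOf_div (orderOf_pos g).ne' hd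
  have h3 : Fpf (g ^ (orderOf g / p)) := by
    apply T.fpf_of_commute hg _ (Commute.self_pow g _)
    intro h
    rw [h, orderOf_one] at h2
    exact hp.one_lt.ne h2
  obtain ⟨h4, h5⟩ := T.minpoly_of_fpf h3 (h2.symm ▸ hp)
  have h6 := isCyclic_centralizer_of_irreducible (matHom F m) matHom_injective _ h4 h5
  have h7 : Subgroup.centralizer ({g ^ (orderOf g / p)} : Set (Cfsg.Sz F m)) =
      Subgroup.centralizer {g} := by
    ext c
    constructor
    · intro hc
      have hg' : g ∈ Subgroup.centralizer ({g ^ (orderOf g / p)} : Set (Cfsg.Sz F m)) :=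
        Subgroup.mem_centralizer_singleton_iff.mpr (Commute.self_pow g _)
      have := h6.commGroup.mul_comm ⟨c, hc⟩ ⟨g, hg'⟩
      exact Subgroup.mem_centralizer_singleton_iff.mpr (congrArg Subtype.val this)
    · intro hc
      rw [Subgroup.mem_centralizer_singleton_iff] at hc ⊢
      exact (Commute.pow_right hc _)
  exact ⟨_, h3, h2.symm ▸ hp, h7, h7 ▸ h6⟩

include T in
theorem isCyclic_centralizer_of_fpf [Finite F] {g : Cfsg.Sz F m} (hg : Fpf g) :
    IsCyclic (Subgroup.centralizer ({g} : Set (Cfsg.Sz F m))) :=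
  (T.exists_prime_power hg).choose_spec.2.2.2

include T in
theorem centralizer_eq_of_fpf [Finite F] {g c : Cfsg.Sz F m} (hg : Fpf g)
    (hc : c ∈ Subgroup.centralizer ({g} : Set (Cfsg.Sz F m))) (h1 : c ≠ 1) :
    Subgroup.centralizer ({c} : Set (Cfsg.Sz F m)) = Subgroup.centralizer {g} := by
  have key : ∀ g c : Cfsg.Sz F m, Fpf g → c ∈ Subgroup.centralizer ({g} : Set (Cfsg.Sz F m)) →
      Subgroup.centralizer ({g} : Set (Cfsg.Sz F m)) ≤ Subgroup.centralizer {c} := by
    intro g c hg hc x hx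
    have := (T.isCyclic_centralizer_of_fpf hg).commGroup.mul_comm ⟨x, hx⟩ ⟨c, hc⟩
    exact Subgroup.mem_centralizer_singleton_iff.mpr (congrArg Subtype.val this)
  have hc' := Subgroup.mem_centralizer_singleton_iff.mp hc
  exact le_antisymm (key c g (T.fpf_of_commute hg h1 hc'.symm)
    (Subgroup.mem_centralizer_singleton_iff.mpr hc'.symm)) (key g c hg hc)

include T in
/-- The centraliser of a non-identity element has exponent dividing four or is cyclic. -/
theorem centralizer_cases [Finite F] {g : Cfsg.Sz F m} (h1 : g ≠ 1) :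
    (∀ c ∈ Subgroup.centralizer ({g} : Set (Cfsg.Sz F m)), c ^ 2 ^ 2 = 1) ∨
      IsCyclic (Subgroup.centralizer ({g} : Set (Cfsg.Sz F m))) := by
  have key : ∀ x : Cfsg.Sz F m, ∀ c ∈ Subgroup.centralizer ({g} : Set (Cfsg.Sz F m)),
      x * c * x⁻¹ * (x * g * x⁻¹) = x * g * x⁻¹ * (x * c * x⁻¹) := by
    intro x c hc
    calc x * c * x⁻¹ * (x * g * x⁻¹) = x * (c * g) * x⁻¹ := by group
      _ = _ := by rw [Subgroup.mem_centralizer_singleton_iff.mp hc]; group
  rcases T.trichotomy g with ⟨x, hx⟩ | ⟨x, hx⟩ | h3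
  · left
    intro c hc
    obtain ⟨a, b, h⟩ := T.mem_U_of_commute hx (by simpa using h1) (key x c hc)
    have := T.u_pow_four a b
    rw [← h, conj_pow] at this
    simpa using this
  · right
    have : IsCyclic T.H := isCyclic_of_surjective T.hEquiv T.hEquiv.surjective
    let f : Subgroup.centralizer ({g} : Set (Cfsg.Sz F m)) →* T.H :=
      ((MulAut.conj x).toMonoidHom.comp (Subgroup.subtype _)).codRestrict T.H
        (fun c => T.mem_H_of_commute hx (by simpa using h1) (key x c c.2))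
    apply isCyclic_of_injective f
    intro a b h
    exact Subtype.ext ((MulAut.conj x).injective (congrArg Subtype.val h))
  · exact Or.inr (T.isCyclic_centralizer_of_fpf h3)

include T in
theorem isCNGroup [Finite F] : IsCNGroup (Cfsg.Sz F m) := by
  intro g hg
  rcases T.centralizer_cases hg with h | h
  · have : IsPGroup 2 (Subgroup.centralizer ({g} : Set (Cfsg.Sz F m))) :=
      fun c => ⟨2, Subtype.ext (h c c.2)⟩
    exact this.isNilpotent
  · letI := h.commGroup
    infer_instance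

include T in
theorem isCyclic_of_isPGroup [Finite F] {p : ℕ} [hp : Fact p.Prime] (hp2 : p ≠ 2)
    (P : Subgroup (Cfsg.Sz F m)) (hP : IsPGroup p P) : IsCyclic P := by
  rcases subsingleton_or_nontrivial P with h | h
  · infer_instance
  have := hP.center_nontrivial
  obtain ⟨⟨z, hz⟩, hz1⟩ := _root_.exists_ne (1 : Subgroup.center P)
  have hz2 : (z : Cfsg.Sz F m) ≠ 1 := fun h => hz1 (Subtype.ext (Subtype.ext h))
  have hle : P ≤ Subgroup.centralizer ({(z : Cfsg.Sz F m)} : Set (Cfsg.Sz F m)) := by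
    intro c hc
    exact Subgroup.mem_centralizer_singleton_iff.mpr
      (congrArg Subtype.val (Subgroup.mem_center_iff.mp hz ⟨c, hc⟩))
  rcases T.centralizer_cases hz2 with h | h
  · exfalso
    obtain ⟨k, hk⟩ := hP z
    have h1 := orderOf_dvd_of_pow_eq_one (h z (hle z.2))
    have h2 := orderOf_dvd_of_pow_eq_one (congrArg Subtype.val hk : (z : Cfsg.Sz F m) ^ p ^ k = 1)
    have h3 : Nat.Coprime (2 ^ 2) (p ^ k) :=
      Nat.Coprime.pow _ _ ((Nat.coprime_primes Nat.prime_two hp.out).mpr hp2.symm)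
    exact hz2 (orderOf_eq_one_iff.mp (Nat.eq_one_of_dvd_coprimes h3 h1 h2))
  · exact isCyclic_of_injective (Subgroup.inclusion hle) (Subgroup.inclusion_injective hle)

/-- The normaliser of the torus. -/
def NH : Subgroup (Cfsg.Sz F m) where
  carrier := {x | x ∈ T.H ∨ T.w * x ∈ T.H}
  one_mem' := Or.inl T.H.one_mem
  mul_mem' := by
    have hw : ∀ x ∈ T.H, T.w * x * T.w ∈ T.H := by
      intro x hx
      obtain ⟨k, rfl⟩ := T.mem_H.mp hx
      rw [w_mul_h, mul_assoc, w_mul_w, mul_one]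
      exact ⟨_, rfl⟩
    have hww : ∀ x, T.w * (T.w * x) = x := fun x => by rw [← mul_assoc, w_mul_w, one_mul]
    rintro x y (hx | hx) (hy | hy)
    · exact Or.inl (T.H.mul_mem hx hy)
    · right
      simpa [mul_assoc, hww] using T.H.mul_mem (hw _ hx) hy
    · right
      simpa [mul_assoc] using T.H.mul_mem hx hy
    · left
      simpa [mul_assoc, hww] using T.H.mul_mem (hw _ hx) hy
  inv_mem' := by
    rintro x (hx | hx)
    · exact Or.inl (T.H.inv_mem hx)
    · right
      obtain ⟨k, hk⟩ := T.mem_H.mp hx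
      have : x = T.w * T.h k := by rw [← hk, ← mul_assoc, w_mul_w, one_mul]
      rw [this, _root_.mul_inv_rev, h_inv, w_inv, ← mul_assoc, w_mul_h, mul_assoc, w_mul_w, mul_one]
      exact ⟨_, rfl⟩

theorem w_notMem_H : T.w ∉ T.H := by
  intro h
  have := T.H_le_B h
  rw [MulAction.mem_stabilizer_iff, w_inf] at this
  exact T.pt_ne_inf 0 0 this

theorem card_NH [Finite F] : Nat.card T.NH = 2 * (Nat.card F - 1) := by
  have hww : ∀ x, T.w * (T.w * x) = x := fun x => by rw [← mul_assoc, w_mul_w, one_mul]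
  have : Function.Bijective (fun p : T.H ⊕ T.H => (match p with
      | Sum.inl x => ⟨x, Or.inl x.2⟩
      | Sum.inr x => ⟨T.w * x, Or.inr (by rw [hww]; exact x.2)⟩ : T.NH)) := by
    constructor
    · rintro (x | x) (y | y) h
      · have := congrArg Subtype.val h
        exact congrArg _ (Subtype.ext this)
      · have : (x : Cfsg.Sz F m) = T.w * y := congrArg Subtype.val h
        exact absurd (by simpa [this] using T.H.mul_mem x.2 (T.H.inv_mem y.2)) T.w_notMem_H
      · have : (y : Cfsg.Sz F m) = T.w * x := (congrArg Subtype.val h).symm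
        exact absurd (by simpa [this] using T.H.mul_mem y.2 (T.H.inv_mem x.2)) T.w_notMem_H
      · have : T.w * x = T.w * y := congrArg Subtype.val h
        exact congrArg _ (Subtype.ext (mul_left_cancel this))
    · rintro ⟨x, hx | hx⟩
      · exact ⟨Sum.inl ⟨x, hx⟩, rfl⟩
      · exact ⟨Sum.inr ⟨_, hx⟩, Subtype.ext (hww x)⟩
  rw [← Nat.card_eq_of_bijective _ this, Nat.card_sum, card_H, two_mul]

end Ctx

end Sz
end H8
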