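import Mathlib
import Cfsg.Prelude.Def_LieExceptional
import Cfsg.Prelude.Def_Sz
import Cfsg.Agent.H8.SzTori

/-!
The two models of the Suzuki group agree: `Cfsg.Lie.Sz F (2 ^ (m + 1))` is the image of
`Cfsg.Sz F m` in `GL₄(F)`.
-/

set_option autoImplicit false

namespace H8
namespace Sz

open Cfsg Matrix
open scoped LinearAlgebra.Projectivization Pointwise

variable {F : Type*} [Field F] {m : ℕ}

theorem altForm4_eq (u v : Fin 4 → F) : Lie.altForm4 u v = u ⬝ᵥ (suzukiForm F *ᵥ v) := by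
  simp [Lie.altForm4, suzukiForm, Matrix.mulVec, dotProduct, Fin.sum_univ_four]

theorem mem_Sp4_iff (g : GL (Fin 4) F) : g ∈ Lie.Sp4 F ↔
    (g : Matrix (Fin 4) (Fin 4) F).transpose * suzukiForm F * (g : Matrix (Fin 4) (Fin 4) F) =
      suzukiForm F := by
  have key : ∀ u v : Fin 4 → F, Lie.altForm4 ((g : Matrix (Fin 4) (Fin 4) F) *ᵥ u)
      ((g : Matrix (Fin 4) (Fin 4) F) *ᵥ v) = u ⬝ᵥ (((g : Matrix (Fin 4) (Fin 4) F).transpose *
        suzukiForm F * (g : Matrix (Fin 4) (Fin 4) F)) *ᵥ v) := by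
    intro u v
    rw [altForm4_eq, ← Matrix.mulVec_mulVec, ← Matrix.mulVec_mulVec,
      Matrix.dotProduct_mulVec u, Matrix.vecMul_transpose]
  constructor
  · intro h
    ext i j
    have := h (Pi.single i 1) (Pi.single j 1)
    rw [Units.coeHom_apply, key, altForm4_eq] at this
    simpa using this
  · intro h u v
    rw [Units.coeHom_apply, key, h, altForm4_eq]

theorem suzukiForm_mul_self : suzukiForm F * suzukiForm F = 1 := by
  ext i j
  fin_cases i <;> fin_cases j <;> simp [suzukiForm, Matrix.mul_apply, Fin.sum_univ_four]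

theorem mul_form_transpose {g : Matrix (Fin 4) (Fin 4) F}
    (h : g.transpose * suzukiForm F * g = suzukiForm F) :
    g * suzukiForm F * g.transpose = suzukiForm F := by
  have h1 : (suzukiForm F * g.transpose * suzukiForm F) * g = 1 := by
    rw [Matrix.mul_assoc (suzukiForm F), Matrix.mul_assoc (suzukiForm F), h, suzukiForm_mul_self]
  rw [mul_eq_one_comm] at h1
  calc g * suzukiForm F * g.transpose
      = g * (suzukiForm F * g.transpose * suzukiForm F) * suzukiForm F := by
        simp only [Matrix.mul_assoc, suzukiForm_mul_self, Matrix.mul_one]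
    _ = suzukiForm F := by rw [h1, Matrix.one_mul]

/-- The relevant Plücker coordinates. -/
def wedge (v u : Fin 4 → F) : Fin 4 → F :=
  ![v 0 * u 1 - v 1 * u 0, v 0 * u 2 - v 2 * u 0, v 1 * u 3 - v 3 * u 1, v 2 * u 3 - v 3 * u 2]

theorem wedge_mulVec (h2 : (2 : F) = 0) {g : Matrix (Fin 4) (Fin 4) F}
    (h : g * suzukiForm F * g.transpose = suzukiForm F) {v u : Fin 4 → F}
    (hp : Lie.altForm4 v u = 0) : wedge (g *ᵥ v) (g *ᵥ u) = Lie.star4 g *ᵥ wedge v u := by
  have e01 := congrFun (congrFun h 0) 1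
  have e02 := congrFun (congrFun h 0) 2
  have e13 := congrFun (congrFun h 1) 3
  have e23 := congrFun (congrFun h 2) 3
  simp [suzukiForm, Matrix.mul_apply, Fin.sum_univ_four] at e01 e02 e13 e23
  simp only [Lie.altForm4] at hp
  ext i
  fin_cases i <;>
    simp [wedge, Lie.star4, Lie.pairOf, Matrix.mulVec, dotProduct, Fin.sum_univ_four] <;> grind

namespace Ctx

variable (T : Ctx F m)

theorem exists_wedge {p : ℙ F (Fin 4 → F)} (hp : p ∈ suzukiOvoid F m) :
    ∃ (v : Fin 4 → F) (hv : v ≠ 0) (u : Fin 4 → F), p = Projectivization.mk F v hv ∧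
      Lie.altForm4 v u = 0 ∧ wedge v u = T.σ ∘ v := by
  have h2 := T.two_eq_zero
  rcases (T.mem_ovoid_iff _).mp hp with rfl | ⟨x, y, rfl⟩
  · refine ⟨_, _, ![0, 1, 0, 0], rfl, by simp [Lie.altForm4], ?_⟩
    ext i
    fin_cases i <;> simp [wedge]
  · refine ⟨_, _, ![T.σ x * x + y, T.σ x, 1, 0], rfl, ?_, ?_⟩
    · simp [Lie.altForm4, vec]
      grind
    · ext i
      fin_cases i <;> simp [wedge, vec, f, T.sq] <;> grind

theorem mem_of_wedge {v u : Fin 4 → F} (hv : v ≠ 0) (h1 : Lie.altForm4 v u = 0)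
    (h : wedge v u = T.σ ∘ v) : Projectivization.mk F v hv ∈ suzukiOvoid F m := by
  have h2 := T.two_eq_zero
  have e0 := congrFun h 0
  have e1 := congrFun h 1
  have e2 := congrFun h 2
  have e3 := congrFun h 3
  simp [wedge] at e0 e1 e2 e3
  simp only [Lie.altForm4] at h1
  rw [T.mem_ovoid_iff]
  by_cases h3 : v 3 = 0
  · left
    rw [h3] at e2 e3 h1
    simp only [zero_mul, sub_zero, map_zero, mul_eq_zero, add_zero] at e2 e3 h1
    have hx : v 2 = 0 := by
      by_contra hx
      rw [e3.resolve_left hx, mul_zero, eq_comm, T.σ_eq_zero] at e2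
      exact hx e2
    have hy : v 1 = 0 := by
      by_contra hy
      rw [hx, map_zero] at e2
      have hu3 := (mul_eq_zero.mp e2).resolve_left hy
      rw [hx, hu3] at h1
      have hu2 : u 2 = 0 := by simpa [hy] using h1
      rw [hx, hu2] at e1
      simp only [mul_zero, zero_mul, sub_zero] at e1
      exact hy (T.σ_eq_zero.mp e1.symm)
    rw [inf_def, Projectivization.mk_eq_mk_iff']
    refine ⟨v 0, ?_⟩
    ext i
    fin_cases i <;> simp [hx, hy, h3]
  · right
    refine ⟨v 2 / v 3, v 1 / v 3, ?_⟩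
    rw [pt, Projectivization.mk_eq_mk_iff']
    refine ⟨v 3, ?_⟩
    have h4 : T.σ (v 3) ≠ 0 := by simpa using h3
    ext i
    fin_cases i <;> simp [vec, f] <;> field_simp
    rw [← e1, ← e2, ← e3]
    grind

theorem mem_Sz_of_star [Finite F] (g : GL (Fin 4) F) (h1 : g ∈ Lie.Sp4 F)
    (h : Lie.star4 (g : Matrix (Fin 4) (Fin 4) F) = (g : Matrix (Fin 4) (Fin 4) F).map T.σ) :
    ∃ g' ∈ Cfsg.Sz F m, Matrix.SpecialLinearGroup.toGL g' = g := by
  have h2 := T.two_eq_zero
  have h1' := h1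
  rw [mem_Sp4_iff] at h1
  have hdet : (g : Matrix (Fin 4) (Fin 4) F).det = 1 := by
    have e := congrArg Matrix.det h1
    have e' := congrArg Matrix.det (suzukiForm_mul_self (F := F))
    rw [Matrix.det_mul, Matrix.det_mul, Matrix.det_transpose] at e
    rw [Matrix.det_mul, Matrix.det_one] at e'
    have : ((g : Matrix (Fin 4) (Fin 4) F).det - 1) ^ 2 = 0 := by grind
    exact sub_eq_zero.mp (pow_eq_zero_iff (by norm_num) |>.mp this)
  let g' : Matrix.SpecialLinearGroup (Fin 4) F := ⟨g, hdet⟩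
  refine ⟨g', ?_, Units.ext rfl⟩
  rw [MulAction.mem_stabilizer_iff]
  apply Set.eq_of_subset_of_ncard_le _ (by rw [Set.ncard_smul_set]) (Set.toFinite _)
  rintro _ ⟨p, hp, rfl⟩
  obtain ⟨v, hv, u, rfl, h3, h4⟩ := T.exists_wedge hp
  apply T.mem_of_wedge (u := (g : Matrix (Fin 4) (Fin 4) F) *ᵥ u)
  · exact (h1' v u).trans h3
  · change wedge ((g : Matrix (Fin 4) (Fin 4) F) *ᵥ v) _ = T.σ ∘ ((g : Matrix (Fin 4) (Fin 4) F) *ᵥ v)
    rw [wedge_mulVec h2 (mul_form_transpose h1) h3, h, h4]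
    ext i
    simp [Matrix.mulVec, dotProduct]

include T in
theorem lie_Sz_eq [Finite F] : Lie.Sz F (2 ^ (m + 1)) =
    (Cfsg.Sz F m).map Matrix.SpecialLinearGroup.toGL := by
  have h2 := T.two_eq_zero
  have hσ : (fun x : F => x ^ 2 ^ (m + 1)) = T.σ := funext fun x => (T.σ_eq x).symm
  unfold Lie.Sz
  rw [hσ]
  apply le_antisymm
  · rw [Subgroup.closure_le]
    rintro g ⟨h1, h⟩
    exact T.mem_Sz_of_star g h1 h
  · rintro _ ⟨g, hg, rfl⟩
    have key : ∀ g : Cfsg.Sz F m, Lie.star4 (mat g) = (mat g).map T.σ →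
        Matrix.SpecialLinearGroup.toGL (g : Matrix.SpecialLinearGroup (Fin 4) F) ∈
          Subgroup.closure {g : GL (Fin 4) F | g ∈ Lie.Sp4 F ∧
            Lie.star4 (g : Matrix (Fin 4) (Fin 4) F) = (g : Matrix (Fin 4) (Fin 4) F).map T.σ} :=
      fun g h => Subgroup.subset_closure ⟨(mem_Sp4_iff _).mpr (T.preserves_form g), h⟩
    have : ∀ g : Cfsg.Sz F m,
        Matrix.SpecialLinearGroup.toGL (g : Matrix.SpecialLinearGroup (Fin 4) F) ∈
          Subgroup.closure {g : GL (Fin 4) F | g ∈ Lie.Sp4 F ∧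
            Lie.star4 (g : Matrix (Fin 4) (Fin 4) F) = (g : Matrix (Fin 4) (Fin 4) F).map T.σ} := by
      intro g
      induction g using T.induction_on with
      | hu a b =>
        apply key
        rw [mat_u]
        ext i j
        fin_cases i <;> fin_cases j <;> simp [Lie.star4, Lie.pairOf, f, T.sq] <;> grind
      | hh k =>
        apply key
        have : T.σ k ≠ 0 := by simp
        rw [mat_h]
        ext i j
        fin_cases i <;> fin_cases j <;> simp [Lie.star4, Lie.pairOf, T.sq] <;> field_simp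
      | hw =>
        apply key
        rw [mat_w]
        ext i j
        fin_cases i <;> fin_cases j <;> simp [Lie.star4, Lie.pairOf] <;> grind
      | hmul g g' h h' =>
        rw [Subgroup.coe_mul, map_mul]
        exact Subgroup.mul_mem _ h h'
    exact this ⟨g, hg⟩

/-- The isomorphism between the two models of the Suzuki group. -/
noncomputable def lieEquiv [Finite F] : Cfsg.Sz F m ≃* Lie.Sz F (2 ^ (m + 1)) :=
  ((Cfsg.Sz F m).equivMapOfInjective _ Matrix.SpecialLinearGroup.toGL_injective).trans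
    (MulEquiv.subgroupCongr T.lie_Sz_eq.symm)

theorem normalizer_U : Subgroup.normalizer (T.U : Set (Cfsg.Sz F m)) = B F m := by
  apply le_antisymm
  · intro x hx
    exact T.mem_B_of_conj_mem_U (T.u_mem_U 0 1) (T.u_ne_one (by simp))
      ((Subgroup.mem_normalizer_iff.mp hx _).mp (T.u_mem_U 0 1))
  · intro x hx
    rw [Subgroup.mem_normalizer_iff]
    intro y
    refine ⟨T.conj_mem_U hx, fun h => ?_⟩
    simpa [mul_assoc] using T.conj_mem_U ((B F m).inv_mem hx) h

end Ctx

end Sz
end H8
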