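import Mathlib
import Cfsg.Prelude.Def_Sz
import Cfsg.Agent.H8.SuzK
import Cfsg.Agent.H8.SzLie
import Cfsg.Agent.H21.Suz5
import Cfsg.Agent.H21.Suz8

/-! Chapter III, §2 and the identification of `Sz(q)`. -/

set_option autoImplicit false

namespace H21

open Cfsg MulAction H8.Suz

variable {G Ω : Type*} [Group G] [Finite G] [MulAction G Ω] {a : Ω} {t : G} {Q : Subgroup G} {s r : G}

namespace Co

variable {F : Type*} [Field F] [Finite F] {θ : F ≃+* F} {e : F → F → G} {χ : G → F}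

theorem gg_one (h : Co a t Q s r θ 1 e χ) (hG : Hyp G Ω a t Q s r) (v : F) :
    gg a t Q (e 1 (θ v)) = e (θ v / (θ v + 1 + v ^ 2)) (1 / (θ v + 1 + v ^ 2)) := by
  have two := h.two
  have hθ := h.theta_sq hG
  by_cases h0 : v = 0
  · rw [h0, map_zero, show e 1 0 = r⁻¹ from
      (h.congr rfl (by linear_combination -two)).trans h.r_inv.symm, (ghf_r_inv hG).1, ← h.s_eq]
    exact h.congr (by simp) (by simp)
  by_cases h1 : v = 1
  · rw [h1, map_one, h.r_eq, (ghf_r hG).1, ← h.r_eq,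
      show (1 : F) + 1 + 1 ^ 2 = 1 by linear_combination two, div_one]
  obtain ⟨l, -, e1, e2, -⟩ := h.orb hG h0 h1
  rw [show 1 + 1 + (1 * θ v + (1 + 1) * v) = θ v by linear_combination (1 + v) * two] at e2
  have h2 : v + 1 ≠ 0 := fun h' => h1 (by linear_combination h' - two)
  have hE : 1 + v + θ v ≠ 0 := fun h' => Nm_ne θ h2 (by rw [← e1, h', mul_zero])
  have hf : θ v + 1 + v ^ 2 = θ (1 + v + θ v) := by
    rw [map_add, map_add, map_one, hθ]; ring
  have hf0 : θ v + 1 + v ^ 2 ≠ 0 := by rw [hf]; simpa using (map_ne_zero θ).mpr hE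
  have hf2 : θ (θ v + 1 + v ^ 2) = (1 + v + θ v) ^ 2 := by rw [hf, hθ]
  have hl : l = (v + 1) * (1 + v + θ v) / (θ v + 1 + v ^ 2) := by
    apply h.Nm_inj hG
    apply mul_right_cancel₀ hE
    rw [e1, Nm_div, Nm_mul]
    nth_rewrite 3 [Nm]
    nth_rewrite 3 [Nm]
    rw [← hf, hf2]
    field_simp
  have h3 : θ v ≠ 0 := by simpa using h0
  rw [e2]
  refine h.congr ?_ ?_
  · rw [hl]
    field_simp
    linear_combination (θ v + 1 + v + v ^ 2) * two
  · rw [show (1 : F) + 1 = 0 by linear_combination two, zero_mul, add_zero, hl, Nm]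
    field_simp
    linear_combination (θ v + 1 + v + v ^ 2) * two

theorem gg_eq (h : Co a t Q s r θ 1 e χ) (hG : Hyp G Ω a t Q s r) {x y : F} (h0 : e x y ≠ 1) :
    gg a t Q (e x y) = e (y / (x * y + θ x * x ^ 2 + θ y)) (x / (x * y + θ x * x ^ 2 + θ y)) := by
  have two := h.two
  have hθ := h.theta_sq hG
  have key : ∀ k ∈ KK a t, ∀ x y, e x y ≠ 1 →
      gg a t Q (e x y) = e (y / (x * y + θ x * x ^ 2 + θ y)) (x / (x * y + θ x * x ^ 2 + θ y)) →
      ∀ x' y', x' = χ k * x → y' = Nm θ (χ k) * y → gg a t Q (e x' y') =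
        e (y' / (x' * y' + θ x' * x' ^ 2 + θ y')) (x' / (x' * y' + θ x' * x' ^ 2 + θ y')) := by
    rintro k hk x y h1 e1 _ _ rfl rfl
    have hk0 := h.χ_ne hk
    have hk1 : θ (χ k) ≠ 0 := by simpa using hk0
    rw [← h.conj k hk, (ghf_conjK hG (h.mem x y) h1 hk).1, e1, h.conj' hk,
      show χ k * x * (Nm θ (χ k) * y) + θ (χ k * x) * (χ k * x) ^ 2 + θ (Nm θ (χ k) * y) =
        χ k * Nm θ (χ k) * (x * y + θ x * x ^ 2 + θ y) by
        simp only [Nm, map_mul, hθ]; ring]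
    have := Nm_ne θ hk0
    by_cases hf : x * y + θ x * x ^ 2 + θ y = 0
    · simp [hf]
    exact h.congr (by field_simp) (by field_simp)
  by_cases hx : x = 0
  · subst hx
    obtain ⟨k, hk, e1, -⟩ := h.exists_rep0 hG (y := y) (by rintro rfl; exact h0 h.zero)
    refine key k hk 0 1 (h.ne_one_right 0 one_ne_zero) ?_ _ _ (mul_zero _).symm (by rw [e1, mul_one])
    rw [h.s_eq, hG.ghf_s.1, h.r_inv]
    exact h.congr (by simp) (by simpa using by linear_combination two)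
  · obtain ⟨k, hk, rfl⟩ := h.onto x hx
    obtain ⟨v, hv⟩ := θ.surjective (y / Nm θ (χ k))
    refine key k hk 1 (θ v) (h.ne_one_left one_ne_zero _) ?_ _ _ (mul_one _).symm
      (by rw [hv, mul_div_cancel₀ _ (Nm_ne θ hx)])
    rw [h.gg_one hG v, map_one, hθ, one_mul, one_pow, one_mul]

end Co

theorem Co.iso_sz {F : Type} [Field F] [Fintype F] {θ : F ≃+* F} {e : F → F → G} {χ : G → F}
    (h : Co a t Q s r θ 1 e χ) (hG : Hyp G Ω a t Q s r) (hF : Nat.card F = Nat.card (Q0 Q))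
    (hc : Nat.card Q = Nat.card (Q0 Q) ^ 2) : Lie.IsoSuzuki (LL t Q) := by
  obtain ⟨n, hn, hq⟩ := hG.card_Q0
  obtain ⟨m, hm, hF', hθ⟩ := exists_tits θ h.odd (h.theta_sq hG) hn
    (by rw [← Nat.card_eq_fintype_card, hF, hq])
  let T : H8.Sz.Ctx F m := ⟨θ, hθ, h.theta_sq hG, h.exists_ne hG⟩
  refine ⟨F, inferInstance, inferInstance, m, hm, hF', ?_⟩
  obtain ⟨E, hE1, hE2⟩ := exists_equiv_option hG (fun p : F × F => e p.1 p.2) (fun p => h.mem _ _)
    (fun p q e' => Prod.ext (h.inj e').1 (h.inj e').2) fun y hy => by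
      obtain ⟨x, y, rfl⟩ := h.surj y hy
      exact ⟨(x, y), rfl⟩
  let ψ : Option (F × F) → suzukiOvoid F m := fun o =>
    o.elim ⟨_, T.inf_mem⟩ fun p => ⟨_, T.pt_mem p.1 p.2⟩
  have hψ : Function.Bijective ψ := by
    constructor
    · rintro (_ | p) (_ | q) e'
      · rfl
      · exact absurd (congrArg Subtype.val e').symm (T.pt_ne_inf _ _)
      · exact absurd (congrArg Subtype.val e') (T.pt_ne_inf _ _)
      · obtain ⟨e1, e2⟩ := T.pt_inj.mp (congrArg Subtype.val e')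
        rw [Prod.ext e1 e2]
    · rintro ⟨p, hp⟩
      rcases (T.mem_ovoid_iff p).mp hp with rfl | ⟨x, y, rfl⟩
      · exact ⟨none, rfl⟩
      · exact ⟨some (x, y), rfl⟩
  let E' : suzukiOvoid F m ≃ Ω := (Equiv.ofBijective ψ hψ).symm.trans E
  have k0 : ∀ o, E' (ψ o) = E o := fun o =>
    congrArg E ((Equiv.ofBijective ψ hψ).symm_apply_apply o)
  have k1 : ∀ p : suzukiOvoid F m, p.1 = H8.Sz.inf F → E' p = a := fun p hp => by
    rw [show p = ψ none from Subtype.ext hp, k0, hE1]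
  have k2 : ∀ (p : suzukiOvoid F m) x y, p.1 = T.pt x y → E' p = e x y • t • a := fun p x y hp => by
    rw [show p = ψ (some (x, y)) from Subtype.ext hp, k0, hE2]
  haveI : FaithfulSMul (Cfsg.Sz F m) (suzukiOvoid F m) := ⟨fun {g g'} e' => by
    have := T.eq_one_of_fix_all (g'⁻¹ * g) fun p hp => by
      have := congrArg Subtype.val (e' ⟨p, hp⟩)
      rw [H8.Sz.coe_smul_ovoid, H8.Sz.coe_smul_ovoid] at this
      rw [mul_smul, this, inv_smul_smul]
    exact (inv_mul_eq_one.mp this).symm⟩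
  obtain ⟨φ⟩ := iso_LL hG E' (Cfsg.Sz F m) (fun g hg => by
    obtain ⟨x, y, rfl⟩ := h.surj g hg
    refine ⟨T.u x y, fun p => ?_⟩
    rcases (T.mem_ovoid_iff p.1).mp p.2 with hp | ⟨z, w, hp⟩
    · rw [k1 p hp, k1 _ (by rw [H8.Sz.coe_smul_ovoid, hp, T.u_inf])]
      exact RankOne.Q_fix hG.setup hg
    · rw [k2 p z w hp, k2 _ _ _ (by rw [H8.Sz.coe_smul_ovoid, hp, T.u_pt]), ← mul_smul, h.mul,
        add_comm x z, add_comm y w]
      rfl) (by
    refine ⟨T.w, fun p => ?_⟩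
    rcases (T.mem_ovoid_iff p.1).mp p.2 with hp | ⟨z, w, hp⟩
    · rw [k1 p hp, k2 _ 0 0 (by rw [H8.Sz.coe_smul_ovoid, hp, T.w_inf]), h.zero, one_smul]
    · by_cases hf : T.f z w = 0
      · obtain ⟨rfl, rfl⟩ := T.f_eq_zero hf
        rw [k2 p 0 0 hp, k1 _ (by rw [H8.Sz.coe_smul_ovoid, hp, T.w_pt_zero]), h.zero, one_smul,
          RankOne.tta hG.setup]
      · have h1 : e z w ≠ 1 := fun h' => by
          obtain ⟨rfl, rfl⟩ := h.inj (h'.trans h.zero.symm)
          exact hf T.f_zero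
        rw [k2 p z w hp, k2 _ _ _ (by rw [H8.Sz.coe_smul_ovoid, hp, T.w_pt hf]),
          hG.t_smul (h.mem _ _) h1, h.gg_eq hG h1]
        rfl) (by
    rw [T.card_Sz, hF, hc, ← hG.card_KK, Nat.add_sub_cancel]
    exact le_of_eq (by ring))
  exact ⟨φ.trans T.lieEquiv⟩

end H21

namespace H8
namespace Suz

open Cfsg MulAction

variable {G Ω : Type*} [Group G] [Finite G] [MulAction G Ω] {a : Ω} {t : G} {Q : Subgroup G} {s r : G}

theorem Hyp.iso_sz (hG : Hyp G Ω a t Q s r) (h2 : IsPGroup 2 Q)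
    (hna : ∃ x ∈ Q, ∃ y ∈ Q, x * y ≠ y * x) (hc : Nat.card Q = Nat.card (Q0 Q) ^ 2) :
    Lie.IsoSuzuki (LL t Q) := by
  obtain ⟨F, _, _, θ, u, e, χ, hF, h⟩ := H21.exists_co hG h2 hna hc
  rcases h.u_cases hG with rfl | rfl
  · have h' := h.swap
    rw [zero_add] at h'
    exact h'.iso_sz hG hF hc
  · exact h.iso_sz hG hF hc

end Suz
end H8
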