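import Mathlib
import Cfsg.Agent.H8.SuzK
import Cfsg.Agent.H21.Suz3
import Cfsg.Agent.H21.Feit6

/-! The case `V = 1` (Zassenhaus groups): S0346, S0731, S1147. -/

set_option autoImplicit false

namespace H8
namespace Suz

open Cfsg MulAction

variable {G Ω : Type*} [Group G] [Finite G] [MulAction G Ω] {a : Ω} {t : G} {Q : Subgroup G} {s r : G}

theorem Hyp.ker (hG : Hyp G Ω a t Q s r) : H21.Ker a Q :=
  H21.ker_of_reg hG.setup.le
    ⟨fun x hx g => hG.setup.conj_mem g g.2 x hx⟩ (H21.RankOne.s1119 hG.setup).1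

theorem Hyp.three_of_V_bot (hG : Hyp G Ω a t Q s r) (hV : VV a t = ⊥) (g : G) (x y z : Ω)
    (hxy : x ≠ y) (hyz : y ≠ z) (hxz : x ≠ z) (h1 : g • x = x) (h2 : g • y = y) (h3 : g • z = z) :
    g = 1 := by
  obtain ⟨u, hu1, hu2⟩ := H21.RankOne.two_trans hG.setup hxy (H21.RankOne.ta_ne hG.setup).symm
  have hf : ∀ c : Ω, g • c = c → (u * g * u⁻¹) • u • c = u • c := fun c hc => by
    rw [mul_smul, mul_smul, inv_smul_smul, hc]
  have hD : u * g * u⁻¹ ∈ DD a t := ⟨by rw [← hu1]; exact hf x h1, by rw [← hu2]; exact hf y h2⟩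
  obtain ⟨k, hk, e⟩ := H21.RankOne.s1126 hG.setup {u * g * u⁻¹} (by simpa using hD)
    ⟨u • x, u • y, u • z, by simpa using hxy, by simpa using hxz, by simpa using hyz, by
      rintro _ rfl
      exact ⟨hf x h1, hf y h2, hf z h3⟩⟩
  have : k * (u * g * u⁻¹) * k⁻¹ ∈ VV a t :=
    mem_VV.mpr ⟨Subgroup.mul_mem _ (Subgroup.mul_mem _ hk hD) (Subgroup.inv_mem _ hk),
      (e _ rfl).symm⟩
  rw [hV, Subgroup.mem_bot] at this
  simpa using this

theorem Hyp.zass_of_V_bot [hs : IsSimpleGroup G] (hG : Hyp G Ω a t Q s r) (hV : VV a t = ⊥) :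
    IsZassenhausGroup G Ω := by
  obtain ⟨k, hk, hk1⟩ := hG.exists_KK_ne_one
  have hne := H21.RankOne.ta_ne hG.setup
  refine ⟨hG.faithfulSMul, hG.setup.two_transitive, hG.three_of_V_bot hV,
    ⟨k, hk1, a, t • a, hne.symm, (KK_le hk).1, (KK_le hk).2⟩, fun N hN hT => ?_⟩
  rcases hs.eq_bot_or_eq_top_of_normal N hN with rfl | rfl
  · obtain ⟨⟨g, hg⟩, e⟩ := hT.exists_smul_eq a (t • a)
    obtain rfl := Subgroup.mem_bot.mp hg
    exact absurd ((one_smul G a).symm.trans e).symm hne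
  · refine ⟨a, fun h => hk1 ?_⟩
    have : (⟨k, Subgroup.mem_top k⟩ : (⊤ : Subgroup G)) ∈ stabilizer (⊤ : Subgroup G) a :=
      (KK_le hk).1
    rw [h] at this
    exact congrArg Subtype.val (Subgroup.mem_bot.mp this)

theorem Hyp.struct_of_V_bot [IsSimpleGroup G] (hG : Hyp G Ω a t Q s r) (hV : VV a t = ⊥) :
    Struct a t Q := by
  haveI := H21.RankOne.finite_Omega hG.setup
  have hZ := hG.zass_of_V_bot hV
  have hab := (H21.RankOne.ta_ne hG.setup).symm
  have h4 := hG.four_le_card_Q0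
  rcases H21.simple_cases_two hZ hab hG.ker with h | ⟨h2, hna, -⟩
  · obtain ⟨p, f, hp, he, -⟩ := hG.ker.elementary_of_large (H21.z3_of_zass hZ) hab
      (H21.three_le_card hZ) h
    have hp2 : p = 2 := by
      have h1 : orderOf s = 2 := orderOf_eq_prime (by rw [pow_two, hG.s_sq]) hG.s_ne
      have h2 := orderOf_dvd_of_pow_eq_one (he s hG.s_mem)
      rw [h1] at h2
      exact ((Nat.prime_dvd_prime_iff_eq Nat.prime_two hp).mp h2).symm
    subst hp2
    have hsq : ∀ x ∈ Q, x * x = 1 := fun x hx => by rw [← pow_two, he x hx]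
    refine ⟨fun x => ⟨1, Subtype.ext (by simpa using he x x.2)⟩, fun _ => hsq, fun hc => ?_⟩
    have : Q0 Q = Q := le_antisymm Q0_le fun x hx => hG.mem_Q0.mpr ⟨hx, hsq x hx⟩
    rw [this] at hc h4
    exfalso
    have : Nat.card Q ^ 1 < Nat.card Q ^ 3 := Nat.pow_lt_pow_right (by omega) (by norm_num)
    rw [pow_one] at this
    omega
  · have hna' : ∃ x y : Q, x * y ≠ y * x := by
      by_contra h
      push Not at h
      exact hna ⟨⟨h⟩⟩
    refine ⟨h2, fun h => ?_, fun hc => ?_⟩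
    · obtain ⟨x, y, hxy⟩ := hna'
      exact absurd (Subtype.ext (h x x.2 y y.2)) hxy
    · obtain ⟨-, n, -, -, -, h⟩ := H21.suzuki_order hZ hab hG.ker h2 hna'
      have h1 : Nat.card (DD a t) + 1 = Nat.card (Q0 Q) := by
        rw [hG.card_DD, hV, Subgroup.card_bot, mul_one, hG.card_KK]
      rw [show Nat.card (H21.St2 G a (t • a)) + 1 = Nat.card (Q0 Q) from h1, hc] at h
      exfalso
      have := Nat.pow_right_injective (show 2 ≤ Nat.card (Q0 Q) by omega) h
      omega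

end Suz
end H8
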