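import Mathlib
import Cfsg.Agent.H8.SuzInd
import Cfsg.Agent.H8.SuzZass
import Cfsg.Agent.H8.SuzII
import Cfsg.Agent.H8.SuzIII
import Cfsg.Agent.H8.SuzPSL
import Cfsg.Agent.H8.SuzSz
import Cfsg.Agent.H8.SuzPSU

/-! Chapter I, §3 (induction) and Theorem A. -/

set_option autoImplicit false

namespace H8
namespace Suz

open Cfsg MulAction H21.RankOne

universe u v

theorem struct_aux (n : ℕ) : ∀ {G : Type u} {Ω : Type v} [Group G] [Finite G] [MulAction G Ω]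
    {a : Ω} {t : G} {Q : Subgroup G} {s r : G}, Nat.card G = n → Hyp G Ω a t Q s r →
    Struct a t Q := by
  induction n using Nat.strong_induction_on with
  | _ n ih =>
  intro G Ω _ _ _ a t Q s r hn hG
  subst hn
  by_cases hs : IsSimpleGroup G
  · have hL := hG.loc_of_ih fun X hX h1 _ _ _ _ _ h => ih _ (hG.card_CQuot_lt hX h1) rfl h
    by_cases hV : VV a t = ⊥
    · exact hG.struct_of_V_bot hV
    by_cases hB : ∃ P : Subgroup G, P ≤ VV a t ∧ (Nat.card P).Prime ∧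
        ∀ z ∈ Q0 Q ⊓ Subgroup.centralizer (P : Set G), z = 1 ∨ z = s
    · obtain ⟨P, hP, hp, hB⟩ := hB
      exact hG.struct_of_B1 hL hP hp hB
    · push Not at hB
      exact hG.struct_of_C1 hL hV hB
  · obtain ⟨N, hN, h1, h2⟩ : ∃ N : Subgroup G, N.Normal ∧ N ≠ ⊥ ∧ N ≠ ⊤ := by
      by_contra h
      push Not at h
      have : Nontrivial G := ⟨⟨s, 1, hG.s_ne⟩⟩
      exact hs ⟨fun N hN => (eq_or_ne N ⊥).imp_right (h N hN)⟩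
    obtain ⟨h3, h4⟩ := hG.le_of_normal hN h1
    exact hG.struct_of_sub h3 h4 fun _ _ _ _ h => ih _ (lt_of_le_of_ne (Subgroup.card_le_card_group N)
      fun e => h2 (Subgroup.eq_top_of_card_eq _ e)) rfl h

variable {G Ω : Type*} [Group G] [Finite G] [MulAction G Ω] {a : Ω} {t : G} {Q : Subgroup G} {s r : G}

/-- Theorem A, structural form -/
theorem Hyp.struct' (hG : Hyp G Ω a t Q s r) : Struct a t Q := struct_aux _ rfl hG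

theorem Hyp.loc (hG : Hyp G Ω a t Q s r) : Loc a t Q s r :=
  hG.loc_of_ih fun _ _ _ _ _ _ _ _ h => h.struct'

theorem Hyp.cases (hG : Hyp G Ω a t Q s r) :
    (∀ x ∈ Q, x * x = 1) ∨ ((∃ x ∈ Q, ∃ y ∈ Q, x * y ≠ y * x) ∧ Nat.card Q = Nat.card (Q0 Q) ^ 2) ∨
      (C2 a t Q ∧ ∃ ω ∈ Q, ω * ω ≠ 1 ∧ ∃ ζ ∈ WW a t Q, ζ ≠ 1 ∧ ff a t Q ω = ζ⁻¹ * ω⁻¹ * ζ) := by
  have hS := hG.struct'
  by_cases hc : ∀ x ∈ Q, ∀ y ∈ Q, x * y = y * x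
  · exact Or.inl (hS.ab hc)
  push Not at hc
  rcases (hG.higman le_rfl Q0_le hS.two (fun _ hk _ hx => hG.conj_Q (KK_le hk) hx) hc).2.2.2 with h | h
  · exact Or.inr (Or.inl ⟨hc, h⟩)
  · obtain ⟨ω, hω, hω2, ζ, hζ, hζ1, hf⟩ := hS.u3 h
    exact Or.inr (Or.inr ⟨⟨hS.two, hc, h, fun e => hζ1 (e.le hζ)⟩, ω, hω, hω2, ζ, hζ, hζ1, hf⟩)

/-- Theorem A -/
theorem Hyp.iso (hG : Hyp G Ω a t Q s r) :
    (∃ (F : Type) (_ : Field F) (_ : Fintype F), (∃ n : ℕ, 2 ≤ n ∧ Fintype.card F = 2 ^ n) ∧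
        Nonempty (LL t Q ≃* Matrix.ProjectiveSpecialLinearGroup (Fin 2) F)) ∨
      Lie.IsoSuzuki (LL t Q) ∨
      (∃ (F : Type) (_ : Field F) (_ : Fintype F) (n : ℕ), 2 ≤ n ∧ Fintype.card F = (2 ^ n) ^ 2 ∧
        Nonempty (LL t Q ≃* PSU 3 F (2 ^ n))) := by
  rcases hG.cases with h | ⟨h, hc⟩ | ⟨hC, ω, hω, hω2, ζ, hζ, hζ1, hf⟩
  · obtain ⟨F, _, _, hF, e⟩ := hG.iso_psl h
    obtain ⟨n, hn, hq⟩ := hG.card_Q0
    exact Or.inl ⟨F, inferInstance, inferInstance, ⟨n, hn, hF.trans hq⟩, e⟩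
  · exact Or.inr (Or.inl (hG.iso_sz hG.struct'.two h hc))
  · obtain ⟨E, _, _, n, π, η, hn, -, hE, h1, h2, h3, h4, h5⟩ := hG.exists_u3 hC hω hω2 hζ hζ1 hf
    exact Or.inr (Or.inr ⟨E, inferInstance, inferInstance, n, hn, hE,
      hG.iso_psu hn hE h1 h2 h3 h4 h5⟩)

theorem Hyp.hyp_sub (hG : Hyp G Ω a t Q s r) {L : Subgroup G} (hQ : Q ≤ L) (ht : t ∈ L) :
    Hyp L Ω a ⟨t, ht⟩ (Q.subgroupOf L) ⟨s, hQ hG.s_mem⟩ ⟨r, hQ hG.r_mem⟩ := by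
  obtain ⟨z, hz, h1⟩ := hG.exists_ne_s
  simpa using (pull_sub hG hQ ht).hyp hG (hQ hG.s_mem) (hQ hG.r_mem) ⟨z, ⟨hz, hQ (Q0_le hz)⟩, h1⟩

theorem Hyp.isSimpleGroup_LL (hG : Hyp G Ω a t Q s r) : IsSimpleGroup (LL t Q) := by
  have h := hG.hyp_sub le_LL t_mem_LL
  have : Nontrivial (LL t Q) := ⟨⟨_, 1, h.s_ne⟩⟩
  refine ⟨fun N hN => (eq_or_ne N ⊥).imp_right fun h1 => ?_⟩
  obtain ⟨h2, h3⟩ := h.le_of_normal hN h1
  have h4 : LL t Q ≤ N.map (LL t Q).subtype :=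
    sup_le (fun x hx => ⟨⟨x, le_LL hx⟩, h2 hx, rfl⟩) (Subgroup.zpowers_le.mpr ⟨_, h3, rfl⟩)
  refine eq_top_iff.mpr fun x _ => ?_
  obtain ⟨y, hy, e⟩ := h4 x.2
  exact (show y = x from Subtype.ext e) ▸ hy

theorem Hyp.LL_eq_top [IsSimpleGroup G] (hG : Hyp G Ω a t Q s r) : LL t Q = ⊤ :=
  (hG.LL_normal.eq_bot_or_eq_top).resolve_left fun e => hG.s_ne (e.le (le_LL hG.s_mem))

theorem Hyp.DD_inf_LL_le (hG : Hyp G Ω a t Q s r) {M : Subgroup G} (hM : M ≤ DD a t)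
    (ht : ∀ m ∈ M, t * m * t ∈ M) (hh' : ∀ x ∈ Q, x ≠ 1 → hh a t Q x ∈ M) :
    DD a t ⊓ LL t Q ≤ M := by
  let S : Set G := {g | ∃ u ∈ Q, ∃ m ∈ M, g = u * m ∨ ∃ v ∈ Q, g = u * m * t * v}
  have h1 : ∀ x ∈ Q, ∀ g ∈ S, x * g ∈ S := by
    rintro x hx g ⟨u, hu, m, hm, h⟩
    refine ⟨x * u, Q.mul_mem hx hu, m, hm, h.imp (fun e => by rw [e, mul_assoc]) ?_⟩
    rintro ⟨v, hv, e⟩
    exact ⟨v, hv, by rw [e]; group⟩
  have h2 : ∀ g ∈ S, t * g ∈ S := by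
    rintro g ⟨u, hu, m, hm, rfl | ⟨v, hv, rfl⟩⟩
    · exact ⟨1, Q.one_mem, _, ht m hm, Or.inr ⟨_, hG.conj_Q (hM hm) hu, by
        rw [one_mul, hG.mul_tt]; group⟩⟩
    have h3 := hG.tDt (hM hm)
    by_cases hu1 : u = 1
    · exact ⟨_, conj_mem_Q hG.setup h3.1 hv, _, ht m hm, Or.inl (by rw [hu1]; group)⟩
    · refine ⟨_, hG.gg_mem hu hu1, _, M.mul_mem (hh' u hu hu1) hm, Or.inr
        ⟨_, Q.mul_mem (hG.conj_Q h3 (hG.ff_mem hu hu1)) hv, ?_⟩⟩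
      calc _ = t * u * t * (t * m * t) * v := by simp only [mul_assoc, hG.tt_mul]
        _ = _ := by
          rw [hG.txt hu hu1]
          simp only [mul_assoc, hG.tt_mul, mul_inv_rev, hG.t_inv, mul_inv_cancel_left]
  let X : Subgroup G :=
    { carrier := {l | ∀ g ∈ S, l * g ∈ S ∧ l⁻¹ * g ∈ S}
      one_mem' := fun g hg => by simpa using hg
      mul_mem' := fun {x y} hx hy g hg => by
        rw [mul_assoc, mul_inv_rev, mul_assoc]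
        exact ⟨(hx _ (hy g hg).1).1, (hy _ (hx g hg).2).2⟩
      inv_mem' := fun {x} hx g hg => by rw [inv_inv]; exact (hx g hg).symm }
  have h3 : LL t Q ≤ X := sup_le (fun x hx g hg => ⟨h1 x hx g hg, h1 _ (Q.inv_mem hx) g hg⟩)
    (Subgroup.zpowers_le.mpr fun g hg => by rw [hG.t_inv, and_self]; exact h2 g hg)
  rintro d ⟨hd, hL⟩
  obtain ⟨u, hu, m, hm, e | ⟨v, hv, e⟩⟩ :=
    (h3 hL 1 ⟨1, Q.one_mem, 1, M.one_mem, Or.inl (one_mul 1).symm⟩).1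
  · rw [mul_one] at e
    rw [e, eq_one_of_mem_Q_of_fix_b hG.setup hu (by
      rw [eq_mul_inv_of_mul_eq e.symm]
      exact (Subgroup.mul_mem _ hd (Subgroup.inv_mem _ (hM hm))).2), one_mul]
    exact hm
  · have h4 : d • a = a := hd.1
    rw [mul_one] at e
    rw [e, mul_smul, mul_smul, mul_smul, Q_fix hG.setup hv, show m • t • a = t • a from (hM hm).2] at h4
    exact absurd h4 (smul_ne_of_fix (Q_fix hG.setup hu) (ta_ne hG.setup))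

/-- `D ∩ L ≤ K W`, and `K W` is cyclic of order dividing `q² - 1` (`W = 1` or `W` centralises
`L` unless `|Q| = q³`) -/
theorem Hyp.DD_inf_LL (hG : Hyp G Ω a t Q s r) :
    DD a t ⊓ LL t Q ≤ KK a t ⊔ WW a t Q ∧ IsCyclic ↥(KK a t ⊔ WW a t Q) ∧
      Nat.card (WW a t Q) ∣ Nat.card (Q0 Q) + 1 ∧
      (Nat.card Q ≠ Nat.card (Q0 Q) ^ 3 → WW a t Q = ⊥) := by
  have key : (∀ x ∈ Q, x ≠ 1 → hh a t Q x ∈ KK a t ⊔ WW a t Q) →
      DD a t ⊓ LL t Q ≤ KK a t ⊔ WW a t Q := hG.DD_inf_LL_le (sup_le KK_le WW_le) fun m hm => by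
    have : KK a t ⊔ WW a t Q ≤ (KK a t ⊔ WW a t Q).comap (MulAut.conj t).toMonoidHom :=
      sup_le (fun k hk => by
        change t * k * t⁻¹ ∈ KK a t ⊔ WW a t Q
        rw [hG.t_inv, hG.tKt hk]
        exact Subgroup.mem_sup_left (Subgroup.inv_mem _ hk)) fun w hw => by
        change t * w * t⁻¹ ∈ KK a t ⊔ WW a t Q
        rw [hG.t_inv, hG.tVt (hG.WW_le_VV hw)]
        exact Subgroup.mem_sup_right hw
    have h1 : t * m * t⁻¹ ∈ KK a t ⊔ WW a t Q := this hm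
    rwa [hG.t_inv] at h1
  have key2 : WW a t Q = ⊥ → (∀ x ∈ Q, x ≠ 1 → hh a t Q x ∈ KK a t) →
      DD a t ⊓ LL t Q ≤ KK a t ⊔ WW a t Q ∧ IsCyclic ↥(KK a t ⊔ WW a t Q) ∧
      Nat.card (WW a t Q) ∣ Nat.card (Q0 Q) + 1 ∧
      (Nat.card Q ≠ Nat.card (Q0 Q) ^ 3 → WW a t Q = ⊥) := fun h1 h2 =>
    ⟨key fun x hx hx1 => Subgroup.mem_sup_left (h2 x hx hx1),
      by rw [h1, sup_bot_eq]; exact hG.isCyclic_KK, by rw [h1]; simp, fun _ => h1⟩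
  rcases hG.cases with h | ⟨h, hc⟩ | ⟨hC, ω, hω, hω2, ζ, hζ, hζ1, hf⟩
  · refine key2 (eq_bot_iff.mpr fun w hw => hG.eq_one_of_cent_Q hw.1 fun x hx =>
      (mem_WW.mp hw).2 x (hG.mem_Q0.mpr ⟨hx, h x hx⟩)) fun x hx hx1 => ?_
    obtain ⟨k, hk, rfl⟩ := hG.exists_K_conj_s (hG.mem_Q0.mpr ⟨hx, h x hx⟩) hx1
    rw [(hG.ghf_Q0 (h r hG.r_mem) hk).2.1]
    exact Subgroup.mul_mem _ hk hk
  · obtain ⟨F, _, _, θ, u, e, χ, -, hco⟩ := H21.exists_co hG hG.struct'.two h hc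
    exact key2 (eq_bot_iff.mpr fun w hw => hG.eq_one_of_cent_Q hw.1 fun x hx =>
      (hG.comm_W_of_sq le_rfl Q0_le (fun _ hk _ hx => hG.conj_Q (KK_le hk) hx) hc hw hx
        ((hG.higman le_rfl Q0_le hG.struct'.two (fun _ hk _ hx => hG.conj_Q (KK_le hk) hx) h).1 x hx)
        (hG.conj_Q hw.1 hx)).symm) fun x => hco.hh_mem hG
  · refine ⟨key fun x hx hx1 => ?_, (hG.isCyclic_KW hC).1, (hG.isCyclic_KW hC).2,
      fun h => absurd hC.card h⟩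
    obtain ⟨k, hk, w, hw, e⟩ := (hG.exists_u3' hC hω hω2 hζ hζ1 hf).1 x hx hx1
    exact e ▸ Subgroup.mul_mem_sup hk hw

end Suz
end H8
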