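import Mathlib
import Cfsg.Prelude.Def_Involutions
import Cfsg.Prelude.Def_Exceptional
import Cfsg.Agent.H8.SuzMain
import Cfsg.Agent.H17.ZStar

/-! Suzuki's theorem for simple groups. -/

set_option autoImplicit false

namespace H8
namespace Suz

open Cfsg MulAction H21.RankOne

variable {G : Type*} [Group G] [Finite G]

/-- the three families of simple groups with a strongly embedded subgroup -/
def IsBender (G : Type*) [Group G] : Prop :=
  (∃ (F : Type) (_ : Field F) (_ : Fintype F) (n : ℕ), 2 ≤ n ∧ Fintype.card F = 2 ^ n ∧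
      Nonempty (G ≃* Matrix.ProjectiveSpecialLinearGroup (Fin 2) F)) ∨
    Lie.IsoSuzuki G ∨
    (∃ (F : Type) (_ : Field F) (_ : Fintype F) (n : ℕ), 2 ≤ n ∧ Fintype.card F = (2 ^ n) ^ 2 ∧
      Nonempty (G ≃* PSU 3 F (2 ^ n)))

omit [Finite G] in
theorem isSuzuki_of_iso [IsSimpleGroup G] (h : Lie.IsoSuzuki G) : IsSuzuki G := by
  obtain ⟨F, _, _, m, hm, hF, ⟨e⟩⟩ := h
  obtain ⟨T⟩ := Sz.nonempty_ctx hm hF
  refine ⟨inferInstance, m, hm, ?_⟩
  rw [Nat.card_congr (e.trans T.lieEquiv.symm).toEquiv, T.card_Sz, Nat.card_eq_fintype_card, hF]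

omit [Finite G] in
/-- the form of the conclusion used in S0222 and S1222 -/
theorem IsBender.weak [IsSimpleGroup G] (h : IsBender G) :
    (∃ (F : Type) (_ : Field F) (_ : Fintype F), CharP F 2 ∧ 4 ≤ Fintype.card F ∧
      Nonempty (G ≃* Matrix.ProjectiveSpecialLinearGroup (Fin 2) F)) ∨ IsSuzuki G ∨
    (∃ (F : Type) (_ : Field F) (_ : Fintype F) (q : ℕ), Fintype.card F = q ^ 2 ∧ Even q ∧ 4 ≤ q ∧
      Nonempty (G ≃* PSU 3 F q)) := by
  rcases h with ⟨F, _, _, n, hn, hF, e⟩ | h | ⟨F, _, _, n, hn, hF, e⟩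
  · refine Or.inl ⟨F, inferInstance, inferInstance, ?_,
      hF ▸ Nat.pow_le_pow_right (n := 2) (by norm_num) hn, e⟩
    obtain ⟨p, hp⟩ := CharP.exists F
    obtain ⟨k, hpp, hk⟩ := FiniteField.card F p
    have : p ∣ 2 ^ n := by rw [← hF, hk]; exact dvd_pow_self p k.ne_zero
    exact (Nat.prime_dvd_prime_iff_eq hpp Nat.prime_two).mp (hpp.dvd_of_dvd_pow this) ▸ hp
  · exact Or.inr (Or.inl (isSuzuki_of_iso h))
  · exact Or.inr (Or.inr ⟨F, inferInstance, inferInstance, _, hF,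
      (Nat.even_pow' (by omega)).mpr even_two, Nat.pow_le_pow_right (n := 2) (by norm_num) hn, e⟩)

theorem rank2_of_simple [IsSimpleGroup G] {H : Subgroup G} (h1 : H ≠ ⊤) (h2 : Even (Nat.card H)) :
    Rank2 G := by
  obtain ⟨z, hz, hz1, hz2⟩ := H21.exists_invol_of_even_card h2
  by_contra hr
  have ho : orderOf z = 2 := orderOf_eq_prime (by rw [pow_two, hz2]) hz1
  have hO : pPrimeCore 2 G = ⊥ := (inferInstance : (pPrimeCore 2 G).Normal).eq_bot_or_eq_top.resolve_right fun e => by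
    have := H17.odd_card_pPrimeCore (G := G)
    rw [e, Subgroup.card_top] at this
    exact Nat.not_even_iff_odd.mpr this (h2.trans_dvd (Subgroup.card_subgroup_dvd_card H))
  have hc := H17.zstar_central hO ⟨ho, fun g hg => by
    by_contra hne
    exact hr ⟨z, _, hz1, by simpa using hz1, Ne.symm hne, hz2, by
      calc _ = g * (z * z) * g⁻¹ := by group
        _ = 1 := by rw [hz2]; group, hg⟩⟩
  have hn : (Subgroup.zpowers z).Normal := ⟨fun x hx g => by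
    obtain ⟨i, rfl⟩ := hx
    rw [← ((hc g).zpow_left i).eq, mul_inv_cancel_right]
    exact ⟨i, rfl⟩⟩
  exact hn.eq_bot_or_eq_top.elim (Subgroup.zpowers_ne_bot.mpr hz1) fun e =>
    h1 (eq_top_iff.mpr (e ▸ Subgroup.zpowers_le.mpr hz))

theorem exists_invol_notMem [IsSimpleGroup G] {H : Subgroup G} (h1 : H ≠ ⊤)
    (h2 : Even (Nat.card G)) : ∃ t, t ∉ H ∧ t * t = 1 := by
  by_contra h
  push Not at h
  obtain ⟨z, -, hz1, hz2⟩ := H21.exists_invol_of_even_card (X := (⊤ : Subgroup G))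
    (by rwa [Subgroup.card_top])
  refine H.normalCore_normal.eq_bot_or_eq_top.elim (fun e => hz1 (e.le fun g => ?_))
    fun e => h1 (eq_top_iff.mpr (e ▸ H.normalCore_le))
  by_contra hg
  refine h _ hg ?_
  calc _ = g * (z * z) * g⁻¹ := by group
    _ = 1 := by rw [hz2]; group

variable {Ω : Type*} [MulAction G Ω] {a : Ω} {t : G} {Q : Subgroup G} {s r : G}

theorem Hyp.isBender_LL (hG : Hyp G Ω a t Q s r) : IsBender (LL t Q) := by
  rcases hG.iso with ⟨F, _, _, ⟨n, hn, hF⟩, e⟩ | h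
  · exact Or.inl ⟨F, inferInstance, inferInstance, n, hn, hF, e⟩
  · exact Or.inr h

omit [Finite G] in
theorem IsBender.of_equiv {L : Type*} [Group L] (h : IsBender L) (e : G ≃* L) : IsBender G := by
  rcases h with ⟨F, _, _, n, hn, hF, ⟨f⟩⟩ | ⟨F, _, _, n, hn, hF, ⟨f⟩⟩ | ⟨F, _, _, n, hn, hF, ⟨f⟩⟩
  · exact Or.inl ⟨F, inferInstance, inferInstance, n, hn, hF, ⟨e.trans f⟩⟩
  · exact Or.inr (Or.inl ⟨F, inferInstance, inferInstance, n, hn, hF, ⟨e.trans f⟩⟩)
  · exact Or.inr (Or.inr ⟨F, inferInstance, inferInstance, n, hn, hF, ⟨e.trans f⟩⟩)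

theorem exists_hyp_of_simple [IsSimpleGroup G] (hS : IsRankOneSetup G Ω a t Q) :
    ∃ s r, Hyp G Ω a t Q s r := by
  have h1 : stabilizer G a ≠ ⊤ := fun e => hS.not_mem (e ▸ Subgroup.mem_top t)
  have : FaithfulSMul G Ω := ⟨fun {g h} e => by
    rcases (toPermHom G Ω).normal_ker.eq_bot_or_eq_top with h2 | h2
    · exact (MonoidHom.ker_eq_bot_iff _).mp h2 (Equiv.ext e)
    · exact absurd (congrArg (· a) (show toPermHom G Ω t = 1 from h2.ge (Subgroup.mem_top t)))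
        hS.not_mem⟩
  exact exists_hyp hS (rank2_of_simple h1 (hS.even_card.trans_dvd (Subgroup.card_dvd_of_le hS.le)))

theorem isBender_of_setup [IsSimpleGroup G] (hS : IsRankOneSetup G Ω a t Q) : IsBender G := by
  obtain ⟨s, r, hG⟩ := exists_hyp_of_simple hS
  exact hG.isBender_LL.of_equiv (Subgroup.topEquiv.symm.trans (MulEquiv.subgroupCongr hG.LL_eq_top.symm))

/-- the rank-one set-up on the cosets of a strongly embedded subgroup -/
theorem setup_of_regular {H Q : Subgroup G} (hH : IsStronglyEmbedded H) (hQH : Q ≤ H)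
    (hQn : ∀ h ∈ H, ∀ x ∈ Q, h * x * h⁻¹ ∈ Q)
    (htrans : ∀ g₁ g₂ : G, g₁ ∉ H → g₂ ∉ H → ∃ u ∈ Q, g₂⁻¹ * (u * g₁) ∈ H)
    (hreg : ∀ g : G, g ∉ H → ∀ u ∈ Q, g⁻¹ * (u * g) ∈ H → u = 1) {t : G} (ht : t ∉ H)
    (ht2 : t * t = 1) : IsRankOneSetup G (G ⧸ H) ((1 : G) : G ⧸ H) t Q := by
  have hs : stabilizer G ((1 : G) : G ⧸ H) = H := stabilizer_quotient H
  have hm : ∀ g x : G, g • (x : G ⧸ H) = ((g * x : G) : G ⧸ H) := fun _ _ => rfl
  have hb : ∀ u, u ∈ stabilizer G (t • ((1 : G) : G ⧸ H)) ↔ t⁻¹ * (u * t) ∈ H := fun u => by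
    rw [mem_stabilizer_iff, hm, hm, mul_one, eq_comm, QuotientGroup.eq]
  have hD : H ⊓ stabilizer G (t • ((1 : G) : G ⧸ H)) = H ⊓ H.map (MulAut.conj t).toMonoidHom := by
    ext u
    rw [Subgroup.mem_inf, Subgroup.mem_inf, hb, Subgroup.mem_map_equiv]
    simp [mul_assoc]
  have hsup : Q ⊔ (H ⊓ stabilizer G (t • ((1 : G) : G ⧸ H))) = H := by
    refine le_antisymm (sup_le hQH inf_le_left) fun g hg => ?_
    obtain ⟨u, hu, h⟩ := htrans (g * t) t (fun h => ht ((H.mul_mem_cancel_left hg).mp h)) ht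
    rw [← inv_mul_cancel_left u g]
    exact Subgroup.mul_mem_sup (Q.inv_mem hu) ⟨H.mul_mem (hQH hu) hg, (hb _).mpr (by rwa [mul_assoc])⟩
  have h2 : ∀ x y : G ⧸ H, x ≠ y → ∃ g : G, g • x = (1 : G) ∧ g • y = t := fun x y hxy => by
    obtain ⟨x, rfl⟩ := QuotientGroup.mk_surjective x
    obtain ⟨y, rfl⟩ := QuotientGroup.mk_surjective y
    obtain ⟨u, hu, h⟩ := htrans (x⁻¹ * y) t (fun h => hxy (QuotientGroup.eq.mpr h)) ht
    refine ⟨u * x⁻¹, ?_, ?_⟩
    · rw [hm, eq_comm, QuotientGroup.eq]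
      simpa using hQH hu
    · rw [hm, eq_comm, QuotientGroup.eq, mul_assoc]
      exact h
  refine ⟨?_, ht2, fun e => ht (e ▸ H.one_mem), hs.symm ▸ ht, hs.symm ▸ hQH, hs.symm ▸ hQn,
    eq_bot_iff.mpr fun u hu => hreg t ht u hu.1 ((hb u).mp hu.2), hs.symm ▸ hsup, ?_, ?_⟩
  · rw [MulAction.is_two_pretransitive_iff]
    intro x y z w hxy hzw
    obtain ⟨g, hg1, hg2⟩ := h2 x y hxy
    obtain ⟨g', hg1', hg2'⟩ := h2 z w hzw
    exact ⟨g'⁻¹ * g, by rw [mul_smul, hg1, inv_smul_eq_iff, hg1'],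
      by rw [mul_smul, hg2, inv_smul_eq_iff, hg2']⟩
  · have h3 := hH.2.1
    have h4 := hH.2.2 t ht
    rw [← hD] at h4
    by_contra h5
    rw [Nat.not_even_iff_odd] at h5
    rw [← hsup] at h3
    have h6 : Nat.card ↥(Q ⊔ (H ⊓ stabilizer G (t • ((1 : G) : G ⧸ H)))) ∣
        Nat.card Q * Nat.card ↥(H ⊓ stabilizer G (t • ((1 : G) : G ⧸ H))) := by
      rw [sup_comm, mul_comm]
      exact H2.card_sup_dvd_of_le_normalizer (le_normalizer_of_conj fun k hk x hx => by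
        simpa using hQn _ (H.inv_mem hk.1) x hx)
    exact Nat.not_even_iff_odd.mpr (h5.mul h4) (h3.trans_dvd h6)
  · rw [hs, hD]
    exact hH.2.2 t ht

end Suz
end H8
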