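import Mathlib
import Cfsg.Agent.H8.SuzWrap

/-! Some more facts about the groups of Suzuki's theorem. -/

set_option autoImplicit false
set_option linter.unusedSectionVars false
set_option linter.unusedVariables false

namespace H8
namespace Suz

open Cfsg MulAction H21.RankOne

variable {G Ω : Type*} [Group G] [Finite G] [MulAction G Ω] {a : Ω} {t : G} {Q : Subgroup G} {s r : G}

theorem mem_of_pow_cop {H : Subgroup G} {y : G} {m n : ℕ} (h : m.Coprime n) (h1 : y ^ m ∈ H)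
    (h2 : y ^ n ∈ H) : y ∈ H := by
  obtain ⟨i, j, e⟩ := Nat.isCoprime_iff_coprime.mpr h
  have : y = (y ^ m) ^ i * (y ^ n) ^ j := by
    rw [← zpow_natCast, ← zpow_natCast, ← zpow_mul, ← zpow_mul, ← zpow_add, mul_comm (m : ℤ),
      mul_comm (n : ℤ), e, zpow_one]
  rw [this]
  exact H.mul_mem (H.zpow_mem h1 i) (H.zpow_mem h2 j)

/-- in a cyclic group the solutions of `x ^ p = 1` are the powers of an element of order `p` -/
theorem exists_pow_of_cyc {W : Subgroup G} (hW : IsCyclic W) {ζ x : G} {p : ℕ} (hp : p.Prime)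
    (hζ : ζ ∈ W) (ho : orderOf ζ = p) (hx : x ∈ W) (hxp : x ^ p = 1) : ∃ j : ℕ, x = ζ ^ j := by
  classical
  haveI := Fintype.ofFinite W
  have h1 : (Finset.univ.filter fun y : W => y ^ p = 1).card ≤ p :=
    IsCyclic.card_pow_eq_one_le hp.pos
  let z : W := ⟨ζ, hζ⟩
  have hz : orderOf z = p := by rw [← ho]; exact (Subgroup.orderOf_coe z).symm
  have h2 : (Finset.image (z ^ ·) (Finset.range p)) ⊆ Finset.univ.filter fun y : W => y ^ p = 1 := by
    intro y hy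
    obtain ⟨j, -, rfl⟩ := Finset.mem_image.mp hy
    simp only [Finset.mem_filter, Finset.mem_univ, true_and]
    rw [← pow_mul, mul_comm, pow_mul, ← hz, pow_orderOf_eq_one, one_pow]
  have h3 : (Finset.image (z ^ ·) (Finset.range p)).card = p := by
    rw [Finset.card_image_of_injOn, Finset.card_range]
    intro i hi j hj e
    exact pow_injOn_Iio_orderOf (by simpa [hz] using hi) (by simpa [hz] using hj) e
  have h4 := Finset.eq_of_subset_of_card_le h2 (by rw [h3]; exact h1)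
  have h5 : (⟨x, hx⟩ : W) ∈ Finset.univ.filter fun y : W => y ^ p = 1 := by
    simp only [Finset.mem_filter, Finset.mem_univ, true_and]
    exact Subtype.ext hxp
  rw [← h4] at h5
  obtain ⟨j, -, e⟩ := Finset.mem_image.mp h5
  exact ⟨j, (congrArg Subtype.val e).symm⟩

namespace Hyp

theorem mem_Q_of_two (hG : Hyp G Ω a t Q s r) {x : G} (hx : x • a = a) {n : ℕ}
    (h2 : x ^ 2 ^ n = 1) : x ∈ Q := by
  obtain ⟨q, hq, d, hd, rfl⟩ := exists_QD hG.setup hx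
  have key : ∀ m : ℕ, (q * d) ^ m * (d ^ m)⁻¹ ∈ Q := fun m => by
    induction m with
    | zero => simpa using Q.one_mem
    | succ m ih =>
      have h1 := conj_mem_Q hG.setup (h := d ^ m) ((stabilizer G a).pow_mem hd.1 m) hq
      have : (q * d) ^ (m + 1) * (d ^ (m + 1))⁻¹ =
          (q * d) ^ m * (d ^ m)⁻¹ * (d ^ m * q * (d ^ m)⁻¹) := by
        rw [pow_succ, pow_succ]; group
      rw [this]
      exact Q.mul_mem ih h1
  have h3 := key (Nat.card (DD a t))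
  rw [pow_card_D hd, inv_one, mul_one] at h3
  exact mem_of_pow_cop (Nat.Coprime.pow_left n (Nat.coprime_two_left.mpr hG.odd_D))
    (by rw [h2]; exact Q.one_mem) h3

theorem card_Q0_odd (hG : Hyp G Ω a t Q s r) (hna : ∃ x ∈ Q, ∃ y ∈ Q, x * y ≠ y * x)
    (hc : Nat.card Q = Nat.card (Q0 Q) ^ 2) : ∃ m, Nat.card (Q0 Q) = 2 ^ (2 * m + 1) := by
  obtain ⟨F, _, _, θ, u, e, χ, hF, h⟩ := H21.exists_co hG hG.struct'.two hna hc
  obtain ⟨n, hn, hq⟩ := hG.card_Q0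
  have hF' : Fintype.card F = 2 ^ n := by rw [← Nat.card_eq_fintype_card, hF, hq]
  rcases h.u_cases hG with rfl | rfl
  · have h' := h.swap
    rw [zero_add] at h'
    obtain ⟨m, -, h1, -⟩ := H21.exists_tits _ h'.odd (h'.theta_sq hG) hn hF'
    exact ⟨m, by rw [← hF, Nat.card_eq_fintype_card, h1]⟩
  · obtain ⟨m, -, h1, -⟩ := H21.exists_tits _ h.odd (h.theta_sq hG) hn hF'
    exact ⟨m, by rw [← hF, Nat.card_eq_fintype_card, h1]⟩

theorem comm_of_fix (hG : Hyp G Ω a t Q s r) {d q : G} (hd : d ∈ DD a t) (hq : q ∈ Q)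
    (h : d • q • t • a = q • t • a) : d * q = q * d := by
  have h1 : (d * q * d⁻¹) • t • a = q • t • a := by
    have : d⁻¹ • t • a = t • a := (stabilizer G (t • a)).inv_mem hd.2
    rw [mul_smul, this, mul_smul, h]
  have := eq_of_mem_Q_of_smul_eq hG.setup (conj_mem_Q hG.setup hd.1 hq) hq (ta_ne hG.setup) h1
  exact mul_inv_eq_iff_eq_mul.mp this

theorem K_fix (hG : Hyp G Ω a t Q s r) {k : G} (hk : k ∈ KK a t) (h1 : k ≠ 1) {c : Ω}
    (hc : k • c = c) : c = a ∨ c = t • a := by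
  by_cases hca : c = a
  · exact Or.inl hca
  obtain ⟨q, hq, rfl⟩ := exists_Q_smul_b hG.setup hca
  right
  rw [hG.K_fpf hk h1 hq (hG.comm_of_fix (KK_le hk) hq hc), one_smul]

theorem W_fix (hG : Hyp G Ω a t Q s r) (hC : C2 a t Q) {w : G} (hw : w ∈ WW a t Q) (h1 : w ≠ 1)
    {c : Ω} (hc : w • c = c) : c = a ∨ ∃ z ∈ Q0 Q, c = z • t • a := by
  by_cases hca : c = a
  · exact Or.inl hca
  obtain ⟨q, hq, rfl⟩ := exists_Q_smul_b hG.setup hca
  refine Or.inr ⟨q, hG.W_fpf hC hw h1 hq ?_, rfl⟩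
  have := hG.comm_of_fix (WW_le hw) hq hc
  rw [mul_assoc w⁻¹, ← this]
  simpa using (Q0 Q).one_mem

theorem mem_KK_of_ne [IsSimpleGroup G] (hG : Hyp G Ω a t Q s r)
    (hc : Nat.card Q ≠ Nat.card (Q0 Q) ^ 3) {d : G} (hd : d ∈ DD a t) : d ∈ KK a t := by
  obtain ⟨h1, -, -, h4⟩ := hG.DD_inf_LL
  have := h1 (show d ∈ DD a t ⊓ LL t Q from ⟨hd, by rw [hG.LL_eq_top]; trivial⟩)
  rwa [h4 hc, sup_bot_eq] at this

/-- in the Suzuki case, `⟨Q₀, K, t⟩` is transitive -/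
theorem gen_two (hG : Hyp G Ω a t Q s r) (hc : Nat.card Q = Nat.card (Q0 Q) ^ 2) {R : Ω → Prop}
    (ha : R a) (ht : ∀ c, R c → R (t • c)) (hK : ∀ k ∈ KK a t, ∀ c, R c → R (k • c))
    (h0 : ∀ z ∈ Q0 Q, ∀ c, R c → R (z • c)) (c : Ω) : R c := by
  by_cases hca : c = a
  · exact hca ▸ ha
  obtain ⟨q, hq, rfl⟩ := exists_Q_smul_b hG.setup hca
  by_cases hq0 : q ∈ Q0 Q
  · exact h0 q hq0 _ (ht _ ha)
  have hr : r⁻¹ ∉ Q0 Q := fun h => hG.r_sq_ne_one hG.struct'.two hc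
    (hG.mem_Q0.mp ((Q0 Q).inv_mem_iff.mp h)).2
  have h1 : R (r⁻¹ • t • a) := by
    have := ht _ (h0 s hG.s_mem_Q0 _ (ht _ ha))
    rwa [← mul_smul, ← mul_smul, hG.struct, mul_smul, mul_smul, Q_fix hG.setup hG.r_mem] at this
  obtain ⟨k, hk, z, hz, rfl⟩ := hG.exists_K_conj_of_sq le_rfl Q0_le
    (fun k hk x hx => hG.conj_Q (KK_le hk) hx) hc (Q.inv_mem hG.r_mem) hr hq hq0
  have h2 : k • t • a = t • a := (KK_le hk).2
  rw [mul_smul, h2, mul_smul, ← hG.Q0_central hz (Q.inv_mem hG.r_mem), mul_smul]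
  exact hK _ ((KK a t).inv_mem hk) _ (h0 z hz _ h1)

theorem exists_W_prime (hG : Hyp G Ω a t Q s r) (hC : C2 a t Q) :
    ∃ ζ ∈ WW a t Q, (orderOf ζ).Prime ∧ orderOf ζ ∣ Nat.card (Q0 Q) + 1 := by
  obtain ⟨ζ, hζ, hp⟩ := exists_prime_zpowers hC.W_ne
  exact ⟨ζ, hζ, hp, (Subgroup.orderOf_dvd_natCard _ hζ).trans (hG.isCyclic_WW hC).2⟩

theorem sq_mem_Q0 (hG : Hyp G Ω a t Q s r) {x : G} (hx : x ∈ Q) : x * x ∈ Q0 Q := by
  rcases hG.cases with h | ⟨h, -⟩ | ⟨hC, -⟩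
  · rw [h x hx]; exact (Q0 Q).one_mem
  · exact (hG.higman le_rfl Q0_le hG.struct'.two (fun _ hk _ hx => hG.conj_Q (KK_le hk) hx) h).1 x hx
  · exact hG.sq_mem hC hx

end Hyp

end Suz
end H8
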