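import Mathlib
import Cfsg.Agent.H8.ZL0
import Cfsg.Agent.H6.ZB
import Cfsg.Agent.H3.B71Red

/-! Planes from Suzuki's theorem (project UNIQ2). -/

set_option autoImplicit false
set_option linter.unusedSectionVars false
set_option linter.unusedVariables false

namespace H8
namespace ZL

open H24 H3.B71 H6.ZD Subgroup MulAction H21.RankOne

/-- the image of `L` on the orbit, abstractly -/
structure Cx {G Ω : Type*} [Group G] [MulAction G Ω] (Z : Set G) (Y : Subgroup G) (a : Ω) (t : G)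
    {B Λ : Type*} [Group B] [MulAction B Λ] (π : G → B) (ι : Λ → Ω) (a' : Λ) (Q : Subgroup B)
    (s r : B) : Prop where
  sm : Sm Ω Z
  pair : Pair Z Y a
  tZ : t ∈ Z
  tY : t ∈ Y
  ta : t • a ≠ a
  clean : Clean Z Y a
  mul : ∀ x ∈ Lz Z Y, ∀ y ∈ Lz Z Y, π (x * y) = π x * π y
  surj : ∀ b, ∃ x ∈ Lz Z Y, π x = b
  inj : Function.Injective ι
  range : ∀ c, c ∈ Orb Y a ↔ ∃ c', ι c' = c
  base : ι a' = a
  smul : ∀ x ∈ Lz Z Y, ∀ c, ι (π x • c) = x • ι c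
  simple : IsSimpleGroup B
  lift : ∀ b : B, Inv b → ∃ z ∈ Z, z ∈ Y ∧ π z = b
  hyp : H8.Suz.Hyp B Λ a' (π t) Q s r

namespace Cx

variable {G Ω : Type*} [Group G] [Finite G] [MulAction G Ω] [Finite Ω] {Z : Set G} {Y : Subgroup G}
  {a : Ω} {t : G} {B Λ : Type*} [Group B] [Finite B] [MulAction B Λ] {π : G → B} {ι : Λ → Ω}
  {a' : Λ} {Q : Subgroup B} {s r : B} (h : Cx Z Y a t π ι a' Q s r) {x y z z' u v k l n g : G}
include h

theorem tL : t ∈ Lz Z Y := mem_Lz h.tZ h.tY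

theorem one : π 1 = 1 := by
  have := h.mul 1 (one_mem _) 1 (one_mem _)
  rw [one_mul] at this
  exact left_eq_mul.mp this

theorem inv (hx : x ∈ Lz Z Y) : π x⁻¹ = (π x)⁻¹ := by
  have := h.mul x hx x⁻¹ (inv_mem hx)
  rw [mul_inv_cancel, h.one] at this
  exact eq_inv_of_mul_eq_one_right this.symm

theorem pow (hx : x ∈ Lz Z Y) (m : ℕ) : π (x ^ m) = π x ^ m := by
  induction m with
  | zero => simp [h.one]
  | succ m ih => rw [pow_succ, h.mul _ (pow_mem hx m) _ hx, ih, pow_succ]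

theorem conj (hx : x ∈ Lz Z Y) (hy : y ∈ Lz Z Y) : π (x * y * x⁻¹) = π x * π y * (π x)⁻¹ := by
  rw [h.mul _ (mul_mem hx hy) _ (inv_mem hx), h.mul _ hx _ hy, h.inv hx]

theorem fix (hx : x ∈ Lz Z Y) {c : Λ} : π x • c = c ↔ x • ι c = ι c := by
  rw [← h.smul x hx, h.inj.eq_iff]

theorem fixa (hx : x ∈ Lz Z Y) : π x • a' = a' ↔ x • a = a := by
  rw [h.fix hx, h.base]

theorem ιb : ι (π t • a') = t • a := by rw [h.smul t h.tL, h.base]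

theorem fixb (hx : x ∈ Lz Z Y) : π x • π t • a' = π t • a' ↔ x • t • a = t • a := by
  rw [h.fix hx, h.ιb]

theorem mem_DD (hx : x ∈ Lz Z Y) : π x ∈ Suz.DD a' (π t) ↔ x • a = a ∧ x • t • a = t • a := by
  rw [Suz.mem_DD, h.fixa hx, h.fixb hx]

theorem eq_one (hx : x ∈ Lz Z Y) : π x = 1 ↔ x ∈ Ker Y a := by
  constructor
  · intro e
    refine ⟨Lz_le Z Y hx, fun y hy => ?_⟩
    obtain ⟨c, hc⟩ := (h.range (y • a)).mp ⟨y, hy, rfl⟩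
    rw [← hc, ← h.fix hx, e, one_smul]
  · intro e
    refine h.hyp.faithful _ fun c => (h.fix hx).mpr ?_
    obtain ⟨y, hy, e'⟩ := (h.range (ι c)).mpr ⟨c, rfl⟩
    rw [← e']; exact e.2 y hy

theorem mul_inv_mem (hx : x ∈ Lz Z Y) (hy : y ∈ Lz Z Y) : x * y⁻¹ ∈ Ker Y a ↔ π x = π y := by
  rw [← h.eq_one (mul_mem hx (inv_mem hy)), h.mul _ hx _ (inv_mem hy), h.inv hy, mul_inv_eq_one]

theorem moves : ∃ y ∈ Y, y • a ≠ a := ⟨t, h.tY, h.ta⟩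

theorem zinv (hz : z ∈ Z) : z⁻¹ = z := (h.sm.ze.inv z hz).inv

theorem centN (hz : z ∈ Z) (hzY : z ∈ Y) (hn : n ∈ Ker Y a) : z * n = n * z := by
  obtain ⟨u, hu, -⟩ := h.pair
  have key : ∀ m ∈ Ker Y a, u * m = m * u := fun m hm => by
    have h1 : m * u * m⁻¹ ∈ ZA Z Y a := by
      have := h.sm.ze.conj_ZA hu (le_normalizer hm.1)
      rwa [Ker_fix hm] at this
    have h2 : m * u * m⁻¹ * u ∈ Ker Y a := by
      have := conj_mem ((Ker_nml Y a).norm hu.2.1) (inv_mem hm)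
      rw [h.zinv hu.1] at this
      simpa only [mul_assoc] using mul_mem hm this
    exact (mul_inv_eq_iff_eq_mul.mp (h.clean _ h1 _ hu h2)).symm
  obtain ⟨g, hg, rfl⟩ := h.sm.ze.conj_of_mem hu h.moves hz hzY
  have h3 := key (g⁻¹ * n * g) (by
    simpa using conj_mem ((Ker_nml Y a).norm (inv_mem (Lz_le Z Y hg))) hn)
  calc g * u * g⁻¹ * n = g * (u * (g⁻¹ * n * g)) * g⁻¹ := by group
    _ = _ := by rw [h3]; group

theorem centL (hx : x ∈ Lz Z Y) (hn : n ∈ Ker Y a) : x * n = n * x := by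
  have : Lz Z Y ≤ C{n} := (closure_le _).mpr fun z hz => mem_C1.mpr (h.centN hz.1 hz.2 hn)
  exact mem_C1.mp (this hx)

theorem zeq (hz : z ∈ Z) (hzY : z ∈ Y) (hz' : z' ∈ Z) (hz'Y : z' ∈ Y) (e : π z = π z') :
    z = z' := by
  by_contra hne
  have h1 := (h.mul_inv_mem (mem_Lz hz hzY) (mem_Lz hz' hz'Y)).mpr e
  rw [h.zinv hz'] at h1
  have h2 := h.centN hz hzY h1
  have h3 : z * z' = z' * z := by
    rw [mul_assoc, mul_left_cancel_iff] at h2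
    exact h2
  exact h.ta (h.sm.ze.pd z hz z' hz' hne h3 _ _ (h1.2 t h.tY) (Ker_fix h1))

theorem πinv (hz : z ∈ Z) (hzY : z ∈ Y) : Inv (π z) := by
  refine ⟨fun e => ?_, by rw [← h.mul _ (mem_Lz hz hzY) _ (mem_Lz hz hzY), (h.sm.ze.inv z hz).2, h.one]⟩
  have h1 := (h.eq_one (mem_Lz hz hzY)).mp e
  exact h.ta (h.sm.ze.nar z hz _ _ (h1.2 t h.tY) (Ker_fix h1))

theorem ZA_Q0 (hu : u ∈ ZA Z Y a) : π u ∈ Suz.Q0 Q := by
  have h1 := h.πinv hu.1 hu.2.1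
  exact h.hyp.mem_Q0.mpr ⟨invol_mem_Q h.hyp.setup ((h.fixa (mem_Lz hu.1 hu.2.1)).mpr hu.2.2) h1.2, h1.2⟩

theorem lift_Q0 {b : B} (hb : b ∈ Suz.Q0 Q) (h1 : b ≠ 1) : ∃ u ∈ ZA Z Y a, π u = b := by
  obtain ⟨z, hz, hzY, rfl⟩ := h.lift b ⟨h1, (h.hyp.mem_Q0.mp hb).2⟩
  exact ⟨z, ⟨hz, hzY, (h.fixa (mem_Lz hz hzY)).mp (Q_fix h.hyp.setup (Suz.Q0_le hb))⟩, rfl⟩

/-- an element whose image commutes with the image of `z` commutes with `z` -/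
theorem comm_of (hx : x ∈ Lz Z Y) (hz : z ∈ Z) (hzY : z ∈ Y) (e : π x * π z = π z * π x) :
    x * z = z * x := by
  have h1 : x * z * x⁻¹ = z := h.zeq (h.sm.ze.conj z hz x)
    (mul_mem (mul_mem (Lz_le Z Y hx) hzY) (inv_mem (Lz_le Z Y hx))) hz hzY (by
      rw [h.conj hx (mem_Lz hz hzY), e, mul_inv_cancel_right])
  exact mul_inv_eq_iff_eq_mul.mp h1

theorem centQ (hx : x ∈ Lz Z Y) (hQ : π x ∈ Q) (hu : u ∈ ZA Z Y a) : x * u = u * x :=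
  h.comm_of hx hu.1 hu.2.1 (h.hyp.Q0_central (h.ZA_Q0 hu) hQ).symm

theorem memA (x : G) : x ∈ Az Z Y a ↔ x = 1 ∨ x ∈ ZA Z Y a := by
  refine ⟨fun hx => ?_, fun hx => hx.elim (fun e => e ▸ one_mem _) mem_Az⟩
  induction hx using closure_induction with
  | mem x hx => exact Or.inr hx
  | one => exact Or.inl rfl
  | mul x y _ _ hx hy =>
    rcases hx with rfl | hx
    · rwa [one_mul]
    rcases hy with rfl | hy
    · rw [mul_one]; exact Or.inr hx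
    by_cases e : x = y
    · exact Or.inl (e ▸ (h.sm.ze.inv x hx.1).2)
    · exact Or.inr ⟨h.sm.mul_mem hx.1 hy.1 e
        (h.centQ (mem_Lz hx.1 hx.2.1) (Suz.Q0_le (h.ZA_Q0 hx)) hy), mul_mem hx.2.1 hy.2.1,
        by rw [mul_smul, hy.2.2, hx.2.2]⟩
  | inv x _ hx =>
    rcases hx with rfl | hx
    · exact Or.inl inv_one
    · rw [h.zinv hx.1]; exact Or.inr hx

theorem A_Q0 (hu : u ∈ Az Z Y a) : π u ∈ Suz.Q0 Q := by
  rcases (h.memA u).mp hu with rfl | hu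
  · rw [h.one]; exact one_mem _
  · exact h.ZA_Q0 hu

theorem lift_A {b : B} (hb : b ∈ Suz.Q0 Q) : ∃ u ∈ Az Z Y a, π u = b := by
  by_cases h1 : b = 1
  · exact ⟨1, one_mem _, by rw [h.one, h1]⟩
  · obtain ⟨u, hu, e⟩ := h.lift_Q0 hb h1
    exact ⟨u, mem_Az hu, e⟩

theorem A_inj (hu : u ∈ Az Z Y a) (hv : v ∈ Az Z Y a) (e : π u = π v) : u = v := by
  rcases (h.memA u).mp hu with rfl | hu <;> rcases (h.memA v).mp hv with rfl | hv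
  · rfl
  · exact absurd (h.one.symm.trans e).symm (h.πinv hv.1 hv.2.1).1
  · exact absurd (e.trans h.one) (h.πinv hu.1 hu.2.1).1
  · exact h.zeq hu.1 hu.2.1 hv.1 hv.2.1 e

theorem cardA : ♯(Az Z Y a) = Nat.card (Suz.Q0 Q) :=
  Nat.card_eq_of_bijective (fun u : Az Z Y a => (⟨π u, h.A_Q0 u.2⟩ : Suz.Q0 Q))
    ⟨fun u v e => Subtype.ext (h.A_inj u.2 v.2 (congrArg Subtype.val e)), fun b => by
      obtain ⟨u, hu, e⟩ := h.lift_A b.2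
      exact ⟨⟨u, hu⟩, Subtype.ext e⟩⟩

theorem comm_A (hx : x ∈ Lz Z Y) (e : ∀ b ∈ Suz.Q0 Q, b * π x = π x * b) (hu : u ∈ Az Z Y a) :
    x * u = u * x := by
  rcases (h.memA u).mp hu with rfl | hu
  · simp
  · exact h.comm_of hx hu.1 hu.2.1 (e _ (h.ZA_Q0 hu)).symm

theorem mem_AN (hx : x ∈ Lz Z Y) : x ∈ AN Z Y a ↔ π x ∈ Suz.Q0 Q := by
  constructor
  · intro hx'
    have hn : Az Z Y a ≤ N[Ker Y a] := (Az_le Z Y a).trans (Ker_nml Y a).norm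
    obtain ⟨u, hu, n, hn, rfl⟩ := (mem_sup_of_norm' hn).mp hx'
    have hu' := Az_le_Lz Z Y a hu
    have hn' : n ∈ Lz Z Y := (mul_mem_cancel_left hu').mp hx
    rw [h.mul _ hu' _ hn', (h.eq_one hn').mpr hn, mul_one]
    exact h.A_Q0 hu
  · intro hx'
    obtain ⟨u, hu, e⟩ := h.lift_A hx'
    have := (h.mul_inv_mem hx (Az_le_Lz Z Y a hu)).mpr e.symm
    rw [← inv_mul_cancel_right x u]
    exact mul_mem (mem_sup_right this) (mem_sup_left hu)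

/-! ### the group `K` -/

/-- the set `K` -/
def KS (Z : Set G) (Y : Subgroup G) (a : Ω) (t k : G) : Prop := k ∈ Y ∧ k • a = a ∧ t * k ∈ Z

theorem tt : t * t = 1 := (h.sm.ze.inv t h.tZ).2

theorem KS_L (hk : KS Z Y a t k) : k ∈ Lz Z Y := by
  have := mul_mem h.tL (mem_Lz hk.2.2 (mul_mem h.tY hk.1))
  rwa [← mul_assoc, h.tt, one_mul] at this

theorem KS_KK (hk : KS Z Y a t k) : π k ∈ Suz.KK a' (π t) := by
  obtain ⟨-, h2, h3⟩ := h.sm.ze.K_spec h.tZ h.ta hk.2.1 hk.2.2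
  refine Suz.mem_KK_of_inv ((h.mem_DD (h.KS_L hk)).mpr ⟨hk.2.1, h2⟩) ?_
  rw [← h.conj h.tL (h.KS_L hk), h3, h.inv (h.KS_L hk)]

theorem lift_K {b : B} (hb : b ∈ Suz.KK a' (π t)) : ∃ k, KS Z Y a t k ∧ π k = b := by
  have h1 : Inv (π t * b) := by
    refine ⟨fun e => ta_ne h.hyp.setup ?_, ?_⟩
    · have := congrArg (· • a') e
      have h0 : b • a' = a' := (Suz.KK_le hb).1
      simpa only [mul_smul, h0, one_smul] using this
    · rw [← mul_assoc, h.hyp.tKt hb, inv_mul_cancel]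
  obtain ⟨z, hz, hzY, e⟩ := h.lift _ h1
  have h2 : π (t * z) = b := by rw [h.mul _ h.tL _ (mem_Lz hz hzY), e, h.hyp.tt_mul]
  refine ⟨t * z, ⟨mul_mem h.tY hzY, ?_, by rwa [← mul_assoc, h.tt, one_mul]⟩, h2⟩
  rw [← h.fixa (mul_mem h.tL (mem_Lz hz hzY)), h2]
  exact (Suz.KK_le hb).1

theorem KS_inj (hk : KS Z Y a t k) (hl : KS Z Y a t l) (e : π k = π l) : k = l :=
  mul_left_cancel (h.zeq hk.2.2 (mul_mem h.tY hk.1) hl.2.2 (mul_mem h.tY hl.1) (by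
    rw [h.mul _ h.tL _ (h.KS_L hk), h.mul _ h.tL _ (h.KS_L hl), e]))

theorem comm_KK (hx : x ∈ Lz Z Y) (hy : y ∈ Lz Z Y) (h1 : π x ∈ Suz.KK a' (π t))
    (h2 : π y ∈ Suz.KK a' (π t)) : x * y = y * x := by
  obtain ⟨g0, hg0⟩ := h.hyp.isCyclic_KK.exists_monoid_generator
  obtain ⟨g, hg, e⟩ := h.surj (g0 : B)
  have key : ∀ x ∈ Lz Z Y, π x ∈ Suz.KK a' (π t) → ∃ i : ℕ, ∃ n ∈ Ker Y a, x = n * g ^ i :=
    fun x hx h1 => by
      obtain ⟨i, hi⟩ := hg0 ⟨_, h1⟩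
      refine ⟨i, x * (g ^ i)⁻¹, (h.mul_inv_mem hx (pow_mem hg i)).mpr ?_, by group⟩
      rw [h.pow hg, e]
      exact (congrArg Subtype.val hi).symm
  obtain ⟨i, n, hn, e1⟩ := key x hx h1
  obtain ⟨j, m, hm, e2⟩ := key y hy h2
  have c1 : Commute (g ^ j) n := h.centL (pow_mem hg j) hn
  have c2 : Commute x m := h.centL hx hm
  have c3 : Commute x (g ^ j) := by
    rw [e1]; exact c1.symm.mul_left (Commute.pow_pow_self g i j)
  rw [e2]; exact c2.mul_right c3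

theorem KS_of (hk : k ∈ Y) (ha : k • a = a) (ho : Odd (orderOf k)) (hi : t * k * t⁻¹ = k⁻¹) :
    KS Z Y a t k := ⟨hk, ha, (h.sm.ze.mul_mem_of_odd h.tZ ho hi).2⟩

theorem memK (k : G) : k ∈ Kz Z Y a t ↔ KS Z Y a t k := by
  refine ⟨fun hk => ?_, fun hk => subset_closure hk⟩
  induction hk using closure_induction with
  | mem x hx => exact hx
  | one => exact ⟨one_mem _, one_smul _ _, by rw [mul_one]; exact h.tZ⟩
  | mul x y _ _ hx hy =>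
    obtain ⟨x1, -, x3⟩ := h.sm.ze.K_spec h.tZ h.ta hx.2.1 hx.2.2
    obtain ⟨y1, -, y3⟩ := h.sm.ze.K_spec h.tZ h.ta hy.2.1 hy.2.2
    have hc : Commute x y := h.comm_KK (h.KS_L hx) (h.KS_L hy) (h.KS_KK hx) (h.KS_KK hy)
    refine h.KS_of (mul_mem hx.1 hy.1) (by rw [mul_smul, hy.2.1, hx.2.1])
      ((x1.mul y1).of_dvd_nat hc.orderOf_mul_dvd_mul_orderOf) ?_
    calc t * (x * y) * t⁻¹ = (t * x * t⁻¹) * (t * y * t⁻¹) := by group
      _ = _ := by rw [x3, y3, ← mul_inv_rev, hc.eq]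
  | inv x _ hx =>
    obtain ⟨x1, -, x3⟩ := h.sm.ze.K_spec h.tZ h.ta hx.2.1 hx.2.2
    refine h.KS_of (inv_mem hx.1) (by rw [inv_smul_eq_iff, hx.2.1]) (by rwa [orderOf_inv]) ?_
    calc t * x⁻¹ * t⁻¹ = (t * x * t⁻¹)⁻¹ := by group
      _ = _ := by rw [x3]

theorem cardK : ♯(Kz Z Y a t) = Nat.card (Suz.KK a' (π t)) :=
  Nat.card_eq_of_bijective
    (fun u : Kz Z Y a t => (⟨π u, h.KS_KK ((h.memK _).mp u.2)⟩ : Suz.KK a' (π t)))
    ⟨fun u v e => Subtype.ext (h.KS_inj ((h.memK _).mp u.2) ((h.memK _).mp v.2)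
      (congrArg Subtype.val e)), fun b => by
      obtain ⟨u, hu, e⟩ := h.lift_K b.2
      exact ⟨⟨u, (h.memK _).mpr hu⟩, Subtype.ext e⟩⟩

theorem cycK : IsCyclic (Kz Z Y a t) := by
  obtain ⟨g0, hg0⟩ := h.hyp.isCyclic_KK.exists_monoid_generator
  obtain ⟨g, hg, e⟩ := h.lift_K g0.2
  refine ⟨⟨⟨g, (h.memK _).mpr hg⟩, fun k => ?_⟩⟩
  have hk := (h.memK _).mp k.2
  obtain ⟨i, hi⟩ := hg0 ⟨_, h.KS_KK hk⟩
  refine ⟨(i : ℤ), Subtype.ext ?_⟩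
  simp only [zpow_natCast, SubgroupClass.coe_pow]
  refine h.KS_inj ((h.memK _).mp (pow_mem ((h.memK _).mpr hg) i)) hk ?_
  rw [h.pow (h.KS_L hg), e]
  exact congrArg Subtype.val hi

theorem K_le {X : Subgroup G} (hA : Az Z Y a ≤ X) (ht : t ∈ X) (hk : KS Z Y a t k) : k ∈ X := by
  obtain ⟨u, hu, -⟩ := h.pair
  have h1 : k * u * k⁻¹ ∈ ZA Z Y a := by
    have := h.sm.ze.conj_ZA hu (le_normalizer hk.1)
    rwa [hk.2.1] at this
  obtain ⟨l, l1, l2, l3, l4⟩ := h.sm.ze.exists_K h.tZ h.ta hu.1 h1.1 hu.2.2 h1.2.2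
  rw [h.sm.ze.K_inj h.tZ h.ta hu.1 hu.2.2 hk.2.1 l1 hk.2.2 l2 l3.symm]
  exact l4 X (hA (mem_Az hu)) (hA (mem_Az h1)) ht

/-! ### the group `U` -/

theorem lift_pi {p : ℕ} {b : B} (hb : PiElt {p} b) : ∃ x ∈ Lz Z Y, PiElt {p} x ∧ π x = b := by
  obtain ⟨x, hx, rfl⟩ := h.surj b
  obtain ⟨y, z, hy, hz, hy', hz', e⟩ := exists_piElt_decomp {p} x
  have hyL := (zpowers_le.mpr hx) hy'
  have hzL := (zpowers_le.mpr hx) hz'
  refine ⟨y, hyL, hy, ?_⟩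
  have h1 : PiElt {p} (π z) := by
    obtain ⟨i, hi⟩ := (mem_powers_iff_mem_zpowers.mpr hz')
    rw [← hi, h.pow hx]; exact hb.pow i
  have h2 : PiElt {p}ᶜ (π z) := piElt_of_pow_eq_one hz (by
    rw [← h.pow hzL, pow_orderOf_eq_one, h.one])
  conv_rhs => rw [e, h.mul _ hyL _ hzL, h1.eq_one h2, mul_one]

/-- the preimage of `Q` -/
def PQ : Subgroup G where
  carrier := {x | x ∈ Lz Z Y ∧ π x ∈ Q}
  one_mem' := ⟨one_mem _, by rw [h.one]; exact one_mem _⟩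
  mul_mem' := fun hx hy => ⟨mul_mem hx.1 hy.1, by rw [h.mul _ hx.1 _ hy.1]; exact mul_mem hx.2 hy.2⟩
  inv_mem' := fun hx => ⟨inv_mem hx.1, by rw [h.inv hx.1]; exact inv_mem hx.2⟩

theorem nil_PQ : Nil h.PQ := by
  let f : h.PQ →* Q :=
    { toFun := fun x => ⟨π x, x.2.2⟩
      map_one' := Subtype.ext h.one
      map_mul' := fun x y => Subtype.ext (h.mul _ x.2.1 _ y.2.1) }
  haveI := h.hyp.nilpotent_Q
  exact Subgroup.isNilpotent_of_ker_le_center f fun x hx => mem_center_iff.mpr fun y =>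
    Subtype.ext (h.centL y.2.1 ((h.eq_one x.2.1).mp (congrArg Subtype.val hx)))

omit h in
theorem two_iff : PiElt {2} x ↔ ∃ n : ℕ, x ^ 2 ^ n = 1 :=
  ⟨fun hx => by
    obtain ⟨k, hk⟩ := hx.exists_pow Nat.prime_two
    exact ⟨k, by rw [← hk, pow_orderOf_eq_one]⟩,
    fun ⟨n, hn⟩ => piElt_of_pow_eq_one (piNat_self_pow Nat.prime_two n) hn⟩

theorem π_mem_Q (hx : x ∈ Lz Z Y) (ha : x • a = a) (h2 : ∃ n : ℕ, x ^ 2 ^ n = 1) : π x ∈ Q := by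
  obtain ⟨n, hn⟩ := h2
  exact h.hyp.mem_Q_of_two ((h.fixa hx).mpr ha) (n := n) (by rw [← h.pow hx, hn, h.one])

theorem memU (x : G) : x ∈ Uz Z Y a ↔ x ∈ Lz Z Y ∧ x • a = a ∧ ∃ n : ℕ, x ^ 2 ^ n = 1 := by
  refine ⟨fun hx => ⟨Uz_le_Lz Z Y a hx, Uz_fix hx, ?_⟩, fun hx => subset_closure hx⟩
  have : Uz Z Y a ≤ O[{2}, h.PQ] := (closure_le _).mpr fun y hy =>
    h.nil_PQ.mem_pcore (two_iff.mpr hy.2.2) ⟨hy.1, h.π_mem_Q hy.1 hy.2.1 hy.2.2⟩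
  exact two_iff.mp ((pcore_pi _ _).piElt (this hx))

theorem U_Q (hx : x ∈ Uz Z Y a) : π x ∈ Q :=
  h.π_mem_Q (Uz_le_Lz Z Y a hx) (Uz_fix hx) ((h.memU x).mp hx).2.2

theorem lift_U {b : B} (hb : b ∈ Q) : ∃ x ∈ Uz Z Y a, π x = b := by
  obtain ⟨n, hn⟩ := h.hyp.struct'.two ⟨b, hb⟩
  obtain ⟨x, hx, h2, rfl⟩ := h.lift_pi (p := 2) (b := b)
    (two_iff.mpr ⟨n, congrArg Subtype.val hn⟩)
  exact ⟨x, (h.memU x).mpr ⟨hx, (h.fixa hx).mp (Q_fix h.hyp.setup hb), two_iff.mp h2⟩, rfl⟩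

theorem ι_ne {c : Λ} : ι c ≠ a ↔ c ≠ a' := by rw [← h.base, h.inj.ne_iff]

theorem card_Orb : (Orb Y a).ncard = Nat.card Q + 1 := by
  have : Orb Y a = Set.range ι := Set.ext fun c => h.range c
  rw [this, ← card_Omega h.hyp.setup, ← Set.image_univ, Set.ncard_image_of_injective _ h.inj,
    Set.ncard_univ]

theorem om (hC : Suz.C2 a' (π t) Q) {d : ℕ} (hd : Nat.card (Suz.Q0 Q) = 2 ^ d) :
    ∃ ω p, Om Z Y a t d ω p := by
  obtain ⟨ζ, hζ, hp, hdvd⟩ := h.hyp.exists_W_prime hC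
  obtain ⟨ω, hω, h1, rfl⟩ := h.lift_pi (piElt_of_orderOf_prime hp rfl)
  have hD := (h.mem_DD hω).mp (Suz.WW_le hζ)
  have hK : ω ^ orderOf (π ω) ∈ Ker Y a := by
    rw [← h.eq_one (pow_mem hω _), h.pow hω, pow_orderOf_eq_one]
  have hA : ∀ u ∈ Az Z Y a, ω * u = u * ω := fun u hu => h.comm_A hω (Suz.mem_WW.mp hζ).2 hu
  refine ⟨ω, orderOf (π ω), hp, hd ▸ hdvd, hω, ?_, hK, hD.1,
    h.comm_of hω h.tZ h.tY (Suz.mem_VV.mp (h.hyp.WW_le_VV hζ)).2.symm, hA, ?_, ?_⟩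
  · obtain ⟨j, hj⟩ := h1.exists_pow hp
    exact ⟨j, by rw [← hj, pow_orderOf_eq_one]⟩
  · intro c hc e
    obtain ⟨c, rfl⟩ := (h.range c).mp hc
    rcases h.hyp.W_fix hC hζ (fun e => hp.ne_one (by rw [e, orderOf_one])) ((h.fix hω).mpr e) with
      rfl | ⟨z, hz, rfl⟩
    · exact Or.inl h.base
    · obtain ⟨u, hu, rfl⟩ := h.lift_A hz
      exact Or.inr ⟨u, hu, by rw [h.smul u (Az_le_Lz Z Y a hu), h.ιb]⟩
  · intro g hg ha hb
    have hL : g * ω * g⁻¹ ∈ Lz Z Y := conj_mem (norm_Lz h.sm.ze (le_normalizer hg)) hω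
    have hW : π (g * ω * g⁻¹) ∈ Suz.WW a' (π t) Q := by
      refine Suz.mem_WW.mpr ⟨(h.mem_DD hL).mpr ⟨?_, ?_⟩, fun b hb' => ?_⟩
      · have := conj_fix (g := g) hD.1
        rwa [ha] at this
      · have := conj_fix (g := g) hD.2
        rwa [hb] at this
      · obtain ⟨u, hu, rfl⟩ := h.lift_A hb'
        have hu' := Az_le_Lz Z Y a hu
        have h3 := hA _ (conj_mem (inv_mem (norm_Az h.sm.ze (le_normalizer hg) ha)) hu)
        rw [← h.mul _ hu' _ hL, ← h.mul _ hL _ hu']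
        congr 1
        calc u * (g * ω * g⁻¹) = g * (g⁻¹ * u * g⁻¹⁻¹ * ω) * g⁻¹ := by group
          _ = _ := by rw [← h3]; group
    obtain ⟨j, hj⟩ := Suz.exists_pow_of_cyc (h.hyp.isCyclic_WW hC).1 hp hζ rfl hW (by
      rw [← h.pow hL, conj_pow, h.eq_one (conj_mem (norm_Lz h.sm.ze (le_normalizer hg)) (pow_mem hω _))]
      exact conj_mem ((Ker_nml Y a).norm hg) hK)
    exact ⟨j, (h.mul_inv_mem hL (pow_mem hω j)).mpr (by rw [hj, h.pow hω])⟩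

theorem gen (hc : Nat.card Q = Nat.card (Suz.Q0 Q) ∨ Nat.card Q = Nat.card (Suz.Q0 Q) ^ 2)
    {c : Ω} (hc' : c ∈ Orb Y a) : c ∈ Orb (Az Z Y a ⊔ zpowers t) a := by
  obtain ⟨c, rfl⟩ := (h.range c).mp hc'
  have key : ∀ x ∈ Lz Z Y, x ∈ Az Z Y a ⊔ zpowers t → ∀ c, ι c ∈ Orb (Az Z Y a ⊔ zpowers t) a →
      ι (π x • c) ∈ Orb (Az Z Y a ⊔ zpowers t) a := fun x hx hx' c hc => by
    rw [h.smul x hx]; exact smul_mem_Orb hx' hc
  have ha : ι a' ∈ Orb (Az Z Y a ⊔ zpowers t) a := by rw [h.base]; exact mem_Orb_self _ _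
  have ht := key t h.tL (mem_sup_right (mem_zpowers t))
  have h0 : ∀ z ∈ Suz.Q0 Q, ∀ c, ι c ∈ Orb (Az Z Y a ⊔ zpowers t) a →
      ι (z • c) ∈ Orb (Az Z Y a ⊔ zpowers t) a := fun z hz => by
    obtain ⟨u, hu, rfl⟩ := h.lift_A hz
    exact key u (Az_le_Lz Z Y a hu) (mem_sup_left hu)
  rcases hc with hc | hc
  · by_cases hca : c = a'
    · exact hca ▸ ha
    obtain ⟨q, hq, rfl⟩ := exists_Q_smul_b h.hyp.setup hca
    exact h0 q (by rwa [eq_of_le_of_card_ge Suz.Q0_le hc.le]) _ (ht _ ha)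
  · refine h.hyp.gen_two hc (R := fun c => ι c ∈ Orb (Az Z Y a ⊔ zpowers t) a) ha ht
      (fun k hk => ?_) h0 c
    obtain ⟨k, hk', rfl⟩ := h.lift_K hk
    exact key k (h.KS_L hk') (h.K_le le_sup_left (mem_sup_right (mem_zpowers t)) hk')

theorem pl : ∃ d i, Pl Z Y a t d i := by
  obtain ⟨d, hd2, hd⟩ := h.hyp.card_Q0
  haveI := h.simple
  obtain ⟨i, hi, hQ, h2, h3⟩ : ∃ i : ℕ, (i = 1 ∨ i = 2 ∨ i = 3) ∧
      Nat.card Q = Nat.card (Suz.Q0 Q) ^ i ∧ (i = 2 → ∃ x ∈ Q, ∃ y ∈ Q, x * y ≠ y * x) ∧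
      (i = 3 → Suz.C2 a' (π t) Q) := by
    rcases h.hyp.cases with hc | ⟨h1, hc⟩ | ⟨hC, -⟩
    · refine ⟨1, Or.inl rfl, ?_, by omega, by omega⟩
      rw [pow_one, le_antisymm Suz.Q0_le fun x hx => h.hyp.mem_Q0.mpr ⟨hx, hc x hx⟩]
    · exact ⟨2, Or.inr (Or.inl rfl), hc, fun _ => h1, by omega⟩
    · exact ⟨3, Or.inr (Or.inr rfl), hC.card, by omega, fun _ => hC⟩
  have hne : i ≠ 3 → Nat.card Q ≠ Nat.card (Suz.Q0 Q) ^ 3 := fun hi3 e =>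
    hi3 (Nat.pow_right_injective (by have := h.hyp.four_le_card_Q0; omega) (hQ.symm.trans e))
  refine ⟨d, i, h.tZ, h.tY, h.ta, h.memA, h.memK, h.memU, hd2, h.cardA.trans hd,
    by rw [h.cardK, h.hyp.card_KK, hd], h.cycK, fun z hz hzY n hn => h.centN hz hzY hn, ?_, ?_,
    fun x hx u hu => h.comm_A (Uz_le_Lz Z Y a hx)
      (fun b hb => h.hyp.Q0_central hb (h.U_Q hx)) hu, ?_, ?_, by rw [h.card_Orb, hQ, hd], ?_, hi,
    ?_, ?_, ?_, ?_, ?_, fun e => h.om (h3 e) hd⟩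
  · intro c hc hca
    obtain ⟨c, rfl⟩ := (h.range c).mp hc
    obtain ⟨q, hq, rfl⟩ := exists_Q_smul_b h.hyp.setup (h.ι_ne.mp hca)
    obtain ⟨x, hx, rfl⟩ := h.lift_U hq
    exact ⟨x, hx, by rw [h.smul x (Uz_le_Lz Z Y a hx), h.ιb]⟩
  · intro x hx c hc hca e
    obtain ⟨c, rfl⟩ := (h.range c).mp hc
    have hx' := Uz_le_Lz Z Y a hx
    exact (h.eq_one hx').mp (eq_one_of_mem_Q_of_fix h.hyp.setup (h.U_Q hx) (h.ι_ne.mp hca)
      ((h.fix hx').mpr e))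
  · intro x hx
    have hx' := Uz_le_Lz Z Y a hx
    rw [h.mem_AN (mul_mem hx' hx'), h.mul _ hx' _ hx']
    exact h.hyp.sq_mem_Q0 (h.U_Q hx)
  · intro x hx e
    rw [← h.eq_one (mul_mem hx hx), h.mul _ hx _ hx] at e
    by_cases h1 : π x = 1
    · exact Or.inl ((h.eq_one hx).mp h1)
    · obtain ⟨z, hz, hzY, e'⟩ := h.lift _ ⟨h1, e⟩
      refine Or.inr ⟨z, hz, hzY, ?_⟩
      rw [← h.eq_one (mul_mem hx (mem_Lz hz hzY)), h.mul _ hx _ (mem_Lz hz hzY), e', e]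
  · intro k hk hk1 c hc e
    obtain ⟨c, rfl⟩ := (h.range c).mp hc
    have hk' := (h.memK k).mp hk
    rcases h.hyp.K_fix (h.KS_KK hk') (fun e => hk1 (h.KS_inj hk' ((h.memK 1).mp (one_mem _))
      (e.trans h.one.symm))) ((h.fix (h.KS_L hk')).mpr e) with rfl | rfl
    · exact Or.inl h.base
    · exact Or.inr h.ιb
  · intro hi3 x hx ha hb
    obtain ⟨k, hk, e⟩ := h.lift_K
      (inv_mem (h.hyp.mem_KK_of_ne (hne hi3) ((h.mem_DD hx).mpr ⟨ha, hb⟩)))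
    refine ⟨k, (h.memK k).mpr hk, ?_⟩
    rw [← h.eq_one (mul_mem hx (h.KS_L hk)), h.mul _ hx _ (h.KS_L hk), e, mul_inv_cancel]
  · intro hi3 c hc
    refine h.gen ?_ hc
    rcases hi with rfl | rfl | rfl
    · exact Or.inl (by rw [hQ, pow_one])
    · exact Or.inr hQ
    · exact absurd rfl hi3
  · rintro rfl h4
    obtain ⟨m, hm⟩ := h.hyp.card_Q0_odd (h2 rfl) hQ
    rw [← hd, hm, pow_succ, pow_mul] at h4
    have h5 : (2 ^ 2) ^ m % 3 = 1 := by rw [Nat.pow_mod]; simp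
    omega
  · intro e
    obtain ⟨x, hx, y, hy, hne⟩ := h2 e
    obtain ⟨x, hx', rfl⟩ := h.lift_U hx
    obtain ⟨y, hy', rfl⟩ := h.lift_U hy
    have x1 := Uz_le_Lz Z Y a hx'
    have y1 := Uz_le_Lz Z Y a hy'
    refine ⟨x, hx', y, hy', fun e' => hne ?_⟩
    rw [h.mul_inv_mem (mul_mem (mul_mem x1 y1) (inv_mem x1)) y1, h.conj x1 y1] at e'
    exact mul_inv_eq_iff_eq_mul.mp e'
  · rintro rfl x hx y hy hx0 hy0
    have x1 := Uz_le_Lz Z Y a hx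
    have y1 := Uz_le_Lz Z Y a hy
    rw [h.mem_AN x1] at hx0
    rw [h.mem_AN y1] at hy0
    obtain ⟨k, hk, z, hz, e⟩ := h.hyp.exists_K_conj_of_sq le_rfl Suz.Q0_le
      (fun k hk x hx => h.hyp.conj_Q (Suz.KK_le hk) hx) hQ (h.U_Q hx) hx0 (h.U_Q hy) hy0
    obtain ⟨l, hl, e'⟩ := h.lift_K (inv_mem hk)
    have l1 := h.KS_L hl
    refine ⟨l, (h.memK l).mpr hl, ?_⟩
    have h5 := mul_mem (mul_mem l1 x1) (inv_mem l1)
    rw [h.mem_AN (mul_mem h5 (inv_mem y1)), h.mul _ h5 _ (inv_mem y1), h.conj l1 x1, h.inv y1, e, e']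
    have h6 := h.hyp.conj_Q0 (Suz.KK_le hk).1 (inv_mem hz)
    have h7 := h.hyp.Q0_central hz (h.U_Q hx)
    convert h6 using 1
    rw [← h7]; group

end Cx

open H26.BR in
theorem pl_of_hyp {G Ω : Type*} [Group G] [Finite G] [MulAction G Ω] [Finite Ω] {Z : Set G}
    {Y : Subgroup G} {a : Ω} {t : G} {B : Type*} [Group B] [Finite B]
    [MulAction B (orbit (Lz Z Y) a)] (h : Sm Ω Z) (hP : Pair Z Y a) (ht : t ∈ Z) (htY : t ∈ Y)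
    (hta : t • a ≠ a) (hc : Clean Z Y a) (f : Lz Z Y →* B) (hf : Function.Surjective f)
    (hs : ∀ (y : Lz Z Y) (c : orbit (Lz Z Y) a), ((f y • c : orbit (Lz Z Y) a) : Ω) = (y : G) • (c : Ω))
    (h1 : IsSimpleGroup B) (h2 : ∀ x : B, Inv x → ∃ z : Lz Z Y, (z : G) ∈ Z ∧ f z = x)
    {Q : Subgroup B} {s r : B}
    (h3 : H8.Suz.Hyp B (orbit (Lz Z Y) a) ⟨a, mem_orbit_self a⟩ (f ⟨t, mem_Lz ht htY⟩) Q s r) :
    ∃ d i, Pl Z Y a t d i := by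
  classical
  let π : G → B := fun x => if hx : x ∈ Lz Z Y then f ⟨x, hx⟩ else 1
  have hπ : ∀ x (hx : x ∈ Lz Z Y), π x = f ⟨x, hx⟩ := fun x hx => dif_pos hx
  refine Cx.pl (Λ := orbit (Lz Z Y) a) (π := π) (ι := Subtype.val)
    (a' := ⟨a, mem_orbit_self a⟩) (Q := Q) (s := s) (r := r)
    ⟨h, hP, ht, htY, hta, hc, fun x hx y hy => ?_, fun b => ?_, Subtype.val_injective,
      fun c => ?_, rfl, fun x hx c => ?_, h1, fun b hb => ?_, ?_⟩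
  · rw [hπ _ (mul_mem hx hy), hπ _ hx, hπ _ hy, ← map_mul]; rfl
  · obtain ⟨x, rfl⟩ := hf b
    exact ⟨x, x.2, hπ _ x.2⟩
  · obtain ⟨u, hu, -⟩ := hP
    rw [← h.ze.orb_Lz hu]
    exact ⟨fun ⟨y, hy, e⟩ => ⟨⟨c, ⟨⟨y, hy⟩, e⟩⟩, rfl⟩, fun ⟨⟨_, ⟨y, rfl⟩⟩, e⟩ => ⟨y, y.2, e⟩⟩
  · rw [hπ _ hx, hs]
  · obtain ⟨z, hz, rfl⟩ := h2 b hb
    exact ⟨z, hz, Lz_le Z Y z.2, hπ _ z.2⟩
  · rw [hπ _ (mem_Lz ht htY)]; exact h3

end ZL
end H8
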