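import Mathlib
import Cfsg.Agent.H6.Dihedral
import Cfsg.Agent.H22.Isolated

/-! Block systems of elementary abelian subgroups (HN endgame), part 1. -/

set_option autoImplicit false

namespace H8.HNB

variable {D : Type*} [Group D]

/-- The conjugate `g P g⁻¹`. -/
def cj (g : D) (P : Subgroup D) : Subgroup D := P.comap (MulAut.conj g⁻¹).toMonoidHom

theorem mem_cj {g x : D} {P : Subgroup D} : x ∈ cj g P ↔ g⁻¹ * x * g ∈ P := by
  simp [cj]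

theorem conj_mem_cj {g x : D} {P : Subgroup D} : g * x * g⁻¹ ∈ cj g P ↔ x ∈ P := by
  rw [mem_cj]; simp [mul_assoc]

theorem cj_cj (g h : D) (P : Subgroup D) : cj g (cj h P) = cj (g * h) P := by
  ext x; simp [mem_cj, mul_assoc]

theorem cj_eq_iff {g : D} {P : Subgroup D} :
    cj g P = P ↔ g ∈ Subgroup.normalizer (P : Set D) := by
  rw [Subgroup.mem_normalizer_iff]
  constructor
  · intro h x
    rw [← conj_mem_cj (g := g), h]
  · intro h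
    ext x
    rw [mem_cj]
    have := h (g⁻¹ * x * g)
    simpa [mul_assoc] using this

theorem ncard_conj (g : D) {s t : Set D} (h : ∀ x, x ∈ s ↔ g⁻¹ * x * g ∈ t) :
    s.ncard = t.ncard :=
  Set.ncard_congr (fun x _ => g⁻¹ * x * g) (fun x hx => (h x).1 hx)
    (fun x y _ _ e => mul_left_cancel (mul_right_cancel e))
    fun y hy => ⟨g * y * g⁻¹, (h _).2 (by simpa [mul_assoc] using hy), by group⟩

theorem swap_of_odd {u v : D} (u2 : u * u = 1) (v2 : v * v = 1) (ho : Odd (orderOf (u * v))) :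
    ∃ w ∈ Subgroup.closure ({u, v} : Set D), w * u * w⁻¹ = v ∧ w * v * w⁻¹ = u := by
  obtain ⟨j, hj⟩ := ho
  have h1 : u * (u * v) ^ ((j : ℤ) + 1) * u * (u * (u * v) ^ ((j : ℤ) + 1))⁻¹ = v := by
    rw [H6.refl_conj_left u2 v2, show 2 * ((j : ℤ) + 1) = ((2 * j + 1 : ℕ) : ℤ) + 1 by push_cast; ring,
      zpow_add, zpow_natCast, ← hj, pow_orderOf_eq_one, one_mul, zpow_one, ← mul_assoc, u2, one_mul]
  refine ⟨_, (H6.mem_closure_pair_iff u2 v2).2 ⟨_, Or.inr rfl⟩, h1, ?_⟩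
  have h2 := H6.refl_mul_self u2 v2 ((j : ℤ) + 1)
  set w := u * (u * v) ^ ((j : ℤ) + 1)
  calc w * v * w⁻¹ = (w * w) * u * (w * w)⁻¹ := by rw [← h1]; group
    _ = u := by rw [h2]; group

theorem cent_of_even [Finite D] {u v : D} (u2 : u * u = 1) (v2 : v * v = 1)
    (he : Even (orderOf (u * v))) : ∃ k, k ≠ 1 ∧ k * u = u * k ∧ k * v = v * k ∧
      (IsConj u (k * u) ∨ IsConj v (k * u)) ∧ (IsConj u (k * v) ∨ IsConj v (k * v)) := by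
  obtain ⟨h1, h2, h3⟩ := H6.central_involution u2 v2 he
  refine ⟨_, H6.ne_one_of_orderOf_two h1, h2, h3, ?_, ?_⟩
  · rcases H22.zpow_mul_conj u2 v2 (orderOf (u * v) / 2 : ℕ) with ⟨-, j, hj⟩ | ⟨-, j, hj⟩
    · exact Or.inl (isConj_iff.2 ⟨_, by rw [hj, zpow_natCast]⟩)
    · exact Or.inr (isConj_iff.2 ⟨_, by rw [hj, zpow_natCast]⟩)
  · have e : (u * v) ^ (orderOf (u * v) / 2) = (v * u) ^ (-((orderOf (u * v) / 2 : ℕ) : ℤ)) := by
      rw [← inv_zpow', mul_inv_rev, H6.inv_eq_of_mul_self u2, H6.inv_eq_of_mul_self v2, zpow_natCast]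
    rcases H22.zpow_mul_conj v2 u2 (-((orderOf (u * v) / 2 : ℕ) : ℤ)) with ⟨-, j, hj⟩ | ⟨-, j, hj⟩
    · exact Or.inr (isConj_iff.2 ⟨_, by rw [hj, e]⟩)
    · exact Or.inl (isConj_iff.2 ⟨_, by rw [hj, e]⟩)

/-- Properties of a single block. -/
structure Good (V : Set D) (B : D → D → Prop) (P : Subgroup D) : Prop where
  sq : ∀ q ∈ P, q * q = 1
  card : Nat.card P = 256
  h60 : {v | v ∈ V ∧ v ∈ P}.ncard = 60
  hm : ∀ k ∈ P, k ∉ V → k ≠ 1 → {v | v ∈ V ∧ v ∈ P ∧ v * k ∈ V}.ncard ≤ 12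
  hBm : ∀ v ∈ P, ∀ k ∈ P, ∀ k' ∈ P, B v (k * k') ↔ (B v k ↔ B v k')
  h28 : ∀ k ∈ P, k ∉ V → k ≠ 1 → {v | v ∈ V ∧ v ∈ P ∧ B v k}.ncard = 28

/-- A block system. -/
structure Sys (V : Set D) (B : D → D → Prop) (S : Set (Subgroup D)) : Prop where
  V2 : ∀ v ∈ V, v * v = 1
  V1 : 1 ∉ V
  Vc : ∀ g, ∀ v ∈ V, g * v * g⁻¹ ∈ V
  Bc : ∀ g a b, B a b → B (g * a * g⁻¹) (g * b * g⁻¹)
  Sc : ∀ g, ∀ P ∈ S, cj g P ∈ S
  good : ∀ P ∈ S, Good V B P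
  uniq : ∀ v ∈ V, ∀ P ∈ S, ∀ R ∈ S, v ∈ P → v ∈ R → P = R
  comm : ∀ v ∈ V, ∀ w ∈ V, ∀ P ∈ S, v ∈ P → w * v = v * w → w ∈ P

variable {V : Set D} {B : D → D → Prop} {S : Set (Subgroup D)} {P R : Subgroup D}

theorem Good.comm (h : Good V B P) {x y : D} (hx : x ∈ P) (hy : y ∈ P) : x * y = y * x := by
  have := eq_inv_of_mul_eq_one_left (h.sq _ (P.mul_mem hx hy))
  rwa [mul_inv_rev, H6.inv_eq_of_mul_self (h.sq x hx), H6.inv_eq_of_mul_self (h.sq y hy)] at this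

theorem Good.cj (h : Good V B P) (Vc : ∀ g, ∀ v ∈ V, g * v * g⁻¹ ∈ V)
    (Bc : ∀ g a b, B a b → B (g * a * g⁻¹) (g * b * g⁻¹)) (g : D) : Good V B (cj g P) := by
  have hV : ∀ x, g⁻¹ * x * g ∈ V ↔ x ∈ V := fun x =>
    ⟨fun e => by simpa [mul_assoc] using Vc g _ e, fun e => by simpa using Vc g⁻¹ _ e⟩
  have hB : ∀ x y, B (g⁻¹ * x * g) (g⁻¹ * y * g) ↔ B x y := fun x y =>
    ⟨fun e => by simpa [mul_assoc] using Bc g _ _ e, fun e => by simpa using Bc g⁻¹ _ _ e⟩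
  have hmul : ∀ x y, g⁻¹ * (x * y) * g = g⁻¹ * x * g * (g⁻¹ * y * g) := fun x y => by group
  have h1 : ∀ x, x ≠ 1 → g⁻¹ * x * g ≠ 1 := fun x hx e => hx (by
    calc x = g * (g⁻¹ * x * g) * g⁻¹ := by group
      _ = 1 := by rw [e]; group)
  refine ⟨fun q hq => ?_, ?_, ?_, fun k hk kV k1 => ?_, fun v hv k hk k' hk' => ?_,
    fun k hk kV k1 => ?_⟩
  · calc q * q = g * (g⁻¹ * q * g * (g⁻¹ * q * g)) * g⁻¹ := by group
      _ = 1 := by rw [h.sq _ (mem_cj.1 hq)]; group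
  · rw [← h.card]
    exact ncard_conj (s := H8.HNB.cj g P) (t := P) g fun x => mem_cj
  · rw [← h.h60]
    exact ncard_conj g fun x => by simp only [Set.mem_setOf_eq, hV, mem_cj]
  · refine le_of_eq_of_le (ncard_conj g fun x => ?_) (h.hm _ (mem_cj.1 hk) (by rwa [hV]) (h1 k k1))
    simp only [Set.mem_setOf_eq, hV, mem_cj, ← hmul]
  · rw [← hB v, ← hB v k, ← hB v k', hmul]
    exact h.hBm _ (mem_cj.1 hv) _ (mem_cj.1 hk) _ (mem_cj.1 hk')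
  · rw [← h.h28 _ (mem_cj.1 hk) (by rwa [hV]) (h1 k k1)]
    exact ncard_conj g fun x => by simp only [Set.mem_setOf_eq, hV, mem_cj, hB]

theorem ncard_split [Finite D] (s : Set D) (p : D → Prop) :
    {x | x ∈ s ∧ p x}.ncard + {x | x ∈ s ∧ ¬ p x}.ncard = s.ncard :=
  Set.ncard_inter_add_ncard_diff_eq_ncard s {x | p x}

theorem Good.levels [Finite D] (h : Good V B P) {a b : D} (ha : a ∈ P) (hb : b ∈ P) (aV : a ∉ V)
    (bV : b ∉ V) (abV : a * b ∉ V) (a1 : a ≠ 1) (b1 : b ≠ 1) (ab1 : a * b ≠ 1) :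
    {v | v ∈ V ∧ v ∈ P ∧ B v a ∧ B v b}.ncard = 12 ∧
    {v | v ∈ V ∧ v ∈ P ∧ B v a ∧ ¬ B v b}.ncard = 16 ∧
    {v | v ∈ V ∧ v ∈ P ∧ ¬ B v a ∧ B v b}.ncard = 16 ∧
    {v | v ∈ V ∧ v ∈ P ∧ ¬ B v a ∧ ¬ B v b}.ncard = 16 := by
  have e1 := ncard_split {v | v ∈ V ∧ v ∈ P ∧ B v a} (fun v => B v b)
  have e2 := ncard_split {v | v ∈ V ∧ v ∈ P ∧ B v b} (fun v => B v a)
  have e3 := ncard_split {v | v ∈ V ∧ v ∈ P ∧ B v (a * b)} (fun v => B v a)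
  have e4 := ncard_split {v | v ∈ V ∧ v ∈ P} (fun v => B v a)
  have e5 := ncard_split {v | v ∈ V ∧ v ∈ P ∧ ¬ B v a} (fun v => B v b)
  rw [h.h28 a ha aV a1] at e1
  rw [h.h28 b hb bV b1] at e2
  rw [h.h28 _ (P.mul_mem ha hb) abV ab1] at e3
  rw [h.h60] at e4
  have f1 := h.h28 a ha aV a1
  simp only [Set.mem_setOf_eq, and_assoc] at e1 e2 e3 e4 e5
  have r1 : {v | v ∈ V ∧ v ∈ P ∧ B v b ∧ B v a} = {v | v ∈ V ∧ v ∈ P ∧ B v a ∧ B v b} := by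
    ext v; simp only [Set.mem_setOf_eq]; tauto
  have r2 : {v | v ∈ V ∧ v ∈ P ∧ B v b ∧ ¬ B v a} = {v | v ∈ V ∧ v ∈ P ∧ ¬ B v a ∧ B v b} := by
    ext v; simp only [Set.mem_setOf_eq]; tauto
  have r3 : {v | v ∈ V ∧ v ∈ P ∧ B v (a * b) ∧ B v a} = {v | v ∈ V ∧ v ∈ P ∧ B v a ∧ B v b} := by
    ext v; simp only [Set.mem_setOf_eq]
    refine and_congr_right fun _ => and_congr_right fun hv => ?_
    rw [h.hBm v hv a ha b hb]; tauto
  have r4 : {v | v ∈ V ∧ v ∈ P ∧ B v (a * b) ∧ ¬ B v a} =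
      {v | v ∈ V ∧ v ∈ P ∧ ¬ B v a ∧ ¬ B v b} := by
    ext v; simp only [Set.mem_setOf_eq]
    refine and_congr_right fun _ => and_congr_right fun hv => ?_
    rw [h.hBm v hv a ha b hb]; tauto
  rw [r1, r2] at e2
  rw [r3, r4] at e3
  omega

namespace Sys
variable (h : Sys V B S)
include h

theorem Vconj {u v : D} (hu : u ∈ V) (hc : IsConj u v) : v ∈ V := by
  obtain ⟨g, rfl⟩ := isConj_iff.1 hc
  exact h.Vc g u hu

theorem cj_eq {g u v : D} (hP : P ∈ S) (hR : R ∈ S) (hu : u ∈ V) (uP : u ∈ P) (vR : v ∈ R)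
    (e : g * u * g⁻¹ = v) : cj g P = R :=
  h.uniq v (e ▸ h.Vc g u hu) _ (h.Sc g P hP) _ hR (e ▸ conj_mem_cj.2 uP) vR

theorem even_case [Finite D] (hP : P ∈ S) (hR : R ∈ S) {u v : D} (hu : u ∈ V)
    (uP : u ∈ P) (hv : v ∈ V) (vR : v ∈ R) (he : Even (orderOf (u * v))) :
    ∃ k, k ∈ P ∧ k ∈ R ∧ k ≠ 1 ∧ u * k ∈ V ∧ v * k ∈ V := by
  obtain ⟨k, k1, ku, kv, h1, h2⟩ := cent_of_even (h.V2 u hu) (h.V2 v hv) he
  have m1 : k * u ∈ V := h1.elim (h.Vconj hu) (h.Vconj hv)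
  have m2 : k * v ∈ V := h2.elim (h.Vconj hu) (h.Vconj hv)
  refine ⟨k, ?_, ?_, k1, ku ▸ m1, kv ▸ m2⟩
  · exact (P.mul_mem_cancel_right uP).1 (h.comm u hu _ m1 P hP uP (by rw [← mul_assoc, ← ku]))
  · exact (R.mul_mem_cancel_right vR).1 (h.comm v hv _ m2 R hR vR (by rw [← mul_assoc, ← kv]))

theorem odd_case (hP : P ∈ S) (hR : R ∈ S) {u u' v : D} (hu : u ∈ V) (uP : u ∈ P) (hu' : u' ∈ V)
    (uP' : u' ∈ P) (hv : v ∈ V) (vR : v ∈ R) (ho : Odd (orderOf (u * v)))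
    (ho' : Odd (orderOf (u' * v))) :
    ∃ g, g * u * g⁻¹ = u' ∧ cj g P = P ∧ cj g R = R ∧
      ∀ z, z * u = u * z → z * u' = u' * z → z * v = v * z → g * z * g⁻¹ = z := by
  obtain ⟨w, hw, w1, w2⟩ := swap_of_odd (h.V2 u hu) (h.V2 v hv) ho
  obtain ⟨w', hw', w1', w2'⟩ := swap_of_odd (h.V2 u' hu') (h.V2 v hv) ho'
  refine ⟨w' * w, ?_, ?_, ?_, fun z zu zu' zv => ?_⟩
  · rw [← w2', ← w1]; group
  · rw [← cj_cj, h.cj_eq hP hR hu uP vR w1, h.cj_eq hR hP hv vR uP' w2']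
  · rw [← cj_cj, h.cj_eq hR hP hv vR uP w2, h.cj_eq hP hR hu' uP' vR w1']
  · have key : ∀ x : D, z * x = x * z → ∀ y ∈ Subgroup.closure ({x, v} : Set D),
        y ∈ Subgroup.centralizer ({z} : Set D) := fun x hx y hy =>
      (Subgroup.closure_le _).2 (by
        rintro _ (rfl | rfl) <;> exact Subgroup.mem_centralizer_singleton_iff.2 (by
          first | exact hx.symm | exact zv.symm)) hy
    have := Subgroup.mem_centralizer_singleton_iff.1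
      (Subgroup.mul_mem _ (key u' zu' w' hw') (key u zu w hw))
    rw [this]; group

end Sys

end H8.HNB
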