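import Mathlib
import Cfsg.Agent.H8.HNB1

/-! Block systems of elementary abelian subgroups (HN endgame), part 2: the TI property. -/

set_option autoImplicit false

namespace H8.HNB

variable {D : Type*} [Group D] [Finite D]
variable {V : Set D} {B : D → D → Prop} {S : Set (Subgroup D)} {P R : Subgroup D}

theorem dc_le {α β : Type*} [Finite α] [Finite β] {s : Set α} {t : Set β} (r : α → β → Prop)
    {m n : ℕ} (hm : ∀ a ∈ s, m ≤ {b | b ∈ t ∧ r a b}.ncard)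
    (hn : ∀ b ∈ t, {a | a ∈ s ∧ r a b}.ncard ≤ n) : s.ncard * m ≤ t.ncard * n := by
  classical
  have := Finset.card_mul_le_card_mul (s := (Set.toFinite s).toFinset)
    (t := (Set.toFinite t).toFinset) r (m := m) (n := n) (fun a ha => by
      refine (hm a (by simpa using ha)).trans_eq ?_
      rw [← Set.ncard_coe_finset]; congr 1; ext b; simp [Finset.bipartiteAbove])
    (fun b hb => by
      refine le_of_eq_of_le ?_ (hn b (by simpa using hb))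
      rw [← Set.ncard_coe_finset]; congr 1; ext b; simp [Finset.bipartiteBelow])
  rwa [← Set.ncard_eq_toFinset_card, ← Set.ncard_eq_toFinset_card] at this

theorem ncard_sharp (I : Subgroup D) : {k | k ∈ I ∧ k ≠ 1}.ncard + 1 = Nat.card I := by
  have := ncard_split (I : Set D) (fun k => k ≠ 1)
  rw [← Nat.card_coe_set_eq (I : Set D)] at this
  rw [← show {x | x ∈ (I : Set D) ∧ ¬ x ≠ 1}.ncard = 1 from Set.ncard_eq_one.2 ⟨1, by
    ext x; simp only [Set.mem_setOf_eq, not_not, Set.mem_singleton_iff]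
    exact ⟨fun e => e.2, fun e => ⟨e ▸ I.one_mem, e⟩⟩⟩]
  exact this

/-- Convexity over the cosets of `I`. -/
theorem convex (I : Subgroup D) (s : Set D) :
    s.ncard ^ 2 ≤ ((QuotientGroup.mk : D → D ⧸ I) '' s).ncard *
      {p : D × D | p.1 ∈ s ∧ p.2 ∈ I ∧ p.1 * p.2 ∈ s}.ncard := by
  classical
  set f : D → D ⧸ I := QuotientGroup.mk
  set T := (Set.toFinite s).toFinset with hT
  have h1 := Finset.card_eq_sum_card_image f T
  have h2 := sq_sum_le_card_mul_sum_sq (s := T.image f) (f := fun c => (T.filter (f · = c)).card)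
  have h3 : ∑ c ∈ T.image f, (T.filter (f · = c)).card ^ 2 =
      ∑ v ∈ T, (T.filter (f · = f v)).card := by
    rw [Finset.sum_comp (fun c => (T.filter (f · = c)).card) f]
    simp only [smul_eq_mul, pow_two]
  have h4 : ∑ v ∈ T, (T.filter (f · = f v)).card =
      {p : D × D | p.1 ∈ s ∧ p.2 ∈ I ∧ p.1 * p.2 ∈ s}.ncard := by
    rw [← Finset.card_sigma, ← Set.ncard_coe_finset]
    refine Set.ncard_congr (fun q _ => (q.1, q.1⁻¹ * q.2)) ?_ ?_ ?_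
    · rintro ⟨v, w⟩ hq
      simp only [hT, Finset.coe_sigma, Set.mem_sigma_iff, Finset.mem_coe, Finset.mem_filter,
        Set.Finite.mem_toFinset] at hq
      refine ⟨hq.1, QuotientGroup.eq.1 hq.2.2.symm, by simpa using hq.2.1⟩
    · rintro ⟨v, w⟩ ⟨v', w'⟩ _ _ e
      simp only [Prod.mk.injEq] at e
      obtain ⟨rfl, e⟩ := e
      rw [mul_left_cancel e]
    · rintro ⟨v, k⟩ ⟨h5, h6, h7⟩
      refine ⟨⟨v, v * k⟩, ?_, by simp⟩
      simp only [hT, Finset.coe_sigma, Set.mem_sigma_iff, Finset.mem_coe, Finset.mem_filter,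
        Set.Finite.mem_toFinset]
      exact ⟨h5, h7, (QuotientGroup.eq.2 (by simpa using h6)).symm⟩
  rw [← h1, h3, h4] at h2
  rwa [Set.ncard_eq_toFinset_card s, ← Set.Finite.coe_toFinset (Set.toFinite s), ← hT,
    ← Finset.coe_image, Set.ncard_coe_finset, hT, Set.Finite.coe_toFinset]

namespace Sys
variable (h : Sys V B S)
include h

theorem notV (hP : P ∈ S) (hR : R ∈ S) (ne : P ≠ R) {k : D} (kP : k ∈ P) (kR : k ∈ R) : k ∉ V :=
  fun kV => ne (h.uniq k kV P hP R hR kP kR)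

theorem O_const (hP : P ∈ S) (hR : R ∈ S) {v : D} (hv : v ∈ V) (vR : v ∈ R) {k : D}
    (kP : k ∈ P) (kv : k * v = v * k) {u u' : D} (hu : u ∈ V ∧ u ∈ P ∧ Odd (orderOf (u * v)))
    (hu' : u' ∈ V ∧ u' ∈ P ∧ Odd (orderOf (u' * v))) (hb : B u k) : B u' k := by
  obtain ⟨g, h1, -, -, h2⟩ := h.odd_case hP hR hu.1 hu.2.1 hu'.1 hu'.2.1 hv vR hu.2.2 hu'.2.2
  have := h.Bc g _ _ hb
  rwa [h1, h2 k ((h.good P hP).comm kP hu.2.1) ((h.good P hP).comm kP hu'.2.1) kv] at this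

theorem OK (hP : P ∈ S) (hR : R ∈ S) (ne : P ≠ R) {v : D} (hv : v ∈ V) (vR : v ∈ R) :
    60 ≤ {u | u ∈ V ∧ u ∈ P ∧ Odd (orderOf (u * v))}.ncard +
      {k | (k ∈ P ⊓ R ∧ k ≠ 1) ∧ v * k ∈ V}.ncard * 12 := by
  have e1 := ncard_split {u | u ∈ V ∧ u ∈ P} (fun u => Odd (orderOf (u * v)))
  rw [(h.good P hP).h60] at e1
  have e2 := dc_le (s := {x | x ∈ {u | u ∈ V ∧ u ∈ P} ∧ ¬ Odd (orderOf (x * v))})
    (t := {k | (k ∈ P ⊓ R ∧ k ≠ 1) ∧ v * k ∈ V}) (fun u k => u * k ∈ V) (m := 1) (n := 12)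
    (fun u hu => by
      obtain ⟨k, h1, h2, h3, h4, h5⟩ := h.even_case hP hR hu.1.1 hu.1.2 hv vR
        (Nat.not_odd_iff_even.1 hu.2)
      exact (Set.ncard_pos (Set.toFinite _)).2 ⟨k, ⟨⟨⟨h1, h2⟩, h3⟩, h5⟩, h4⟩)
    (fun k hk => le_trans (Set.ncard_le_ncard (fun u hu => by exact ⟨hu.1.1.1, hu.1.1.2, hu.2⟩)
      (Set.toFinite _))
      ((h.good P hP).hm k hk.1.1.1 (h.notV hP hR ne hk.1.1.1 hk.1.1.2) hk.1.2))
  simp only [Set.mem_setOf_eq, and_assoc] at e1 e2 ⊢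
  omega

theorem sumK (hP : P ∈ S) (hR : R ∈ S) (ne : P ≠ R) {m : ℕ}
    (hm : ∀ v ∈ V, v ∈ R → m ≤ {k | (k ∈ P ⊓ R ∧ k ≠ 1) ∧ v * k ∈ V}.ncard) :
    60 * m + 12 ≤ Nat.card ↥(P ⊓ R) * 12 := by
  have e2 := dc_le (s := {v | v ∈ V ∧ v ∈ R}) (t := {k | k ∈ P ⊓ R ∧ k ≠ 1})
    (fun v k => v * k ∈ V) (m := m) (n := 12) (fun v hv => hm v hv.1 hv.2)
    (fun k hk => le_trans (Set.ncard_le_ncard (fun u hu => by exact ⟨hu.1.1, hu.1.2, hu.2⟩)
      (Set.toFinite _)) ((h.good R hR).hm k hk.1.2 (h.notV hP hR ne hk.1.1 hk.1.2) hk.2))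
  rw [(h.good R hR).h60] at e2
  rw [← ncard_sharp]; omega

theorem TI (hP : P ∈ S) (hR : R ∈ S) {k : D} (kP : k ∈ P) (kR : k ∈ R) (k1 : k ≠ 1) : P = R := by
  by_contra ne
  have gP := h.good P hP
  have gR := h.good R hR
  have nV := fun {k : D} (hk : k ∈ P ⊓ R) => h.notV hP hR ne hk.1 hk.2
  have a1 := h.sumK hP hR ne (m := 3) (fun v hv vR => by
    have e1 := h.OK hP hR ne hv vR
    have e2 : {u | u ∈ V ∧ u ∈ P ∧ Odd (orderOf (u * v))}.ncard ≤ 32 := by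
      have e3 := gP.h28 k kP (nV ⟨kP, kR⟩) k1
      have e4 := ncard_split {u | u ∈ V ∧ u ∈ P} (fun u => B u k)
      rw [gP.h60] at e4
      simp only [Set.mem_setOf_eq, and_assoc] at e4
      by_cases hb : ∃ u, (u ∈ V ∧ u ∈ P ∧ Odd (orderOf (u * v))) ∧ B u k
      · obtain ⟨u, hu, hb⟩ := hb
        refine (Set.ncard_le_ncard (t := {u | u ∈ V ∧ u ∈ P ∧ B u k}) (fun u' hu' => ⟨hu'.1,
          hu'.2.1, h.O_const hP hR hv vR kP (gR.comm kR vR) hu hu' hb⟩) (Set.toFinite _)).trans ?_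
        omega
      · refine (Set.ncard_le_ncard (t := {u | u ∈ V ∧ u ∈ P ∧ ¬ B u k}) (fun u' hu' => ⟨hu'.1,
          hu'.2.1, fun e => hb ⟨u', hu', e⟩⟩) (Set.toFinite _)).trans ?_
        omega
    omega)
  obtain ⟨l, hl, l1, lk⟩ : ∃ l ∈ P ⊓ R, l ≠ 1 ∧ l ≠ k := by
    by_contra hc
    push Not at hc
    have : {k | k ∈ P ⊓ R ∧ k ≠ 1}.ncard ≤ 1 := (Set.ncard_le_one (Set.toFinite _)).2
      fun a ha b hb => (hc a ha.1 ha.2).trans (hc b hb.1 hb.2).symm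
    have := ncard_sharp (P ⊓ R)
    omega
  have a2 := h.sumK hP hR ne (m := 4) (fun v hv vR => by
    have e1 := h.OK hP hR ne hv vR
    have e2 : {u | u ∈ V ∧ u ∈ P ∧ Odd (orderOf (u * v))}.ncard ≤ 16 := by
      obtain ⟨f1, f2, f3, f4⟩ := gP.levels kP hl.1 (nV ⟨kP, kR⟩) (nV hl)
        (nV ((P ⊓ R).mul_mem ⟨kP, kR⟩ hl)) k1 l1 (fun e => lk (by
          rw [eq_inv_of_mul_eq_one_right e, H6.inv_eq_of_mul_self (gP.sq k kP)]))
      rcases Set.eq_empty_or_nonempty {u | u ∈ V ∧ u ∈ P ∧ Odd (orderOf (u * v))} with e | ⟨u, hu⟩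
      · rw [e]; simp
      have c1 := fun {u u'} => h.O_const (u := u) (u' := u') hP hR hv vR kP (gR.comm kR vR)
      have c2 := fun {u u'} => h.O_const (u := u) (u' := u') hP hR hv vR hl.1 (gR.comm hl.2 vR)
      by_cases b1 : B u k <;> by_cases b2 : B u l
      · refine (Set.ncard_le_ncard (fun u' hu' => ?_) (Set.toFinite _)).trans (f1.le.trans (by norm_num))
        exact ⟨hu'.1, hu'.2.1, c1 hu hu' b1, c2 hu hu' b2⟩
      · refine (Set.ncard_le_ncard (fun u' hu' => ?_) (Set.toFinite _)).trans f2.le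
        exact ⟨hu'.1, hu'.2.1, c1 hu hu' b1, fun e => b2 (c2 hu' hu e)⟩
      · refine (Set.ncard_le_ncard (fun u' hu' => ?_) (Set.toFinite _)).trans f3.le
        exact ⟨hu'.1, hu'.2.1, fun e => b1 (c1 hu' hu e), c2 hu hu' b2⟩
      · refine (Set.ncard_le_ncard (fun u' hu' => ?_) (Set.toFinite _)).trans f4.le
        exact ⟨hu'.1, hu'.2.1, fun e => b1 (c1 hu' hu e), fun e => b2 (c2 hu' hu e)⟩
    omega)
  set I := P ⊓ R with hI
  have a3 := convex I {v | v ∈ V ∧ v ∈ R}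
  rw [gR.h60] at a3
  have a4 : {p : D × D | p.1 ∈ {v | v ∈ V ∧ v ∈ R} ∧ p.2 ∈ I ∧
      p.1 * p.2 ∈ {v | v ∈ V ∧ v ∈ R}}.ncard ≤ 60 + {k | k ∈ I ∧ k ≠ 1}.ncard * 12 := by
    have b1 := dc_le (s := {p : D × D | (p.1 ∈ V ∧ p.1 ∈ R) ∧ (p.2 ∈ I ∧ p.2 ≠ 1) ∧ p.1 * p.2 ∈ V})
      (t := {k | k ∈ I ∧ k ≠ 1}) (fun p k => p.2 = k) (m := 1) (n := 12)
      (fun p hp => (Set.ncard_pos (Set.toFinite _)).2 ⟨p.2, hp.2.1, rfl⟩)
      (fun k hk => le_trans (Set.ncard_le_ncard_of_injOn Prod.fst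
        (fun p hp => by exact ⟨hp.1.1.1, hp.1.1.2, hp.2 ▸ hp.1.2.2⟩)
        (fun p hp q hq e => Prod.ext e (hp.2.trans hq.2.symm)) (Set.toFinite _))
        (gR.hm k hk.1.2 (nV hk.1) hk.2))
    have b2 : ((fun v : D => (v, (1 : D))) '' {v | v ∈ V ∧ v ∈ R}).ncard ≤ 60 :=
      (Set.ncard_image_le (Set.toFinite _)).trans gR.h60.le
    refine (Set.ncard_le_ncard (t := (fun v : D => (v, (1 : D))) '' {v | v ∈ V ∧ v ∈ R} ∪
      {p : D × D | (p.1 ∈ V ∧ p.1 ∈ R) ∧ (p.2 ∈ I ∧ p.2 ≠ 1) ∧ p.1 * p.2 ∈ V}) ?_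
      (Set.toFinite _)).trans ((Set.ncard_union_le _ _).trans (by omega))
    rintro ⟨v, k⟩ ⟨h1, h2, h3⟩
    by_cases e : k = 1
    · exact Or.inl ⟨v, h1, by rw [e]⟩
    · exact Or.inr ⟨h1, ⟨h2, e⟩, h3.1⟩
  have a5 : ((QuotientGroup.mk : D → D ⧸ I) '' {v | v ∈ V ∧ v ∈ R}).ncard * Nat.card I +
      Nat.card I ≤ 256 := by
    have b1 := dc_le (s := (QuotientGroup.mk : D → D ⧸ I) '' {v | v ∈ V ∧ v ∈ R})
      (t := {x | x ∈ (R : Set D) ∧ ¬ x ∈ I}) (fun c x => (x : D ⧸ I) = c) (m := Nat.card I) (n := 1)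
      (by
        rintro _ ⟨v, hv, rfl⟩
        refine le_of_eq_of_le (Nat.card_coe_set_eq (I : Set D))
          (Set.ncard_le_ncard_of_injOn (fun k => v * k) (fun k hk => ⟨⟨R.mul_mem hv.2 hk.2, fun e => ?_⟩,
            (QuotientGroup.eq.2 (by simpa using hk)).symm⟩)
            (fun a _ b _ e => mul_left_cancel e) (Set.toFinite _))
        exact nV ((I.mul_mem_cancel_right hk).1 e) hv.1)
      (fun x _ => (Set.ncard_le_one (Set.toFinite _)).2 fun a ha b hb => ha.2.symm.trans hb.2)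
    have b2 := ncard_split (R : Set D) (fun x => x ∈ I)
    rw [← Nat.card_coe_set_eq (R : Set D)] at b2
    have b3 : {x | x ∈ (R : Set D) ∧ x ∈ I} = I := by
      ext x; exact ⟨fun e => e.2, fun e => ⟨e.2, e⟩⟩
    rw [b3, ← Nat.card_coe_set_eq (I : Set D)] at b2
    have b4 := gR.card
    change Nat.card I + _ = Nat.card R at b2
    omega
  have a6 := ncard_sharp I
  have a7 : Nat.card I ∣ 2 ^ 8 := by
    have := Subgroup.card_dvd_of_le (inf_le_left : I ≤ P)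
    rwa [gP.card] at this
  obtain ⟨j, hj, a8⟩ := (Nat.dvd_prime_pow Nat.prime_two).1 a7
  generalize ((QuotientGroup.mk : D → D ⧸ I) '' {v | v ∈ V ∧ v ∈ R}).ncard = t at a3 a5
  have a9 := a3.trans (Nat.mul_le_mul_left t a4)
  rw [a8] at a2 a5 a6
  generalize {k | k ∈ I ∧ k ≠ 1}.ncard = n at a6 a9
  interval_cases j <;> simp only [Nat.reducePow] at a2 a5 a6 a9 <;> nlinarith

end Sys

end H8.HNB
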