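import Mathlib

/-! A Sylow 2-subgroup of `A₁₁` has centre of order 2. -/

set_option autoImplicit false
set_option maxRecDepth 100000

namespace H8.SL

open Subgroup Equiv

def ok {G : Type*} [Group G] [DecidableEq G] : List G → Bool
  | [] => true
  | g :: l => decide (g * g = 1) && l.all (fun h => decide (g * h * g⁻¹ ∈ l)) && ok l

theorem pg_list {G : Type*} [Group G] [Finite G] [DecidableEq G] : ∀ l : List G, ok l = true →
    IsPGroup 2 (closure {x | x ∈ l})
  | [], _ => by
    rw [show {x : G | x ∈ []} = ∅ by simp, Subgroup.closure_empty]; exact IsPGroup.of_bot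
  | g :: l, h => by
    simp only [ok, Bool.and_eq_true, decide_eq_true_eq, List.all_eq_true] at h
    obtain ⟨⟨h2, h3⟩, h1⟩ := h
    have h1 := pg_list l h1
    have e : closure {x | x ∈ g :: l} = zpowers g ⊔ closure {x | x ∈ l} := by
      rw [zpowers_eq_closure, ← Subgroup.closure_union]; congr 1; ext; simp
    rw [e]
    refine IsPGroup.to_sup_of_normal_right' (fun ⟨x, k, hk⟩ => ⟨1, Subtype.ext ?_⟩) h1
      (zpowers_le.2 (mem_normalizer_fintype fun x hx => ?_))
    · change x ^ 2 ^ 1 = 1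
      rw [← hk, ← zpow_natCast, ← zpow_mul, mul_comm, zpow_mul, zpow_natCast, pow_one, sq, h2, one_zpow]
    · exact (show closure {x | x ∈ l} ≤ (closure {x | x ∈ l}).comap (MulAut.conj g).toMonoidHom from
        (closure_le _).2 fun y hy => subset_closure (h3 y hy)) hx

abbrev s (i j : Fin 11) : Perm (Fin 11) := swap i j

def a : Perm (Fin 11) := s 0 1 * s 8 9
def b : Perm (Fin 11) := s 0 2 * s 1 3
def c : Perm (Fin 11) := s 0 4 * s 1 5 * s 2 6 * s 3 7
def z : Perm (Fin 11) := s 0 1 * s 2 3 * s 4 5 * s 6 7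
def gl : List (Perm (Fin 11)) :=
  [c, b, s 4 6 * s 5 7, a, s 2 3 * s 8 9, s 4 5 * s 8 9, s 6 7 * s 8 9]

def cand (u v w : Fin 11) : Fin 11 → Fin 11 :=
  ![u, a u, b u, b (a u), c u, c (a u), c (b u), c (b (a u)), v, a v, w]

theorem cent {x : Perm (Fin 11)} (hs : Perm.sign x = 1) (ha : x * a = a * x) (hb : x * b = b * x)
    (hc : x * c = c * x) : x = 1 ∨ x = z := by
  have fa : ∀ i, x (a i) = a (x i) := fun i => DFunLike.congr_fun ha i
  have fb : ∀ i, x (b i) = b (x i) := fun i => DFunLike.congr_fun hb i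
  have fc : ∀ i, x (c i) = c (x i) := fun i => DFunLike.congr_fun hc i
  have e : ⇑x = cand (x 0) (x 8) (x 10) := by
    simp only [cand, ← fa, ← fb, ← fc]
    funext i; fin_cases i <;> rfl
  have hu := (by decide +kernel : ∀ u, a u ≠ u → b u ≠ u → u ∈ [0, 1]) (x 0)
    (fa 0 ▸ x.injective.ne (by decide)) (fb 0 ▸ x.injective.ne (by decide))
  have hv := (by decide +kernel : ∀ u, a u ≠ u → u = b u → u ∈ [8, 9]) (x 8)
    (fa 8 ▸ x.injective.ne (by decide)) (fb 8)
  have hw := (by decide +kernel : ∀ u, u = a u → u = b u → u = c u → u = 10) (x 10) (fa 10) (fb 10) (fc 10)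
  obtain ⟨y, hy, e'⟩ := (by decide +kernel : ∀ u ∈ [0, 1], ∀ v ∈ [8, 9],
    ∃ y ∈ [1, z, s 8 9, z * s 8 9], cand u v 10 = ⇑y) _ hu _ hv
  rw [hw] at e
  obtain rfl : x = y := DFunLike.coe_injective (e.trans e')
  simp only [List.mem_cons, List.not_mem_nil, or_false] at hy
  rcases hy with h | h | rfl | rfl
  · exact Or.inl h
  · exact Or.inr h
  all_goals simp [z, s, Perm.sign_swap'] at hs

theorem center_sylow : ∃ S : Sylow 2 (alternatingGroup (Fin 11)), Nat.card (center S) = 2 := by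
  have := Fact.mk Nat.prime_two
  obtain ⟨S, hS⟩ := ((pg_list gl (by decide +kernel)).comap_subtype
    (K := alternatingGroup (Fin 11))).exists_le_sylow
  have m : ∀ g ∈ gl, ∃ h : g ∈ alternatingGroup (Fin 11), (⟨g, h⟩ : alternatingGroup (Fin 11)) ∈ S :=
    fun g hg => ⟨(by simp [gl, a, b, c, s, Perm.sign_swap'] : ∀ g ∈ gl, Perm.sign g = 1) g hg, hS (subset_closure hg)⟩
  have cm : ∀ x : center S, ∀ g ∈ gl, x.1.1.1 * g = g * x.1.1.1 := fun x g hg =>
    (congrArg (·.1.1) (mem_center_iff.1 x.2 ⟨_, (m g hg).2⟩)).symm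
  have : Nontrivial S := ⟨⟨_, (m a (by simp [gl])).2⟩, 1, fun e =>
    absurd (congrArg (·.1.1) e) (by decide +kernel : a ≠ 1)⟩
  have := S.2.center_nontrivial
  refine ⟨S, le_antisymm ?_ Finite.one_lt_card⟩
  refine (Nat.card_le_card_of_injective (fun x : center S => decide (x.1.1.1 = 1)) fun x y e => ?_).trans
    (by simp)
  have hx := cent x.1.1.2 (cm x _ (by simp [gl])) (cm x _ (by simp [gl])) (cm x _ (by simp [gl]))
  have hy := cent y.1.1.2 (cm y _ (by simp [gl])) (cm y _ (by simp [gl])) (cm y _ (by simp [gl]))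
  have e' : x.1.1.1 = 1 ↔ y.1.1.1 = 1 := by simpa using e
  refine Subtype.ext (Subtype.ext (Subtype.ext ?_))
  by_cases h : x.1.1.1 = 1
  · exact h.trans (e'.1 h).symm
  · exact (hx.resolve_left h).trans (hy.resolve_left (mt e'.2 h)).symm

end H8.SL
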