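import Mathlib

/-!
The seven-dimensional module of `G₂` in characteristic three: the invariant form `J`, the action
`ρ` of the Lie algebra (short coordinates `y`, long coordinates `z`), and the blocks `xf`, `yf`,
`cf` of the root elements.
-/

set_option autoImplicit false

namespace H8
namespace Ree

/-- The seven-dimensional coordinate space. -/
abbrev V (K : Type*) := Fin 7 → K

variable {K : Type*} [Field K]

theorem vext {v w : V K} (h0 : v 0 = w 0) (h1 : v 1 = w 1) (h2 : v 2 = w 2) (h3 : v 3 = w 3)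
    (h4 : v 4 = w 4) (h5 : v 5 = w 5) (h6 : v 6 = w 6) : v = w := by
  funext i
  fin_cases i <;> assumption

/-- The invariant symmetric bilinear form. -/
def J (v w : V K) : K :=
  v 0 * w 6 + v 1 * w 5 + v 2 * w 4 - v 3 * w 3 + v 4 * w 2 + v 5 * w 1 + v 6 * w 0

/-- The action of the Lie algebra element with short coordinates `y` and long coordinates `z`. -/
def ρ (y z v : V K) : V K :=
  ![y 3 * v 0 + y 2 * v 1 - y 1 * v 2 - y 0 * v 3 - z 1 * v 4 - z 0 * v 5,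
    y 4 * v 0 + (z 3 - y 3) * v 1 + z 2 * v 2 + y 1 * v 3 - y 0 * v 4 + z 0 * v 6,
    -(y 5 * v 0) + z 4 * v 1 - (y 3 + z 3) * v 2 + y 2 * v 3 + y 0 * v 5 + z 1 * v 6,
    y 6 * v 0 - y 5 * v 1 - y 4 * v 2 + y 2 * v 4 + y 1 * v 5 - y 0 * v 6,
    -(z 5 * v 0) - y 6 * v 1 - y 4 * v 3 + (y 3 + z 3) * v 4 - z 2 * v 5 + y 1 * v 6,
    -(z 6 * v 0) + y 6 * v 2 - y 5 * v 3 - z 4 * v 4 + (y 3 - z 3) * v 5 - y 2 * v 6,
    z 6 * v 1 + z 5 * v 2 + y 6 * v 3 + y 5 * v 4 - y 4 * v 5 - y 3 * v 6]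

/-- The short block of the root element `x_r(t)`. -/
def xf : ℕ → K → V K → V K
  | 0, t, v => ![v 0, v 1, v 2, v 3, v 4, v 5 - t * v 0, v 6 + t * v 1]
  | 1, t, v => ![v 0, v 1, v 2, v 3, v 4 - t * v 0, v 5, v 6 + t * v 2]
  | 2, t, v => ![v 0, v 1, v 2, v 3 + t * v 0, v 4 - t * v 1, v 5 + t * v 2, v 6 - t ^ 2 * v 0 + t * v 3]
  | 3, t, v => ![v 0, v 1, v 2 - t * v 0, v 3 - t * v 1, v 4, v 5 - t ^ 2 * v 1 - t * v 3, v 6 + t * v 4]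
  | 4, t, v => ![v 0, v 1 + t * v 0, v 2, v 3 - t * v 2, v 4 - t ^ 2 * v 2 - t * v 3, v 5, v 6 - t * v 5]
  | 5, t, v => ![v 0, v 1, v 2 + t * v 1, v 3, v 4, v 5 - t * v 4, v 6]
  | 6, t, v => ![v 0, v 1 + t * v 2, v 2, v 3, v 4 - t * v 5, v 5, v 6]
  | 7, t, v => ![v 0 + t * v 1, v 1, v 2 + t * v 3 - t ^ 2 * v 4, v 3 + t * v 4, v 4, v 5 - t * v 6, v 6]
  | 8, t, v => ![v 0 - t * v 2, v 1 + t * v 3 - t ^ 2 * v 5, v 2, v 3 + t * v 5, v 4 + t * v 6, v 5, v 6]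
  | 9, t, v => ![v 0 - t * v 3 - t ^ 2 * v 6, v 1 - t * v 4, v 2 + t * v 5, v 3 - t * v 6, v 4, v 5, v 6]
  | 10, t, v => ![v 0 - t * v 4, v 1, v 2 + t * v 6, v 3, v 4, v 5, v 6]
  | 11, t, v => ![v 0 - t * v 5, v 1 + t * v 6, v 2, v 3, v 4, v 5, v 6]
  | _, _, v => v

/-- The long block of the root element `x_r(t)`. -/
def yf : ℕ → K → V K → V K
  | 0, t, v => ![v 0, v 1, v 2, v 3 + t * v 0, v 4 - t * v 1, v 5 + t * v 2, v 6 - t ^ 2 * v 0 + t * v 3]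
  | 1, t, v => ![v 0, v 1, v 2 - t * v 0, v 3 - t * v 1, v 4, v 5 - t ^ 2 * v 1 - t * v 3, v 6 + t * v 4]
  | 2, t, v => ![v 0, v 1, v 2, v 3, v 4, v 5 - t ^ 3 * v 0, v 6 + t ^ 3 * v 1]
  | 3, t, v => ![v 0, v 1, v 2, v 3, v 4 - t ^ 3 * v 0, v 5, v 6 + t ^ 3 * v 2]
  | 4, t, v => ![v 0, v 1, v 2 + t ^ 3 * v 1, v 3, v 4, v 5 - t ^ 3 * v 4, v 6]
  | 5, t, v => ![v 0, v 1 + t * v 0, v 2, v 3 - t * v 2, v 4 - t ^ 2 * v 2 - t * v 3, v 5, v 6 - t * v 5]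
  | 6, t, v => ![v 0 + t * v 1, v 1, v 2 + t * v 3 - t ^ 2 * v 4, v 3 + t * v 4, v 4, v 5 - t * v 6, v 6]
  | 7, t, v => ![v 0, v 1 + t ^ 3 * v 2, v 2, v 3, v 4 - t ^ 3 * v 5, v 5, v 6]
  | 8, t, v => ![v 0 - t ^ 3 * v 4, v 1, v 2 + t ^ 3 * v 6, v 3, v 4, v 5, v 6]
  | 9, t, v => ![v 0 - t ^ 3 * v 5, v 1 + t ^ 3 * v 6, v 2, v 3, v 4, v 5, v 6]
  | 10, t, v => ![v 0 - t * v 2, v 1 + t * v 3 - t ^ 2 * v 5, v 2, v 3 + t * v 5, v 4 + t * v 6, v 5, v 6]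
  | 11, t, v => ![v 0 - t * v 3 - t ^ 2 * v 6, v 1 - t * v 4, v 2 + t * v 5, v 3 - t * v 6, v 4, v 5, v 6]
  | _, _, v => v

/-- The off-diagonal block of the root element `x_r(t)`. -/
def cf : ℕ → K → V K → V K
  | 0, t, v => ![0, 0, 0, -(t * v 0), 0, 0, 0]
  | 1, t, v => ![0, 0, 0, -(t * v 1), 0, 0, 0]
  | 2, t, v => ![0, -(t * v 0), -(t * v 1), 0, -(t ^ 2 * v 0), t ^ 2 * v 1, 0]
  | 3, t, v => ![t * v 0, 0, t ^ 2 * v 0, 0, t * v 2, t * v 3, -(t ^ 2 * v 2)]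
  | 4, t, v => ![t * v 1, -(t ^ 2 * v 1), 0, 0, -(t * v 3), t * v 4, t ^ 2 * v 4]
  | 5, _, _ => ![0, 0, 0, 0, 0, 0, 0]
  | 6, _, _ => ![0, 0, 0, 0, 0, 0, 0]
  | 7, t, v => ![t ^ 2 * v 2, -(t * v 2), t * v 3, 0, 0, -(t ^ 2 * v 5), -(t * v 5)]
  | 8, t, v => ![-(t ^ 2 * v 4), -(t * v 3), -(t * v 4), 0, t ^ 2 * v 6, 0, -(t * v 6)]
  | 9, t, v => ![0, t ^ 2 * v 5, -(t ^ 2 * v 6), 0, t * v 5, t * v 6, 0]
  | 10, t, v => ![0, 0, 0, t * v 5, 0, 0, 0]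
  | 11, t, v => ![0, 0, 0, t * v 6, 0, 0, 0]
  | _, _, _ => 0

theorem xf_0 (t : K) (v : V K) : xf 0 t v =
    ![v 0, v 1, v 2, v 3, v 4, v 5 - t * v 0, v 6 + t * v 1] := rfl
theorem xf_1 (t : K) (v : V K) : xf 1 t v =
    ![v 0, v 1, v 2, v 3, v 4 - t * v 0, v 5, v 6 + t * v 2] := rfl
theorem xf_2 (t : K) (v : V K) : xf 2 t v =
    ![v 0, v 1, v 2, v 3 + t * v 0, v 4 - t * v 1, v 5 + t * v 2, v 6 - t ^ 2 * v 0 + t * v 3] := rfl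
theorem xf_3 (t : K) (v : V K) : xf 3 t v =
    ![v 0, v 1, v 2 - t * v 0, v 3 - t * v 1, v 4, v 5 - t ^ 2 * v 1 - t * v 3, v 6 + t * v 4] := rfl
theorem xf_4 (t : K) (v : V K) : xf 4 t v =
    ![v 0, v 1 + t * v 0, v 2, v 3 - t * v 2, v 4 - t ^ 2 * v 2 - t * v 3, v 5, v 6 - t * v 5] := rfl
theorem xf_5 (t : K) (v : V K) : xf 5 t v =
    ![v 0, v 1, v 2 + t * v 1, v 3, v 4, v 5 - t * v 4, v 6] := rfl
theorem xf_6 (t : K) (v : V K) : xf 6 t v =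
    ![v 0, v 1 + t * v 2, v 2, v 3, v 4 - t * v 5, v 5, v 6] := rfl
theorem xf_7 (t : K) (v : V K) : xf 7 t v =
    ![v 0 + t * v 1, v 1, v 2 + t * v 3 - t ^ 2 * v 4, v 3 + t * v 4, v 4, v 5 - t * v 6, v 6] := rfl
theorem xf_8 (t : K) (v : V K) : xf 8 t v =
    ![v 0 - t * v 2, v 1 + t * v 3 - t ^ 2 * v 5, v 2, v 3 + t * v 5, v 4 + t * v 6, v 5, v 6] := rfl
theorem xf_9 (t : K) (v : V K) : xf 9 t v =
    ![v 0 - t * v 3 - t ^ 2 * v 6, v 1 - t * v 4, v 2 + t * v 5, v 3 - t * v 6, v 4, v 5, v 6] := rfl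
theorem xf_10 (t : K) (v : V K) : xf 10 t v =
    ![v 0 - t * v 4, v 1, v 2 + t * v 6, v 3, v 4, v 5, v 6] := rfl
theorem xf_11 (t : K) (v : V K) : xf 11 t v =
    ![v 0 - t * v 5, v 1 + t * v 6, v 2, v 3, v 4, v 5, v 6] := rfl
theorem xf_ge (r : ℕ) (t : K) (v : V K) : xf (r + 12) t v = v := rfl

theorem yf_0 (t : K) (v : V K) : yf 0 t v =
    ![v 0, v 1, v 2, v 3 + t * v 0, v 4 - t * v 1, v 5 + t * v 2, v 6 - t ^ 2 * v 0 + t * v 3] := rfl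
theorem yf_1 (t : K) (v : V K) : yf 1 t v =
    ![v 0, v 1, v 2 - t * v 0, v 3 - t * v 1, v 4, v 5 - t ^ 2 * v 1 - t * v 3, v 6 + t * v 4] := rfl
theorem yf_2 (t : K) (v : V K) : yf 2 t v =
    ![v 0, v 1, v 2, v 3, v 4, v 5 - t ^ 3 * v 0, v 6 + t ^ 3 * v 1] := rfl
theorem yf_3 (t : K) (v : V K) : yf 3 t v =
    ![v 0, v 1, v 2, v 3, v 4 - t ^ 3 * v 0, v 5, v 6 + t ^ 3 * v 2] := rfl
theorem yf_4 (t : K) (v : V K) : yf 4 t v =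
    ![v 0, v 1, v 2 + t ^ 3 * v 1, v 3, v 4, v 5 - t ^ 3 * v 4, v 6] := rfl
theorem yf_5 (t : K) (v : V K) : yf 5 t v =
    ![v 0, v 1 + t * v 0, v 2, v 3 - t * v 2, v 4 - t ^ 2 * v 2 - t * v 3, v 5, v 6 - t * v 5] := rfl
theorem yf_6 (t : K) (v : V K) : yf 6 t v =
    ![v 0 + t * v 1, v 1, v 2 + t * v 3 - t ^ 2 * v 4, v 3 + t * v 4, v 4, v 5 - t * v 6, v 6] := rfl
theorem yf_7 (t : K) (v : V K) : yf 7 t v =
    ![v 0, v 1 + t ^ 3 * v 2, v 2, v 3, v 4 - t ^ 3 * v 5, v 5, v 6] := rfl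
theorem yf_8 (t : K) (v : V K) : yf 8 t v =
    ![v 0 - t ^ 3 * v 4, v 1, v 2 + t ^ 3 * v 6, v 3, v 4, v 5, v 6] := rfl
theorem yf_9 (t : K) (v : V K) : yf 9 t v =
    ![v 0 - t ^ 3 * v 5, v 1 + t ^ 3 * v 6, v 2, v 3, v 4, v 5, v 6] := rfl
theorem yf_10 (t : K) (v : V K) : yf 10 t v =
    ![v 0 - t * v 2, v 1 + t * v 3 - t ^ 2 * v 5, v 2, v 3 + t * v 5, v 4 + t * v 6, v 5, v 6] := rfl
theorem yf_11 (t : K) (v : V K) : yf 11 t v =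
    ![v 0 - t * v 3 - t ^ 2 * v 6, v 1 - t * v 4, v 2 + t * v 5, v 3 - t * v 6, v 4, v 5, v 6] := rfl
theorem yf_ge (r : ℕ) (t : K) (v : V K) : yf (r + 12) t v = v := rfl

theorem cf_0 (t : K) (v : V K) : cf 0 t v =
    ![0, 0, 0, -(t * v 0), 0, 0, 0] := rfl
theorem cf_1 (t : K) (v : V K) : cf 1 t v =
    ![0, 0, 0, -(t * v 1), 0, 0, 0] := rfl
theorem cf_2 (t : K) (v : V K) : cf 2 t v =
    ![0, -(t * v 0), -(t * v 1), 0, -(t ^ 2 * v 0), t ^ 2 * v 1, 0] := rfl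
theorem cf_3 (t : K) (v : V K) : cf 3 t v =
    ![t * v 0, 0, t ^ 2 * v 0, 0, t * v 2, t * v 3, -(t ^ 2 * v 2)] := rfl
theorem cf_4 (t : K) (v : V K) : cf 4 t v =
    ![t * v 1, -(t ^ 2 * v 1), 0, 0, -(t * v 3), t * v 4, t ^ 2 * v 4] := rfl
theorem cf_5 (t : K) (v : V K) : cf 5 t v =
    ![0, 0, 0, 0, 0, 0, 0] := rfl
theorem cf_6 (t : K) (v : V K) : cf 6 t v =
    ![0, 0, 0, 0, 0, 0, 0] := rfl
theorem cf_7 (t : K) (v : V K) : cf 7 t v =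
    ![t ^ 2 * v 2, -(t * v 2), t * v 3, 0, 0, -(t ^ 2 * v 5), -(t * v 5)] := rfl
theorem cf_8 (t : K) (v : V K) : cf 8 t v =
    ![-(t ^ 2 * v 4), -(t * v 3), -(t * v 4), 0, t ^ 2 * v 6, 0, -(t * v 6)] := rfl
theorem cf_9 (t : K) (v : V K) : cf 9 t v =
    ![0, t ^ 2 * v 5, -(t ^ 2 * v 6), 0, t * v 5, t * v 6, 0] := rfl
theorem cf_10 (t : K) (v : V K) : cf 10 t v =
    ![0, 0, 0, t * v 5, 0, 0, 0] := rfl
theorem cf_11 (t : K) (v : V K) : cf 11 t v =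
    ![0, 0, 0, t * v 6, 0, 0, 0] := rfl
theorem cf_ge (r : ℕ) (t : K) (v : V K) : cf (r + 12) t v = 0 := rfl

theorem ρ_def (y z v : V K) : ρ y z v =
  ![y 3 * v 0 + y 2 * v 1 - y 1 * v 2 - y 0 * v 3 - z 1 * v 4 - z 0 * v 5,
    y 4 * v 0 + (z 3 - y 3) * v 1 + z 2 * v 2 + y 1 * v 3 - y 0 * v 4 + z 0 * v 6,
    -(y 5 * v 0) + z 4 * v 1 - (y 3 + z 3) * v 2 + y 2 * v 3 + y 0 * v 5 + z 1 * v 6,
    y 6 * v 0 - y 5 * v 1 - y 4 * v 2 + y 2 * v 4 + y 1 * v 5 - y 0 * v 6,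
    -(z 5 * v 0) - y 6 * v 1 - y 4 * v 3 + (y 3 + z 3) * v 4 - z 2 * v 5 + y 1 * v 6,
    -(z 6 * v 0) + y 6 * v 2 - y 5 * v 3 - z 4 * v 4 + (y 3 - z 3) * v 5 - y 2 * v 6,
    z 6 * v 1 + z 5 * v 2 + y 6 * v 3 + y 5 * v 4 - y 4 * v 5 - y 3 * v 6] := rfl

theorem J_def (v w : V K) : J v w =
  v 0 * w 6 + v 1 * w 5 + v 2 * w 4 - v 3 * w 3 + v 4 * w 2 + v 5 * w 1 + v 6 * w 0 := rfl

theorem cov_0 (h3 : (3 : K) = 0) (t : K) (y z v : V K) :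
    ρ (xf 0 t y + cf 0 t z) (yf 0 t z) (xf 0 t v) = xf 0 t (ρ y z v) := by
  refine vext ?_ ?_ ?_ ?_ ?_ ?_ ?_ <;>
    simp only [ρ_def, xf_0, yf_0, cf_0, Pi.add_apply, Matrix.cons_val] <;> grind

theorem form_0 (h3 : (3 : K) = 0) (t : K) (v w : V K) :
    J (xf 0 t v) (xf 0 t w) = J v w := by
  simp only [J_def, xf_0, Matrix.cons_val]
  grind

theorem cov_1 (h3 : (3 : K) = 0) (t : K) (y z v : V K) :
    ρ (xf 1 t y + cf 1 t z) (yf 1 t z) (xf 1 t v) = xf 1 t (ρ y z v) := by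
  refine vext ?_ ?_ ?_ ?_ ?_ ?_ ?_ <;>
    simp only [ρ_def, xf_1, yf_1, cf_1, Pi.add_apply, Matrix.cons_val] <;> grind

theorem form_1 (h3 : (3 : K) = 0) (t : K) (v w : V K) :
    J (xf 1 t v) (xf 1 t w) = J v w := by
  simp only [J_def, xf_1, Matrix.cons_val]
  grind

theorem cov_2 (h3 : (3 : K) = 0) (t : K) (y z v : V K) :
    ρ (xf 2 t y + cf 2 t z) (yf 2 t z) (xf 2 t v) = xf 2 t (ρ y z v) := by
  refine vext ?_ ?_ ?_ ?_ ?_ ?_ ?_ <;>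
    simp only [ρ_def, xf_2, yf_2, cf_2, Pi.add_apply, Matrix.cons_val] <;> grind

theorem form_2 (h3 : (3 : K) = 0) (t : K) (v w : V K) :
    J (xf 2 t v) (xf 2 t w) = J v w := by
  simp only [J_def, xf_2, Matrix.cons_val]
  grind

theorem cov_3 (h3 : (3 : K) = 0) (t : K) (y z v : V K) :
    ρ (xf 3 t y + cf 3 t z) (yf 3 t z) (xf 3 t v) = xf 3 t (ρ y z v) := by
  refine vext ?_ ?_ ?_ ?_ ?_ ?_ ?_ <;>
    simp only [ρ_def, xf_3, yf_3, cf_3, Pi.add_apply, Matrix.cons_val] <;> grind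

theorem form_3 (h3 : (3 : K) = 0) (t : K) (v w : V K) :
    J (xf 3 t v) (xf 3 t w) = J v w := by
  simp only [J_def, xf_3, Matrix.cons_val]
  grind

theorem cov_4 (h3 : (3 : K) = 0) (t : K) (y z v : V K) :
    ρ (xf 4 t y + cf 4 t z) (yf 4 t z) (xf 4 t v) = xf 4 t (ρ y z v) := by
  refine vext ?_ ?_ ?_ ?_ ?_ ?_ ?_ <;>
    simp only [ρ_def, xf_4, yf_4, cf_4, Pi.add_apply, Matrix.cons_val] <;> grind

theorem form_4 (h3 : (3 : K) = 0) (t : K) (v w : V K) :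
    J (xf 4 t v) (xf 4 t w) = J v w := by
  simp only [J_def, xf_4, Matrix.cons_val]
  grind

theorem cov_5 (h3 : (3 : K) = 0) (t : K) (y z v : V K) :
    ρ (xf 5 t y + cf 5 t z) (yf 5 t z) (xf 5 t v) = xf 5 t (ρ y z v) := by
  refine vext ?_ ?_ ?_ ?_ ?_ ?_ ?_ <;>
    simp only [ρ_def, xf_5, yf_5, cf_5, Pi.add_apply, Matrix.cons_val] <;> grind

theorem form_5 (h3 : (3 : K) = 0) (t : K) (v w : V K) :
    J (xf 5 t v) (xf 5 t w) = J v w := by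
  simp only [J_def, xf_5, Matrix.cons_val]
  grind

theorem cov_6 (h3 : (3 : K) = 0) (t : K) (y z v : V K) :
    ρ (xf 6 t y + cf 6 t z) (yf 6 t z) (xf 6 t v) = xf 6 t (ρ y z v) := by
  refine vext ?_ ?_ ?_ ?_ ?_ ?_ ?_ <;>
    simp only [ρ_def, xf_6, yf_6, cf_6, Pi.add_apply, Matrix.cons_val] <;> grind

theorem form_6 (h3 : (3 : K) = 0) (t : K) (v w : V K) :
    J (xf 6 t v) (xf 6 t w) = J v w := by
  simp only [J_def, xf_6, Matrix.cons_val]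
  grind

theorem cov_7 (h3 : (3 : K) = 0) (t : K) (y z v : V K) :
    ρ (xf 7 t y + cf 7 t z) (yf 7 t z) (xf 7 t v) = xf 7 t (ρ y z v) := by
  refine vext ?_ ?_ ?_ ?_ ?_ ?_ ?_ <;>
    simp only [ρ_def, xf_7, yf_7, cf_7, Pi.add_apply, Matrix.cons_val] <;> grind

theorem form_7 (h3 : (3 : K) = 0) (t : K) (v w : V K) :
    J (xf 7 t v) (xf 7 t w) = J v w := by
  simp only [J_def, xf_7, Matrix.cons_val]
  grind

theorem cov_8 (h3 : (3 : K) = 0) (t : K) (y z v : V K) :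
    ρ (xf 8 t y + cf 8 t z) (yf 8 t z) (xf 8 t v) = xf 8 t (ρ y z v) := by
  refine vext ?_ ?_ ?_ ?_ ?_ ?_ ?_ <;>
    simp only [ρ_def, xf_8, yf_8, cf_8, Pi.add_apply, Matrix.cons_val] <;> grind

theorem form_8 (h3 : (3 : K) = 0) (t : K) (v w : V K) :
    J (xf 8 t v) (xf 8 t w) = J v w := by
  simp only [J_def, xf_8, Matrix.cons_val]
  grind

theorem cov_9 (h3 : (3 : K) = 0) (t : K) (y z v : V K) :
    ρ (xf 9 t y + cf 9 t z) (yf 9 t z) (xf 9 t v) = xf 9 t (ρ y z v) := by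
  refine vext ?_ ?_ ?_ ?_ ?_ ?_ ?_ <;>
    simp only [ρ_def, xf_9, yf_9, cf_9, Pi.add_apply, Matrix.cons_val] <;> grind

theorem form_9 (h3 : (3 : K) = 0) (t : K) (v w : V K) :
    J (xf 9 t v) (xf 9 t w) = J v w := by
  simp only [J_def, xf_9, Matrix.cons_val]
  grind

theorem cov_10 (h3 : (3 : K) = 0) (t : K) (y z v : V K) :
    ρ (xf 10 t y + cf 10 t z) (yf 10 t z) (xf 10 t v) = xf 10 t (ρ y z v) := by
  refine vext ?_ ?_ ?_ ?_ ?_ ?_ ?_ <;>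
    simp only [ρ_def, xf_10, yf_10, cf_10, Pi.add_apply, Matrix.cons_val] <;> grind

theorem form_10 (h3 : (3 : K) = 0) (t : K) (v w : V K) :
    J (xf 10 t v) (xf 10 t w) = J v w := by
  simp only [J_def, xf_10, Matrix.cons_val]
  grind

theorem cov_11 (h3 : (3 : K) = 0) (t : K) (y z v : V K) :
    ρ (xf 11 t y + cf 11 t z) (yf 11 t z) (xf 11 t v) = xf 11 t (ρ y z v) := by
  refine vext ?_ ?_ ?_ ?_ ?_ ?_ ?_ <;>
    simp only [ρ_def, xf_11, yf_11, cf_11, Pi.add_apply, Matrix.cons_val] <;> grind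

theorem form_11 (h3 : (3 : K) = 0) (t : K) (v w : V K) :
    J (xf 11 t v) (xf 11 t w) = J v w := by
  simp only [J_def, xf_11, Matrix.cons_val]
  grind

theorem cov (h3 : (3 : K) = 0) (r : ℕ) (t : K) (y z v : V K) :
    ρ (xf r t y + cf r t z) (yf r t z) (xf r t v) = xf r t (ρ y z v) :=
  match r with
  | 0 => cov_0 h3 t y z v
  | 1 => cov_1 h3 t y z v
  | 2 => cov_2 h3 t y z v
  | 3 => cov_3 h3 t y z v
  | 4 => cov_4 h3 t y z v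
  | 5 => cov_5 h3 t y z v
  | 6 => cov_6 h3 t y z v
  | 7 => cov_7 h3 t y z v
  | 8 => cov_8 h3 t y z v
  | 9 => cov_9 h3 t y z v
  | 10 => cov_10 h3 t y z v
  | 11 => cov_11 h3 t y z v
  | r + 12 => by simp only [xf_ge, yf_ge, cf_ge, add_zero]

theorem form (h3 : (3 : K) = 0) (r : ℕ) (t : K) (v w : V K) :
    J (xf r t v) (xf r t w) = J v w :=
  match r with
  | 0 => form_0 h3 t v w
  | 1 => form_1 h3 t v w
  | 2 => form_2 h3 t v w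
  | 3 => form_3 h3 t v w
  | 4 => form_4 h3 t v w
  | 5 => form_5 h3 t v w
  | 6 => form_6 h3 t v w
  | 7 => form_7 h3 t v w
  | 8 => form_8 h3 t v w
  | 9 => form_9 h3 t v w
  | 10 => form_10 h3 t v w
  | 11 => form_11 h3 t v w
  | r + 12 => by simp only [xf_ge]

theorem yf_zero (r : ℕ) (t : K) : yf r t (0 : V K) = 0 :=
  match r with
  | 0 => by refine vext ?_ ?_ ?_ ?_ ?_ ?_ ?_ <;> simp [yf_0]
  | 1 => by refine vext ?_ ?_ ?_ ?_ ?_ ?_ ?_ <;> simp [yf_1]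
  | 2 => by refine vext ?_ ?_ ?_ ?_ ?_ ?_ ?_ <;> simp [yf_2]
  | 3 => by refine vext ?_ ?_ ?_ ?_ ?_ ?_ ?_ <;> simp [yf_3]
  | 4 => by refine vext ?_ ?_ ?_ ?_ ?_ ?_ ?_ <;> simp [yf_4]
  | 5 => by refine vext ?_ ?_ ?_ ?_ ?_ ?_ ?_ <;> simp [yf_5]
  | 6 => by refine vext ?_ ?_ ?_ ?_ ?_ ?_ ?_ <;> simp [yf_6]
  | 7 => by refine vext ?_ ?_ ?_ ?_ ?_ ?_ ?_ <;> simp [yf_7]
  | 8 => by refine vext ?_ ?_ ?_ ?_ ?_ ?_ ?_ <;> simp [yf_8]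
  | 9 => by refine vext ?_ ?_ ?_ ?_ ?_ ?_ ?_ <;> simp [yf_9]
  | 10 => by refine vext ?_ ?_ ?_ ?_ ?_ ?_ ?_ <;> simp [yf_10]
  | 11 => by refine vext ?_ ?_ ?_ ?_ ?_ ?_ ?_ <;> simp [yf_11]
  | r + 12 => by simp only [yf_ge]

theorem cf_zero (r : ℕ) (t : K) : cf r t (0 : V K) = 0 :=
  match r with
  | 0 => by refine vext ?_ ?_ ?_ ?_ ?_ ?_ ?_ <;> simp [cf_0]
  | 1 => by refine vext ?_ ?_ ?_ ?_ ?_ ?_ ?_ <;> simp [cf_1]
  | 2 => by refine vext ?_ ?_ ?_ ?_ ?_ ?_ ?_ <;> simp [cf_2]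
  | 3 => by refine vext ?_ ?_ ?_ ?_ ?_ ?_ ?_ <;> simp [cf_3]
  | 4 => by refine vext ?_ ?_ ?_ ?_ ?_ ?_ ?_ <;> simp [cf_4]
  | 5 => by refine vext ?_ ?_ ?_ ?_ ?_ ?_ ?_ <;> simp [cf_5]
  | 6 => by refine vext ?_ ?_ ?_ ?_ ?_ ?_ ?_ <;> simp [cf_6]
  | 7 => by refine vext ?_ ?_ ?_ ?_ ?_ ?_ ?_ <;> simp [cf_7]
  | 8 => by refine vext ?_ ?_ ?_ ?_ ?_ ?_ ?_ <;> simp [cf_8]
  | 9 => by refine vext ?_ ?_ ?_ ?_ ?_ ?_ ?_ <;> simp [cf_9]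
  | 10 => by refine vext ?_ ?_ ?_ ?_ ?_ ?_ ?_ <;> simp [cf_10]
  | 11 => by refine vext ?_ ?_ ?_ ?_ ?_ ?_ ?_ <;> simp [cf_11]
  | r + 12 => by simp only [cf_ge]

theorem cross (h3 : (3 : K) = 0) (r : ℕ) (t : K) (y v : V K) :
    ρ (xf r t y) 0 (xf r t v) = xf r t (ρ y 0 v) := by
  have := cov h3 r t y 0 v
  rwa [cf_zero, yf_zero, add_zero] at this

theorem ρ_add (y y' z z' v : V K) : ρ (y + y') (z + z') v = ρ y z v + ρ y' z' v := by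
  refine vext ?_ ?_ ?_ ?_ ?_ ?_ ?_ <;>
    simp only [ρ_def, Pi.add_apply, Matrix.cons_val] <;> ring

theorem ρ_smul (c : K) (y z v : V K) : ρ (c • y) (c • z) v = c • ρ y z v := by
  refine vext ?_ ?_ ?_ ?_ ?_ ?_ ?_ <;>
    simp only [ρ_def, Pi.smul_apply, smul_eq_mul, Matrix.cons_val] <;> ring

theorem ρ_smul_right (c : K) (y z v : V K) : ρ y z (c • v) = c • ρ y z v := by
  refine vext ?_ ?_ ?_ ?_ ?_ ?_ ?_ <;>
    simp only [ρ_def, Pi.smul_apply, smul_eq_mul, Matrix.cons_val] <;> ring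

/-- The representation `ρ` is faithful. -/
theorem ρ_inj (h3 : (3 : K) = 0) {y y' z z' : V K} (h : ∀ v, ρ y z v = ρ y' z' v) :
    y = y' ∧ z = z' := by
  have a0 := h ![1, 0, 0, 0, 0, 0, 0]
  have a1 := h ![0, 1, 0, 0, 0, 0, 0]
  have a6 := h ![0, 0, 0, 0, 0, 0, 1]
  have a2 := congrFun (h ![0, 0, 1, 0, 0, 0, 0]) 1
  have b0 := congrFun a0 0
  have b1 := congrFun a0 1
  have b2 := congrFun a0 2
  have b3 := congrFun a0 3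
  have b4 := congrFun a0 4
  have b5 := congrFun a0 5
  have c1 := congrFun a1 1
  have c2 := congrFun a1 2
  have d1 := congrFun a6 1
  have d2 := congrFun a6 2
  have d3 := congrFun a6 3
  have d4 := congrFun a6 4
  have d5 := congrFun a6 5
  simp only [ρ_def, Matrix.cons_val] at a2 b0 b1 b2 b3 b4 b5 c1 c2 d1 d2 d3 d4 d5
  refine ⟨vext ?_ ?_ ?_ ?_ ?_ ?_ ?_, vext ?_ ?_ ?_ ?_ ?_ ?_ ?_⟩ <;> grind

end Ree
end H8
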