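import Mathlib
import Cfsg.Agent.H8.ReeG2

/-!
The small Ree group as a group of linear automorphisms of the seven-dimensional module: explicit
elements `u a b c`, `h k`, `n`, the Ree–Tits ovoid and the point stabilisers.
-/

set_option autoImplicit false

namespace H8
namespace Ree

/-- A Tits endomorphism of a field of characteristic three. -/
structure Ctx (K : Type*) [Field K] where
  σ : K →+* K
  cube : ∀ x, σ (σ x) = x ^ 3
  three : (3 : K) = 0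

variable {K : Type*} [Field K]

namespace Ctx

variable (T : Ctx K)

theorem σ_eq_zero {x : K} : T.σ x = 0 ↔ x = 0 := map_eq_zero T.σ

theorem σ_inj {x y : K} : T.σ x = T.σ y ↔ x = y := T.σ.injective.eq_iff

/-- Coordinatewise application of `σ`. -/
def sv (v : V K) : V K := fun i => T.σ (v i)

theorem sv_apply (v : V K) (i : Fin 7) : T.sv v i = T.σ (v i) := rfl

theorem sv_smul (c : K) (v : V K) : T.sv (c • v) = T.σ c • T.sv v := by
  funext i
  simp [sv]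

/-- The small Ree group. -/
def R : Subgroup (V K ≃ₗ[K] V K) where
  carrier := {g | (∀ v w, J (g v) (g w) = J v w) ∧ (∀ y v, ρ (g y) 0 (g v) = g (ρ y 0 v)) ∧
    ∀ y z, ∃ y', ∀ v, ρ y' (T.sv (g z)) (g v) = g (ρ y (T.sv z) v)}
  one_mem' := ⟨fun _ _ => rfl, fun _ _ => rfl, fun y _ => ⟨y, fun _ => rfl⟩⟩
  mul_mem' := by
    rintro g g' ⟨h1, h2, h3⟩ ⟨k1, k2, k3⟩
    refine ⟨fun v w => (h1 _ _).trans (k1 v w), fun y v => (h2 _ _).trans (congrArg g (k2 y v)),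
      fun y z => ?_⟩
    obtain ⟨y', hy'⟩ := k3 y z
    obtain ⟨y'', hy''⟩ := h3 y' (g' z)
    exact ⟨y'', fun v => (hy'' _).trans (congrArg g (hy' v))⟩
  inv_mem' := by
    rintro g ⟨h1, h2, h3⟩
    refine ⟨fun v w => ?_, fun y v => ?_, fun y z => ?_⟩
    · have := h1 (g.symm v) (g.symm w)
      simp only [LinearEquiv.apply_symm_apply] at this
      exact this.symm
    · have := h2 (g.symm y) (g.symm v)
      simp only [LinearEquiv.apply_symm_apply] at this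
      exact (g.symm_apply_eq.mpr this).symm
    · obtain ⟨y1, hy1⟩ := h3 0 (g.symm z)
      refine ⟨g.symm (y - y1), fun v => ?_⟩
      have e1 := hy1 (g.symm v)
      have e2 := h2 (g.symm (y - y1)) (g.symm v)
      simp only [LinearEquiv.apply_symm_apply] at e1 e2
      refine (g.symm_apply_eq.mpr ?_).symm
      have e3 := ρ_add (g.symm (y - y1)) 0 0 (T.sv (g.symm z)) (g.symm v)
      have e4 := ρ_add (y - y1) y1 0 (T.sv z) v
      rw [add_zero, zero_add] at e3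
      rw [sub_add_cancel, zero_add] at e4
      change _ = g (ρ (g.symm (y - y1)) (T.sv (g.symm z)) (g.symm v))
      rw [e3, map_add, ← e1, ← e2, e4]

theorem form_inv (g : T.R) (v w : V K) : J (g.1 v) (g.1 w) = J v w := g.2.1 v w

theorem cross_inv (g : T.R) (y v : V K) : ρ (g.1 y) 0 (g.1 v) = g.1 (ρ y 0 v) := g.2.2.1 y v

theorem star_inv (g : T.R) (y z : V K) :
    ∃ y', ∀ v, ρ y' (T.sv (g.1 z)) (g.1 v) = g.1 (ρ y (T.sv z) v) := g.2.2.2 y z

/-- The unipotent elements as functions. -/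
def uf (a b c : K) (v : V K) : V K :=
  ![v 0 + a * v 1 - b * v 2 + (-c + a * b) * v 3 + (-(T.σ b) - a * c - T.σ a * a ^ 3) * v 4 + (-(T.σ c) - b * c - a * b ^ 2 - T.σ a ^ 2 * a ^ 3) * v 5 + (-(T.σ b * b) + T.σ c * a - c ^ 2 - a * b * c - T.σ a * a ^ 3 * b + T.σ a ^ 2 * a ^ 4) * v 6,
    v 1 + T.σ a * v 2 + (b + T.σ a * a) * v 3 + (-c - T.σ a * a ^ 2) * v 4 + (T.σ a * c - b ^ 2 + T.σ a * a * b) * v 5 + (T.σ c + T.σ a * T.σ b - b * c - T.σ a * a * c - T.σ a * a ^ 2 * b - T.σ a ^ 2 * a ^ 3) * v 6,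
    v 2 + a * v 3 - a ^ 2 * v 4 + (c + a * b) * v 5 + (T.σ b - a * c - a ^ 2 * b + T.σ a * a ^ 3) * v 6,
    v 3 + a * v 4 + b * v 5 + (-c + a * b) * v 6,
    v 4 - T.σ a * v 5 + (b + T.σ a * a) * v 6,
    v 5 - a * v 6,
    v 6]

theorem uf_def (a b c : K) (v : V K) : T.uf a b c v =
  ![v 0 + a * v 1 - b * v 2 + (-c + a * b) * v 3 + (-(T.σ b) - a * c - T.σ a * a ^ 3) * v 4 + (-(T.σ c) - b * c - a * b ^ 2 - T.σ a ^ 2 * a ^ 3) * v 5 + (-(T.σ b * b) + T.σ c * a - c ^ 2 - a * b * c - T.σ a * a ^ 3 * b + T.σ a ^ 2 * a ^ 4) * v 6,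
    v 1 + T.σ a * v 2 + (b + T.σ a * a) * v 3 + (-c - T.σ a * a ^ 2) * v 4 + (T.σ a * c - b ^ 2 + T.σ a * a * b) * v 5 + (T.σ c + T.σ a * T.σ b - b * c - T.σ a * a * c - T.σ a * a ^ 2 * b - T.σ a ^ 2 * a ^ 3) * v 6,
    v 2 + a * v 3 - a ^ 2 * v 4 + (c + a * b) * v 5 + (T.σ b - a * c - a ^ 2 * b + T.σ a * a ^ 3) * v 6,
    v 3 + a * v 4 + b * v 5 + (-c + a * b) * v 6,
    v 4 - T.σ a * v 5 + (b + T.σ a * a) * v 6,
    v 5 - a * v 6,
    v 6] := rfl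

theorem uf_add (a b c : K) (v w : V K) : T.uf a b c (v + w) = T.uf a b c v + T.uf a b c w := by
  refine vext ?_ ?_ ?_ ?_ ?_ ?_ ?_ <;>
    simp only [uf_def, Pi.add_apply, Matrix.cons_val] <;> ring

theorem uf_smul (a b c s : K) (v : V K) : T.uf a b c (s • v) = s • T.uf a b c v := by
  refine vext ?_ ?_ ?_ ?_ ?_ ?_ ?_ <;>
    simp only [uf_def, Pi.smul_apply, smul_eq_mul, Matrix.cons_val] <;> ring

theorem uf_uf (a b c d e f : K) (v : V K) : T.uf a b c (T.uf d e f v) =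
    T.uf (a + d) (b + e - T.σ d * a) (c + f - b * d - T.σ d * a ^ 2 + T.σ d * a * d) v := by
  have h3 := T.three
  refine vext ?_ ?_ ?_ ?_ ?_ ?_ ?_ <;>
    simp only [uf_def, Matrix.cons_val, map_add, map_sub, map_mul, map_pow, T.cube] <;> grind

theorem uf_zero (v : V K) : T.uf 0 0 0 v = v := by
  refine vext ?_ ?_ ?_ ?_ ?_ ?_ ?_ <;> simp [uf_def]

theorem uf_eq_xf (a b c : K) (v : V K) : T.uf a b c v =
    xf 7 a (xf 6 (T.σ a) (xf 8 (a * T.σ a + b) (xf 9 (a ^ 2 * T.σ a + c) (xf 10 (T.σ b)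
      (xf 11 (T.σ c) v))))) := by
  have h3 := T.three
  refine vext ?_ ?_ ?_ ?_ ?_ ?_ ?_ <;>
    simp only [uf_def, xf_6, xf_7, xf_8, xf_9, xf_10, xf_11, Matrix.cons_val] <;> grind

theorem sv_uf (a b c : K) (v : V K) : T.sv (T.uf a b c v) =
    yf 7 a (yf 6 (T.σ a) (yf 8 (a * T.σ a + b) (yf 9 (a ^ 2 * T.σ a + c) (yf 10 (T.σ b)
      (yf 11 (T.σ c) (T.sv v)))))) := by
  have h3 := T.three
  refine vext ?_ ?_ ?_ ?_ ?_ ?_ ?_ <;>
    simp only [sv_apply, uf_def, yf_6, yf_7, yf_8, yf_9, yf_10, yf_11, Matrix.cons_val, map_add,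
      map_sub, map_mul, map_pow, map_neg, T.cube] <;> grind

/-- The unipotent elements as linear equivalences. -/
def uE (a b c : K) : V K ≃ₗ[K] V K where
  toFun := T.uf a b c
  map_add' := T.uf_add a b c
  map_smul' := T.uf_smul a b c
  invFun := T.uf (-a) (-b - T.σ a * a) (-c - a * b + T.σ a * a ^ 2)
  left_inv v := by
    have h3 := T.three
    rw [uf_uf]
    convert T.uf_zero v using 2 <;> grind
  right_inv v := by
    have h3 := T.three
    rw [uf_uf, map_neg]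
    convert T.uf_zero v using 2 <;> grind

theorem uE_mem (a b c : K) : T.uE a b c ∈ T.R := by
  have h3 := T.three
  refine ⟨fun v w => ?_, fun y v => ?_, fun y z => ?_⟩
  · change J (T.uf a b c v) (T.uf a b c w) = J v w
    simp only [uf_eq_xf, form h3]
  · change ρ (T.uf a b c y) 0 (T.uf a b c v) = T.uf a b c (ρ y 0 v)
    simp only [uf_eq_xf, cross h3]
  · change ∃ y', ∀ v, ρ y' (T.sv (T.uf a b c z)) (T.uf a b c v) = T.uf a b c (ρ y (T.sv z) v)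
    simp only [sv_uf]
    simp only [uf_eq_xf]
    exact ⟨_, fun v => by rw [← cov h3, ← cov h3, ← cov h3, ← cov h3, ← cov h3, ← cov h3]⟩

/-- The diagonal elements as functions. -/
def hf (k : Kˣ) (v : V K) : V K :=
  ![k ^ 2 * T.σ k * v 0, k * T.σ k * v 1, k * v 2, v 3, (k : K)⁻¹ * v 4,
    (k * T.σ k)⁻¹ * v 5, (k ^ 2 * T.σ k)⁻¹ * v 6]

theorem hf_def (k : Kˣ) (v : V K) : T.hf k v =
  ![k ^ 2 * T.σ k * v 0, k * T.σ k * v 1, k * v 2, v 3, (k : K)⁻¹ * v 4,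
    (k * T.σ k)⁻¹ * v 5, (k ^ 2 * T.σ k)⁻¹ * v 6] := rfl

theorem σ_unit_ne (k : Kˣ) : T.σ k ≠ 0 := by simp

theorem hf_hf (k l : Kˣ) (v : V K) : T.hf k (T.hf l v) = T.hf (k * l) v := by
  refine vext ?_ ?_ ?_ ?_ ?_ ?_ ?_ <;>
    simp only [hf_def, Matrix.cons_val, Units.val_mul, map_mul] <;> ring

theorem hf_one (v : V K) : T.hf 1 v = v := by
  refine vext ?_ ?_ ?_ ?_ ?_ ?_ ?_ <;> simp [hf_def]

/-- The diagonal elements as linear equivalences. -/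
def hE (k : Kˣ) : V K ≃ₗ[K] V K where
  toFun := T.hf k
  map_add' v w := by
    refine vext ?_ ?_ ?_ ?_ ?_ ?_ ?_ <;>
      simp only [hf_def, Pi.add_apply, Matrix.cons_val] <;> ring
  map_smul' s v := by
    refine vext ?_ ?_ ?_ ?_ ?_ ?_ ?_ <;>
      simp only [hf_def, Pi.smul_apply, smul_eq_mul, Matrix.cons_val, RingHom.id_apply] <;> ring
  invFun := T.hf k⁻¹
  left_inv v := by rw [hf_hf, inv_mul_cancel, hf_one]
  right_inv v := by rw [hf_hf, mul_inv_cancel, hf_one]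

theorem hE_mem (k : Kˣ) : T.hE k ∈ T.R := by
  have h1 := T.σ_unit_ne k
  have h2 := k.ne_zero
  have key : ∀ y z v, ρ (T.hf k y) (T.sv (T.hf k z)) (T.hf k v) = T.hf k (ρ y (T.sv z) v) := by
    intro y z v
    refine vext ?_ ?_ ?_ ?_ ?_ ?_ ?_ <;>
      simp only [ρ_def, hf_def, sv_apply, Matrix.cons_val, map_mul, map_pow, map_inv₀, T.cube] <;>
      field_simp
  refine ⟨fun v w => ?_, fun y v => ?_, fun y z => ⟨T.hf k y, key y z⟩⟩
  · change J (T.hf k v) (T.hf k w) = J v w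
    simp only [J_def, hf_def, Matrix.cons_val]
    field_simp
  · change ρ (T.hf k y) 0 (T.hf k v) = T.hf k (ρ y 0 v)
    have e1 : T.sv (0 : V K) = 0 := by funext i; simp [sv_apply]
    have e2 : T.hf k (0 : V K) = 0 := map_zero (T.hE k)
    have := key y 0 v
    rwa [e2, e1] at this

end Ctx

/-- The Weyl element as a function. -/
def nf (v : V K) : V K := ![-v 6, -v 5, -v 4, -v 3, -v 2, -v 1, -v 0]

theorem nf_def (v : V K) : nf v = ![-v 6, -v 5, -v 4, -v 3, -v 2, -v 1, -v 0] := rfl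

theorem nf_nf (v : V K) : nf (nf v) = v := by
  refine vext ?_ ?_ ?_ ?_ ?_ ?_ ?_ <;> simp [nf_def]

/-- The Weyl element as a linear equivalence. -/
def nE (K : Type*) [Field K] : V K ≃ₗ[K] V K where
  toFun := nf
  map_add' v w := by
    refine vext ?_ ?_ ?_ ?_ ?_ ?_ ?_ <;>
      simp only [nf_def, Pi.add_apply, Matrix.cons_val] <;> ring
  map_smul' s v := by
    refine vext ?_ ?_ ?_ ?_ ?_ ?_ ?_ <;>
      simp only [nf_def, Pi.smul_apply, smul_eq_mul, Matrix.cons_val, RingHom.id_apply] <;> ring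
  invFun := nf
  left_inv := nf_nf
  right_inv := nf_nf

/-- The first basis vector. -/
def e0 : V K := ![1, 0, 0, 0, 0, 0, 0]

/-- The last basis vector. -/
def e6 : V K := ![0, 0, 0, 0, 0, 0, 1]

theorem e0_def : (e0 : V K) = ![1, 0, 0, 0, 0, 0, 0] := rfl

theorem e6_def : (e6 : V K) = ![0, 0, 0, 0, 0, 0, 1] := rfl

theorem e0_ne_zero : (e0 : V K) ≠ 0 := fun h => by simpa [e0_def] using congrFun h 0

theorem e6_ne_zero : (e6 : V K) ≠ 0 := fun h => by simpa [e6_def] using congrFun h 6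

theorem J_smul_left (c : K) (v w : V K) : J (c • v) w = c * J v w := by
  simp only [J_def, Pi.smul_apply, smul_eq_mul]
  ring

namespace Ctx

variable (T : Ctx K)

theorem nE_mem : nE K ∈ T.R := by
  have key : ∀ y z v, ρ (nf y) (T.sv (nf z)) (nf v) = nf (ρ y (T.sv z) v) := by
    intro y z v
    refine vext ?_ ?_ ?_ ?_ ?_ ?_ ?_ <;>
      simp only [ρ_def, nf_def, sv_apply, Matrix.cons_val, map_neg] <;> ring
  refine ⟨fun v w => ?_, fun y v => ?_, fun y z => ⟨nf y, key y z⟩⟩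
  · change J (nf v) (nf w) = J v w
    simp only [J_def, nf_def, Matrix.cons_val]
    ring
  · change ρ (nf y) 0 (nf v) = nf (ρ y 0 v)
    have e1 : T.sv (0 : V K) = 0 := by funext i; simp [sv_apply]
    have e2 : nf (0 : V K) = 0 := map_zero (nE K)
    have := key y 0 v
    rwa [e2, e1] at this

/-- The unipotent elements of the Ree group. -/
def u (a b c : K) : T.R := ⟨T.uE a b c, T.uE_mem a b c⟩

/-- The diagonal elements of the Ree group. -/
def h (k : Kˣ) : T.R := ⟨T.hE k, T.hE_mem k⟩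

/-- The Weyl element of the Ree group. -/
def n : T.R := ⟨nE K, T.nE_mem⟩

theorem u_apply (a b c : K) (v : V K) : (T.u a b c).1 v = T.uf a b c v := rfl

theorem h_apply (k : Kˣ) (v : V K) : (T.h k).1 v = T.hf k v := rfl

theorem n_apply (v : V K) : T.n.1 v = nf v := rfl

theorem mul_apply (g g' : T.R) (v : V K) : (g * g').1 v = g.1 (g'.1 v) := rfl

theorem one_apply (v : V K) : (1 : T.R).1 v = v := rfl

theorem ext_apply {g g' : T.R} (h : ∀ v, g.1 v = g'.1 v) : g = g' :=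
  Subtype.ext (LinearEquiv.ext h)

theorem u_mul (a b c d e f : K) : T.u a b c * T.u d e f =
    T.u (a + d) (b + e - T.σ d * a) (c + f - b * d - T.σ d * a ^ 2 + T.σ d * a * d) :=
  T.ext_apply (T.uf_uf a b c d e f)

theorem u_zero : T.u 0 0 0 = 1 := T.ext_apply T.uf_zero

theorem u_inv (a b c : K) :
    (T.u a b c)⁻¹ = T.u (-a) (-b - T.σ a * a) (-c - a * b + T.σ a * a ^ 2) :=
  T.ext_apply fun _ => rfl

theorem h_mul (k l : Kˣ) : T.h k * T.h l = T.h (k * l) := T.ext_apply (T.hf_hf k l)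

theorem h_one : T.h 1 = 1 := T.ext_apply T.hf_one

theorem h_inv (k : Kˣ) : (T.h k)⁻¹ = T.h k⁻¹ := T.ext_apply fun _ => rfl

theorem n_mul_n : T.n * T.n = 1 := T.ext_apply nf_nf

theorem n_inv : T.n⁻¹ = T.n := inv_eq_of_mul_eq_one_right T.n_mul_n

theorem h_mul_u (k : Kˣ) (a b c : K) :
    T.h k * T.u a b c = T.u (k * a) (k * T.σ k * b) (k ^ 2 * T.σ k * c) * T.h k := by
  have h1 := T.σ_unit_ne k
  have h2 := k.ne_zero
  refine T.ext_apply fun v => ?_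
  change T.hf k (T.uf a b c v) = T.uf _ _ _ (T.hf k v)
  refine vext ?_ ?_ ?_ ?_ ?_ ?_ ?_ <;>
    simp only [uf_def, hf_def, Matrix.cons_val, map_mul, map_pow, T.cube] <;> field_simp

theorem n_mul_h (k : Kˣ) : T.n * T.h k = T.h k⁻¹ * T.n := by
  refine T.ext_apply fun v => ?_
  change nf (T.hf k v) = T.hf k⁻¹ (nf v)
  refine vext ?_ ?_ ?_ ?_ ?_ ?_ ?_ <;>
    simp [nf_def, hf_def, mul_comm]

theorem h_inj {k l : Kˣ} : T.h k = T.h l ↔ k = l := by
  constructor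
  · intro h
    have := congrFun (congrArg (fun g : T.R => g.1 ![0, 0, 1, 0, 0, 0, 0]) h) 2
    simpa [h_apply, hf_def, Units.ext_iff] using this
  · rintro rfl
    rfl

/-- The cone over the Ree–Tits ovoid. -/
def Om : Set (V K) := {v | ∃ y w, ∀ x, ρ y (T.sv v) x = J w x • v - J v x • w}

theorem smul_mem_Om (g : T.R) {v : V K} (hv : v ∈ T.Om) : g.1 v ∈ T.Om := by
  obtain ⟨y, w, hw⟩ := hv
  obtain ⟨y', hy'⟩ := T.star_inv g y v
  refine ⟨y', g.1 w, fun x => ?_⟩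
  obtain ⟨x, rfl⟩ := g.1.surjective x
  rw [hy', hw, map_sub, map_smul, map_smul, form_inv, form_inv]

theorem scalar_mem_Om (c : K) {v : V K} (hv : v ∈ T.Om) : c • v ∈ T.Om := by
  obtain ⟨y, w, hw⟩ := hv
  by_cases hc : c = 0
  · subst hc
    refine ⟨(0 : K) • y, 0, fun x => ?_⟩
    rw [sv_smul, map_zero, ρ_smul]
    simp
  · refine ⟨T.σ c • y, (T.σ c / c) • w, fun x => ?_⟩
    rw [sv_smul, ρ_smul, hw, J_smul_left, J_smul_left, smul_smul, smul_smul, smul_sub, smul_smul,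
      smul_smul]
    congr 2 <;> field_simp

theorem e0_mem_Om : (e0 : V K) ∈ T.Om := by
  refine ⟨0, ![0, -1, 0, 0, 0, 0, 0], fun x => ?_⟩
  refine vext ?_ ?_ ?_ ?_ ?_ ?_ ?_ <;> simp [ρ_def, J_def, sv_apply, e0_def]

theorem e6_mem_Om : (e6 : V K) ∈ T.Om := by
  have := T.scalar_mem_Om (-1) (T.smul_mem_Om T.n T.e0_mem_Om)
  convert this using 1
  refine vext ?_ ?_ ?_ ?_ ?_ ?_ ?_ <;> simp [n_apply, nf_def, e0_def, e6_def]

/-- The equations of the cone. -/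
theorem Om_eqs {v : V K} (hv : v ∈ T.Om) : ∃ w : V K,
    v 0 * w 3 - v 3 * w 0 = -(v 1 * w 2 - v 2 * w 1) ∧
    v 0 * w 4 - v 4 * w 0 = v 1 * w 3 - v 3 * w 1 ∧
    v 0 * w 5 - v 5 * w 0 = -(v 2 * w 3 - v 3 * w 2) ∧
    v 1 * w 6 - v 6 * w 1 = -(v 3 * w 4 - v 4 * w 3) ∧
    v 2 * w 6 - v 6 * w 2 = v 3 * w 5 - v 5 * w 3 ∧
    v 3 * w 6 - v 6 * w 3 = -(v 4 * w 5 - v 5 * w 4) ∧
    v 1 * w 5 - v 5 * w 1 + (v 2 * w 4 - v 4 * w 2) = v 0 * w 6 - v 6 * w 0 ∧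
    T.σ (v 0) = -(v 0 * w 1 - v 1 * w 0) ∧
    T.σ (v 1) = -(v 0 * w 2 - v 2 * w 0) ∧
    T.σ (v 2) = v 1 * w 4 - v 4 * w 1 ∧
    T.σ (v 3) = v 1 * w 5 - v 5 * w 1 + (v 0 * w 6 - v 6 * w 0) ∧
    T.σ (v 4) = v 2 * w 5 - v 5 * w 2 ∧
    T.σ (v 5) = -(v 4 * w 6 - v 6 * w 4) ∧
    T.σ (v 6) = -(v 5 * w 6 - v 6 * w 5) := by
  obtain ⟨y, w, hw⟩ := hv
  have h3 := T.three
  have a1 := hw ![0, 1, 0, 0, 0, 0, 0]
  have a2 := hw ![0, 0, 1, 0, 0, 0, 0]
  have a3 := hw ![0, 0, 0, 1, 0, 0, 0]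
  have a4 := hw ![0, 0, 0, 0, 1, 0, 0]
  have a5 := hw ![0, 0, 0, 0, 0, 1, 0]
  have a0 := hw ![1, 0, 0, 0, 0, 0, 0]
  have s01 := congrFun a5 0
  have s02 := congrFun a4 0
  have s03 := congrFun a3 0
  have s04 := congrFun a2 0
  have s05 := congrFun a1 0
  have s06 := congrFun a0 0
  have s12 := congrFun a4 1
  have s13 := congrFun a3 1
  have s14 := congrFun a2 1
  have s15 := congrFun a1 1
  have s16 := congrFun a0 1
  have s23 := congrFun a3 2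
  have s24 := congrFun a2 2
  have s25 := congrFun a1 2
  have s26 := congrFun a0 2
  have s34 := congrFun a2 3
  have s35 := congrFun a1 3
  have s36 := congrFun a0 3
  have s45 := congrFun a1 4
  have s46 := congrFun a0 4
  have s56 := congrFun a0 5
  simp only [ρ_def, J_def, sv_apply, Pi.sub_apply, Pi.smul_apply, smul_eq_mul, Matrix.cons_val,
    mul_zero, mul_one, add_zero, zero_add, sub_zero, zero_sub, neg_zero]
    at s01 s02 s03 s04 s05 s06 s12 s13 s14 s15 s16 s23 s24 s25 s26 s34 s35 s36 s45 s46 s56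
  refine ⟨w, ?_, ?_, ?_, ?_, ?_, ?_, ?_, ?_, ?_, ?_, ?_, ?_, ?_, ?_⟩
  · linear_combination s03 - s12
  · linear_combination -s04 - s13
  · linear_combination -s05 + s23
  · linear_combination -s16 - s34
  · linear_combination -s26 + s35
  · linear_combination -s36 - s45
  · linear_combination -s15 - s24 + s06 + -(y 3) * h3
  · linear_combination -s01
  · linear_combination -s02
  · linear_combination s14
  · linear_combination s15 + s06
  · linear_combination s25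
  · linear_combination -s46
  · linear_combination -s56

theorem eq_smul_e0 {v : V K} (hv : v ∈ T.Om) (h6 : v 6 = 0) : v = v 0 • e0 := by
  obtain ⟨w, c1, c2, c3, c4, c5, c6, c7, -, s1, s2, s3, s4, s5, s6⟩ := T.Om_eqs hv
  have z := fun x => (T.σ_eq_zero (x := x)).mp
  rw [h6, map_zero] at s6
  have h5 : v 5 = 0 := by
    by_contra h
    have : w 6 = 0 := by grind
    exact h (z _ (by rw [s5, this, h6]; ring))
  rw [h5, map_zero] at s5
  have h4 : v 4 = 0 := by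
    by_contra h
    have e6 : w 6 = 0 := by grind
    have e5 : w 5 = 0 := by grind
    exact h (z _ (by rw [s4, e5, h5]; ring))
  rw [h4, map_zero] at s4
  have h3 : v 3 = 0 := by
    by_contra h
    have e6 : w 6 = 0 := by grind
    have e5 : w 5 = 0 := by grind
    exact h (z _ (by rw [s3, e5, h5, e6, h6]; ring))
  rw [h3, map_zero] at s3
  have h2 : v 2 = 0 := by
    by_contra h
    have e6 : w 6 = 0 := by grind
    have e5 : w 5 = 0 := by grind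
    have e4 : w 4 = 0 := by grind
    exact h (z _ (by rw [s2, e4, h4]; ring))
  rw [h2, map_zero] at s2
  have h1 : v 1 = 0 := by
    by_contra h
    have e4 : w 4 = 0 := by grind
    have e3 : w 3 = 0 := by grind
    have e2 : w 2 = 0 := by grind
    exact h (z _ (by rw [s1, e2, h2]; ring))
  refine vext ?_ ?_ ?_ ?_ ?_ ?_ ?_ <;> simp [e0_def, h1, h2, h3, h4, h5, h6]

theorem eq_e6 {v : V K} (hv : v ∈ T.Om) (h6 : v 6 = 1) (h5 : v 5 = 0) (h4 : v 4 = 0)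
    (h3 : v 3 = 0) : v = e6 := by
  obtain ⟨w, c1, c2, c3, c4, c5, c6, c7, -, -, -, s3, s4, s5, s6⟩ := T.Om_eqs hv
  have h := T.three
  rw [h6, map_one] at s6
  rw [h5, map_zero] at s5
  rw [h4, map_zero] at s4
  rw [h3, map_zero] at s3
  simp only [h6, h5, h4, h3] at c1 c2 c3 c4 c5 c6 c7 s3 s4 s5 s6
  have h2 : v 2 = 0 := by grind
  have h1 : v 1 = 0 := by grind
  have h0 : v 0 = 0 := by grind
  refine vext ?_ ?_ ?_ ?_ ?_ ?_ ?_ <;> simp [e6_def, h0, h1, h2, h3, h4, h5, h6]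

theorem exists_eq_uf {v : V K} (hv : v ∈ T.Om) (h6 : v 6 ≠ 0) :
    ∃ a b c, v = v 6 • T.uf a b c e6 := by
  have h3 := T.three
  obtain ⟨v', hv'⟩ : ∃ v', v' = (v 6)⁻¹ • v := ⟨_, rfl⟩
  have h1 : v' ∈ T.Om := hv' ▸ T.scalar_mem_Om _ hv
  have h2 : v' 6 = 1 := by simp [hv', h6]
  obtain ⟨a, ha⟩ : ∃ a, a = -v' 5 := ⟨_, rfl⟩
  obtain ⟨b, hb⟩ : ∃ b, b = v' 4 - T.σ a * a := ⟨_, rfl⟩
  obtain ⟨c, hc⟩ : ∃ c, c = a * b - v' 3 := ⟨_, rfl⟩
  refine ⟨a, b, c, ?_⟩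
  have h4 := T.smul_mem_Om (T.u a b c)⁻¹ h1
  have h5 : (T.u a b c)⁻¹.1 v' = e6 := by
    apply T.eq_e6 h4 <;> simp only [u_inv, u_apply, uf_def, Matrix.cons_val, map_neg] <;> grind
  have h7 : v' = T.uf a b c e6 := by
    rw [← h5]
    exact ((T.uE a b c).apply_symm_apply v').symm
  rw [← h7, hv', smul_smul, mul_inv_cancel₀ h6, one_smul]

open scoped LinearAlgebra.Projectivization

/-- The Ree–Tits ovoid. -/
def Ω : SubMulAction T.R (ℙ K (V K)) where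
  carrier := {p | ∃ v hv, v ∈ T.Om ∧ p = Projectivization.mk K v hv}
  smul_mem' := by
    rintro g _ ⟨v, hv, h, rfl⟩
    exact ⟨g.1 v, _, T.smul_mem_Om g h, Projectivization.smul_mk g hv⟩

/-- The point of the ovoid spanned by a vector. -/
def mkΩ (v : V K) (hv : v ≠ 0) (h : v ∈ T.Om) : T.Ω := ⟨Projectivization.mk K v hv, v, hv, h, rfl⟩

theorem apply_ne_zero (g : T.R) {v : V K} (hv : v ≠ 0) : g.1 v ≠ 0 :=
  fun h => hv (g.1.map_eq_zero_iff.mp h)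

theorem smul_mkΩ (g : T.R) (v : V K) (hv : v ≠ 0) (h : v ∈ T.Om) :
    g • T.mkΩ v hv h = T.mkΩ (g.1 v) (T.apply_ne_zero g hv) (T.smul_mem_Om g h) :=
  Subtype.ext (Projectivization.smul_mk g hv)

theorem mkΩ_eq_iff {v w : V K} (hv : v ≠ 0) (h : v ∈ T.Om) (hw : w ≠ 0) (h' : w ∈ T.Om) :
    T.mkΩ v hv h = T.mkΩ w hw h' ↔ ∃ c : K, v = c • w := by
  rw [Subtype.ext_iff]
  change Projectivization.mk K v hv = Projectivization.mk K w hw ↔ _
  rw [Projectivization.mk_eq_mk_iff']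
  exact ⟨fun ⟨c, hc⟩ => ⟨c, hc.symm⟩, fun ⟨c, hc⟩ => ⟨c, hc.symm⟩⟩

theorem exists_mkΩ (p : T.Ω) : ∃ v hv h, p = T.mkΩ v hv h := by
  obtain ⟨_, v, hv, h, rfl⟩ := p
  exact ⟨v, hv, h, rfl⟩

/-- The point at infinity. -/
def inf : T.Ω := T.mkΩ e0 e0_ne_zero T.e0_mem_Om

/-- The origin. -/
def org : T.Ω := T.mkΩ e6 e6_ne_zero T.e6_mem_Om

theorem smul_inf_eq_inf {g : T.R} : g • T.inf = T.inf ↔ ∃ c : K, g.1 e0 = c • e0 := by
  rw [inf, smul_mkΩ, mkΩ_eq_iff]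

theorem smul_org_eq_org {g : T.R} : g • T.org = T.org ↔ ∃ c : K, g.1 e6 = c • e6 := by
  rw [org, smul_mkΩ, mkΩ_eq_iff]

theorem smul_inf_eq_org {g : T.R} : g • T.inf = T.org ↔ ∃ c : K, g.1 e0 = c • e6 := by
  rw [inf, org, smul_mkΩ, mkΩ_eq_iff]

theorem smul_org_eq_inf {g : T.R} : g • T.org = T.inf ↔ ∃ c : K, g.1 e6 = c • e0 := by
  rw [inf, org, smul_mkΩ, mkΩ_eq_iff]

/-- The affine points of the ovoid. -/
def pt (a b c : K) : T.Ω := T.u a b c • T.org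

theorem u_org (a b c : K) : T.u a b c • T.org = T.pt a b c := rfl

theorem pt_zero : T.pt 0 0 0 = T.org := by rw [pt, u_zero, one_smul]

theorem u_inf (a b c : K) : T.u a b c • T.inf = T.inf :=
  T.smul_inf_eq_inf.mpr ⟨1, by
    refine vext ?_ ?_ ?_ ?_ ?_ ?_ ?_ <;> simp [u_apply, uf_def, e0_def]⟩

theorem h_inf (k : Kˣ) : T.h k • T.inf = T.inf :=
  T.smul_inf_eq_inf.mpr ⟨k ^ 2 * T.σ k, by
    refine vext ?_ ?_ ?_ ?_ ?_ ?_ ?_ <;> simp [h_apply, hf_def, e0_def]⟩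

theorem h_org (k : Kˣ) : T.h k • T.org = T.org :=
  T.smul_org_eq_org.mpr ⟨(k ^ 2 * T.σ k)⁻¹, by
    refine vext ?_ ?_ ?_ ?_ ?_ ?_ ?_ <;> simp [h_apply, hf_def, e6_def]⟩

theorem n_inf : T.n • T.inf = T.org :=
  T.smul_inf_eq_org.mpr ⟨-1, by
    refine vext ?_ ?_ ?_ ?_ ?_ ?_ ?_ <;> simp [n_apply, nf_def, e0_def, e6_def]⟩

theorem n_org : T.n • T.org = T.inf := by
  rw [← n_inf, ← mul_smul, n_mul_n, one_smul]

theorem org_ne_inf : T.org ≠ T.inf := by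
  intro h
  obtain ⟨c, hc⟩ := (T.mkΩ_eq_iff _ _ _ _).mp h
  simpa [e0_def, e6_def] using congrFun hc 6

theorem pt_ne_inf (a b c : K) : T.pt a b c ≠ T.inf := by
  intro h
  rw [pt, ← T.u_inf a b c] at h
  exact T.org_ne_inf (smul_left_cancel _ h)

theorem pt_inj {a b c d e f : K} : T.pt a b c = T.pt d e f ↔ a = d ∧ b = e ∧ c = f := by
  constructor
  · intro h
    rw [pt, pt, org, smul_mkΩ, smul_mkΩ, mkΩ_eq_iff] at h
    obtain ⟨s, hs⟩ := h
    have h6 := congrFun hs 6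
    have h5 := congrFun hs 5
    have h4 := congrFun hs 4
    have h3 := congrFun hs 3
    simp [u_apply, uf_def, e6_def] at h3 h4 h5 h6
    subst h6
    obtain rfl : a = d := by simpa using h5
    obtain rfl : b = e := by simpa using h4
    exact ⟨rfl, rfl, by simpa using h3⟩
  · rintro ⟨rfl, rfl, rfl⟩
    rfl

theorem cases_Ω (p : T.Ω) : p = T.inf ∨ ∃ a b c, p = T.pt a b c := by
  obtain ⟨v, hv, h, rfl⟩ := T.exists_mkΩ p
  by_cases h6 : v 6 = 0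
  · exact Or.inl ((T.mkΩ_eq_iff _ _ _ _).mpr ⟨_, T.eq_smul_e0 h h6⟩)
  · obtain ⟨a, b, c, e⟩ := T.exists_eq_uf h h6
    refine Or.inr ⟨a, b, c, ?_⟩
    rw [pt, org, smul_mkΩ, mkΩ_eq_iff]
    exact ⟨_, e⟩

theorem u_inj {a b c d e f : K} : T.u a b c = T.u d e f ↔ a = d ∧ b = e ∧ c = f := by
  constructor
  · intro h
    rw [← T.pt_inj, pt, pt, h]
  · rintro ⟨rfl, rfl, rfl⟩
    rfl

theorem u_pt (a b c d e f : K) : T.u a b c • T.pt d e f =
    T.pt (a + d) (b + e - T.σ d * a) (c + f - b * d - T.σ d * a ^ 2 + T.σ d * a * d) := by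
  rw [pt, ← mul_smul, u_mul, pt]

theorem h_pt (k : Kˣ) (a b c : K) :
    T.h k • T.pt a b c = T.pt (k * a) (k * T.σ k * b) (k ^ 2 * T.σ k * c) := by
  rw [pt, ← mul_smul, h_mul_u, mul_smul, h_org, pt]

theorem apply_e1 (g : T.R) {l m : K} (hl : g.1 e0 = l • e0) (hm : g.1 e6 = m • e6) :
    l * m = 1 ∧ g.1 ![0, 1, 0, 0, 0, 0, 0] = (m * T.σ l) • ![0, 1, 0, 0, 0, 0, 0] := by
  have h3 := T.three
  have hlm : l * m = 1 := by
    have := T.form_inv g e0 e6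
    rw [hl, hm] at this
    simpa [J_def, e0_def, e6_def] using this
  have hl0 : l ≠ 0 := left_ne_zero_of_mul_eq_one hlm
  have hm0 : m ≠ 0 := right_ne_zero_of_mul_eq_one hlm
  have s0 : T.sv e0 = e0 := by
    refine vext ?_ ?_ ?_ ?_ ?_ ?_ ?_ <;> simp [sv_apply, e0_def]
  refine ⟨hlm, ?_⟩
  obtain ⟨y, hy⟩ := T.star_inv g 0 e0
  rw [hl, sv_smul, s0] at hy
  obtain ⟨w, hw⟩ : ∃ w, w = g.1 ![0, 1, 0, 0, 0, 0, 0] := ⟨_, rfl⟩
  have key : ∀ x, ρ y (T.σ l • e0) x = J (-w) x • (l • e0) - J (l • e0) x • (-w) := by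
    intro x
    obtain ⟨x, rfl⟩ := g.1.surjective x
    rw [hy, ← hl, hw, ← map_neg, form_inv, form_inv, ← map_smul, ← map_smul, ← map_sub]
    congr 1
    refine vext ?_ ?_ ?_ ?_ ?_ ?_ ?_ <;> simp [ρ_def, J_def, e0_def]
  have k6 := key e6
  have k5 := key ![0, 0, 0, 0, 0, 1, 0]
  have k4 := key ![0, 0, 0, 0, 1, 0, 0]
  have a1 := congrFun k6 1
  have a2 := congrFun k6 2
  have a3 := congrFun k6 3
  have a4 := congrFun k6 4
  have a5 := congrFun k6 5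
  have b2 := congrFun k5 2
  have b3 := congrFun k5 3
  have c3 := congrFun k4 3
  have j := T.form_inv g ![0, 1, 0, 0, 0, 0, 0] e6
  have j' := T.form_inv g ![0, 1, 0, 0, 0, 0, 0] e0
  rw [hm, ← hw] at j
  rw [hl, ← hw] at j'
  simp [ρ_def, J_def, e0_def, e6_def] at a1 a2 a3 a4 a5 b2 b3 c3 j j'
  rw [← hw]
  refine vext ?_ ?_ ?_ ?_ ?_ ?_ ?_ <;> simp <;> grind

theorem vec_eq_sum (v : V K) : v = v 0 • e0 + v 1 • ![0, 1, 0, 0, 0, 0, 0] +
    v 2 • ![0, 0, 1, 0, 0, 0, 0] + v 3 • ![0, 0, 0, 1, 0, 0, 0] + v 4 • ![0, 0, 0, 0, 1, 0, 0] +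
    v 5 • ![0, 0, 0, 0, 0, 1, 0] + v 6 • e6 := by
  refine vext ?_ ?_ ?_ ?_ ?_ ?_ ?_ <;> simp [e0_def, e6_def]

/-- The two-point stabiliser is the diagonal torus. -/
theorem exists_eq_h (g : T.R) (h1 : g • T.inf = T.inf) (h0 : g • T.org = T.org) :
    ∃ k, g = T.h k := by
  have h3 := T.three
  obtain ⟨l, hl⟩ := T.smul_inf_eq_inf.mp h1
  obtain ⟨m, hm⟩ := T.smul_org_eq_org.mp h0
  obtain ⟨hlm, g1⟩ := T.apply_e1 g hl hm
  have n0 : nf (e0 : V K) = (-1 : K) • e6 := by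
    refine vext ?_ ?_ ?_ ?_ ?_ ?_ ?_ <;> simp [nf_def, e0_def, e6_def]
  have n6 : nf (e6 : V K) = (-1 : K) • e0 := by
    refine vext ?_ ?_ ?_ ?_ ?_ ?_ ?_ <;> simp [nf_def, e0_def, e6_def]
  have g5 : g.1 ![0, 0, 0, 0, 0, 1, 0] = (l * T.σ m) • ![0, 0, 0, 0, 0, 1, 0] := by
    have := (T.apply_e1 (T.n * g * T.n) (l := m) (m := l)
      (by rw [mul_apply, mul_apply, n_apply, n_apply, n0, map_smul, hm, ← T.n_apply, map_smul,
            map_smul, n_apply, n6]; module)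
      (by rw [mul_apply, mul_apply, n_apply, n_apply, n6, map_smul, hl, ← T.n_apply, map_smul,
            map_smul, n_apply, n0]; module)).2
    have n1 : nf (![0, 1, 0, 0, 0, 0, 0] : V K) = (-1 : K) • ![0, 0, 0, 0, 0, 1, 0] := by
      refine vext ?_ ?_ ?_ ?_ ?_ ?_ ?_ <;> simp [nf_def]
    rw [mul_apply, mul_apply, n_apply, n_apply, n1, map_smul] at this
    have e := congrArg nf this
    rw [nf_nf, ← T.n_apply, map_smul, n_apply, n1] at e
    have e' := congrArg ((-1 : K) • ·) e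
    simpa [smul_smul] using e'
  have g2 : g.1 ![0, 0, 1, 0, 0, 0, 0] = (l * (l * T.σ m)) • ![0, 0, 1, 0, 0, 0, 0] := by
    have := T.cross_inv g e0 ![0, 0, 0, 0, 0, 1, 0]
    rw [hl, g5, show ρ e0 0 ![0, 0, 0, 0, 0, 1, 0] = (![0, 0, 1, 0, 0, 0, 0] : V K) by
      refine vext ?_ ?_ ?_ ?_ ?_ ?_ ?_ <;> simp [ρ_def, e0_def]] at this
    rw [← this]
    refine vext ?_ ?_ ?_ ?_ ?_ ?_ ?_ <;> simp [ρ_def, e0_def]
  have g4 : g.1 ![0, 0, 0, 0, 1, 0, 0] = (m * T.σ l * m) • ![0, 0, 0, 0, 1, 0, 0] := by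
    have := T.cross_inv g ![0, 1, 0, 0, 0, 0, 0] e6
    rw [hm, g1, show ρ ![0, 1, 0, 0, 0, 0, 0] 0 e6 = (![0, 0, 0, 0, 1, 0, 0] : V K) by
      refine vext ?_ ?_ ?_ ?_ ?_ ?_ ?_ <;> simp [ρ_def, e6_def]] at this
    rw [← this]
    refine vext ?_ ?_ ?_ ?_ ?_ ?_ ?_ <;> simp [ρ_def, e6_def]
  have g3 : g.1 ![0, 0, 0, 1, 0, 0, 0] = ![0, 0, 0, 1, 0, 0, 0] := by
    have := T.cross_inv g e6 e0
    rw [hm, hl, show ρ e6 0 e0 = (![0, 0, 0, 1, 0, 0, 0] : V K) by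
      refine vext ?_ ?_ ?_ ?_ ?_ ?_ ?_ <;> simp [ρ_def, e0_def, e6_def]] at this
    rw [← this]
    refine vext ?_ ?_ ?_ ?_ ?_ ?_ ?_ <;> simp [ρ_def, e0_def, e6_def, mul_comm m, hlm]
  have hl0 : l ≠ 0 := left_ne_zero_of_mul_eq_one hlm
  have hσ : T.σ l ≠ 0 := by simpa using hl0
  obtain rfl : m = l⁻¹ := (inv_eq_of_mul_eq_one_right hlm).symm
  have hk : l * (l * T.σ l⁻¹) ≠ 0 := by simp [hl0]
  refine ⟨Units.mk0 _ hk, T.ext_apply fun v => ?_⟩
  rw [vec_eq_sum v]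
  simp only [map_add, map_smul, hl, hm, g1, g2, g3, g4, g5, h_apply]
  refine vext ?_ ?_ ?_ ?_ ?_ ?_ ?_ <;> simp [hf_def, e0_def, e6_def, T.cube] <;> field_simp <;>
    simp

/-- The stabiliser of the point at infinity. -/
theorem exists_eq_u_mul_h (g : T.R) (h1 : g • T.inf = T.inf) :
    ∃ a b c k, g = T.u a b c * T.h k := by
  rcases T.cases_Ω (g • T.org) with h' | ⟨a, b, c, h'⟩
  · rw [← h1] at h'
    exact absurd (smul_left_cancel g h') T.org_ne_inf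
  · obtain ⟨k, hk⟩ := T.exists_eq_h ((T.u a b c)⁻¹ * g)
      (by rw [mul_smul, h1, inv_smul_eq_iff, u_inf])
      (by rw [mul_smul, h', inv_smul_eq_iff, u_org])
    exact ⟨a, b, c, k, by rw [← hk]; group⟩

/-- The Bruhat decomposition. -/
theorem bruhat (g : T.R) : (∃ a b c k, g = T.u a b c * T.h k) ∨
    ∃ a b c d e f k, g = T.u a b c * T.n * (T.u d e f * T.h k) := by
  rcases T.cases_Ω (g • T.inf) with h' | ⟨a, b, c, h'⟩
  · exact Or.inl (T.exists_eq_u_mul_h g h')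
  · obtain ⟨d, e, f, k, hk⟩ := T.exists_eq_u_mul_h ((T.u a b c * T.n)⁻¹ * g)
      (by rw [mul_smul, h', inv_smul_eq_iff, mul_smul, n_inf, u_org])
    exact Or.inr ⟨a, b, c, d, e, f, k, by rw [← hk]; group⟩

theorem u_mul_h_inj {a b c d e f : K} {k l : Kˣ} (he : T.u a b c * T.h k = T.u d e f * T.h l) :
    a = d ∧ b = e ∧ c = f ∧ k = l := by
  have h1 := congrArg (· • T.org) he
  simp only [mul_smul, h_org, u_org, pt_inj] at h1
  obtain ⟨rfl, rfl, rfl⟩ := h1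
  exact ⟨rfl, rfl, rfl, T.h_inj.mp (mul_left_cancel he)⟩

theorem exists_smul_inf (p : T.Ω) : ∃ g : T.R, g • T.inf = p := by
  rcases T.cases_Ω p with rfl | ⟨a, b, c, rfl⟩
  · exact ⟨1, one_smul _ _⟩
  · exact ⟨T.u a b c * T.n, by rw [mul_smul, n_inf, u_org]⟩

/-- Double transitivity on the ovoid. -/
theorem exists_smul_pair {p q : T.Ω} (hpq : p ≠ q) :
    ∃ g : T.R, g • T.inf = p ∧ g • T.org = q := by
  obtain ⟨g, rfl⟩ := T.exists_smul_inf p
  rcases T.cases_Ω (g⁻¹ • q) with h | ⟨a, b, c, h⟩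
  · rw [inv_smul_eq_iff] at h
    exact absurd h.symm hpq
  · refine ⟨g * T.u a b c, by rw [mul_smul, u_inf], ?_⟩
    rw [mul_smul, u_org, ← h, smul_inv_smul]

theorem two_transitive : MulAction.IsMultiplyPretransitive T.R T.Ω 2 := by
  rw [MulAction.is_two_pretransitive_iff]
  intro a b c d hab hcd
  obtain ⟨g, h1, h2⟩ := T.exists_smul_pair hab
  obtain ⟨g', h1', h2'⟩ := T.exists_smul_pair hcd
  refine ⟨g' * g⁻¹, ?_, ?_⟩
  · rw [← h1, ← h1', mul_smul, inv_smul_smul]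
  · rw [← h2, ← h2', mul_smul, inv_smul_smul]

end Ctx
end Ree
end H8
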