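import Mathlib
import Cfsg.Agent.H8.ReeBasic
import Cfsg.Agent.H8.BNPair

/-!
The small Ree group: the subgroups `U`, `H`, `B`, `N`, orders, generation and simplicity.
-/

set_option autoImplicit false

namespace H8
namespace Ree

open scoped Pointwise commutatorElement

variable {K : Type*} [Field K]

namespace Ctx

variable (T : Ctx K)

theorem eq_one_of_sq_mul_σ {x : K} (h : x ^ 2 * T.σ x = 1) : x = 1 := by
  have h2 := congrArg T.σ h
  rw [map_mul, T.cube, map_one, map_pow] at h2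
  have hx : x ≠ 0 := by
    rintro rfl
    simp at h
  have : x * (x - 1) = 0 := by
    linear_combination (-x ^ 2) * h2 + x * (x ^ 2 * T.σ x + 1) * h
  exact sub_eq_zero.mp ((mul_eq_zero.mp this).resolve_left hx)

theorem sq_eq_one_of_mul_σ {x : K} (h : x * T.σ x = 1) : x ^ 2 = 1 := by
  have h2 := congrArg T.σ h
  rw [map_mul, T.cube, map_one] at h2
  linear_combination h2 - x ^ 2 * h

include T in
theorem two_ne_zero' : (2 : K) ≠ 0 := by
  intro h
  have := T.three
  exact one_ne_zero (α := K) (by linear_combination this - h)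

include T in
theorem neg_one_ne_one : (-1 : K) ≠ 1 := fun h => T.two_ne_zero' (by linear_combination -h)

include T in
theorem not_isSquare_neg_one : ¬ IsSquare (-1 : K) := by
  rintro ⟨i, hi⟩
  have h1 := congrArg T.σ hi
  rw [map_neg, map_one, map_mul] at h1
  have h2 : (T.σ i - i) * (T.σ i + i) = 0 := by linear_combination hi - h1
  have h3 := T.cube i
  have h4 : T.σ (T.σ i) = i := by
    rcases mul_eq_zero.mp h2 with h | h
    · rw [sub_eq_zero.mp h, sub_eq_zero.mp h]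
    · rw [eq_neg_of_add_eq_zero_left h, map_neg, eq_neg_of_add_eq_zero_left h, neg_neg]
  have h5 : 2 * i = 0 := by linear_combination h3 - h4 - i * hi
  have h6 : i = 0 := (mul_eq_zero.mp h5).resolve_left T.two_ne_zero'
  rw [h6] at hi
  simp at hi

include T in
theorem sq_or_neg_sq [Finite K] (x : K) : (∃ y, x = y ^ 2) ∨ ∃ y, x = -y ^ 2 := by
  classical
  have := Fintype.ofFinite K
  by_cases hx : x = 0
  · exact Or.inl ⟨0, by simp [hx]⟩
  by_cases h : IsSquare x
  · obtain ⟨y, hy⟩ := h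
    exact Or.inl ⟨y, by rw [hy, sq]⟩
  · have h1 := quadraticChar_neg_one_iff_not_isSquare.mpr h
    have h2 := quadraticChar_neg_one_iff_not_isSquare.mpr T.not_isSquare_neg_one
    have h3 : quadraticChar K (-1 * x) = 1 := by rw [map_mul, h1, h2]; norm_num
    obtain ⟨y, hy⟩ := (quadraticChar_one_iff_isSquare (by simpa using hx)).mp h3
    exact Or.inr ⟨y, by linear_combination -hy⟩

/-- The unipotent subgroup. -/
def U : Subgroup T.R where
  carrier := {g | ∃ a b c, g = T.u a b c}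
  one_mem' := ⟨0, 0, 0, T.u_zero.symm⟩
  mul_mem' := by
    rintro _ _ ⟨a, b, c, rfl⟩ ⟨d, e, f, rfl⟩
    exact ⟨_, _, _, T.u_mul a b c d e f⟩
  inv_mem' := by
    rintro _ ⟨a, b, c, rfl⟩
    exact ⟨_, _, _, T.u_inv a b c⟩

theorem mem_U {g : T.R} : g ∈ T.U ↔ ∃ a b c, g = T.u a b c := Iff.rfl

theorem u_mem_U (a b c : K) : T.u a b c ∈ T.U := ⟨a, b, c, rfl⟩

/-- The torus as a homomorphism. -/
def hHom : Kˣ →* T.R where
  toFun := T.h
  map_one' := T.h_one
  map_mul' k l := (T.h_mul k l).symm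

theorem hHom_apply (k : Kˣ) : T.hHom k = T.h k := rfl

theorem hHom_injective : Function.Injective T.hHom := fun _ _ h => T.h_inj.mp h

/-- The torus. -/
def H : Subgroup T.R := T.hHom.range

theorem mem_H {g : T.R} : g ∈ T.H ↔ ∃ k, g = T.h k :=
  ⟨fun ⟨k, hk⟩ => ⟨k, hk.symm⟩, fun ⟨k, hk⟩ => ⟨k, hk.symm⟩⟩

theorem h_mem_H (k : Kˣ) : T.h k ∈ T.H := ⟨k, rfl⟩

/-- The Borel subgroup: the stabiliser of the point at infinity. -/
abbrev B : Subgroup T.R := MulAction.stabilizer T.R T.inf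

/-- The monomial subgroup: the stabiliser of the pair `{∞, 0}`. -/
abbrev N : Subgroup T.R := MulAction.stabilizer T.R ({T.inf, T.org} : Set T.Ω)

theorem mem_B {g : T.R} : g ∈ T.B ↔ ∃ a b c k, g = T.u a b c * T.h k := by
  constructor
  · exact T.exists_eq_u_mul_h g
  · rintro ⟨a, b, c, k, rfl⟩
    rw [MulAction.mem_stabilizer_iff, mul_smul, h_inf, u_inf]

theorem mem_N' {g : T.R} : g ∈ T.N ↔
    (g • T.inf = T.inf ∧ g • T.org = T.org) ∨ (g • T.inf = T.org ∧ g • T.org = T.inf) := by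
  rw [MulAction.mem_stabilizer_iff, Set.smul_set_insert, Set.smul_set_singleton,
    Set.pair_eq_pair_iff]

theorem exists_eq_h_mul_n (g : T.R) (h1 : g • T.inf = T.org) (h0 : g • T.org = T.inf) :
    ∃ k, g = T.h k * T.n := by
  obtain ⟨k, hk⟩ := T.exists_eq_h (g * T.n) (by rw [mul_smul, n_inf, h0])
    (by rw [mul_smul, n_org, h1])
  exact ⟨k, by rw [← hk, mul_assoc, n_mul_n, mul_one]⟩

theorem mem_N {g : T.R} : g ∈ T.N ↔ ∃ k, g = T.h k ∨ g = T.h k * T.n := by
  rw [mem_N']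
  constructor
  · rintro (⟨h1, h2⟩ | ⟨h1, h2⟩)
    · obtain ⟨k, hk⟩ := T.exists_eq_h g h1 h2
      exact ⟨k, Or.inl hk⟩
    · obtain ⟨k, hk⟩ := T.exists_eq_h_mul_n g h1 h2
      exact ⟨k, Or.inr hk⟩
  · rintro ⟨k, rfl | rfl⟩
    · exact Or.inl ⟨T.h_inf k, T.h_org k⟩
    · exact Or.inr ⟨by rw [mul_smul, n_inf, h_org], by rw [mul_smul, n_org, h_inf]⟩

theorem mem_H' {g : T.R} : g ∈ T.H ↔ g • T.inf = T.inf ∧ g • T.org = T.org := by
  rw [mem_H]
  constructor
  · rintro ⟨k, rfl⟩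
    exact ⟨T.h_inf k, T.h_org k⟩
  · rintro ⟨h1, h2⟩
    exact T.exists_eq_h g h1 h2

theorem U_le_B : T.U ≤ T.B := by
  rintro _ ⟨a, b, c, rfl⟩
  exact T.u_inf a b c

theorem H_le_B : T.H ≤ T.B := by
  rintro _ ⟨k, rfl⟩
  exact T.h_inf k

theorem H_le_N : T.H ≤ T.N := by
  rintro _ ⟨k, rfl⟩
  exact T.mem_N.mpr ⟨k, Or.inl rfl⟩

theorem n_mem_N : T.n ∈ T.N := T.mem_N.mpr ⟨1, Or.inr (by rw [h_one, one_mul])⟩

theorem n_notMem_B : T.n ∉ T.B := fun h => T.org_ne_inf (T.n_inf.symm.trans h)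

/-- The torus is isomorphic to the multiplicative group of the field. -/
noncomputable def hEquiv : Kˣ ≃* T.H := MonoidHom.ofInjective T.hHom_injective

theorem h_conj_u (k : Kˣ) (a b c : K) :
    T.h k * T.u a b c * (T.h k)⁻¹ = T.u (k * a) (k * T.σ k * b) (k ^ 2 * T.σ k * c) := by
  rw [h_mul_u, mul_inv_cancel_right]

theorem conj_mem_U {g x : T.R} (hg : g ∈ T.B) (hx : x ∈ T.U) : g * x * g⁻¹ ∈ T.U := by
  obtain ⟨a, b, c, k, rfl⟩ := T.mem_B.mp hg
  obtain ⟨d, e, f, rfl⟩ := hx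
  have : T.u a b c * T.h k * T.u d e f * (T.u a b c * T.h k)⁻¹ =
      T.u a b c * (T.h k * T.u d e f * (T.h k)⁻¹) * (T.u a b c)⁻¹ := by group
  rw [this, h_conj_u]
  exact T.U.mul_mem (T.U.mul_mem (T.u_mem_U _ _ _) (T.u_mem_U _ _ _))
    (T.U.inv_mem (T.u_mem_U _ _ _))

theorem normal_U : (T.U.subgroupOf T.B).Normal :=
  ⟨fun _ hx g => T.conj_mem_U g.2 hx⟩

theorem card_U : Nat.card T.U = Nat.card K ^ 3 := by
  have : Function.Bijective
      (fun p : K × K × K => (⟨T.u p.1 p.2.1 p.2.2, T.u_mem_U _ _ _⟩ : T.U)) := by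
    constructor
    · intro p p' h
      have := T.u_inj.mp (congrArg Subtype.val h)
      exact Prod.ext this.1 (Prod.ext this.2.1 this.2.2)
    · rintro ⟨_, a, b, c, rfl⟩
      exact ⟨(a, b, c), rfl⟩
  rw [← Nat.card_eq_of_bijective _ this, Nat.card_prod, Nat.card_prod]
  ring

theorem card_H : Nat.card T.H = Nat.card K - 1 := by
  rw [← Nat.card_congr T.hEquiv.toEquiv, Nat.card_units]

theorem card_B : Nat.card T.B = Nat.card K ^ 3 * (Nat.card K - 1) := by
  have : Function.Bijective (fun p : (K × K × K) × Kˣ =>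
      (⟨T.u p.1.1 p.1.2.1 p.1.2.2 * T.h p.2, T.mem_B.mpr ⟨_, _, _, _, rfl⟩⟩ : T.B)) := by
    constructor
    · intro p p' h
      have := T.u_mul_h_inj (congrArg Subtype.val h)
      exact Prod.ext (Prod.ext this.1 (Prod.ext this.2.1 this.2.2.1)) this.2.2.2
    · rintro ⟨g, hg⟩
      obtain ⟨a, b, c, k, rfl⟩ := T.mem_B.mp hg
      exact ⟨((a, b, c), k), rfl⟩
  rw [← Nat.card_eq_of_bijective _ this, Nat.card_prod, Nat.card_prod, Nat.card_prod,
    Nat.card_units]
  ring

theorem card_Ω [Finite K] : Nat.card T.Ω = Nat.card K ^ 3 + 1 := by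
  let e : Option (K × K × K) → T.Ω := fun o =>
    match o with
    | none => T.inf
    | some p => T.pt p.1 p.2.1 p.2.2
  have he : Function.Bijective e := by
    constructor
    · rintro (_ | p) (_ | p') h
      · rfl
      · exact absurd h.symm (T.pt_ne_inf _ _ _)
      · exact absurd h (T.pt_ne_inf _ _ _)
      · have := T.pt_inj.mp h
        rw [Prod.ext this.1 (Prod.ext this.2.1 this.2.2)]
    · intro p
      rcases T.cases_Ω p with rfl | ⟨a, b, c, rfl⟩
      · exact ⟨none, rfl⟩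
      · exact ⟨some (a, b, c), rfl⟩
  rw [← Nat.card_eq_of_bijective e he, Finite.card_option, Nat.card_prod, Nat.card_prod]
  ring

instance instFiniteΩ [Finite K] : Finite T.Ω :=
  Nat.finite_of_card_ne_zero (by rw [card_Ω]; omega)

instance instPretransitiveΩ : MulAction.IsPretransitive T.R T.Ω where
  exists_smul_eq p q := by
    obtain ⟨g, rfl⟩ := T.exists_smul_inf p
    obtain ⟨g', rfl⟩ := T.exists_smul_inf q
    exact ⟨g' * g⁻¹, by rw [mul_smul, inv_smul_smul]⟩

theorem index_B [Finite K] : T.B.index = Nat.card K ^ 3 + 1 := by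
  rw [MulAction.index_stabilizer_of_transitive, card_Ω]

theorem card_R [Finite K] :
    Nat.card T.R = Nat.card K ^ 3 * (Nat.card K - 1) * (Nat.card K ^ 3 + 1) := by
  rw [← T.B.index_mul_card, T.index_B, T.card_B]
  ring

instance instFiniteR [Finite K] : Finite T.R := by
  apply Nat.finite_of_card_ne_zero
  rw [card_R]
  have : 1 < Nat.card K := Finite.one_lt_card
  have h1 : 0 < Nat.card K - 1 := by omega
  positivity

/-- The top right entry of `u a b c`. -/
def nrm (a b c : K) : K :=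
  -(T.σ b * b) + T.σ c * a - c ^ 2 - a * b * c - T.σ a * a ^ 3 * b + T.σ a ^ 2 * a ^ 4

theorem exists_h_mul_n_mem {S : Subgroup T.R} (hU : ∀ a b c, T.u a b c ∈ S)
    (hV : ∀ a b c, T.n * T.u a b c * T.n ∈ S) {a b c : K} (h : T.pt a b c ≠ T.org) :
    ∃ k : Kˣ, (k : K) ^ 2 * T.σ k = -T.nrm a b c ∧ T.h k * T.n ∈ S := by
  have hn : ∀ p : T.Ω, p ≠ T.org → ∃ d e f, T.n • p = T.pt d e f := by
    intro p hp
    refine (T.cases_Ω (T.n • p)).resolve_left fun h => hp ?_
    rw [← T.n_org] at h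
    exact smul_left_cancel _ h
  obtain ⟨d, e, f, h1⟩ := hn _ h
  obtain ⟨g1, hg1⟩ : ∃ g1, g1 = T.n * (T.u d e f)⁻¹ * T.n * T.u a b c := ⟨_, rfl⟩
  have h2 : g1 • T.org = T.inf := by
    rw [hg1, mul_smul, mul_smul, mul_smul, u_org, h1, ← u_org, inv_smul_smul, n_org]
  obtain ⟨d', e', f', h3⟩ := hn (g1⁻¹ • T.org) (by
    rw [Ne, inv_smul_eq_iff, h2]; exact T.org_ne_inf)
  obtain ⟨k, hk⟩ := T.exists_eq_h_mul_n (g1 * (T.n * T.u d' e' f' * T.n))
    (by rw [mul_smul, mul_smul, mul_smul, n_inf, u_org, ← h3, ← mul_smul T.n, n_mul_n, one_smul,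
      smul_inv_smul])
    (by rw [mul_smul, mul_smul, mul_smul, n_org, u_inf, n_inf, h2])
  refine ⟨k, ?_, ?_⟩
  · have := congrFun (congrArg (fun g : T.R => g.1 e6) hk) 0
    rw [hg1, u_inv] at this
    simp only [mul_apply, n_apply, u_apply, h_apply, nf_def, uf_def, hf_def, e6_def,
      Matrix.cons_val] at this
    rw [nrm]
    linear_combination this
  · rw [← hk, hg1, u_inv]
    exact S.mul_mem (S.mul_mem (hV _ _ _) (hU _ _ _)) (hV _ _ _)

/-- The Ree group is generated by `U` and its opposite. -/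
theorem eq_top_of_U_V [Finite K] {S : Subgroup T.R} (hU : ∀ a b c, T.u a b c ∈ S)
    (hV : ∀ a b c, T.n * T.u a b c * T.n ∈ S) : S = ⊤ := by
  have h1 : ∀ c : Kˣ, ∃ k : Kˣ, (k : K) ^ 2 * T.σ k = c ^ 2 ∧ T.h k * T.n ∈ S := by
    intro c
    obtain ⟨k, hk, hS⟩ := T.exists_h_mul_n_mem hU hV (a := 0) (b := 0) (c := c)
      (by rw [← pt_zero, Ne, pt_inj]; simp)
    exact ⟨k, by simpa [nrm] using hk, hS⟩
  have hn : T.n ∈ S := by
    obtain ⟨k, hk, hS⟩ := h1 1
    obtain rfl : k = 1 := Units.ext (T.eq_one_of_sq_mul_σ (by simpa using hk))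
    rwa [h_one, one_mul] at hS
  have hh : ∀ k, T.h k * T.n ∈ S → T.h k ∈ S := fun k h => (S.mul_mem_cancel_right hn).mp h
  have hm : T.h (-1) ∈ S := by
    obtain ⟨k, hk, hS⟩ := T.exists_h_mul_n_mem hU hV (a := 1) (b := 0) (c := 0)
      (by rw [← pt_zero, Ne, pt_inj]; simp)
    obtain rfl : k = -1 := by
      have : -(k : K) = 1 := T.eq_one_of_sq_mul_σ (by
        simp [nrm] at hk
        rw [map_neg]
        linear_combination -hk)
      exact Units.ext (by simpa using neg_eq_iff_eq_neg.mp this)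
    exact hh _ hS
  have hsq : ∀ y : Kˣ, T.h (y ^ 2) ∈ S := by
    intro y
    have hy := T.σ_unit_ne y
    obtain ⟨k, hk, hS⟩ := h1 (y ^ 2 * Units.mk0 _ hy)
    obtain rfl : k = y ^ 2 := by
      have h2 := T.σ_unit_ne k
      have : (k : K) / y ^ 2 = 1 := T.eq_one_of_sq_mul_σ (by
        simp only [Units.val_mul, Units.val_pow_eq_pow_val, Units.val_mk0] at hk
        rw [map_div₀, map_pow]
        field_simp
        linear_combination hk)
      ext
      rw [div_eq_one_iff_eq (by simp)] at this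
      simpa using this
    exact hh _ hS
  have hH : ∀ k, T.h k ∈ S := by
    intro k
    rcases T.sq_or_neg_sq (k : K) with ⟨y, hy⟩ | ⟨y, hy⟩
    · have hy0 : y ≠ 0 := by
        rintro rfl
        simp at hy
      have : k = Units.mk0 y hy0 ^ 2 := Units.ext (by simpa using hy)
      rw [this]
      exact hsq _
    · have hy0 : y ≠ 0 := by
        rintro rfl
        simp at hy
      have : k = -1 * Units.mk0 y hy0 ^ 2 := Units.ext (by simpa using hy)
      rw [this, ← h_mul]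
      exact S.mul_mem hm (hsq _)
  rw [eq_top_iff]
  intro g _
  rcases T.bruhat g with ⟨a, b, c, k, rfl⟩ | ⟨a, b, c, d, e, f, k, rfl⟩
  · exact S.mul_mem (hU _ _ _) (hH _)
  · exact S.mul_mem (S.mul_mem (hU _ _ _) hn) (S.mul_mem (hU _ _ _) (hH _))

theorem eq_one_of_fix_all (g : T.R) (h : ∀ p : T.Ω, g • p = p) : g = 1 := by
  obtain ⟨k, rfl⟩ := T.exists_eq_h g (h _) (h _)
  have := h (T.pt 1 0 0)
  rw [h_pt, pt_inj] at this
  obtain rfl : k = 1 := Units.ext (by simpa using this.1)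
  exact T.h_one

theorem normal_eq_bot_of_le (L : Subgroup T.R) [hL : L.Normal] (h : L ≤ T.B) : L = ⊥ := by
  rw [eq_bot_iff]
  intro g hg
  rw [Subgroup.mem_bot]
  apply T.eq_one_of_fix_all
  intro p
  obtain ⟨x, rfl⟩ := T.exists_smul_inf p
  have : (x⁻¹ * g * x⁻¹⁻¹) • T.inf = T.inf := h (hL.conj_mem g hg x⁻¹)
  rw [inv_inv, mul_smul, mul_smul, inv_smul_eq_iff] at this
  exact this

theorem normal_eq_bot_or (L : Subgroup T.R) [hL : L.Normal] : L = ⊥ ∨ T.B ⊔ L = ⊤ := by
  by_cases h : L ≤ T.B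
  · exact Or.inl (T.normal_eq_bot_of_le L h)
  · right
    obtain ⟨k, hk, hkB⟩ := Set.not_subset.mp h
    rw [eq_top_iff]
    intro g _
    by_cases hg : g ∈ T.B
    · exact Subgroup.mem_sup_left hg
    · obtain ⟨a, b, c, h1⟩ := (T.cases_Ω (k • T.inf)).resolve_left hkB
      obtain ⟨d, e, f, h2⟩ := (T.cases_Ω (g • T.inf)).resolve_left hg
      have h3 : (T.u d e f * (T.u a b c)⁻¹ * k)⁻¹ * g ∈ T.B := by
        rw [MulAction.mem_stabilizer_iff, mul_smul, inv_smul_eq_iff, mul_smul, h1, h2, mul_smul,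
          ← T.u_org a b c, inv_smul_smul, u_org]
      have : g = T.u d e f * (T.u a b c)⁻¹ * k * ((T.u d e f * (T.u a b c)⁻¹ * k)⁻¹ * g) := by
        group
      rw [this]
      refine Subgroup.mul_mem _ (Subgroup.mul_mem _ (Subgroup.mem_sup_left ?_)
        (Subgroup.mem_sup_right hk)) (Subgroup.mem_sup_left h3)
      exact T.U_le_B (T.U.mul_mem (T.u_mem_U _ _ _) (T.U.inv_mem (T.u_mem_U _ _ _)))

theorem u_ne_one {a b c : K} (h : ¬ (a = 0 ∧ b = 0 ∧ c = 0)) : T.u a b c ≠ 1 := by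
  rw [← T.u_zero, Ne, u_inj]; exact h

theorem u_eq_one {a b c : K} : T.u a b c = 1 ↔ a = 0 ∧ b = 0 ∧ c = 0 := by
  rw [← T.u_zero, u_inj]

theorem exists_unit_sq_ne_one [Finite K] (hq : 3 < Nat.card K) : ∃ k : Kˣ, (k : K) ^ 2 ≠ 1 := by
  classical
  by_contra hcon
  push Not at hcon
  have := Fintype.ofFinite K
  have h0 : (Finset.univ : Finset K) ⊆ {0, 1, -1} := by
    intro t _
    by_cases h : t = 0
    · simp [h]
    · have := hcon (Units.mk0 t h)
      simp only [Units.val_mk0, sq_eq_one_iff] at this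
      rcases this with h | h <;> simp [h]
  have h1 := Finset.card_le_card h0
  have h2 : ({0, 1, -1} : Finset K).card ≤ 3 := Finset.card_le_three
  rw [Finset.card_univ, ← Nat.card_eq_fintype_card] at h1
  omega

theorem U_le_commutator [Finite K] (hq : 3 < Nat.card K) : T.U ≤ commutator T.R := by
  have h3 := T.three
  obtain ⟨k, hk⟩ := exists_unit_sq_ne_one hq
  have hα : (k : K) - 1 ≠ 0 := fun h => hk (by rw [sub_eq_zero.mp h]; simp)
  have hβ : k * T.σ k - 1 ≠ 0 := fun h => hk (T.sq_eq_one_of_mul_σ (sub_eq_zero.mp h))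
  have hγ : k ^ 2 * T.σ k - 1 ≠ 0 :=
    fun h => hα (sub_eq_zero.mpr (T.eq_one_of_sq_mul_σ (sub_eq_zero.mp h)))
  have key : ∀ a b c, T.u (k * a) (k * T.σ k * b) (k ^ 2 * T.σ k * c) * (T.u a b c)⁻¹ ∈
      commutator T.R := by
    intro a b c
    rw [← h_conj_u, ← commutatorElement_def]
    exact Subgroup.commutator_mem_commutator (Subgroup.mem_top _) (Subgroup.mem_top _)
  have k1 : ∀ c, T.u 0 0 c ∈ commutator T.R := by
    intro c
    have := key 0 0 (c / (k ^ 2 * T.σ k - 1))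
    rw [u_inv, u_mul] at this
    convert this using 2
    · simp
    · simp
    · simp only [map_zero, mul_zero, add_zero, neg_zero, zero_mul, sub_zero]
      field_simp
      ring
  have k2 : ∀ b c, T.u 0 b c ∈ commutator T.R := by
    intro b c
    have := key 0 (b / (k * T.σ k - 1)) 0
    rw [u_inv, u_mul] at this
    have h4 := Subgroup.mul_mem _ this (k1 c)
    rw [u_mul] at h4
    convert h4 using 2
    · simp
    · simp only [map_zero, mul_zero, add_zero, neg_zero, zero_mul, sub_zero]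
      field_simp
      ring
    · simp
  rintro _ ⟨a, b, c, rfl⟩
  obtain ⟨e, f, hc⟩ : ∃ e f, T.u a e f ∈ commutator T.R := by
    have := key (a / (k - 1)) 0 0
    rw [u_inv, u_mul, show k * (a / (k - 1)) + -(a / (k - 1)) = a by field_simp; ring] at this
    exact ⟨_, _, this⟩
  have := Subgroup.mul_mem _ hc (k2 (b - e) (c - f))
  rw [u_mul] at this
  simpa using this

theorem commutator_eq_top [Finite K] (hq : 3 < Nat.card K) : commutator T.R = ⊤ := by
  refine T.eq_top_of_U_V (fun a b c => T.U_le_commutator hq (T.u_mem_U a b c)) fun a b c => ?_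
  have := (inferInstance : (commutator T.R).Normal).conj_mem _
    (T.U_le_commutator hq (T.u_mem_U a b c)) T.n
  rwa [n_inv] at this

theorem u_cube (a b c : K) : T.u a b c ^ 3 = T.u 0 0 (-(a ^ 2 * T.σ a)) := by
  have h3 := T.three
  rw [pow_three, u_mul, u_mul]
  simp only [map_add]
  congr 1 <;> grind

theorem u_pow_nine (a b c : K) : T.u a b c ^ 9 = 1 := by
  change T.u a b c ^ (3 * 3) = 1
  rw [pow_mul, u_cube, u_cube, ← T.u_zero]
  simp

theorem isPGroup_U : IsPGroup 3 T.U := by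
  rintro ⟨_, a, b, c, rfl⟩
  exact ⟨2, Subtype.ext (T.u_pow_nine a b c)⟩

theorem isSolvable_B [Finite K] : Group.IsSolvable T.B := by
  have := T.normal_U
  have : Fact (Nat.Prime 3) := ⟨Nat.prime_three⟩
  have h1 : Group.IsNilpotent T.U := T.isPGroup_U.isNilpotent
  have h2 : Group.IsSolvable (T.U.subgroupOf T.B) :=
    Group.isSolvable_of_surjective (f := (Subgroup.subgroupOfEquivOfLe T.U_le_B).symm.toMonoidHom)
      (Subgroup.subgroupOfEquivOfLe T.U_le_B).symm.surjective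
  have h3 : Group.IsSolvable (T.B ⧸ T.U.subgroupOf T.B) := by
    apply Group.isSolvable_of_surjective (f := (QuotientGroup.mk' _).comp
      (T.hHom.codRestrict T.B fun k => T.h_inf k))
    intro x
    obtain ⟨⟨g, hg⟩, rfl⟩ := QuotientGroup.mk_surjective x
    obtain ⟨a, b, c, k, rfl⟩ := T.mem_B.mp hg
    refine ⟨k, ?_⟩
    simp only [MonoidHom.comp_apply, QuotientGroup.mk'_apply]
    rw [QuotientGroup.eq, Subgroup.mem_subgroupOf]
    have := T.conj_mem_U (T.B.inv_mem (T.h_inf k)) (T.u_mem_U a b c)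
    rw [inv_inv, mul_assoc] at this
    exact this
  exact Group.isSolvable_of_ker_le_range (T.U.subgroupOf T.B).subtype
    (QuotientGroup.mk' (T.U.subgroupOf T.B)) (by simp)

theorem isSimpleGroup [Finite K] (hq : 3 < Nat.card K) : IsSimpleGroup T.R := by
  have : Nontrivial T.R := ⟨⟨_, _, T.u_ne_one (a := 0) (b := 0) (c := 1) (by simp)⟩⟩
  refine ⟨fun L hL => ?_⟩
  rcases T.normal_eq_bot_or L with h | h
  · exact Or.inl h
  · exact Or.inr (BN.eq_top_of_sup_eq_top_of_solvable T.isSolvable_B (T.commutator_eq_top hq) h)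

theorem not_comm : ¬ IsMulCommutative T.R := by
  intro h
  have h1 := h.is_comm.comm T.n (T.u 0 0 1)
  have h2 := congrArg (· • T.inf) h1
  simp only [mul_smul, u_inf, n_inf, u_org] at h2
  rw [← pt_zero, pt_inj] at h2
  simp at h2

/-- A non-trivial element of `U` fixes only the point at infinity. -/
theorem eq_inf_of_U {g : T.R} (hg : g ∈ T.U) (h1 : g ≠ 1) {p : T.Ω} (hp : g • p = p) :
    p = T.inf := by
  rcases T.cases_Ω p with h | ⟨a, b, c, rfl⟩
  · exact h
  · exfalso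
    obtain ⟨d, e, f, h2⟩ := T.U.mul_mem (T.U.mul_mem (T.U.inv_mem (T.u_mem_U a b c)) hg)
      (T.u_mem_U a b c)
    have h3 : ((T.u a b c)⁻¹ * g * T.u a b c) • T.org = T.org := by
      rw [mul_smul, mul_smul, u_org, hp, ← u_org, inv_smul_smul]
    rw [h2, u_org, ← pt_zero, pt_inj] at h3
    rw [T.u_eq_one.mpr h3] at h2
    apply h1
    calc g = T.u a b c * ((T.u a b c)⁻¹ * g * T.u a b c) * (T.u a b c)⁻¹ := by group
      _ = 1 := by rw [h2]; group

/-- A diagonal element fixing a third point has square one. -/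
theorem sq_eq_one_of_h_pt {k : Kˣ} {a b c : K} (h0 : ¬ (a = 0 ∧ b = 0 ∧ c = 0))
    (h : T.h k • T.pt a b c = T.pt a b c) : k = 1 ∨ k = -1 := by
  rw [h_pt, pt_inj] at h
  have : (k : K) ^ 2 = 1 := by
    by_cases ha : a = 0
    · by_cases hb : b = 0
      · have hc : c ≠ 0 := fun hc => h0 ⟨ha, hb, hc⟩
        rw [T.eq_one_of_sq_mul_σ (x := k) (mul_right_cancel₀ hc (by rw [h.2.2, one_mul])), one_pow]
      · exact T.sq_eq_one_of_mul_σ (mul_right_cancel₀ hb (by rw [h.2.1, one_mul]))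
    · rw [mul_right_cancel₀ ha (show k * a = 1 * a by rw [h.1, one_mul]), one_pow]
  rcases sq_eq_one_iff.mp this with h | h
  · exact Or.inl (Units.ext h)
  · exact Or.inr (Units.ext (by simpa using h))

end Ctx

end Ree
end H8
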