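import Mathlib
import Cfsg.Prelude.Def_LieTwisted
import Cfsg.Prelude.Def_ChevStructure
import Cfsg.Agent.H8.ReeG2

/-!
The action of the root elements of `G₂` on the fourteen-dimensional module in characteristic
three, in terms of the short and long coordinates.
-/

set_option autoImplicit false

namespace H8
namespace Ree
open Cfsg Cfsg.Lie Matrix

variable {K : Type*} [Field K]

/-- Integer coefficients of the entries of `x_r(t)` as polynomials in `t`. -/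
def coef (D : ChevalleyDatum) (r : Fin D.nroots) (row col : D.Idx) : List (ℕ × ℤ) :=
  match col with
  | Sum.inl i =>
      (match row with
       | Sum.inl i' => if i' = i then [(0, 1)] else []
       | Sum.inr u => if u = r then [(1, - ((D.cartanSR.getD i.val #[]).getD r.val 0))] else [])
  | Sum.inr s =>
      if s = r then (match row with | Sum.inr u => if u = r then [(0, 1)] else [] | Sum.inl _ => [])
      else if s.val = D.negIdx.getD r.val 0 then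
        (match row with
         | Sum.inl i => [(1, ((D.coroot.getD r.val #[]).getD i.val 0))]
         | Sum.inr u => if u = s then [(0, 1)] else if u = r then [(2, -1)] else [])
      else
        (match row with
         | Sum.inl _ => []
         | Sum.inr u => (if u = s then [(0, 1)] else []) ++ D.chainCoeff r.val s.val u.val)

/-- Evaluation of a list of monomials. -/
def ev (t : K) (l : List (ℕ × ℤ)) : K := (l.map fun km => ((km.2 : ℤ) : K) * t ^ km.1).sum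

theorem xMat_eq (D : ChevalleyDatum) (r : Fin D.nroots) (t : K) (row col : D.Idx) :
    D.xMat K r t row col = ev t (coef D r row col) := by
  unfold ChevalleyDatum.xMat coef ev
  rcases row with i | u <;> rcases col with j | s <;> simp only [Matrix.of_apply] <;>
    split_ifs <;> simp

/-- The coordinate index set of the fourteen-dimensional module. -/
abbrev Idx := Fin 2 ⊕ Fin 12

/-- The list of all indices. -/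
def allIdx : List Idx := [.inl 0, .inl 1, .inr 0, .inr 1, .inr 2, .inr 3, .inr 4, .inr 5, .inr 6,
  .inr 7, .inr 8, .inr 9, .inr 10, .inr 11]

theorem sum_idx (f : Idx → K) : ∑ i, f i = (allIdx.map f).sum := by
  simp [allIdx, Fintype.sum_sum_type, Fin.sum_univ_succ, add_assoc]

/-- The monomials in one row of `x_r(t)`. -/
def rowL (r : Fin 12) (row : Idx) : List (Idx × ℕ × ℤ) :=
  allIdx.flatMap fun col => (coef chevG2 r row col).map fun e => (col, e)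

/-- Evaluation of a row. -/
def evRow (t : K) (x : Idx → K) (l : List (Idx × ℕ × ℤ)) : K :=
  (l.map fun e => ((e.2.2 : ℤ) : K) * t ^ e.2.1 * x e.1).sum

theorem evRow_nil (t : K) (x : Idx → K) : evRow t x [] = 0 := rfl

theorem evRow_cons (t : K) (x : Idx → K) (i : Idx) (k : ℕ) (c : ℤ) (l : List (Idx × ℕ × ℤ)) :
    evRow t x ((i, k, c) :: l) = (c : K) * t ^ k * x i + evRow t x l := by
  simp [evRow]

theorem row_aux {ι : Type*} (t : K) (x : ι → K) (c : ι → List (ℕ × ℤ)) (l : List ι) :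
    (l.map fun col => ev t (c col) * x col).sum =
      ((l.flatMap fun col => (c col).map fun e => (col, e)).map
        fun e => ((e.2.2 : ℤ) : K) * t ^ e.2.1 * x e.1).sum := by
  induction l with
  | nil => rfl
  | cons a l ih =>
    rw [List.map_cons, List.sum_cons, List.flatMap_cons, List.map_append, List.sum_append, ih,
      ev, List.map_map, ← List.sum_map_mul_right]
    rfl

theorem x_mulVec (r : Fin 12) (t : K) (x : Idx → K) (row : Idx) :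
    (chevG2.x K r t *ᵥ x) row = evRow t x (rowL r row) := by
  have h1 : chevG2.x K r t = chevG2.xMat K r t := dif_pos r.2
  have h0 : (chevG2.xMat K r t *ᵥ x) row = ∑ col : Idx, chevG2.xMat K r t row col * x col := rfl
  have h2 : (chevG2.xMat K r t *ᵥ x) row =
      ∑ col : Idx, ev t (coef chevG2 r row col) * x col :=
    h0.trans (Finset.sum_congr rfl fun col _ => congrArg (· * x col) (xMat_eq chevG2 r t row col))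
  rw [h1]
  exact h2.trans ((sum_idx _).trans (row_aux t x (coef chevG2 r row) allIdx))

/-- The vector with short coordinates `y` and long coordinates `z`. -/
def mk (y z : V K) : Idx → K :=
  Sum.elim ![y 3, z 3] ![z 6, z 5, y 6, y 5, y 4, z 4, z 2, y 2, y 1, y 0, z 1, z 0]

theorem mk_0 (y z : V K) : mk y z (.inl 0) = y 3 := rfl
theorem mk_1 (y z : V K) : mk y z (.inl 1) = z 3 := rfl
theorem mk_2 (y z : V K) : mk y z (.inr 0) = z 6 := rfl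
theorem mk_3 (y z : V K) : mk y z (.inr 1) = z 5 := rfl
theorem mk_4 (y z : V K) : mk y z (.inr 2) = y 6 := rfl
theorem mk_5 (y z : V K) : mk y z (.inr 3) = y 5 := rfl
theorem mk_6 (y z : V K) : mk y z (.inr 4) = y 4 := rfl
theorem mk_7 (y z : V K) : mk y z (.inr 5) = z 4 := rfl
theorem mk_8 (y z : V K) : mk y z (.inr 6) = z 2 := rfl
theorem mk_9 (y z : V K) : mk y z (.inr 7) = y 2 := rfl
theorem mk_10 (y z : V K) : mk y z (.inr 8) = y 1 := rfl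
theorem mk_11 (y z : V K) : mk y z (.inr 9) = y 0 := rfl
theorem mk_12 (y z : V K) : mk y z (.inr 10) = z 1 := rfl
theorem mk_13 (y z : V K) : mk y z (.inr 11) = z 0 := rfl

theorem iext {v w : Idx → K} (h0 : v (.inl 0) = w (.inl 0)) (h1 : v (.inl 1) = w (.inl 1))
    (h2 : v (.inr 0) = w (.inr 0)) (h3 : v (.inr 1) = w (.inr 1))
    (h4 : v (.inr 2) = w (.inr 2)) (h5 : v (.inr 3) = w (.inr 3))
    (h6 : v (.inr 4) = w (.inr 4)) (h7 : v (.inr 5) = w (.inr 5))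
    (h8 : v (.inr 6) = w (.inr 6)) (h9 : v (.inr 7) = w (.inr 7))
    (h10 : v (.inr 8) = w (.inr 8)) (h11 : v (.inr 9) = w (.inr 9))
    (h12 : v (.inr 10) = w (.inr 10)) (h13 : v (.inr 11) = w (.inr 11))
    : v = w := by
  funext i
  rcases i with i | i <;> fin_cases i <;> assumption

theorem rowL_0 :
    rowL 0 (.inl 0) = [(.inl 0, 0, 1), (.inr 11, 1, -1)] ∧
    rowL 0 (.inl 1) = [(.inl 1, 0, 1), (.inr 11, 1, -2)] ∧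
    rowL 0 (.inr 0) = [(.inl 0, 1, 0), (.inl 1, 1, 1), (.inr 0, 0, 1), (.inr 11, 2, -1)] ∧
    rowL 0 (.inr 1) = [(.inr 1, 0, 1), (.inr 6, 1, 1)] ∧
    rowL 0 (.inr 2) = [(.inr 2, 0, 1), (.inr 8, 1, 1)] ∧
    rowL 0 (.inr 3) = [(.inr 3, 0, 1), (.inr 9, 1, -1)] ∧
    rowL 0 (.inr 4) = [(.inr 4, 0, 1)] ∧
    rowL 0 (.inr 5) = [(.inr 5, 0, 1), (.inr 10, 1, -1)] ∧
    rowL 0 (.inr 6) = [(.inr 6, 0, 1)] ∧
    rowL 0 (.inr 7) = [(.inr 7, 0, 1)] ∧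
    rowL 0 (.inr 8) = [(.inr 8, 0, 1)] ∧
    rowL 0 (.inr 9) = [(.inr 9, 0, 1)] ∧
    rowL 0 (.inr 10) = [(.inr 10, 0, 1)] ∧
    rowL 0 (.inr 11) = [(.inr 11, 0, 1)] := by
  refine ⟨?_, ?_, ?_, ?_, ?_, ?_, ?_, ?_, ?_, ?_, ?_, ?_, ?_, ?_⟩ <;> decide +kernel

theorem x_mk_0 (h : (3 : K) = 0) (t : K) (y z : V K) :
    chevG2.x K 0 t *ᵥ mk y z = mk (xf 0 t y + cf 0 t z) (yf 0 t z) := by
  obtain ⟨h0, h1, h2, h3, h4, h5, h6, h7, h8, h9, h10, h11, h12, h13⟩ := rowL_0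
  have key := x_mulVec 0 t (mk y z)
  refine iext ?_ ?_ ?_ ?_ ?_ ?_ ?_ ?_ ?_ ?_ ?_ ?_ ?_ ?_ <;>
    refine (key _).trans ?_ <;>
    simp only [h0, h1, h2, h3, h4, h5, h6, h7, h8, h9, h10, h11, h12, h13, evRow_cons, evRow_nil,
      mk_0, mk_1, mk_2, mk_3, mk_4, mk_5, mk_6, mk_7, mk_8, mk_9, mk_10, mk_11, mk_12, mk_13,
      xf_0, yf_0, cf_0, Pi.add_apply, Matrix.cons_val] <;> push_cast <;> grind

theorem rowL_1 :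
    rowL 1 (.inl 0) = [(.inl 0, 0, 1), (.inr 10, 1, -1)] ∧
    rowL 1 (.inl 1) = [(.inl 1, 0, 1), (.inr 10, 1, -1)] ∧
    rowL 1 (.inr 0) = [(.inr 0, 0, 1), (.inr 5, 1, 1)] ∧
    rowL 1 (.inr 1) = [(.inl 0, 1, 3), (.inl 1, 1, -1), (.inr 1, 0, 1), (.inr 10, 2, -1)] ∧
    rowL 1 (.inr 2) = [(.inr 2, 0, 1), (.inr 7, 1, 1)] ∧
    rowL 1 (.inr 3) = [(.inr 3, 0, 1)] ∧
    rowL 1 (.inr 4) = [(.inr 4, 0, 1), (.inr 9, 1, -1)] ∧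
    rowL 1 (.inr 5) = [(.inr 5, 0, 1)] ∧
    rowL 1 (.inr 6) = [(.inr 6, 0, 1), (.inr 11, 1, -1)] ∧
    rowL 1 (.inr 7) = [(.inr 7, 0, 1)] ∧
    rowL 1 (.inr 8) = [(.inr 8, 0, 1)] ∧
    rowL 1 (.inr 9) = [(.inr 9, 0, 1)] ∧
    rowL 1 (.inr 10) = [(.inr 10, 0, 1)] ∧
    rowL 1 (.inr 11) = [(.inr 11, 0, 1)] := by
  refine ⟨?_, ?_, ?_, ?_, ?_, ?_, ?_, ?_, ?_, ?_, ?_, ?_, ?_, ?_⟩ <;> decide +kernel

theorem x_mk_1 (h : (3 : K) = 0) (t : K) (y z : V K) :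
    chevG2.x K 1 t *ᵥ mk y z = mk (xf 1 t y + cf 1 t z) (yf 1 t z) := by
  obtain ⟨h0, h1, h2, h3, h4, h5, h6, h7, h8, h9, h10, h11, h12, h13⟩ := rowL_1
  have key := x_mulVec 1 t (mk y z)
  refine iext ?_ ?_ ?_ ?_ ?_ ?_ ?_ ?_ ?_ ?_ ?_ ?_ ?_ ?_ <;>
    refine (key _).trans ?_ <;>
    simp only [h0, h1, h2, h3, h4, h5, h6, h7, h8, h9, h10, h11, h12, h13, evRow_cons, evRow_nil,
      mk_0, mk_1, mk_2, mk_3, mk_4, mk_5, mk_6, mk_7, mk_8, mk_9, mk_10, mk_11, mk_12, mk_13,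
      xf_1, yf_1, cf_1, Pi.add_apply, Matrix.cons_val] <;> push_cast <;> grind

theorem rowL_2 :
    rowL 2 (.inl 0) = [(.inl 0, 0, 1), (.inr 9, 1, -2)] ∧
    rowL 2 (.inl 1) = [(.inl 1, 0, 1), (.inr 9, 1, -3)] ∧
    rowL 2 (.inr 0) = [(.inr 0, 0, 1), (.inr 3, 1, 3), (.inr 7, 2, -3), (.inr 10, 3, 1)] ∧
    rowL 2 (.inr 1) = [(.inr 1, 0, 1), (.inr 4, 1, 3), (.inr 8, 2, 3), (.inr 11, 3, -1)] ∧
    rowL 2 (.inr 2) = [(.inl 0, 1, 1), (.inl 1, 1, 0), (.inr 2, 0, 1), (.inr 9, 2, -1)] ∧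
    rowL 2 (.inr 3) = [(.inr 3, 0, 1), (.inr 7, 1, -2), (.inr 10, 2, 1)] ∧
    rowL 2 (.inr 4) = [(.inr 4, 0, 1), (.inr 8, 1, 2), (.inr 11, 2, -1)] ∧
    rowL 2 (.inr 5) = [(.inr 5, 0, 1)] ∧
    rowL 2 (.inr 6) = [(.inr 6, 0, 1)] ∧
    rowL 2 (.inr 7) = [(.inr 7, 0, 1), (.inr 10, 1, -1)] ∧
    rowL 2 (.inr 8) = [(.inr 8, 0, 1), (.inr 11, 1, -1)] ∧
    rowL 2 (.inr 9) = [(.inr 9, 0, 1)] ∧
    rowL 2 (.inr 10) = [(.inr 10, 0, 1)] ∧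
    rowL 2 (.inr 11) = [(.inr 11, 0, 1)] := by
  refine ⟨?_, ?_, ?_, ?_, ?_, ?_, ?_, ?_, ?_, ?_, ?_, ?_, ?_, ?_⟩ <;> decide +kernel

theorem x_mk_2 (h : (3 : K) = 0) (t : K) (y z : V K) :
    chevG2.x K 2 t *ᵥ mk y z = mk (xf 2 t y + cf 2 t z) (yf 2 t z) := by
  obtain ⟨h0, h1, h2, h3, h4, h5, h6, h7, h8, h9, h10, h11, h12, h13⟩ := rowL_2
  have key := x_mulVec 2 t (mk y z)
  refine iext ?_ ?_ ?_ ?_ ?_ ?_ ?_ ?_ ?_ ?_ ?_ ?_ ?_ ?_ <;>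
    refine (key _).trans ?_ <;>
    simp only [h0, h1, h2, h3, h4, h5, h6, h7, h8, h9, h10, h11, h12, h13, evRow_cons, evRow_nil,
      mk_0, mk_1, mk_2, mk_3, mk_4, mk_5, mk_6, mk_7, mk_8, mk_9, mk_10, mk_11, mk_12, mk_13,
      xf_2, yf_2, cf_2, Pi.add_apply, Matrix.cons_val] <;> push_cast <;> grind

theorem rowL_3 :
    rowL 3 (.inl 0) = [(.inl 0, 0, 1), (.inr 8, 1, -1)] ∧
    rowL 3 (.inl 1) = [(.inl 1, 0, 1), (.inr 8, 1, -3)] ∧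
    rowL 3 (.inr 0) = [(.inr 0, 0, 1), (.inr 2, 1, -3), (.inr 4, 2, 3), (.inr 6, 3, 1)] ∧
    rowL 3 (.inr 1) = [(.inr 1, 0, 1)] ∧
    rowL 3 (.inr 2) = [(.inr 2, 0, 1), (.inr 4, 1, -2), (.inr 6, 2, -1)] ∧
    rowL 3 (.inr 3) = [(.inl 0, 1, -1), (.inl 1, 1, 1), (.inr 3, 0, 1), (.inr 8, 2, -1)] ∧
    rowL 3 (.inr 4) = [(.inr 4, 0, 1), (.inr 6, 1, 1)] ∧
    rowL 3 (.inr 5) = [(.inr 5, 0, 1), (.inr 7, 1, -3), (.inr 9, 2, -3), (.inr 11, 3, -1)] ∧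
    rowL 3 (.inr 6) = [(.inr 6, 0, 1)] ∧
    rowL 3 (.inr 7) = [(.inr 7, 0, 1), (.inr 9, 1, 2), (.inr 11, 2, 1)] ∧
    rowL 3 (.inr 8) = [(.inr 8, 0, 1)] ∧
    rowL 3 (.inr 9) = [(.inr 9, 0, 1), (.inr 11, 1, 1)] ∧
    rowL 3 (.inr 10) = [(.inr 10, 0, 1)] ∧
    rowL 3 (.inr 11) = [(.inr 11, 0, 1)] := by
  refine ⟨?_, ?_, ?_, ?_, ?_, ?_, ?_, ?_, ?_, ?_, ?_, ?_, ?_, ?_⟩ <;> decide +kernel

theorem x_mk_3 (h : (3 : K) = 0) (t : K) (y z : V K) :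
    chevG2.x K 3 t *ᵥ mk y z = mk (xf 3 t y + cf 3 t z) (yf 3 t z) := by
  obtain ⟨h0, h1, h2, h3, h4, h5, h6, h7, h8, h9, h10, h11, h12, h13⟩ := rowL_3
  have key := x_mulVec 3 t (mk y z)
  refine iext ?_ ?_ ?_ ?_ ?_ ?_ ?_ ?_ ?_ ?_ ?_ ?_ ?_ ?_ <;>
    refine (key _).trans ?_ <;>
    simp only [h0, h1, h2, h3, h4, h5, h6, h7, h8, h9, h10, h11, h12, h13, evRow_cons, evRow_nil,
      mk_0, mk_1, mk_2, mk_3, mk_4, mk_5, mk_6, mk_7, mk_8, mk_9, mk_10, mk_11, mk_12, mk_13,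
      xf_3, yf_3, cf_3, Pi.add_apply, Matrix.cons_val] <;> push_cast <;> grind

theorem rowL_4 :
    rowL 4 (.inl 0) = [(.inl 0, 0, 1), (.inr 7, 1, -1)] ∧
    rowL 4 (.inl 1) = [(.inl 1, 0, 1), (.inr 7, 1, 0)] ∧
    rowL 4 (.inr 0) = [(.inr 0, 0, 1)] ∧
    rowL 4 (.inr 1) = [(.inr 1, 0, 1), (.inr 2, 1, -3), (.inr 3, 2, -3), (.inr 5, 3, -1)] ∧
    rowL 4 (.inr 2) = [(.inr 2, 0, 1), (.inr 3, 1, 2), (.inr 5, 2, 1)] ∧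
    rowL 4 (.inr 3) = [(.inr 3, 0, 1), (.inr 5, 1, 1)] ∧
    rowL 4 (.inr 4) = [(.inl 0, 1, 2), (.inl 1, 1, -1), (.inr 4, 0, 1), (.inr 7, 2, -1)] ∧
    rowL 4 (.inr 5) = [(.inr 5, 0, 1)] ∧
    rowL 4 (.inr 6) = [(.inr 6, 0, 1), (.inr 8, 1, -3), (.inr 9, 2, 3), (.inr 10, 3, 1)] ∧
    rowL 4 (.inr 7) = [(.inr 7, 0, 1)] ∧
    rowL 4 (.inr 8) = [(.inr 8, 0, 1), (.inr 9, 1, -2), (.inr 10, 2, -1)] ∧
    rowL 4 (.inr 9) = [(.inr 9, 0, 1), (.inr 10, 1, 1)] ∧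
    rowL 4 (.inr 10) = [(.inr 10, 0, 1)] ∧
    rowL 4 (.inr 11) = [(.inr 11, 0, 1)] := by
  refine ⟨?_, ?_, ?_, ?_, ?_, ?_, ?_, ?_, ?_, ?_, ?_, ?_, ?_, ?_⟩ <;> decide +kernel

theorem x_mk_4 (h : (3 : K) = 0) (t : K) (y z : V K) :
    chevG2.x K 4 t *ᵥ mk y z = mk (xf 4 t y + cf 4 t z) (yf 4 t z) := by
  obtain ⟨h0, h1, h2, h3, h4, h5, h6, h7, h8, h9, h10, h11, h12, h13⟩ := rowL_4
  have key := x_mulVec 4 t (mk y z)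
  refine iext ?_ ?_ ?_ ?_ ?_ ?_ ?_ ?_ ?_ ?_ ?_ ?_ ?_ ?_ <;>
    refine (key _).trans ?_ <;>
    simp only [h0, h1, h2, h3, h4, h5, h6, h7, h8, h9, h10, h11, h12, h13, evRow_cons, evRow_nil,
      mk_0, mk_1, mk_2, mk_3, mk_4, mk_5, mk_6, mk_7, mk_8, mk_9, mk_10, mk_11, mk_12, mk_13,
      xf_4, yf_4, cf_4, Pi.add_apply, Matrix.cons_val] <;> push_cast <;> grind

theorem rowL_5 :
    rowL 5 (.inl 0) = [(.inl 0, 0, 1), (.inr 6, 1, 0)] ∧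
    rowL 5 (.inl 1) = [(.inl 1, 0, 1), (.inr 6, 1, -1)] ∧
    rowL 5 (.inr 0) = [(.inr 0, 0, 1), (.inr 1, 1, -1)] ∧
    rowL 5 (.inr 1) = [(.inr 1, 0, 1)] ∧
    rowL 5 (.inr 2) = [(.inr 2, 0, 1)] ∧
    rowL 5 (.inr 3) = [(.inr 3, 0, 1), (.inr 4, 1, -1)] ∧
    rowL 5 (.inr 4) = [(.inr 4, 0, 1)] ∧
    rowL 5 (.inr 5) = [(.inl 0, 1, -3), (.inl 1, 1, 2), (.inr 5, 0, 1), (.inr 6, 2, -1)] ∧
    rowL 5 (.inr 6) = [(.inr 6, 0, 1)] ∧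
    rowL 5 (.inr 7) = [(.inr 7, 0, 1), (.inr 8, 1, 1)] ∧
    rowL 5 (.inr 8) = [(.inr 8, 0, 1)] ∧
    rowL 5 (.inr 9) = [(.inr 9, 0, 1)] ∧
    rowL 5 (.inr 10) = [(.inr 10, 0, 1), (.inr 11, 1, 1)] ∧
    rowL 5 (.inr 11) = [(.inr 11, 0, 1)] := by
  refine ⟨?_, ?_, ?_, ?_, ?_, ?_, ?_, ?_, ?_, ?_, ?_, ?_, ?_, ?_⟩ <;> decide +kernel

theorem x_mk_5 (h : (3 : K) = 0) (t : K) (y z : V K) :
    chevG2.x K 5 t *ᵥ mk y z = mk (xf 5 t y + cf 5 t z) (yf 5 t z) := by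
  obtain ⟨h0, h1, h2, h3, h4, h5, h6, h7, h8, h9, h10, h11, h12, h13⟩ := rowL_5
  have key := x_mulVec 5 t (mk y z)
  refine iext ?_ ?_ ?_ ?_ ?_ ?_ ?_ ?_ ?_ ?_ ?_ ?_ ?_ ?_ <;>
    refine (key _).trans ?_ <;>
    simp only [h0, h1, h2, h3, h4, h5, h6, h7, h8, h9, h10, h11, h12, h13, evRow_cons, evRow_nil,
      mk_0, mk_1, mk_2, mk_3, mk_4, mk_5, mk_6, mk_7, mk_8, mk_9, mk_10, mk_11, mk_12, mk_13,
      xf_5, yf_5, cf_5, Pi.add_apply, Matrix.cons_val] <;> push_cast <;> grind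

theorem rowL_6 :
    rowL 6 (.inl 0) = [(.inl 0, 0, 1), (.inr 5, 1, 0)] ∧
    rowL 6 (.inl 1) = [(.inl 1, 0, 1), (.inr 5, 1, 1)] ∧
    rowL 6 (.inr 0) = [(.inr 0, 0, 1)] ∧
    rowL 6 (.inr 1) = [(.inr 0, 1, -1), (.inr 1, 0, 1)] ∧
    rowL 6 (.inr 2) = [(.inr 2, 0, 1)] ∧
    rowL 6 (.inr 3) = [(.inr 3, 0, 1)] ∧
    rowL 6 (.inr 4) = [(.inr 3, 1, -1), (.inr 4, 0, 1)] ∧
    rowL 6 (.inr 5) = [(.inr 5, 0, 1)] ∧
    rowL 6 (.inr 6) = [(.inl 0, 1, 3), (.inl 1, 1, -2), (.inr 5, 2, -1), (.inr 6, 0, 1)] ∧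
    rowL 6 (.inr 7) = [(.inr 7, 0, 1)] ∧
    rowL 6 (.inr 8) = [(.inr 7, 1, 1), (.inr 8, 0, 1)] ∧
    rowL 6 (.inr 9) = [(.inr 9, 0, 1)] ∧
    rowL 6 (.inr 10) = [(.inr 10, 0, 1)] ∧
    rowL 6 (.inr 11) = [(.inr 10, 1, 1), (.inr 11, 0, 1)] := by
  refine ⟨?_, ?_, ?_, ?_, ?_, ?_, ?_, ?_, ?_, ?_, ?_, ?_, ?_, ?_⟩ <;> decide +kernel

theorem x_mk_6 (h : (3 : K) = 0) (t : K) (y z : V K) :
    chevG2.x K 6 t *ᵥ mk y z = mk (xf 6 t y + cf 6 t z) (yf 6 t z) := by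
  obtain ⟨h0, h1, h2, h3, h4, h5, h6, h7, h8, h9, h10, h11, h12, h13⟩ := rowL_6
  have key := x_mulVec 6 t (mk y z)
  refine iext ?_ ?_ ?_ ?_ ?_ ?_ ?_ ?_ ?_ ?_ ?_ ?_ ?_ ?_ <;>
    refine (key _).trans ?_ <;>
    simp only [h0, h1, h2, h3, h4, h5, h6, h7, h8, h9, h10, h11, h12, h13, evRow_cons, evRow_nil,
      mk_0, mk_1, mk_2, mk_3, mk_4, mk_5, mk_6, mk_7, mk_8, mk_9, mk_10, mk_11, mk_12, mk_13,
      xf_6, yf_6, cf_6, Pi.add_apply, Matrix.cons_val] <;> push_cast <;> grind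

theorem rowL_7 :
    rowL 7 (.inl 0) = [(.inl 0, 0, 1), (.inr 4, 1, 1)] ∧
    rowL 7 (.inl 1) = [(.inl 1, 0, 1), (.inr 4, 1, 0)] ∧
    rowL 7 (.inr 0) = [(.inr 0, 0, 1)] ∧
    rowL 7 (.inr 1) = [(.inr 1, 0, 1)] ∧
    rowL 7 (.inr 2) = [(.inr 1, 1, -1), (.inr 2, 0, 1)] ∧
    rowL 7 (.inr 3) = [(.inr 1, 2, -1), (.inr 2, 1, 2), (.inr 3, 0, 1)] ∧
    rowL 7 (.inr 4) = [(.inr 4, 0, 1)] ∧
    rowL 7 (.inr 5) = [(.inr 1, 3, -1), (.inr 2, 2, 3), (.inr 3, 1, 3), (.inr 5, 0, 1)] ∧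
    rowL 7 (.inr 6) = [(.inr 6, 0, 1)] ∧
    rowL 7 (.inr 7) = [(.inl 0, 1, -2), (.inl 1, 1, 1), (.inr 4, 2, -1), (.inr 7, 0, 1)] ∧
    rowL 7 (.inr 8) = [(.inr 6, 1, -1), (.inr 8, 0, 1)] ∧
    rowL 7 (.inr 9) = [(.inr 6, 2, 1), (.inr 8, 1, -2), (.inr 9, 0, 1)] ∧
    rowL 7 (.inr 10) = [(.inr 6, 3, 1), (.inr 8, 2, -3), (.inr 9, 1, 3), (.inr 10, 0, 1)] ∧
    rowL 7 (.inr 11) = [(.inr 11, 0, 1)] := by
  refine ⟨?_, ?_, ?_, ?_, ?_, ?_, ?_, ?_, ?_, ?_, ?_, ?_, ?_, ?_⟩ <;> decide +kernel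

theorem x_mk_7 (h : (3 : K) = 0) (t : K) (y z : V K) :
    chevG2.x K 7 t *ᵥ mk y z = mk (xf 7 t y + cf 7 t z) (yf 7 t z) := by
  obtain ⟨h0, h1, h2, h3, h4, h5, h6, h7, h8, h9, h10, h11, h12, h13⟩ := rowL_7
  have key := x_mulVec 7 t (mk y z)
  refine iext ?_ ?_ ?_ ?_ ?_ ?_ ?_ ?_ ?_ ?_ ?_ ?_ ?_ ?_ <;>
    refine (key _).trans ?_ <;>
    simp only [h0, h1, h2, h3, h4, h5, h6, h7, h8, h9, h10, h11, h12, h13, evRow_cons, evRow_nil,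
      mk_0, mk_1, mk_2, mk_3, mk_4, mk_5, mk_6, mk_7, mk_8, mk_9, mk_10, mk_11, mk_12, mk_13,
      xf_7, yf_7, cf_7, Pi.add_apply, Matrix.cons_val] <;> push_cast <;> grind

theorem rowL_8 :
    rowL 8 (.inl 0) = [(.inl 0, 0, 1), (.inr 3, 1, 1)] ∧
    rowL 8 (.inl 1) = [(.inl 1, 0, 1), (.inr 3, 1, 3)] ∧
    rowL 8 (.inr 0) = [(.inr 0, 0, 1)] ∧
    rowL 8 (.inr 1) = [(.inr 1, 0, 1)] ∧
    rowL 8 (.inr 2) = [(.inr 0, 1, -1), (.inr 2, 0, 1)] ∧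
    rowL 8 (.inr 3) = [(.inr 3, 0, 1)] ∧
    rowL 8 (.inr 4) = [(.inr 0, 2, 1), (.inr 2, 1, -2), (.inr 4, 0, 1)] ∧
    rowL 8 (.inr 5) = [(.inr 5, 0, 1)] ∧
    rowL 8 (.inr 6) = [(.inr 0, 3, 1), (.inr 2, 2, -3), (.inr 4, 1, 3), (.inr 6, 0, 1)] ∧
    rowL 8 (.inr 7) = [(.inr 5, 1, -1), (.inr 7, 0, 1)] ∧
    rowL 8 (.inr 8) = [(.inl 0, 1, 1), (.inl 1, 1, -1), (.inr 3, 2, -1), (.inr 8, 0, 1)] ∧
    rowL 8 (.inr 9) = [(.inr 5, 2, -1), (.inr 7, 1, 2), (.inr 9, 0, 1)] ∧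
    rowL 8 (.inr 10) = [(.inr 10, 0, 1)] ∧
    rowL 8 (.inr 11) = [(.inr 5, 3, -1), (.inr 7, 2, 3), (.inr 9, 1, 3), (.inr 11, 0, 1)] := by
  refine ⟨?_, ?_, ?_, ?_, ?_, ?_, ?_, ?_, ?_, ?_, ?_, ?_, ?_, ?_⟩ <;> decide +kernel

theorem x_mk_8 (h : (3 : K) = 0) (t : K) (y z : V K) :
    chevG2.x K 8 t *ᵥ mk y z = mk (xf 8 t y + cf 8 t z) (yf 8 t z) := by
  obtain ⟨h0, h1, h2, h3, h4, h5, h6, h7, h8, h9, h10, h11, h12, h13⟩ := rowL_8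
  have key := x_mulVec 8 t (mk y z)
  refine iext ?_ ?_ ?_ ?_ ?_ ?_ ?_ ?_ ?_ ?_ ?_ ?_ ?_ ?_ <;>
    refine (key _).trans ?_ <;>
    simp only [h0, h1, h2, h3, h4, h5, h6, h7, h8, h9, h10, h11, h12, h13, evRow_cons, evRow_nil,
      mk_0, mk_1, mk_2, mk_3, mk_4, mk_5, mk_6, mk_7, mk_8, mk_9, mk_10, mk_11, mk_12, mk_13,
      xf_8, yf_8, cf_8, Pi.add_apply, Matrix.cons_val] <;> push_cast <;> grind

theorem rowL_9 :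
    rowL 9 (.inl 0) = [(.inl 0, 0, 1), (.inr 2, 1, 2)] ∧
    rowL 9 (.inl 1) = [(.inl 1, 0, 1), (.inr 2, 1, 3)] ∧
    rowL 9 (.inr 0) = [(.inr 0, 0, 1)] ∧
    rowL 9 (.inr 1) = [(.inr 1, 0, 1)] ∧
    rowL 9 (.inr 2) = [(.inr 2, 0, 1)] ∧
    rowL 9 (.inr 3) = [(.inr 0, 1, 1), (.inr 3, 0, 1)] ∧
    rowL 9 (.inr 4) = [(.inr 1, 1, 1), (.inr 4, 0, 1)] ∧
    rowL 9 (.inr 5) = [(.inr 5, 0, 1)] ∧
    rowL 9 (.inr 6) = [(.inr 6, 0, 1)] ∧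
    rowL 9 (.inr 7) = [(.inr 0, 2, -1), (.inr 3, 1, -2), (.inr 7, 0, 1)] ∧
    rowL 9 (.inr 8) = [(.inr 1, 2, 1), (.inr 4, 1, 2), (.inr 8, 0, 1)] ∧
    rowL 9 (.inr 9) = [(.inl 0, 1, -1), (.inl 1, 1, 0), (.inr 2, 2, -1), (.inr 9, 0, 1)] ∧
    rowL 9 (.inr 10) = [(.inr 0, 3, 1), (.inr 3, 2, 3), (.inr 7, 1, -3), (.inr 10, 0, 1)] ∧
    rowL 9 (.inr 11) = [(.inr 1, 3, -1), (.inr 4, 2, -3), (.inr 8, 1, -3), (.inr 11, 0, 1)] := by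
  refine ⟨?_, ?_, ?_, ?_, ?_, ?_, ?_, ?_, ?_, ?_, ?_, ?_, ?_, ?_⟩ <;> decide +kernel

theorem x_mk_9 (h : (3 : K) = 0) (t : K) (y z : V K) :
    chevG2.x K 9 t *ᵥ mk y z = mk (xf 9 t y + cf 9 t z) (yf 9 t z) := by
  obtain ⟨h0, h1, h2, h3, h4, h5, h6, h7, h8, h9, h10, h11, h12, h13⟩ := rowL_9
  have key := x_mulVec 9 t (mk y z)
  refine iext ?_ ?_ ?_ ?_ ?_ ?_ ?_ ?_ ?_ ?_ ?_ ?_ ?_ ?_ <;>
    refine (key _).trans ?_ <;>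
    simp only [h0, h1, h2, h3, h4, h5, h6, h7, h8, h9, h10, h11, h12, h13, evRow_cons, evRow_nil,
      mk_0, mk_1, mk_2, mk_3, mk_4, mk_5, mk_6, mk_7, mk_8, mk_9, mk_10, mk_11, mk_12, mk_13,
      xf_9, yf_9, cf_9, Pi.add_apply, Matrix.cons_val] <;> push_cast <;> grind

theorem rowL_10 :
    rowL 10 (.inl 0) = [(.inl 0, 0, 1), (.inr 1, 1, 1)] ∧
    rowL 10 (.inl 1) = [(.inl 1, 0, 1), (.inr 1, 1, 1)] ∧
    rowL 10 (.inr 0) = [(.inr 0, 0, 1)] ∧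
    rowL 10 (.inr 1) = [(.inr 1, 0, 1)] ∧
    rowL 10 (.inr 2) = [(.inr 2, 0, 1)] ∧
    rowL 10 (.inr 3) = [(.inr 3, 0, 1)] ∧
    rowL 10 (.inr 4) = [(.inr 4, 0, 1)] ∧
    rowL 10 (.inr 5) = [(.inr 0, 1, 1), (.inr 5, 0, 1)] ∧
    rowL 10 (.inr 6) = [(.inr 6, 0, 1)] ∧
    rowL 10 (.inr 7) = [(.inr 2, 1, 1), (.inr 7, 0, 1)] ∧
    rowL 10 (.inr 8) = [(.inr 8, 0, 1)] ∧
    rowL 10 (.inr 9) = [(.inr 4, 1, -1), (.inr 9, 0, 1)] ∧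
    rowL 10 (.inr 10) = [(.inl 0, 1, -3), (.inl 1, 1, 1), (.inr 1, 2, -1), (.inr 10, 0, 1)] ∧
    rowL 10 (.inr 11) = [(.inr 6, 1, -1), (.inr 11, 0, 1)] := by
  refine ⟨?_, ?_, ?_, ?_, ?_, ?_, ?_, ?_, ?_, ?_, ?_, ?_, ?_, ?_⟩ <;> decide +kernel

theorem x_mk_10 (h : (3 : K) = 0) (t : K) (y z : V K) :
    chevG2.x K 10 t *ᵥ mk y z = mk (xf 10 t y + cf 10 t z) (yf 10 t z) := by
  obtain ⟨h0, h1, h2, h3, h4, h5, h6, h7, h8, h9, h10, h11, h12, h13⟩ := rowL_10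
  have key := x_mulVec 10 t (mk y z)
  refine iext ?_ ?_ ?_ ?_ ?_ ?_ ?_ ?_ ?_ ?_ ?_ ?_ ?_ ?_ <;>
    refine (key _).trans ?_ <;>
    simp only [h0, h1, h2, h3, h4, h5, h6, h7, h8, h9, h10, h11, h12, h13, evRow_cons, evRow_nil,
      mk_0, mk_1, mk_2, mk_3, mk_4, mk_5, mk_6, mk_7, mk_8, mk_9, mk_10, mk_11, mk_12, mk_13,
      xf_10, yf_10, cf_10, Pi.add_apply, Matrix.cons_val] <;> push_cast <;> grind

theorem rowL_11 :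
    rowL 11 (.inl 0) = [(.inl 0, 0, 1), (.inr 0, 1, 1)] ∧
    rowL 11 (.inl 1) = [(.inl 1, 0, 1), (.inr 0, 1, 2)] ∧
    rowL 11 (.inr 0) = [(.inr 0, 0, 1)] ∧
    rowL 11 (.inr 1) = [(.inr 1, 0, 1)] ∧
    rowL 11 (.inr 2) = [(.inr 2, 0, 1)] ∧
    rowL 11 (.inr 3) = [(.inr 3, 0, 1)] ∧
    rowL 11 (.inr 4) = [(.inr 4, 0, 1)] ∧
    rowL 11 (.inr 5) = [(.inr 5, 0, 1)] ∧
    rowL 11 (.inr 6) = [(.inr 1, 1, 1), (.inr 6, 0, 1)] ∧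
    rowL 11 (.inr 7) = [(.inr 7, 0, 1)] ∧
    rowL 11 (.inr 8) = [(.inr 2, 1, 1), (.inr 8, 0, 1)] ∧
    rowL 11 (.inr 9) = [(.inr 3, 1, -1), (.inr 9, 0, 1)] ∧
    rowL 11 (.inr 10) = [(.inr 5, 1, -1), (.inr 10, 0, 1)] ∧
    rowL 11 (.inr 11) = [(.inl 0, 1, 0), (.inl 1, 1, -1), (.inr 0, 2, -1), (.inr 11, 0, 1)] := by
  refine ⟨?_, ?_, ?_, ?_, ?_, ?_, ?_, ?_, ?_, ?_, ?_, ?_, ?_, ?_⟩ <;> decide +kernel

theorem x_mk_11 (h : (3 : K) = 0) (t : K) (y z : V K) :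
    chevG2.x K 11 t *ᵥ mk y z = mk (xf 11 t y + cf 11 t z) (yf 11 t z) := by
  obtain ⟨h0, h1, h2, h3, h4, h5, h6, h7, h8, h9, h10, h11, h12, h13⟩ := rowL_11
  have key := x_mulVec 11 t (mk y z)
  refine iext ?_ ?_ ?_ ?_ ?_ ?_ ?_ ?_ ?_ ?_ ?_ ?_ ?_ ?_ <;>
    refine (key _).trans ?_ <;>
    simp only [h0, h1, h2, h3, h4, h5, h6, h7, h8, h9, h10, h11, h12, h13, evRow_cons, evRow_nil,
      mk_0, mk_1, mk_2, mk_3, mk_4, mk_5, mk_6, mk_7, mk_8, mk_9, mk_10, mk_11, mk_12, mk_13,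
      xf_11, yf_11, cf_11, Pi.add_apply, Matrix.cons_val] <;> push_cast <;> grind

theorem x_mk (h : (3 : K) = 0) (r : ℕ) (t : K) (y z : V K) :
    chevG2.x K r t *ᵥ mk y z = mk (xf r t y + cf r t z) (yf r t z) :=
  match r with
  | 0 => x_mk_0 h t y z
  | 1 => x_mk_1 h t y z
  | 2 => x_mk_2 h t y z
  | 3 => x_mk_3 h t y z
  | 4 => x_mk_4 h t y z
  | 5 => x_mk_5 h t y z
  | 6 => x_mk_6 h t y z
  | 7 => x_mk_7 h t y z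
  | 8 => x_mk_8 h t y z
  | 9 => x_mk_9 h t y z
  | 10 => x_mk_10 h t y z
  | 11 => x_mk_11 h t y z
  | r + 12 => by
    have : chevG2.x K (r + 12) t = 1 := dif_neg (by change ¬ r + 12 < 12; omega)
    rw [this, xf_ge, yf_ge, cf_ge, add_zero]
    exact Matrix.one_mulVec _

/-- The short coordinates. -/
def sh (x : Idx → K) : V K :=
  ![x (.inr 9), x (.inr 8), x (.inr 7), x (.inl 0), x (.inr 4), x (.inr 3), x (.inr 2)]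

/-- The long coordinates. -/
def lg (x : Idx → K) : V K :=
  ![x (.inr 11), x (.inr 10), x (.inr 6), x (.inl 1), x (.inr 5), x (.inr 1), x (.inr 0)]

theorem sh_mk (y z : V K) : sh (mk y z) = y := by
  refine vext ?_ ?_ ?_ ?_ ?_ ?_ ?_ <;> rfl

theorem lg_mk (y z : V K) : lg (mk y z) = z := by
  refine vext ?_ ?_ ?_ ?_ ?_ ?_ ?_ <;> rfl

theorem mk_sh_lg (x : Idx → K) : mk (sh x) (lg x) = x := by
  refine iext ?_ ?_ ?_ ?_ ?_ ?_ ?_ ?_ ?_ ?_ ?_ ?_ ?_ ?_ <;> rfl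

end Ree
end H8
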