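import Mathlib
import Cfsg.Prelude.Def_LieTwisted
import Cfsg.Prelude.Def_ChevStructure
import Cfsg.Agent.H8.ReeX14
import Cfsg.Agent.H8.ReeGroup

/-!
The maps induced on the seven-dimensional short ideal by matrices of the Chevalley group `G₂`
in characteristic three.
-/

set_option autoImplicit false

namespace H8
namespace Ree
open Cfsg Cfsg.Lie Matrix

/-- A submonoid of a finite group is a subgroup. -/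
def finSub {G : Type*} [Group G] [Finite G] (P : G → Prop) (h1 : P 1)
    (hm : ∀ x y, P x → P y → P (x * y)) : Subgroup G where
  carrier := {g | P g}
  one_mem' := h1
  mul_mem' := hm _ _
  inv_mem' := by
    intro g hg
    have key : ∀ n : ℕ, P (g ^ n) := by
      intro n
      induction n with
      | zero => rwa [pow_zero]
      | succ n ih => rw [pow_succ]; exact hm _ _ ih hg
    have : g⁻¹ = g ^ (orderOf g - 1) := by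
      rw [inv_eq_iff_mul_eq_one, ← pow_succ', Nat.sub_add_cancel (orderOf_pos g),
        pow_orderOf_eq_one]
    rw [this]
    exact key _

variable {K : Type*} [Field K]

theorem mk_smul (c : K) (y : V K) : mk (c • y) 0 = c • mk y 0 := by
  refine iext ?_ ?_ ?_ ?_ ?_ ?_ ?_ ?_ ?_ ?_ ?_ ?_ ?_ ?_ <;>
    simp only [Pi.smul_apply, mk_0, mk_1, mk_2, mk_3, mk_4, mk_5, mk_6, mk_7, mk_8, mk_9, mk_10,
      mk_11, mk_12, mk_13, Pi.zero_apply, smul_zero]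

theorem J_nondeg {v w : V K} (h : ∀ x, J v x = J w x) : v = w := by
  have h0 := h ![0, 0, 0, 0, 0, 0, 1]
  have h1 := h ![0, 0, 0, 0, 0, 1, 0]
  have h2 := h ![0, 0, 0, 0, 1, 0, 0]
  have h3 := h ![0, 0, 0, 1, 0, 0, 0]
  have h4 := h ![0, 0, 1, 0, 0, 0, 0]
  have h5 := h ![0, 1, 0, 0, 0, 0, 0]
  have h6 := h ![1, 0, 0, 0, 0, 0, 0]
  simp [J_def] at h0 h1 h2 h3 h4 h5 h6
  exact vext h0 h1 h2 h3 h4 h5 h6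

/-- The action of a matrix on the fourteen-dimensional module. -/
def act (M : Matrix chevG2.Idx chevG2.Idx K) (x : Idx → K) : Idx → K :=
  Matrix.mulVec (m := chevG2.Idx) (n := chevG2.Idx) M x

theorem act_one (x : Idx → K) : act 1 x = x := Matrix.one_mulVec _

theorem act_mul (M M' : Matrix chevG2.Idx chevG2.Idx K) (x : Idx → K) :
    act (M * M') x = act M (act M' x) := (Matrix.mulVec_mulVec _ _ _).symm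

theorem act_smul (M : Matrix chevG2.Idx chevG2.Idx K) (c : K) (x : Idx → K) :
    act M (c • x) = c • act M x := Matrix.mulVec_smul _ _ _

theorem act_x (h3 : (3 : K) = 0) (r : ℕ) (t : K) (y z : V K) :
    act (chevG2.x K r t) (mk y z) = mk (xf r t y + cf r t z) (yf r t z) := x_mk h3 r t y z

/-- The matrix `M` on the fourteen-dimensional module induces `A` on the short ideal. -/
structure Rel (M : Matrix chevG2.Idx chevG2.Idx K) (A : V K → V K) : Prop where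
  intro ::
  short : ∀ y, act M (mk y 0) = mk (A y) 0
  cov : ∀ (x : Idx → K) v, ρ (sh (act M x)) (lg (act M x)) (A v) = A (ρ (sh x) (lg x) v)
  form : ∀ v w, J (A v) (A w) = J v w

theorem Rel.one : Rel (1 : Matrix chevG2.Idx chevG2.Idx K) id where
  short y := act_one _
  cov x v := by rw [act_one]; rfl
  form _ _ := rfl

theorem Rel.mul {M M' : Matrix chevG2.Idx chevG2.Idx K} {A A' : V K → V K} (h : Rel M A)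
    (h' : Rel M' A') : Rel (M * M') (A ∘ A') where
  short y := by rw [act_mul, h'.short, h.short]; rfl
  cov x v := by
    rw [act_mul]
    exact (h.cov _ _).trans (congrArg A (h'.cov x v))
  form v w := (h.form _ _).trans (h'.form v w)

theorem Rel.unique {M : Matrix chevG2.Idx chevG2.Idx K} {A A' : V K → V K} (h : Rel M A)
    (h' : Rel M A') : A = A' := by
  funext y
  have := congrArg sh ((h.short y).symm.trans (h'.short y))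
  rwa [sh_mk, sh_mk] at this

theorem Rel.injective {M : Matrix chevG2.Idx chevG2.Idx K} {A : V K → V K} (h : Rel M A) :
    Function.Injective A := fun v w e => J_nondeg fun x => by rw [← h.form v, e, h.form]

theorem Rel.smul {M : Matrix chevG2.Idx chevG2.Idx K} {A : V K → V K} (h : Rel M A) (c : K)
    (y : V K) : A (c • y) = c • A y := by
  have h1 := h.short (c • y)
  rw [mk_smul, act_smul, h.short, ← mk_smul] at h1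
  have := congrArg sh h1
  rw [sh_mk, sh_mk] at this
  exact this.symm

theorem Rel.eq_of_surjective (h3 : (3 : K) = 0) {M M' : Matrix chevG2.Idx chevG2.Idx K}
    {A : V K → V K} (h : Rel M A) (h' : Rel M' A) (hA : Function.Surjective A) : M = M' := by
  have key : ∀ x : Idx → K, act M x = act M' x := by
    intro x
    obtain ⟨e1, e2⟩ := ρ_inj h3 (y := sh (act M x)) (z := lg (act M x)) (y' := sh (act M' x))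
      (z' := lg (act M' x)) (fun v => by
        obtain ⟨v, rfl⟩ := hA v
        rw [h.cov, h'.cov])
    rw [← mk_sh_lg (act M x), e1, e2, mk_sh_lg]
  exact Matrix.ext_iff_mulVec.mpr key

theorem Rel.isUnit (h3 : (3 : K) = 0) {M : Matrix chevG2.Idx chevG2.Idx K} {A : V K → V K}
    (h : Rel M A) : IsUnit M := by
  have key : ∀ x x' : Idx → K, act M x = act M x' → x = x' := by
    intro x x' e
    obtain ⟨e1, e2⟩ := ρ_inj h3 (y := sh x) (z := lg x) (y' := sh x') (z' := lg x') (fun v => by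
      apply h.injective
      rw [← h.cov, ← h.cov, e])
    rw [← mk_sh_lg x, e1, e2, mk_sh_lg]
  rw [← Matrix.mulVec_injective_iff_isUnit]
  exact key

theorem rel_x (h3 : (3 : K) = 0) (r : ℕ) (t : K) : Rel (chevG2.x K r t) (xf r t) where
  short y := by rw [act_x h3, cf_zero, yf_zero, add_zero]
  cov x v := by
    rw [← mk_sh_lg x, act_x h3, sh_mk, lg_mk, sh_mk, lg_mk, cov h3]
  form := form h3 r t

/-- The map induced by a word on the short ideal. -/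
def wf : List (ℕ × K) → V K → V K
  | [] => id
  | p :: w => xf p.1 p.2 ∘ wf w

theorem wf_nil : wf ([] : List (ℕ × K)) = id := rfl

theorem wf_cons (r : ℕ) (t : K) (w : List (ℕ × K)) : wf ((r, t) :: w) = xf r t ∘ wf w := rfl

theorem rel_word (h3 : (3 : K) = 0) (w : List (ℕ × K)) : Rel (chevG2.wordMat K w) (wf w) := by
  induction w with
  | nil => exact Rel.one
  | cons p w ih =>
    have : chevG2.wordMat K (p :: w) = chevG2.x K p.1 p.2 * chevG2.wordMat K w := by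
      simp [ChevalleyDatum.wordMat]
    rw [this]
    exact (rel_x h3 p.1 p.2).mul ih

/-- The map induced by `n_r(t)`. -/
def nw (r : ℕ) (t : K) (v : V K) : V K := xf r t (xf (chevG2.neg r) (-t⁻¹) (xf r t v))

theorem rel_n (h3 : (3 : K) = 0) (r : ℕ) (t : K) : Rel (chevG2.nMat K r t) (nw r t) :=
  rel_word h3 _

theorem rel_h (h3 : (3 : K) = 0) (r : ℕ) (t : K) :
    Rel (chevG2.hMat K r t) (nw r t ∘ nw r (-1)) :=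
  rel_word h3 _

theorem nw_0 (h3 : (3 : K) = 0) {t : K} (ht : t ≠ 0) (v : V K) : nw 0 t v =
    ![t⁻¹ * v 5, -(t⁻¹ * v 6), v 2, v 3, v 4, -(t * v 0), t * v 1] := by
  have := mul_inv_cancel₀ ht
  change xf 0 t (xf 11 (-t⁻¹) (xf 0 t v)) = _
  refine vext ?_ ?_ ?_ ?_ ?_ ?_ ?_ <;> simp only [xf_0, xf_11, Matrix.cons_val] <;> grind

theorem nw_1 (h3 : (3 : K) = 0) {t : K} (ht : t ≠ 0) (v : V K) : nw 1 t v =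
    ![t⁻¹ * v 4, v 1, -(t⁻¹ * v 6), v 3, -(t * v 0), v 5, t * v 2] := by
  have := mul_inv_cancel₀ ht
  change xf 1 t (xf 10 (-t⁻¹) (xf 1 t v)) = _
  refine vext ?_ ?_ ?_ ?_ ?_ ?_ ?_ <;> simp only [xf_1, xf_10, Matrix.cons_val] <;> grind

theorem nw_2 (h3 : (3 : K) = 0) {t : K} (ht : t ≠ 0) (v : V K) : nw 2 t v =
    ![-(t⁻¹ ^ 2 * v 6), t⁻¹ * v 4, -(t⁻¹ * v 5), -v 3, -(t * v 1), t * v 2, -(t ^ 2 * v 0)] := by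
  have := mul_inv_cancel₀ ht
  change xf 2 t (xf 9 (-t⁻¹) (xf 2 t v)) = _
  refine vext ?_ ?_ ?_ ?_ ?_ ?_ ?_ <;> simp only [xf_2, xf_9, Matrix.cons_val] <;> grind

theorem nw_3 (h3 : (3 : K) = 0) {t : K} (ht : t ≠ 0) (v : V K) : nw 3 t v =
    ![t⁻¹ * v 2, -(t⁻¹ ^ 2 * v 5), -(t * v 0), -v 3, -(t⁻¹ * v 6), -(t ^ 2 * v 1), t * v 4] := by
  have := mul_inv_cancel₀ ht
  change xf 3 t (xf 8 (-t⁻¹) (xf 3 t v)) = _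
  refine vext ?_ ?_ ?_ ?_ ?_ ?_ ?_ <;> simp only [xf_3, xf_8, Matrix.cons_val] <;> grind

theorem nw_4 (h3 : (3 : K) = 0) {t : K} (ht : t ≠ 0) (v : V K) : nw 4 t v =
    ![-(t⁻¹ * v 1), t * v 0, -(t⁻¹ ^ 2 * v 4), -v 3, -(t ^ 2 * v 2), t⁻¹ * v 6, -(t * v 5)] := by
  have := mul_inv_cancel₀ ht
  change xf 4 t (xf 7 (-t⁻¹) (xf 4 t v)) = _
  refine vext ?_ ?_ ?_ ?_ ?_ ?_ ?_ <;> simp only [xf_4, xf_7, Matrix.cons_val] <;> grind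

theorem nw_5 (h3 : (3 : K) = 0) {t : K} (ht : t ≠ 0) (v : V K) : nw 5 t v =
    ![v 0, -(t⁻¹ * v 2), t * v 1, v 3, t⁻¹ * v 5, -(t * v 4), v 6] := by
  have := mul_inv_cancel₀ ht
  change xf 5 t (xf 6 (-t⁻¹) (xf 5 t v)) = _
  refine vext ?_ ?_ ?_ ?_ ?_ ?_ ?_ <;> simp only [xf_5, xf_6, Matrix.cons_val] <;> grind

theorem nw_6 (h3 : (3 : K) = 0) {t : K} (ht : t ≠ 0) (v : V K) : nw 6 t v =
    ![v 0, t * v 2, -(t⁻¹ * v 1), v 3, -(t * v 5), t⁻¹ * v 4, v 6] := by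
  have := mul_inv_cancel₀ ht
  change xf 6 t (xf 5 (-t⁻¹) (xf 6 t v)) = _
  refine vext ?_ ?_ ?_ ?_ ?_ ?_ ?_ <;> simp only [xf_6, xf_5, Matrix.cons_val] <;> grind

theorem nw_7 (h3 : (3 : K) = 0) {t : K} (ht : t ≠ 0) (v : V K) : nw 7 t v =
    ![t * v 1, -(t⁻¹ * v 0), -(t ^ 2 * v 4), -v 3, -(t⁻¹ ^ 2 * v 2), -(t * v 6), t⁻¹ * v 5] := by
  have := mul_inv_cancel₀ ht
  change xf 7 t (xf 4 (-t⁻¹) (xf 7 t v)) = _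
  refine vext ?_ ?_ ?_ ?_ ?_ ?_ ?_ <;> simp only [xf_7, xf_4, Matrix.cons_val] <;> grind

theorem nw_8 (h3 : (3 : K) = 0) {t : K} (ht : t ≠ 0) (v : V K) : nw 8 t v =
    ![-(t * v 2), -(t ^ 2 * v 5), t⁻¹ * v 0, -v 3, t * v 6, -(t⁻¹ ^ 2 * v 1), -(t⁻¹ * v 4)] := by
  have := mul_inv_cancel₀ ht
  change xf 8 t (xf 3 (-t⁻¹) (xf 8 t v)) = _
  refine vext ?_ ?_ ?_ ?_ ?_ ?_ ?_ <;> simp only [xf_8, xf_3, Matrix.cons_val] <;> grind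

theorem nw_9 (h3 : (3 : K) = 0) {t : K} (ht : t ≠ 0) (v : V K) : nw 9 t v =
    ![-(t ^ 2 * v 6), -(t * v 4), t * v 5, -v 3, t⁻¹ * v 1, -(t⁻¹ * v 2), -(t⁻¹ ^ 2 * v 0)] := by
  have := mul_inv_cancel₀ ht
  change xf 9 t (xf 2 (-t⁻¹) (xf 9 t v)) = _
  refine vext ?_ ?_ ?_ ?_ ?_ ?_ ?_ <;> simp only [xf_9, xf_2, Matrix.cons_val] <;> grind

theorem nw_10 (h3 : (3 : K) = 0) {t : K} (ht : t ≠ 0) (v : V K) : nw 10 t v =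
    ![-(t * v 4), v 1, t * v 6, v 3, t⁻¹ * v 0, v 5, -(t⁻¹ * v 2)] := by
  have := mul_inv_cancel₀ ht
  change xf 10 t (xf 1 (-t⁻¹) (xf 10 t v)) = _
  refine vext ?_ ?_ ?_ ?_ ?_ ?_ ?_ <;> simp only [xf_10, xf_1, Matrix.cons_val] <;> grind

theorem nw_11 (h3 : (3 : K) = 0) {t : K} (ht : t ≠ 0) (v : V K) : nw 11 t v =
    ![-(t * v 5), t * v 6, v 2, v 3, v 4, t⁻¹ * v 0, -(t⁻¹ * v 1)] := by
  have := mul_inv_cancel₀ ht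
  change xf 11 t (xf 0 (-t⁻¹) (xf 11 t v)) = _
  refine vext ?_ ?_ ?_ ?_ ?_ ?_ ?_ <;> simp only [xf_11, xf_0, Matrix.cons_val] <;> grind

/-- Monomial maps. -/
def Mono (A : V K → V K) : Prop := ∀ i : Fin 7, ∃ (j : Fin 7) (c : K),
  A (Pi.single i 1) = c • Pi.single j 1

theorem mono_nw (h3 : (3 : K) = 0) {r : ℕ} (hr : r < 12) {t : K} (ht : t ≠ 0) :
    Mono (nw r t) := by
  intro i
  interval_cases r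
  · rw [nw_0 h3 ht]
    fin_cases i
    · exact ⟨5, -t, by refine vext ?_ ?_ ?_ ?_ ?_ ?_ ?_ <;> simp⟩
    · exact ⟨6, t, by refine vext ?_ ?_ ?_ ?_ ?_ ?_ ?_ <;> simp⟩
    · exact ⟨2, 1, by refine vext ?_ ?_ ?_ ?_ ?_ ?_ ?_ <;> simp⟩
    · exact ⟨3, 1, by refine vext ?_ ?_ ?_ ?_ ?_ ?_ ?_ <;> simp⟩
    · exact ⟨4, 1, by refine vext ?_ ?_ ?_ ?_ ?_ ?_ ?_ <;> simp⟩
    · exact ⟨0, t⁻¹, by refine vext ?_ ?_ ?_ ?_ ?_ ?_ ?_ <;> simp⟩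
    · exact ⟨1, -t⁻¹, by refine vext ?_ ?_ ?_ ?_ ?_ ?_ ?_ <;> simp⟩
  · rw [nw_1 h3 ht]
    fin_cases i
    · exact ⟨4, -t, by refine vext ?_ ?_ ?_ ?_ ?_ ?_ ?_ <;> simp⟩
    · exact ⟨1, 1, by refine vext ?_ ?_ ?_ ?_ ?_ ?_ ?_ <;> simp⟩
    · exact ⟨6, t, by refine vext ?_ ?_ ?_ ?_ ?_ ?_ ?_ <;> simp⟩
    · exact ⟨3, 1, by refine vext ?_ ?_ ?_ ?_ ?_ ?_ ?_ <;> simp⟩
    · exact ⟨0, t⁻¹, by refine vext ?_ ?_ ?_ ?_ ?_ ?_ ?_ <;> simp⟩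
    · exact ⟨5, 1, by refine vext ?_ ?_ ?_ ?_ ?_ ?_ ?_ <;> simp⟩
    · exact ⟨2, -t⁻¹, by refine vext ?_ ?_ ?_ ?_ ?_ ?_ ?_ <;> simp⟩
  · rw [nw_2 h3 ht]
    fin_cases i
    · exact ⟨6, -(t ^ 2), by refine vext ?_ ?_ ?_ ?_ ?_ ?_ ?_ <;> simp⟩
    · exact ⟨4, -t, by refine vext ?_ ?_ ?_ ?_ ?_ ?_ ?_ <;> simp⟩
    · exact ⟨5, t, by refine vext ?_ ?_ ?_ ?_ ?_ ?_ ?_ <;> simp⟩
    · exact ⟨3, -1, by refine vext ?_ ?_ ?_ ?_ ?_ ?_ ?_ <;> simp⟩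
    · exact ⟨1, t⁻¹, by refine vext ?_ ?_ ?_ ?_ ?_ ?_ ?_ <;> simp⟩
    · exact ⟨2, -t⁻¹, by refine vext ?_ ?_ ?_ ?_ ?_ ?_ ?_ <;> simp⟩
    · exact ⟨0, -(t⁻¹ ^ 2), by refine vext ?_ ?_ ?_ ?_ ?_ ?_ ?_ <;> simp⟩
  · rw [nw_3 h3 ht]
    fin_cases i
    · exact ⟨2, -t, by refine vext ?_ ?_ ?_ ?_ ?_ ?_ ?_ <;> simp⟩
    · exact ⟨5, -(t ^ 2), by refine vext ?_ ?_ ?_ ?_ ?_ ?_ ?_ <;> simp⟩
    · exact ⟨0, t⁻¹, by refine vext ?_ ?_ ?_ ?_ ?_ ?_ ?_ <;> simp⟩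
    · exact ⟨3, -1, by refine vext ?_ ?_ ?_ ?_ ?_ ?_ ?_ <;> simp⟩
    · exact ⟨6, t, by refine vext ?_ ?_ ?_ ?_ ?_ ?_ ?_ <;> simp⟩
    · exact ⟨1, -(t⁻¹ ^ 2), by refine vext ?_ ?_ ?_ ?_ ?_ ?_ ?_ <;> simp⟩
    · exact ⟨4, -t⁻¹, by refine vext ?_ ?_ ?_ ?_ ?_ ?_ ?_ <;> simp⟩
  · rw [nw_4 h3 ht]
    fin_cases i
    · exact ⟨1, t, by refine vext ?_ ?_ ?_ ?_ ?_ ?_ ?_ <;> simp⟩
    · exact ⟨0, -t⁻¹, by refine vext ?_ ?_ ?_ ?_ ?_ ?_ ?_ <;> simp⟩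
    · exact ⟨4, -(t ^ 2), by refine vext ?_ ?_ ?_ ?_ ?_ ?_ ?_ <;> simp⟩
    · exact ⟨3, -1, by refine vext ?_ ?_ ?_ ?_ ?_ ?_ ?_ <;> simp⟩
    · exact ⟨2, -(t⁻¹ ^ 2), by refine vext ?_ ?_ ?_ ?_ ?_ ?_ ?_ <;> simp⟩
    · exact ⟨6, -t, by refine vext ?_ ?_ ?_ ?_ ?_ ?_ ?_ <;> simp⟩
    · exact ⟨5, t⁻¹, by refine vext ?_ ?_ ?_ ?_ ?_ ?_ ?_ <;> simp⟩
  · rw [nw_5 h3 ht]
    fin_cases i
    · exact ⟨0, 1, by refine vext ?_ ?_ ?_ ?_ ?_ ?_ ?_ <;> simp⟩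
    · exact ⟨2, t, by refine vext ?_ ?_ ?_ ?_ ?_ ?_ ?_ <;> simp⟩
    · exact ⟨1, -t⁻¹, by refine vext ?_ ?_ ?_ ?_ ?_ ?_ ?_ <;> simp⟩
    · exact ⟨3, 1, by refine vext ?_ ?_ ?_ ?_ ?_ ?_ ?_ <;> simp⟩
    · exact ⟨5, -t, by refine vext ?_ ?_ ?_ ?_ ?_ ?_ ?_ <;> simp⟩
    · exact ⟨4, t⁻¹, by refine vext ?_ ?_ ?_ ?_ ?_ ?_ ?_ <;> simp⟩
    · exact ⟨6, 1, by refine vext ?_ ?_ ?_ ?_ ?_ ?_ ?_ <;> simp⟩
  · rw [nw_6 h3 ht]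
    fin_cases i
    · exact ⟨0, 1, by refine vext ?_ ?_ ?_ ?_ ?_ ?_ ?_ <;> simp⟩
    · exact ⟨2, -t⁻¹, by refine vext ?_ ?_ ?_ ?_ ?_ ?_ ?_ <;> simp⟩
    · exact ⟨1, t, by refine vext ?_ ?_ ?_ ?_ ?_ ?_ ?_ <;> simp⟩
    · exact ⟨3, 1, by refine vext ?_ ?_ ?_ ?_ ?_ ?_ ?_ <;> simp⟩
    · exact ⟨5, t⁻¹, by refine vext ?_ ?_ ?_ ?_ ?_ ?_ ?_ <;> simp⟩
    · exact ⟨4, -t, by refine vext ?_ ?_ ?_ ?_ ?_ ?_ ?_ <;> simp⟩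
    · exact ⟨6, 1, by refine vext ?_ ?_ ?_ ?_ ?_ ?_ ?_ <;> simp⟩
  · rw [nw_7 h3 ht]
    fin_cases i
    · exact ⟨1, -t⁻¹, by refine vext ?_ ?_ ?_ ?_ ?_ ?_ ?_ <;> simp⟩
    · exact ⟨0, t, by refine vext ?_ ?_ ?_ ?_ ?_ ?_ ?_ <;> simp⟩
    · exact ⟨4, -(t⁻¹ ^ 2), by refine vext ?_ ?_ ?_ ?_ ?_ ?_ ?_ <;> simp⟩
    · exact ⟨3, -1, by refine vext ?_ ?_ ?_ ?_ ?_ ?_ ?_ <;> simp⟩
    · exact ⟨2, -(t ^ 2), by refine vext ?_ ?_ ?_ ?_ ?_ ?_ ?_ <;> simp⟩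
    · exact ⟨6, t⁻¹, by refine vext ?_ ?_ ?_ ?_ ?_ ?_ ?_ <;> simp⟩
    · exact ⟨5, -t, by refine vext ?_ ?_ ?_ ?_ ?_ ?_ ?_ <;> simp⟩
  · rw [nw_8 h3 ht]
    fin_cases i
    · exact ⟨2, t⁻¹, by refine vext ?_ ?_ ?_ ?_ ?_ ?_ ?_ <;> simp⟩
    · exact ⟨5, -(t⁻¹ ^ 2), by refine vext ?_ ?_ ?_ ?_ ?_ ?_ ?_ <;> simp⟩
    · exact ⟨0, -t, by refine vext ?_ ?_ ?_ ?_ ?_ ?_ ?_ <;> simp⟩
    · exact ⟨3, -1, by refine vext ?_ ?_ ?_ ?_ ?_ ?_ ?_ <;> simp⟩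
    · exact ⟨6, -t⁻¹, by refine vext ?_ ?_ ?_ ?_ ?_ ?_ ?_ <;> simp⟩
    · exact ⟨1, -(t ^ 2), by refine vext ?_ ?_ ?_ ?_ ?_ ?_ ?_ <;> simp⟩
    · exact ⟨4, t, by refine vext ?_ ?_ ?_ ?_ ?_ ?_ ?_ <;> simp⟩
  · rw [nw_9 h3 ht]
    fin_cases i
    · exact ⟨6, -(t⁻¹ ^ 2), by refine vext ?_ ?_ ?_ ?_ ?_ ?_ ?_ <;> simp⟩
    · exact ⟨4, t⁻¹, by refine vext ?_ ?_ ?_ ?_ ?_ ?_ ?_ <;> simp⟩
    · exact ⟨5, -t⁻¹, by refine vext ?_ ?_ ?_ ?_ ?_ ?_ ?_ <;> simp⟩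
    · exact ⟨3, -1, by refine vext ?_ ?_ ?_ ?_ ?_ ?_ ?_ <;> simp⟩
    · exact ⟨1, -t, by refine vext ?_ ?_ ?_ ?_ ?_ ?_ ?_ <;> simp⟩
    · exact ⟨2, t, by refine vext ?_ ?_ ?_ ?_ ?_ ?_ ?_ <;> simp⟩
    · exact ⟨0, -(t ^ 2), by refine vext ?_ ?_ ?_ ?_ ?_ ?_ ?_ <;> simp⟩
  · rw [nw_10 h3 ht]
    fin_cases i
    · exact ⟨4, t⁻¹, by refine vext ?_ ?_ ?_ ?_ ?_ ?_ ?_ <;> simp⟩
    · exact ⟨1, 1, by refine vext ?_ ?_ ?_ ?_ ?_ ?_ ?_ <;> simp⟩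
    · exact ⟨6, -t⁻¹, by refine vext ?_ ?_ ?_ ?_ ?_ ?_ ?_ <;> simp⟩
    · exact ⟨3, 1, by refine vext ?_ ?_ ?_ ?_ ?_ ?_ ?_ <;> simp⟩
    · exact ⟨0, -t, by refine vext ?_ ?_ ?_ ?_ ?_ ?_ ?_ <;> simp⟩
    · exact ⟨5, 1, by refine vext ?_ ?_ ?_ ?_ ?_ ?_ ?_ <;> simp⟩
    · exact ⟨2, t, by refine vext ?_ ?_ ?_ ?_ ?_ ?_ ?_ <;> simp⟩
  · rw [nw_11 h3 ht]
    fin_cases i
    · exact ⟨5, t⁻¹, by refine vext ?_ ?_ ?_ ?_ ?_ ?_ ?_ <;> simp⟩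
    · exact ⟨6, -t⁻¹, by refine vext ?_ ?_ ?_ ?_ ?_ ?_ ?_ <;> simp⟩
    · exact ⟨2, 1, by refine vext ?_ ?_ ?_ ?_ ?_ ?_ ?_ <;> simp⟩
    · exact ⟨3, 1, by refine vext ?_ ?_ ?_ ?_ ?_ ?_ ?_ <;> simp⟩
    · exact ⟨4, 1, by refine vext ?_ ?_ ?_ ?_ ?_ ?_ ?_ <;> simp⟩
    · exact ⟨0, -t, by refine vext ?_ ?_ ?_ ?_ ?_ ?_ ?_ <;> simp⟩
    · exact ⟨1, t, by refine vext ?_ ?_ ?_ ?_ ?_ ?_ ?_ <;> simp⟩

theorem diag_h (h3 : (3 : K) = 0) {r : ℕ} (hr : r < 12) {t : K} (ht : t ≠ 0) :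
    (∃ c : K, nw r t (nw r (-1) e0) = c • e0) ∧ ∃ c : K, nw r t (nw r (-1) e6) = c • e6 := by
  have h1 : (-1 : K) ≠ 0 := by simp
  interval_cases r
  · simp only [nw_0 h3 ht, nw_0 h3 h1]
    exact ⟨⟨t⁻¹, by refine vext ?_ ?_ ?_ ?_ ?_ ?_ ?_ <;> simp [e0_def]⟩,
      ⟨t, by refine vext ?_ ?_ ?_ ?_ ?_ ?_ ?_ <;> simp [e6_def]⟩⟩
  · simp only [nw_1 h3 ht, nw_1 h3 h1]
    exact ⟨⟨t⁻¹, by refine vext ?_ ?_ ?_ ?_ ?_ ?_ ?_ <;> simp [e0_def]⟩,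
      ⟨t, by refine vext ?_ ?_ ?_ ?_ ?_ ?_ ?_ <;> simp [e6_def]⟩⟩
  · simp only [nw_2 h3 ht, nw_2 h3 h1]
    exact ⟨⟨t⁻¹ ^ 2, by refine vext ?_ ?_ ?_ ?_ ?_ ?_ ?_ <;> simp [e0_def]⟩,
      ⟨t ^ 2, by refine vext ?_ ?_ ?_ ?_ ?_ ?_ ?_ <;> simp [e6_def]⟩⟩
  · simp only [nw_3 h3 ht, nw_3 h3 h1]
    exact ⟨⟨t⁻¹, by refine vext ?_ ?_ ?_ ?_ ?_ ?_ ?_ <;> simp [e0_def]⟩,
      ⟨t, by refine vext ?_ ?_ ?_ ?_ ?_ ?_ ?_ <;> simp [e6_def]⟩⟩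
  · simp only [nw_4 h3 ht, nw_4 h3 h1]
    exact ⟨⟨t⁻¹, by refine vext ?_ ?_ ?_ ?_ ?_ ?_ ?_ <;> simp [e0_def]⟩,
      ⟨t, by refine vext ?_ ?_ ?_ ?_ ?_ ?_ ?_ <;> simp [e6_def]⟩⟩
  · simp only [nw_5 h3 ht, nw_5 h3 h1]
    exact ⟨⟨1, by refine vext ?_ ?_ ?_ ?_ ?_ ?_ ?_ <;> simp [e0_def]⟩,
      ⟨1, by refine vext ?_ ?_ ?_ ?_ ?_ ?_ ?_ <;> simp [e6_def]⟩⟩
  · simp only [nw_6 h3 ht, nw_6 h3 h1]
    exact ⟨⟨1, by refine vext ?_ ?_ ?_ ?_ ?_ ?_ ?_ <;> simp [e0_def]⟩,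
      ⟨1, by refine vext ?_ ?_ ?_ ?_ ?_ ?_ ?_ <;> simp [e6_def]⟩⟩
  · simp only [nw_7 h3 ht, nw_7 h3 h1]
    exact ⟨⟨t, by refine vext ?_ ?_ ?_ ?_ ?_ ?_ ?_ <;> simp [e0_def]⟩,
      ⟨t⁻¹, by refine vext ?_ ?_ ?_ ?_ ?_ ?_ ?_ <;> simp [e6_def]⟩⟩
  · simp only [nw_8 h3 ht, nw_8 h3 h1]
    exact ⟨⟨t, by refine vext ?_ ?_ ?_ ?_ ?_ ?_ ?_ <;> simp [e0_def]⟩,
      ⟨t⁻¹, by refine vext ?_ ?_ ?_ ?_ ?_ ?_ ?_ <;> simp [e6_def]⟩⟩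
  · simp only [nw_9 h3 ht, nw_9 h3 h1]
    exact ⟨⟨t ^ 2, by refine vext ?_ ?_ ?_ ?_ ?_ ?_ ?_ <;> simp [e0_def]⟩,
      ⟨t⁻¹ ^ 2, by refine vext ?_ ?_ ?_ ?_ ?_ ?_ ?_ <;> simp [e6_def]⟩⟩
  · simp only [nw_10 h3 ht, nw_10 h3 h1]
    exact ⟨⟨t, by refine vext ?_ ?_ ?_ ?_ ?_ ?_ ?_ <;> simp [e0_def]⟩,
      ⟨t⁻¹, by refine vext ?_ ?_ ?_ ?_ ?_ ?_ ?_ <;> simp [e6_def]⟩⟩
  · simp only [nw_11 h3 ht, nw_11 h3 h1]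
    exact ⟨⟨t, by refine vext ?_ ?_ ?_ ?_ ?_ ?_ ?_ <;> simp [e0_def]⟩,
      ⟨t⁻¹, by refine vext ?_ ?_ ?_ ?_ ?_ ?_ ?_ <;> simp [e6_def]⟩⟩

theorem xf_e0 {r : ℕ} (hr : chevG2.IsPosRoot r) (t : K) : xf r t e0 = e0 := by
  have h1 : r < 12 := hr.1
  interval_cases r
  · exact absurd hr (by decide)
  · exact absurd hr (by decide)
  · exact absurd hr (by decide)
  · exact absurd hr (by decide)
  · exact absurd hr (by decide)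
  · exact absurd hr (by decide)
  · refine vext ?_ ?_ ?_ ?_ ?_ ?_ ?_ <;> simp [xf_6, e0_def]
  · refine vext ?_ ?_ ?_ ?_ ?_ ?_ ?_ <;> simp [xf_7, e0_def]
  · refine vext ?_ ?_ ?_ ?_ ?_ ?_ ?_ <;> simp [xf_8, e0_def]
  · refine vext ?_ ?_ ?_ ?_ ?_ ?_ ?_ <;> simp [xf_9, e0_def]
  · refine vext ?_ ?_ ?_ ?_ ?_ ?_ ?_ <;> simp [xf_10, e0_def]
  · refine vext ?_ ?_ ?_ ?_ ?_ ?_ ?_ <;> simp [xf_11, e0_def]

end Ree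
end H8
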