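import Mathlib
import Cfsg.Prelude.Def_LieTwisted
import Cfsg.Prelude.Def_ChevStructure
import Cfsg.Agent.H8.ReeRel

/-!
The twisted group `twistedG2 K e` is isomorphic to the seven-dimensional Ree group, and the
intersections with the standard subgroups of the Chevalley group correspond to `U`, `H`, `B`, `N`.
-/

set_option autoImplicit false

namespace H8
namespace Ree
open Cfsg Cfsg.Lie Matrix

/-- A Tits endomorphism inverse to the `e`-th power map. -/
structure TCtx (K : Type*) [Field K] (e : ℕ) extends Ctx K where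
  θ : ∀ x, σ x ^ e = x

variable {K : Type*} [Field K]

theorem charP_three [Fintype K] {m : ℕ} (hK : Fintype.card K = 3 ^ (2 * m + 1)) : CharP K 3 := by
  obtain ⟨p, hp⟩ := CharP.exists K
  obtain ⟨n, hpp, hn⟩ := FiniteField.card K p
  have : p ∣ 3 ^ (2 * m + 1) := by
    rw [← hK, hn]
    exact dvd_pow_self p n.ne_zero
  have h2 := (Nat.prime_dvd_prime_iff_eq hpp Nat.prime_three).mp (hpp.dvd_of_dvd_pow this)
  exact h2 ▸ hp

theorem nonempty_tctx [Fintype K] {m : ℕ} (hK : Fintype.card K = 3 ^ (2 * m + 1)) :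
    Nonempty (TCtx K (3 ^ m)) := by
  have := charP_three hK
  have : Fact (Nat.Prime 3) := ⟨Nat.prime_three⟩
  refine ⟨⟨⟨iterateFrobenius K 3 (m + 1), fun x => ?_, ?_⟩, fun x => ?_⟩⟩
  · simp only [iterateFrobenius_def]
    rw [← pow_mul, ← pow_add, show m + 1 + (m + 1) = (2 * m + 1) + 1 by ring, pow_succ, pow_mul,
      ← hK, FiniteField.pow_card]
  · exact_mod_cast CharP.cast_eq_zero K 3
  · simp only [iterateFrobenius_def]
    rw [← pow_mul, ← pow_add, show m + 1 + m = 2 * m + 1 by ring, ← hK, FiniteField.pow_card]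

/-- An invertible matrix given by a word. -/
noncomputable def wg (h3 : (3 : K) = 0) (w : List (ℕ × K)) : GL chevG2.Idx K :=
  ((rel_word h3 w).isUnit h3).unit

theorem coe_wg (h3 : (3 : K) = 0) (w : List (ℕ × K)) :
    (wg h3 w : Matrix chevG2.Idx chevG2.Idx K) = chevG2.wordMat K w := rfl

theorem wg_append (h3 : (3 : K) = 0) (w w' : List (ℕ × K)) :
    wg h3 (w ++ w') = wg h3 w * wg h3 w' := by
  ext1
  simp [coe_wg, ChevalleyDatum.wordMat]

theorem wg_single (h3 : (3 : K) = 0) (r : ℕ) (t : K) :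
    (wg h3 [(r, t)] : Matrix chevG2.Idx chevG2.Idx K) = chevG2.x K r t := by
  simp [coe_wg, ChevalleyDatum.wordMat]

theorem wg_mem_posUnipotent (h3 : (3 : K) = 0) (w : List (ℕ × K))
    (hw : ∀ p ∈ w, chevG2.IsPosRoot p.1) : wg h3 w ∈ chevG2.posUnipotent K := by
  induction w with
  | nil =>
    have : wg h3 ([] : List (ℕ × K)) = 1 := Units.ext (by simp [coe_wg, ChevalleyDatum.wordMat])
    rw [this]
    exact Subgroup.one_mem _
  | cons p w ih =>
    rw [← List.singleton_append, wg_append]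
    exact Subgroup.mul_mem _
      (Subgroup.subset_closure ⟨p.1, p.2, hw p (by simp), wg_single h3 _ _⟩)
      (ih fun q hq => hw q (by simp [hq]))

theorem wf_cons_apply (r : ℕ) (t : K) (w : List (ℕ × K)) (v : V K) :
    wf ((r, t) :: w) v = xf r t (wf w v) := by rw [wf_cons, Function.comp_apply]

section Fin
variable [Finite K]

instance instFiniteIdxGL : Finite (GL chevG2.Idx K) := inferInstance

theorem fix_e0_of_mem_U (h3 : (3 : K) = 0) {g : GL chevG2.Idx K}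
    (hg : g ∈ chevG2.posUnipotent K) : ∃ A, Rel g.1 A ∧ A e0 = e0 := by
  have : chevG2.posUnipotent K ≤ finSub (fun g => ∃ A, Rel g.1 A ∧ A e0 = e0)
      ⟨id, Rel.one, rfl⟩ (by
        rintro x y ⟨A, h1, h2⟩ ⟨B, k1, k2⟩
        exact ⟨A ∘ B, h1.mul k1, by rw [Function.comp_apply, k2, h2]⟩) := by
    refine (Subgroup.closure_le _).mpr ?_
    rintro g ⟨r, t, hr, hg⟩
    exact ⟨xf r t, hg ▸ rel_x h3 r t, xf_e0 hr t⟩
  exact this hg

theorem fix_of_mem_H (h3 : (3 : K) = 0) {g : GL chevG2.Idx K}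
    (hg : g ∈ chevG2.diagonalSubgroup K) :
    ∃ A, Rel g.1 A ∧ (∃ c : K, A e0 = c • e0) ∧ (∃ c : K, A e6 = c • e6) ∧ Mono A := by
  have : chevG2.diagonalSubgroup K ≤ finSub (fun g => ∃ A, Rel g.1 A ∧ (∃ c : K, A e0 = c • e0) ∧
      (∃ c : K, A e6 = c • e6) ∧ Mono A)
      ⟨id, Rel.one, ⟨1, by simp⟩, ⟨1, by simp⟩, fun i => ⟨i, 1, by simp⟩⟩ (by
        rintro x y ⟨A, h1, ⟨c, h2⟩, ⟨d, h4⟩, h5⟩ ⟨B, k1, ⟨c', k2⟩, ⟨d', k4⟩, k5⟩
        refine ⟨A ∘ B, h1.mul k1, ⟨c' * c, ?_⟩, ⟨d' * d, ?_⟩, fun i => ?_⟩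
        · rw [Function.comp_apply, k2, h1.smul, h2, smul_smul]
        · rw [Function.comp_apply, k4, h1.smul, h4, smul_smul]
        · obtain ⟨j, c, hj⟩ := k5 i
          obtain ⟨j', c', hj'⟩ := h5 j
          exact ⟨j', c * c', by rw [Function.comp_apply, hj, h1.smul, hj', smul_smul]⟩) := by
    refine (Subgroup.closure_le _).mpr ?_
    rintro g ⟨r, t, hr, ht, hg⟩
    refine ⟨_, hg ▸ rel_h h3 r t, (diag_h h3 hr ht).1, (diag_h h3 hr ht).2, fun i => ?_⟩
    obtain ⟨j, c, hj⟩ := mono_nw h3 hr (t := -1) (by simp) i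
    obtain ⟨j', c', hj'⟩ := mono_nw h3 hr ht j
    exact ⟨j', c * c', by rw [Function.comp_apply, hj, (rel_n h3 r t).smul, hj', smul_smul]⟩
  exact this hg

theorem fix_of_mem_B (h3 : (3 : K) = 0) {g : GL chevG2.Idx K}
    (hg : g ∈ chevG2.borelSubgroup K) : ∃ A, Rel g.1 A ∧ ∃ c : K, A e0 = c • e0 := by
  have : chevG2.borelSubgroup K ≤ finSub (fun g => ∃ A, Rel g.1 A ∧ ∃ c : K, A e0 = c • e0)
      ⟨id, Rel.one, ⟨1, by simp⟩⟩ (by
        rintro x y ⟨A, h1, ⟨c, h2⟩⟩ ⟨B, k1, ⟨c', k2⟩⟩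
        refine ⟨A ∘ B, h1.mul k1, ⟨c' * c, ?_⟩⟩
        rw [Function.comp_apply, k2, h1.smul, h2, smul_smul]) := by
    refine sup_le (fun g hg => ?_) (fun g hg => ?_)
    · obtain ⟨A, h1, h2⟩ := fix_e0_of_mem_U h3 hg
      exact ⟨A, h1, 1, by simpa using h2⟩
    · obtain ⟨A, h1, h2, -⟩ := fix_of_mem_H h3 hg
      exact ⟨A, h1, h2⟩
  exact this hg

theorem mono_of_mem_N (h3 : (3 : K) = 0) {g : GL chevG2.Idx K}
    (hg : g ∈ chevG2.monomialSubgroup K) : ∃ A, Rel g.1 A ∧ Mono A := by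
  have : chevG2.monomialSubgroup K ≤ finSub (fun g => ∃ A, Rel g.1 A ∧ Mono A)
      ⟨id, Rel.one, fun i => ⟨i, 1, by simp⟩⟩ (by
        rintro x y ⟨A, h1, h5⟩ ⟨B, k1, k5⟩
        refine ⟨A ∘ B, h1.mul k1, fun i => ?_⟩
        obtain ⟨j, c, hj⟩ := k5 i
        obtain ⟨j', c', hj'⟩ := h5 j
        exact ⟨j', c * c', by rw [Function.comp_apply, hj, h1.smul, hj', smul_smul]⟩) := by
    refine sup_le (fun g hg => ?_) ((Subgroup.closure_le _).mpr ?_)
    · obtain ⟨A, h1, -, -, h2⟩ := fix_of_mem_H h3 hg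
      exact ⟨A, h1, h2⟩
    · rintro g ⟨r, hr, hg⟩
      exact ⟨_, hg ▸ rel_n h3 r 1, mono_nw h3 hr one_ne_zero⟩
  exact this hg

end Fin

namespace TCtx

variable {e : ℕ} (T : TCtx K e)

theorem σ_pow (x : K) : T.σ (x ^ e) = x := by rw [map_pow, T.θ]

theorem wf_U (t u v : K) : wf (reeWordU e t u v) = T.uf (t ^ e) (u ^ e) (v ^ e) := by
  funext x
  rw [Ctx.uf_eq_xf, σ_pow, σ_pow, σ_pow, ← pow_mul, mul_comm e 2, ← pow_succ, ← pow_succ]
  rfl

theorem nf_uf_nf (a b c : K) (x : V K) : nf (T.uf a b c (nf x)) =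
    xf 4 (-a) (xf 5 (-T.σ a) (xf 3 (-(a * T.σ a + b)) (xf 2 (-(a ^ 2 * T.σ a + c))
      (xf 1 (-T.σ b) (xf 0 (-T.σ c) x))))) := by
  have h3 := T.three
  refine vext ?_ ?_ ?_ ?_ ?_ ?_ ?_ <;>
    simp only [Ctx.uf_def, nf_def, xf_0, xf_1, xf_2, xf_3, xf_4, xf_5, Matrix.cons_val] <;>
    grind

theorem wf_V (t u v : K) :
    wf (reeWordV e t u v) = nf ∘ T.uf (t ^ e) (u ^ e) (v ^ e) ∘ nf := by
  have hw : reeWordV e t u v = [(4, -t ^ e), (5, -t), (3, -(t ^ (e + 1) + u ^ e)),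
      (2, -(t ^ (2 * e + 1) + v ^ e)), (1, -u), (0, -v)] := rfl
  funext x
  rw [Function.comp_apply, Function.comp_apply, nf_uf_nf, σ_pow, σ_pow, σ_pow, ← pow_mul,
    mul_comm e 2, ← pow_succ, ← pow_succ, hw]
  rw [wf_cons_apply, wf_cons_apply, wf_cons_apply, wf_cons_apply, wf_cons_apply, wf_cons_apply,
    wf_nil, id]

theorem rel_U (t u v : K) :
    Rel (chevG2.wordMat K (reeWordU e t u v)) (T.u (t ^ e) (u ^ e) (v ^ e)).1 := by
  have := rel_word T.three (reeWordU e t u v)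
  rwa [wf_U] at this

theorem rel_V (t u v : K) :
    Rel (chevG2.wordMat K (reeWordV e t u v)) (T.n * T.u (t ^ e) (u ^ e) (v ^ e) * T.n).1 := by
  have := rel_word T.three (reeWordV e t u v)
  rwa [wf_V] at this

variable [Finite K]

theorem exists_rel (g : twistedG2 K e) : ∃ A : T.R, Rel g.1.1 A.1 := by
  have : twistedG2 K e ≤ finSub (fun g => ∃ A : T.R, Rel g.1 A.1) ⟨1, Rel.one⟩ (by
      rintro x y ⟨A, h⟩ ⟨B, k⟩
      exact ⟨A * B, h.mul k⟩) := by
    refine (Subgroup.closure_le _).mpr ?_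
    rintro g ⟨_, ⟨t, u, v, rfl | rfl⟩, hg⟩
    · exact ⟨_, hg ▸ T.rel_U t u v⟩
    · exact ⟨_, hg ▸ T.rel_V t u v⟩
  exact this g.2

theorem rel_unique {M : Matrix chevG2.Idx chevG2.Idx K} {A B : T.R} (h : Rel M A.1)
    (h' : Rel M B.1) : A = B :=
  T.ext_apply fun v => congrFun (h.unique h') v

/-- The homomorphism to the seven-dimensional Ree group. -/
noncomputable def toR : twistedG2 K e →* T.R where
  toFun g := (T.exists_rel g).choose
  map_one' := T.rel_unique (T.exists_rel 1).choose_spec Rel.one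
  map_mul' g g' := T.rel_unique (T.exists_rel (g * g')).choose_spec
    ((T.exists_rel g).choose_spec.mul (T.exists_rel g').choose_spec)

theorem rel_toR (g : twistedG2 K e) : Rel g.1.1 (T.toR g).1 := (T.exists_rel g).choose_spec

theorem eq_of_rel {g : twistedG2 K e} {g' : GL chevG2.Idx K} (h : Rel g'.1 (T.toR g).1) :
    g.1 = g' :=
  Units.ext ((T.rel_toR g).eq_of_surjective T.three h (T.toR g).1.surjective)

theorem toR_injective : Function.Injective T.toR := fun _ g' h =>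
  Subtype.ext (T.eq_of_rel (h ▸ T.rel_toR g'))

/-- The unipotent words as elements of the twisted group. -/
noncomputable def gU (t u v : K) : twistedG2 K e :=
  ⟨wg T.three (reeWordU e t u v), Subgroup.subset_closure ⟨_, ⟨t, u, v, Or.inl rfl⟩, rfl⟩⟩

theorem toR_gU (t u v : K) : T.toR (T.gU t u v) = T.u (t ^ e) (u ^ e) (v ^ e) :=
  T.rel_unique (T.rel_toR _) (T.rel_U t u v)

theorem toR_surjective : Function.Surjective T.toR := by
  rw [← MonoidHom.range_eq_top]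
  refine T.eq_top_of_U_V (fun a b c => ⟨T.gU (T.σ a) (T.σ b) (T.σ c), ?_⟩) fun a b c =>
    ⟨⟨wg T.three (reeWordV e (T.σ a) (T.σ b) (T.σ c)),
      Subgroup.subset_closure ⟨_, ⟨_, _, _, Or.inr rfl⟩, rfl⟩⟩, ?_⟩
  · rw [toR_gU, T.θ, T.θ, T.θ]
  · have := T.rel_V (T.σ a) (T.σ b) (T.σ c)
    rw [T.θ, T.θ, T.θ] at this
    exact T.rel_unique (T.rel_toR _) this

/-- The isomorphism with the seven-dimensional Ree group. -/
noncomputable def equiv : twistedG2 K e ≃* T.R :=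
  MulEquiv.ofBijective T.toR ⟨T.toR_injective, T.toR_surjective⟩

theorem equiv_apply (g : twistedG2 K e) : T.equiv g = T.toR g := rfl

theorem exists_word_iff {g : twistedG2 K e} : T.equiv g ∈ T.U ↔
    ∃ t u v, (g.1 : Matrix chevG2.Idx chevG2.Idx K) = chevG2.wordMat K (reeWordU e t u v) := by
  constructor
  · rintro ⟨a, b, c, h⟩
    refine ⟨T.σ a, T.σ b, T.σ c, ?_⟩
    have : g = T.gU (T.σ a) (T.σ b) (T.σ c) := T.toR_injective (by
      rw [toR_gU, T.θ, T.θ, T.θ, ← h, equiv_apply])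
    rw [this]
    rfl
  · rintro ⟨t, u, v, h⟩
    exact ⟨_, _, _, T.rel_unique (T.rel_toR g) (h ▸ T.rel_U t u v)⟩

theorem mem_posUnipotent_iff {g : twistedG2 K e} :
    g.1 ∈ chevG2.posUnipotent K ↔ T.equiv g ∈ T.U := by
  constructor
  · intro h
    obtain ⟨A, h1, h2⟩ := fix_e0_of_mem_U T.three h
    rw [h1.unique (T.rel_toR g)] at h2
    obtain ⟨a, b, c, k, hk⟩ := T.exists_eq_u_mul_h (T.toR g)
      (T.smul_inf_eq_inf.mpr ⟨1, by simpa using h2⟩)
    have h3 := congrFun h2 0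
    rw [hk] at h3
    simp [Ctx.mul_apply, Ctx.u_apply, Ctx.h_apply, Ctx.uf_def, Ctx.hf_def, e0_def] at h3
    obtain rfl : k = 1 := Units.ext (T.eq_one_of_sq_mul_σ h3)
    exact ⟨a, b, c, by rw [equiv_apply, hk, Ctx.h_one, mul_one]⟩
  · intro h
    obtain ⟨t, u, v, h⟩ := T.exists_word_iff.mp h
    have : g.1 = wg T.three (reeWordU e t u v) := Units.ext h
    rw [this]
    apply wg_mem_posUnipotent
    simp only [reeWordU, List.mem_cons, List.not_mem_nil, or_false, forall_eq_or_imp, forall_eq]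
    decide

omit [Finite K] in
theorem rel_hh (k : Kˣ) : Rel (chevG2.hMat K 7 (k ^ 2 * T.σ k) * chevG2.hMat K 6 (k ^ 3 * T.σ k ^ 2))
    (T.h k).1 := by
  have h3 := T.three
  have h1 := T.σ_unit_ne k
  have h2 := k.ne_zero
  have := (rel_h h3 7 (k ^ 2 * T.σ k)).mul (rel_h h3 6 (k ^ 3 * T.σ k ^ 2))
  convert this using 1
  funext v
  have e1 : (k : K) ^ 2 * T.σ k ≠ 0 := by positivity
  have e2 : (k : K) ^ 3 * T.σ k ^ 2 ≠ 0 := by positivity
  have e3 : (-1 : K) ≠ 0 := by simp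
  simp only [Function.comp_apply, nw_7 h3 e1, nw_6 h3 e2, nw_7 h3 e3, nw_6 h3 e3, Ctx.h_apply]
  refine vext ?_ ?_ ?_ ?_ ?_ ?_ ?_ <;> simp [Ctx.hf_def] <;> field_simp

omit [Finite K] in
theorem rel_nn : Rel (chevG2.nMat K 7 1 * chevG2.nMat K 11 1 * chevG2.hMat K 11 (-1)) T.n.1 := by
  have h3 := T.three
  have := ((rel_n h3 7 1).mul (rel_n h3 11 1)).mul (rel_h h3 11 (-1))
  convert this using 1
  funext v
  have e3 : (-1 : K) ≠ 0 := by simp
  simp only [Function.comp_apply, nw_7 h3 one_ne_zero, nw_11 h3 one_ne_zero, nw_11 h3 e3,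
    Ctx.n_apply]
  refine vext ?_ ?_ ?_ ?_ ?_ ?_ ?_ <;> simp [nf_def]

theorem mem_diagonal_iff {g : twistedG2 K e} :
    g.1 ∈ chevG2.diagonalSubgroup K ↔ T.equiv g ∈ T.H := by
  constructor
  · intro h
    obtain ⟨A, h1, h2, h3, -⟩ := fix_of_mem_H T.three h
    rw [h1.unique (T.rel_toR g)] at h2 h3
    exact T.mem_H'.mpr ⟨T.smul_inf_eq_inf.mpr h2, T.smul_org_eq_org.mpr h3⟩
  · intro h
    obtain ⟨k, hk⟩ := T.mem_H.mp h
    have h1 := T.σ_unit_ne k
    have h2 := k.ne_zero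
    have : g.1 = wg T.three (chevG2.hWord 7 (k ^ 2 * T.σ k)) *
        wg T.three (chevG2.hWord 6 (k ^ 3 * T.σ k ^ 2)) :=
      T.eq_of_rel (by rw [← equiv_apply, hk]; exact T.rel_hh k)
    rw [this]
    exact Subgroup.mul_mem _
      (Subgroup.subset_closure ⟨7, _, by decide, by positivity, rfl⟩)
      (Subgroup.subset_closure ⟨6, _, by decide, by positivity, rfl⟩)

theorem mem_borel_iff {g : twistedG2 K e} :
    g.1 ∈ chevG2.borelSubgroup K ↔ T.equiv g ∈ T.B := by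
  constructor
  · intro h
    obtain ⟨A, h1, h2⟩ := fix_of_mem_B T.three h
    rw [h1.unique (T.rel_toR g)] at h2
    exact T.smul_inf_eq_inf.mpr h2
  · intro h
    obtain ⟨a, b, c, k, hk⟩ := T.mem_B.mp h
    have : g = T.equiv.symm (T.u a b c) * T.equiv.symm (T.h k) := by
      rw [← map_mul, ← hk, MulEquiv.symm_apply_apply]
    rw [this]
    exact Subgroup.mul_mem _
      (Subgroup.mem_sup_left (T.mem_posUnipotent_iff.mpr (by simpa using T.u_mem_U a b c)))
      (Subgroup.mem_sup_right (T.mem_diagonal_iff.mpr (by simpa using T.h_mem_H k)))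

omit [Finite K] in
theorem single_mem_Om {j : Fin 7} {c : K} (h0 : c • (Pi.single j 1 : V K) ≠ 0)
    (h : c • (Pi.single j 1 : V K) ∈ T.Om) : j = 0 ∨ j = 6 := by
  by_contra hj
  push Not at hj
  have := T.eq_smul_e0 h (by simp [hj.2.symm])
  rw [this] at h0
  simp [hj.1.symm] at h0

theorem mem_monomial_iff {g : twistedG2 K e} :
    g.1 ∈ chevG2.monomialSubgroup K ↔ T.equiv g ∈ T.N := by
  constructor
  · intro h
    obtain ⟨A, h1, h2⟩ := mono_of_mem_N T.three h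
    rw [h1.unique (T.rel_toR g)] at h2
    have s0 : (e0 : V K) = Pi.single 0 1 := by
      refine vext ?_ ?_ ?_ ?_ ?_ ?_ ?_ <;> simp [e0_def]
    have s6 : (e6 : V K) = Pi.single 6 1 := by
      refine vext ?_ ?_ ?_ ?_ ?_ ?_ ?_ <;> simp [e6_def]
    have k0 : T.toR g • T.inf = T.inf ∨ T.toR g • T.inf = T.org := by
      obtain ⟨j, c, hj⟩ := h2 0
      rw [← s0] at hj
      rcases T.single_mem_Om (hj ▸ T.apply_ne_zero _ e0_ne_zero)
        (hj ▸ T.smul_mem_Om _ T.e0_mem_Om) with rfl | rfl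
      · exact Or.inl (T.smul_inf_eq_inf.mpr ⟨c, s0 ▸ hj⟩)
      · exact Or.inr (T.smul_inf_eq_org.mpr ⟨c, s6 ▸ hj⟩)
    have k6 : T.toR g • T.org = T.inf ∨ T.toR g • T.org = T.org := by
      obtain ⟨j, c, hj⟩ := h2 6
      rw [← s6] at hj
      rcases T.single_mem_Om (hj ▸ T.apply_ne_zero _ e6_ne_zero)
        (hj ▸ T.smul_mem_Om _ T.e6_mem_Om) with rfl | rfl
      · exact Or.inl (T.smul_org_eq_inf.mpr ⟨c, s0 ▸ hj⟩)
      · exact Or.inr (T.smul_org_eq_org.mpr ⟨c, s6 ▸ hj⟩)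
    rw [equiv_apply, T.mem_N']
    rcases k0 with k0 | k0 <;> rcases k6 with k6 | k6
    · exact absurd (smul_left_cancel _ (k6.trans k0.symm)) T.org_ne_inf
    · exact Or.inl ⟨k0, k6⟩
    · exact Or.inr ⟨k0, k6⟩
    · exact absurd (smul_left_cancel _ (k6.trans k0.symm)) T.org_ne_inf
  · intro h
    have hh : ∀ k, (T.equiv.symm (T.h k)).1 ∈ chevG2.monomialSubgroup K := fun k =>
      Subgroup.mem_sup_left (T.mem_diagonal_iff.mpr (by simpa using T.h_mem_H k))
    have hn : (T.equiv.symm T.n).1 ∈ chevG2.monomialSubgroup K := by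
      have : (T.equiv.symm T.n).1 = wg T.three (chevG2.nWord 7 1) *
          wg T.three (chevG2.nWord 11 1) * wg T.three (chevG2.hWord 11 (-1)) :=
        T.eq_of_rel (by rw [← equiv_apply, MulEquiv.apply_symm_apply]; exact T.rel_nn)
      rw [this]
      exact Subgroup.mul_mem _ (Subgroup.mul_mem _
        (Subgroup.mem_sup_right (Subgroup.subset_closure ⟨7, by decide, rfl⟩))
        (Subgroup.mem_sup_right (Subgroup.subset_closure ⟨11, by decide, rfl⟩)))
        (Subgroup.mem_sup_left (Subgroup.subset_closure ⟨11, -1, by decide, by simp, rfl⟩))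
    obtain ⟨k, hk | hk⟩ := T.mem_N.mp h
    · have : g = T.equiv.symm (T.h k) := by rw [← hk, MulEquiv.symm_apply_apply]
      rw [this]
      exact hh k
    · have : g = T.equiv.symm (T.h k) * T.equiv.symm T.n := by
        rw [← map_mul, ← hk, MulEquiv.symm_apply_apply]
      rw [this]
      exact Subgroup.mul_mem _ (hh k) hn

end TCtx

end Ree
end H8
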