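import Mathlib
import Cfsg.Agent.H8.ReeBridge

/-!
Transport of the structure of the seven-dimensional Ree group to `twistedG2 K e`.
-/

set_option autoImplicit false

namespace H8
namespace Ree
open Cfsg Cfsg.Lie

section General
variable {A B : Type*} [Group A] [Group B] {G D : Subgroup A}

theorem subgroupOf_eq_comap (e : G ≃* B) {S : Subgroup B} (h : ∀ g : G, g.1 ∈ D ↔ e g ∈ S) :
    (D ⊓ G).subgroupOf G = S.comap e.toMonoidHom := by
  ext g
  rw [Subgroup.mem_subgroupOf, Subgroup.mem_comap, Subgroup.mem_inf, h]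
  exact ⟨fun h => h.1, fun h => ⟨h, g.2⟩⟩

/-- The intersection of `G` with an ambient subgroup, transported along an isomorphism. -/
def infEquiv (e : G ≃* B) {S : Subgroup B} (h : ∀ g : G, g.1 ∈ D ↔ e g ∈ S) :
    ↥(D ⊓ G) ≃* S where
  toFun g := ⟨e ⟨g.1, g.2.2⟩, (h ⟨g.1, g.2.2⟩).mp g.2.1⟩
  invFun s := ⟨(e.symm s.1).1, (h _).mpr (by simp), (e.symm s.1).2⟩
  left_inv g := by simp
  right_inv s := by simp
  map_mul' g g' := Subtype.ext (map_mul e ⟨g.1, g.2.2⟩ ⟨g'.1, g'.2.2⟩)

theorem infEquiv_apply (e : G ≃* B) {S : Subgroup B} (h : ∀ g : G, g.1 ∈ D ↔ e g ∈ S)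
    (g : ↥(D ⊓ G)) : (infEquiv e h g : B) = e ⟨g.1, g.2.2⟩ := rfl

end General

variable {K : Type*} [Field K]

namespace Ctx

variable (T : Ctx K)

theorem h_neg_one_ne_one : T.h (-1) ≠ 1 := by
  rw [← T.h_one, Ne, h_inj]
  intro h
  exact T.neg_one_ne_one (by simpa using congrArg Units.val h)

theorem h_neg_one_sq : T.h (-1) * T.h (-1) = 1 := by
  rw [h_mul, ← T.h_one]; simp

/-- The stabiliser of three points has order at most two. -/
theorem card_stab_three_le [Finite K] {p q r : T.Ω} (hpq : p ≠ q) (hpr : p ≠ r) (hqr : q ≠ r)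
    (S : Subgroup T.R) (hS : ∀ g ∈ S, g • p = p ∧ g • q = q ∧ g • r = r) : Nat.card S ≤ 2 := by
  obtain ⟨x, rfl, rfl⟩ := T.exists_smul_pair hpq
  obtain ⟨a, b, c, h⟩ := (T.cases_Ω (x⁻¹ • r)).resolve_left (by
    rw [inv_smul_eq_iff]; exact hpr.symm)
  have h0 : ¬ (a = 0 ∧ b = 0 ∧ c = 0) := by
    rintro ⟨rfl, rfl, rfl⟩
    rw [pt_zero, inv_smul_eq_iff] at h
    exact hqr h.symm
  have key : (S : Set T.R) ⊆ {1, x * T.h (-1) * x⁻¹} := by
    intro g hg
    obtain ⟨h1, h2, h3⟩ := hS g hg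
    obtain ⟨k, hk⟩ := T.exists_eq_h (x⁻¹ * g * x)
      (by rw [mul_smul, mul_smul, h1, inv_smul_smul])
      (by rw [mul_smul, mul_smul, h2, inv_smul_smul])
    have hg' : g = x * T.h k * x⁻¹ := by rw [← hk]; group
    rcases T.sq_eq_one_of_h_pt h0 (k := k) (by
      rw [← hk, ← h, mul_smul, mul_smul, smul_inv_smul, h3]) with rfl | rfl
    · left; rw [hg', h_one]; group
    · right; exact hg'
  calc Nat.card S = (S : Set T.R).ncard := rfl
    _ ≤ ({1, x * T.h (-1) * x⁻¹} : Set T.R).ncard := Set.ncard_le_ncard key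
    _ ≤ 2 := (Set.ncard_insert_le _ _).trans (by simp)

theorem h_neg_one_pt (b : K) : T.h (-1) • T.pt 0 b 0 = T.pt 0 b 0 := by
  rw [h_pt]; simp

theorem orderOf_u_eq_three {a b c : K} :
    orderOf (T.u a b c) = 3 ↔ a = 0 ∧ ¬ (b = 0 ∧ c = 0) := by
  have : Fact (Nat.Prime 3) := ⟨Nat.prime_three⟩
  rw [orderOf_eq_prime_iff, u_cube, u_eq_one, Ne, u_eq_one]
  constructor
  · rintro ⟨⟨-, -, h1⟩, h2⟩
    have ha : a = 0 := by simpa using h1
    exact ⟨ha, fun h => h2 ⟨ha, h⟩⟩
  · rintro ⟨rfl, h⟩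
    exact ⟨by simp, fun h' => h h'.2⟩

theorem card_order_three [Finite K] :
    Nat.card {g : T.U // orderOf g = 3} = Nat.card K ^ 2 - 1 := by
  have : Function.Bijective (fun p : {p : K × K // p ≠ 0} =>
      (⟨⟨T.u 0 p.1.1 p.1.2, T.u_mem_U _ _ _⟩, by
        rw [← Subgroup.orderOf_coe, orderOf_u_eq_three]
        exact ⟨rfl, fun h => p.2 (Prod.ext h.1 h.2)⟩⟩ : {g : T.U // orderOf g = 3})) := by
    constructor
    · intro p p' h
      have := T.u_inj.mp (congrArg Subtype.val (congrArg Subtype.val h))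
      exact Subtype.ext (Prod.ext this.2.1 this.2.2)
    · rintro ⟨⟨_, a, b, c, rfl⟩, h⟩
      obtain ⟨rfl, h1⟩ := T.orderOf_u_eq_three.mp ((Subgroup.orderOf_coe _).trans h)
      exact ⟨⟨(b, c), fun h' => h1 (Prod.ext_iff.mp h')⟩, rfl⟩
  classical
  have hK := Fintype.ofFinite K
  rw [← Nat.card_eq_of_bijective _ this, Nat.card_eq_fintype_card, Nat.card_eq_fintype_card]
  simp [sq]

include T in
theorem three_dvd_card [Finite K] : 3 ∣ Nat.card K := by
  have : Fact (Nat.Prime 3) := ⟨Nat.prime_three⟩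
  have h1 : addOrderOf (1 : K) = 3 := by
    have := T.three
    apply addOrderOf_eq_prime _ one_ne_zero
    simpa using this
  exact h1 ▸ addOrderOf_dvd_natCard (1 : K)

theorem index_U [Finite K] : T.U.index = (Nat.card K - 1) * (Nat.card K ^ 3 + 1) := by
  have h := T.U.index_mul_card
  rw [T.card_U, T.card_R] at h
  have : 0 < Nat.card K ^ 3 := pow_pos Nat.card_pos 3
  apply Nat.eq_of_mul_eq_mul_right this
  rw [h]; ring

theorem not_three_dvd_index_U [Finite K] : ¬ 3 ∣ T.U.index := by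
  rw [T.index_U, Nat.prime_three.dvd_mul]
  obtain ⟨c, hc⟩ := T.three_dvd_card
  have h0 : 0 < Nat.card K := Nat.card_pos
  rintro (h | h)
  · omega
  · have : 3 ∣ Nat.card K ^ 3 := dvd_pow T.three_dvd_card (by norm_num)
    omega

instance instFactPrimeThree : Fact (Nat.Prime 3) := ⟨Nat.prime_three⟩

/-- `U` as a Sylow 3-subgroup. -/
noncomputable def sylowU [Finite K] : Sylow 3 T.R := T.isPGroup_U.toSylow T.not_three_dvd_index_U

theorem coe_sylowU [Finite K] : (T.sylowU : Subgroup T.R) = T.U := rfl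

open scoped Pointwise in
theorem sylow_three_TI [Finite K] (P Q : Sylow 3 T.R) (hPQ : P ≠ Q) :
    (P : Subgroup T.R) ⊓ Q = ⊥ := by
  obtain ⟨x, rfl⟩ := MulAction.exists_smul_eq T.R T.sylowU P
  obtain ⟨y, rfl⟩ := MulAction.exists_smul_eq T.R T.sylowU Q
  rw [eq_bot_iff]
  rintro g ⟨h1, h2⟩
  by_contra hg
  apply hPQ
  have key : ∀ x g : T.R, g ∈ ((x • T.sylowU : Sylow 3 T.R) : Subgroup T.R) ↔ x⁻¹ * g * x ∈ T.U := by
    intro x g
    rw [Sylow.coe_subgroup_smul, Subgroup.mem_pointwise_smul_iff_inv_smul_mem, coe_sylowU]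
    simp
  have k1 := (key x g).mp h1
  have k2 := (key y g).mp h2
  have hxy : x⁻¹ * y ∈ T.B := by
    apply T.eq_inf_of_U k1
    · intro h
      apply hg
      rw [Subgroup.mem_bot]
      calc g = x * (x⁻¹ * g * x) * x⁻¹ := by group
        _ = 1 := by rw [h]; group
    · have h3 : (y⁻¹ * g * y) • T.inf = T.inf := T.U_le_B k2
      calc (x⁻¹ * g * x) • (x⁻¹ * y) • T.inf = (x⁻¹ * y) • (y⁻¹ * g * y) • T.inf := by
            rw [← mul_smul, ← mul_smul]; congr 1; group
        _ = _ := by rw [h3]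
  ext z
  change z ∈ ((x • T.sylowU : Sylow 3 T.R) : Subgroup T.R) ↔
    z ∈ ((y • T.sylowU : Sylow 3 T.R) : Subgroup T.R)
  rw [key, key]
  constructor
  · intro h
    have := T.conj_mem_U (T.B.inv_mem hxy) h
    convert this using 1
    group
  · intro h
    have := T.conj_mem_U hxy h
    convert this using 1
    group

include T in
theorem card_mod_four [Finite K] : Nat.card K % 4 = 3 := by
  have := Fintype.ofFinite K
  have h := T.not_isSquare_neg_one
  rw [FiniteField.isSquare_neg_one_iff, ← Nat.card_eq_fintype_card] at h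
  exact not_not.mp h

include T in
theorem card_odd_order_units [Finite K] :
    2 * Nat.card {k : Kˣ // Odd (orderOf k)} = Nat.card K - 1 := by
  classical
  have := Fintype.ofFinite K
  have h4 := T.card_mod_four
  obtain ⟨d, hd⟩ : ∃ d, Nat.card K - 1 = 2 * d := ⟨(Nat.card K - 1) / 2, by omega⟩
  have hodd : Odd d := ⟨d / 2, by omega⟩
  have hc : Nat.card Kˣ = 2 * d := by rw [Nat.card_units, hd]
  have key : ∀ k : Kˣ, Odd (orderOf k) ↔ k ^ d = 1 := by
    intro k
    rw [← orderOf_dvd_iff_pow_eq_one]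
    constructor
    · intro h
      have h1 : orderOf k ∣ 2 * d := hc ▸ orderOf_dvd_natCard k
      exact (Nat.Coprime.dvd_mul_left (Nat.coprime_two_right.mpr h)).mp h1
    · exact fun h => hodd.of_dvd_nat h
  rw [hd]
  congr 1
  simp_rw [key]
  have h1 := IsCyclic.card_powMonoidHom_ker Kˣ d
  rw [hc, Nat.gcd_mul_left_left] at h1
  exact h1

end Ctx

namespace TCtx

variable {e : ℕ} (T : TCtx K e) [Finite K]

/-- The intersection with `U`. -/
noncomputable def equivU : ↥(chevG2.posUnipotent K ⊓ twistedG2 K e) ≃* T.U :=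
  infEquiv T.equiv fun _ => T.mem_posUnipotent_iff

/-- The intersection with `H`. -/
noncomputable def equivH : ↥(chevG2.diagonalSubgroup K ⊓ twistedG2 K e) ≃* T.H :=
  infEquiv T.equiv fun _ => T.mem_diagonal_iff

/-- The intersection with `N`. -/
noncomputable def equivN : ↥(chevG2.monomialSubgroup K ⊓ twistedG2 K e) ≃* T.N :=
  infEquiv T.equiv fun _ => T.mem_monomial_iff

theorem borel_eq : (chevG2.borelSubgroup K ⊓ twistedG2 K e).subgroupOf (twistedG2 K e) =
    T.B.comap T.equiv.toMonoidHom :=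
  subgroupOf_eq_comap T.equiv fun _ => T.mem_borel_iff

theorem monomial_eq : (chevG2.monomialSubgroup K ⊓ twistedG2 K e).subgroupOf (twistedG2 K e) =
    T.N.comap T.equiv.toMonoidHom :=
  subgroupOf_eq_comap T.equiv fun _ => T.mem_monomial_iff

/-- The action of the twisted group on the ovoid. -/
@[reducible] noncomputable def action : MulAction (twistedG2 K e) T.Ω :=
  MulAction.compHom T.Ω T.equiv.toMonoidHom

end TCtx

end Ree
end H8
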