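import Mathlib
import Cfsg.Agent.H26.GHat

/-!
# Normal sets of `2`-elements closed under products inside `2`-subgroups

The set of conjugates of the elements of a strongly closed subgroup.
-/

set_option autoImplicit false
set_option linter.unusedSectionVars false
set_option linter.unusedVariables false

namespace H8
namespace PC

open Cfsg H24 H26 H26.Gold Subgroup
open scoped commutatorElement

universe u

variable {G : Type u} [Group G] [Finite G] {𝒯 𝒰 : Set G}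
  {A B D H K L M N P Q R S V W X Y : Subgroup G} {a b c d g k t x y z : G}

/-- a normal set of `2`-elements meeting every `2`-subgroup in a subgroup -/
structure Cl (𝒯 : Set G) : Prop where
  one : (1 : G) ∈ 𝒯
  two : ∀ x ∈ 𝒯, TwoE x
  conj : ∀ x ∈ 𝒯, ∀ g : G, g * x * g⁻¹ ∈ 𝒯
  mul : ∀ P : Subgroup G, TwoG P → ∀ x ∈ 𝒯, ∀ y ∈ 𝒯, x ∈ P → y ∈ P → x * y ∈ 𝒯

theorem two_of_comm (hx : TwoE x) (hy : TwoE y) (h : x * y = y * x) :
    TwoG (zpowers x ⊔ zpowers y) :=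
  hx.isPi.sup hy.isPi (norm_of_cent (by rw [C_zpowers, zpowers_le, mem_C1]; exact h.symm))

namespace Cl

theorem pow (h : Cl 𝒯) (hx : x ∈ 𝒯) (n : ℕ) : x ^ n ∈ 𝒯 := by
  induction n with
  | zero => simpa using h.one
  | succ n ih =>
    rw [pow_succ]
    exact h.mul _ (h.two x hx).isPi _ ih _ hx (pow_mem (mem_zpowers x) n) (mem_zpowers x)

theorem of_zpowers (h : Cl 𝒯) (hx : x ∈ 𝒯) (hy : y ∈ zpowers x) : y ∈ 𝒯 := by
  obtain ⟨n, rfl⟩ := mem_powers_iff_mem_zpowers.2 hy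
  exact h.pow hx n

theorem inv (h : Cl 𝒯) (hx : x ∈ 𝒯) : x⁻¹ ∈ 𝒯 := h.of_zpowers hx (inv_mem (mem_zpowers x))

theorem conj' (h : Cl 𝒯) (hx : x ∈ 𝒯) (g : G) : g⁻¹ * x * g ∈ 𝒯 := by
  simpa using h.conj x hx g⁻¹

theorem conj_iff (h : Cl 𝒯) : g * x * g⁻¹ ∈ 𝒯 ↔ x ∈ 𝒯 :=
  ⟨fun h' => by simpa [mul_assoc] using h.conj' h' g, fun h' => h.conj x h' g⟩

theorem mul_of_comm (h : Cl 𝒯) (hx : x ∈ 𝒯) (hy : y ∈ 𝒯) (hc : x * y = y * x) : x * y ∈ 𝒯 :=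
  h.mul _ (two_of_comm (h.two x hx) (h.two y hy) hc) x hx y hy (mem_sup_left (mem_zpowers x))
    (mem_sup_right (mem_zpowers y))

theorem mem_Og_two (h : Cl 𝒯) (hP : TwoG P) : x ∈ Og 𝒯 P ↔ x ∈ P ∧ x ∈ 𝒯 := by
  refine ⟨fun hx => ?_, fun hx => mem_Og hx.2 hx.1⟩
  induction hx using closure_induction with
  | mem y hy => exact ⟨hy.2, hy.1⟩
  | one => exact ⟨one_mem _, h.one⟩
  | mul y z _ _ hy hz => exact ⟨mul_mem hy.1 hz.1, h.mul P hP y hy.2 z hz.2 hy.1 hz.1⟩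
  | inv y _ hy => exact ⟨inv_mem hy.1, h.inv hy.2⟩

theorem cj_Og_le (h : Cl 𝒯) (g : G) (H : Subgroup G) : cj g (Og 𝒯 H) ≤ Og 𝒯 (cj g H) :=
  cj_le_iff.2 (Og_le_iff.2 fun d hd hH => mem_cj.2 (by
    simpa using mem_Og (h.conj d hd g) (conj_mem_cj g hH)))

theorem cj_Og (h : Cl 𝒯) (g : G) (H : Subgroup G) : cj g (Og 𝒯 H) = Og 𝒯 (cj g H) := by
  refine le_antisymm (h.cj_Og_le g H) (le_cj_iff.2 ?_)
  simpa using h.cj_Og_le g⁻¹ (cj g H)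

theorem norm_Og (h : Cl 𝒯) (hX : X ≤ N[H]) : X ≤ N[Og 𝒯 H] := fun g hg => by
  rw [mem_N_iff_cj, h.cj_Og, cj_of_mem_N (hX hg)]

theorem Og_nml (h : Cl 𝒯) (H : Subgroup G) : Og 𝒯 H ⊴ H := ⟨Og_le _ _, h.norm_Og (norm_self H)⟩

theorem exists_inv (h : Cl 𝒯) (hx : x ∈ 𝒯) (h1 : x ≠ 1) :
    ∃ t ∈ zpowers x, t ∈ 𝒯 ∧ t ≠ 1 ∧ t * t = 1 := by
  obtain ⟨n, h2, h3⟩ := exists_pow_inv (h.two x hx) h1
  exact ⟨x ^ n, pow_mem (mem_zpowers x) n, h.pow hx n, h2, h3⟩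

theorem exists_of_Og_ne (h : Cl 𝒯) (hH : Og 𝒯 H ≠ ⊥) : ∃ t ∈ 𝒯, t ∈ H ∧ t ≠ 1 ∧ t * t = 1 := by
  by_contra hne
  refine hH (le_bot_iff.1 (Og_le_iff.2 fun d hd hdH => mem_bot.2 ?_))
  by_contra h1
  obtain ⟨t, ht, h2⟩ := h.exists_inv hd h1
  exact hne ⟨t, h2.1, zpowers_le.2 hdH ht, h2.2⟩

/-- an abelian group generated by elements of `𝒯` is a `2`-group -/
theorem two_Og (h : Cl 𝒯) (hc : Og 𝒯 H ≤ C[Og 𝒯 H]) : TwoG (Og 𝒯 H) := by
  refine isPi_iff_piElt.2 fun x hx => ?_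
  have key : ∀ x ∈ Og 𝒯 H, TwoE x := by
    intro x hx
    induction hx using closure_induction with
    | mem y hy => exact h.two y hy.1
    | one => exact piElt_one _
    | mul y z hy' hz' hy hz => exact hy.mul hz (comm_of_cent hc hy' hz')
    | inv y _ hy => exact hy.inv
  exact key x hx

theorem mem_of_Og (h : Cl 𝒯) (h2 : TwoG (Og 𝒯 H)) (hx : x ∈ Og 𝒯 H) : x ∈ 𝒯 := by
  rw [← Og_Og] at hx
  exact ((h.mem_Og_two h2).1 hx).2

end Cl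

theorem Og_eq_bot : Og 𝒯 H = ⊥ ↔ ∀ x ∈ 𝒯, x ∈ H → x = 1 := by
  rw [← le_bot_iff, Og_le_iff]; simp

/-- `2`-subgroups can be moved into a common `2`-subgroup by a normal subgroup of `2`-power index -/
theorem exists_conj_two (hK : K ⊴ L) (hi : PiNat {2} (K.relIndex L)) (hX : TwoG X) (hY : TwoG Y)
    (hXL : X ≤ L) (hYL : Y ≤ L) : ∃ k ∈ K, ∃ P, TwoG P ∧ P ≤ L ∧ X ≤ P ∧ cj k Y ≤ P := by
  obtain ⟨P, hP, hXP⟩ := Sylow_superset Nat.prime_two hX hXL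
  obtain ⟨g, hg, hle⟩ := Sylow_Jsub Nat.prime_two hP hY hYL
  obtain ⟨p, hp, k, hk, rfl⟩ := (hP.isProd_of_idx hK.le hi).mul g hg
  refine ⟨k, hk, P, hP.pi, hP.le, hXP, ?_⟩
  rw [cj_mul, cj_le_iff, cj_of_mem (P.inv_mem hp)] at hle
  exact hle

/-! ### quotient maps -/

/-- `f` is onto with kernel `R` -/
structure Quo {X : Type u} [Group X] {H : Subgroup G} (f : H →* X) (R : Subgroup G) : Prop where
  surj : Function.Surjective f
  ker : pre f ⊥ = R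

theorem exists_quo (h : R ⊴ H) :
    ∃ (X : Type u) (_ : Group X) (_ : Finite X) (f : H →* X), Quo f R := by
  haveI := h.normal
  refine ⟨H ⧸ R.subgroupOf H, inferInstance, inferInstance, QuotientGroup.mk' _,
    QuotientGroup.mk'_surjective _, ?_⟩
  ext x
  rw [mem_pre_bot]
  refine ⟨fun ⟨h1, h2⟩ => ?_, fun hx => ⟨h.le hx, ?_⟩⟩
  · rw [ap_of_mem _ h1] at h2
    exact (QuotientGroup.eq_one_iff (N := R.subgroupOf H) (⟨x, h1⟩ : H)).1 h2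
  · rw [ap_of_mem _ (h.le hx)]
    exact (QuotientGroup.eq_one_iff _).2 hx

/-- the image of a set -/
def im {X : Type u} [Group X] (𝒯 : Set G) {H : Subgroup G} (f : H →* X) : Set X :=
  {y | ∃ x ∈ 𝒯, x ∈ H ∧ ap f x = y}

section quo

variable {X : Type u} [Group X] [Finite X] {f : H →* X} {E F : Subgroup X}

theorem mem_im (hx : x ∈ 𝒯) (hH : x ∈ H) : ap f x ∈ im 𝒯 f := ⟨x, hx, hH, rfl⟩

theorem ap_one' (f : H →* X) : ap f 1 = 1 := by rw [ap_of_mem f (one_mem H)]; exact map_one f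

namespace Quo

theorem nml (h : Quo f R) : R ⊴ H := h.ker ▸ ker_nml f

theorem le (h : Quo f R) : R ≤ H := h.nml.le

theorem eq_one (h : Quo f R) (hx : x ∈ H) : ap f x = 1 ↔ x ∈ R := by
  rw [← h.ker, mem_pre_bot]; simp [hx]

theorem ap_ker (h : Quo f R) (hx : x ∈ R) : ap f x = 1 := (h.eq_one (h.le hx)).2 hx

theorem eq_iff (h : Quo f R) (hx : x ∈ H) (hy : y ∈ H) : ap f x = ap f y ↔ x⁻¹ * y ∈ R := by
  rw [← h.eq_one (mul_mem (inv_mem hx) hy), ap_mul f (inv_mem hx) hy, ap_inv f hx,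
    inv_mul_eq_one]

theorem exists_ap (h : Quo f R) (y : X) : ∃ x ∈ H, ap f x = y := by
  obtain ⟨x, rfl⟩ := h.surj y
  exact ⟨x, x.2, ap_of_mem f x.2⟩

theorem range (h : Quo f R) : f.range = ⊤ := MonoidHom.range_eq_top.2 h.surj

theorem img_top (h : Quo f R) : img f H = ⊤ := by rw [img_dom, h.range]

theorem img_pre (h : Quo f R) (E : Subgroup X) : img f (pre f E) = E :=
  img_pre_of_le (h.range ▸ le_top)

theorem pre_img (h : Quo f R) (hA : A ≤ H) : pre f (img f A) = A ⊔ R := by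
  rw [H24.pre_img f hA, h.ker]

theorem le_iff (h : Quo f R) (hA : A ≤ H) (hB : B ≤ H) : img f A ≤ img f B ↔ A ≤ B ⊔ R := by
  rw [img_le_img_iff hA hB, h.ker]

theorem le_pre (h : Quo f R) (E : Subgroup X) : R ≤ pre f E := h.ker ▸ ker_le_pre f E

theorem eq_bot (h : Quo f R) (hA : A ≤ H) : img f A = ⊥ ↔ A ≤ R := by
  rw [img_eq_bot hA, h.ker]

theorem mem_iff (h : Quo f R) (hx : x ∈ H) (hB : B ≤ H) : ap f x ∈ img f B ↔ x ∈ B ⊔ R := by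
  rw [← h.pre_img hB, mem_pre]; simp [hx]

theorem comm_le (h : Quo f R) (hA : A ≤ H) (hB : B ≤ H) :
    ⁅A, B⁆ ≤ R ↔ img f A ≤ C[img f B] := by
  rw [← comm_le_ker hA hB, h.ker]

theorem card (h : Quo f R) : ♯R * Nat.card X = ♯H := by
  have := card_img_mul f (le_refl H)
  rwa [h.ker, inf_eq_left.2 h.le, h.img_top, card_top] at this

theorem card_lt (h : Quo f R) (h1 : H ≠ ⊤ ∨ R ≠ ⊥) : Nat.card X < Nat.card G := by
  have h2 := h.card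
  have h3 := card_pos R
  have h4 : 0 < Nat.card X := Nat.card_pos
  rcases h1 with h1 | h1
  · have := H24.card_lt (lt_top_iff_ne_top.2 h1)
    rw [card_top] at this
    nlinarith
  · have := one_lt_card h1
    have h5 := card_le (le_top : H ≤ ⊤)
    rw [card_top] at h5
    nlinarith

theorem pre_nml (h : Quo f R) (hE : E ⊴ F) : pre f E ⊴ pre f F := hE.pre f

theorem pre_nml_top (h : Quo f R) (hE : ⊤ ≤ N[E]) : pre f E ⊴ H :=
  ⟨pre_le f E, norm_pre le_rfl (le_top.trans hE)⟩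

theorem idx_pre (h : Quo f R) (E : Subgroup X) : R.relIndex (pre f E) = ♯E := by
  rw [← h.ker, ← card_img f (pre_le f E), h.img_pre]

theorem isPi_pre (h : Quo f R) {π : Set ℕ} (hR : IsPi π R) (hE : IsPi π E) : IsPi π (pre f E) :=
  isPi_of_relIndex (h.le_pre E) hR (by rw [h.idx_pre]; exact hE)

theorem ap_conj_ker (h : Quo f R) (hk : k ∈ R) (hx : x ∈ H) : ap f (k * x * k⁻¹) = ap f x := by
  rw [ap_conj f (h.le hk) hx, h.ap_ker hk]; simp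

/-- lifting pairs of `2`-subgroups -/
theorem lift (h : Quo f R) (hA : TwoG A) (hB : TwoG B) (hAH : A ≤ H) (hBH : B ≤ H) (hE : TwoG E)
    (h1 : img f A ≤ E) (h2 : img f B ≤ E) :
    ∃ k ∈ R, ∃ P, TwoG P ∧ P ≤ H ∧ A ≤ P ∧ cj k B ≤ P := by
  obtain ⟨k, hk, P, hP, hPL, h3, h4⟩ := exists_conj_two (h.nml.of_le (h.le_pre E) (pre_le f E))
    (by rw [h.idx_pre]; exact hE) hA hB ((img_le_iff hAH).1 h1) ((img_le_iff hBH).1 h2)
  exact ⟨k, hk, P, hP, hPL.trans (pre_le f E), h3, h4⟩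

theorem lift1 (h : Quo f R) (hA : TwoG A) (hx : TwoE x) (hAH : A ≤ H) (hxH : x ∈ H) (hE : TwoG E)
    (h1 : img f A ≤ E) (h2 : ap f x ∈ E) :
    ∃ k ∈ R, ∃ P, TwoG P ∧ P ≤ H ∧ A ≤ P ∧ k * x * k⁻¹ ∈ P := by
  obtain ⟨k, hk, P, hP, hPL, h3, h4⟩ := h.lift hA hx.isPi hAH (zpowers_le.2 hxH) hE h1
    (by rw [img_zpowers f hxH]; exact zpowers_le.2 h2)
  exact ⟨k, hk, P, hP, hPL, h3, h4 (conj_mem_cj k (mem_zpowers x))⟩

theorem lift2 (h : Quo f R) (hx : TwoE x) (hy : TwoE y) (hxH : x ∈ H) (hyH : y ∈ H) (hE : TwoG E)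
    (h1 : ap f x ∈ E) (h2 : ap f y ∈ E) :
    ∃ k ∈ R, ∃ P, TwoG P ∧ P ≤ H ∧ x ∈ P ∧ k * y * k⁻¹ ∈ P := by
  obtain ⟨k, hk, P, hP, hPL, h3, h4⟩ := h.lift1 hx.isPi hy (zpowers_le.2 hxH) hyH hE
    (by rw [img_zpowers f hxH]; exact zpowers_le.2 h1) h2
  exact ⟨k, hk, P, hP, hPL, h3 (mem_zpowers x), h4⟩

/-- an element mapping into the image of a Sylow subgroup is conjugate into it by the kernel -/
theorem lift_syl (h : Quo f R) (hP : Syl 2 H P) (hx : TwoE x) (hxH : x ∈ H)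
    (h2 : ap f x ∈ img f P) : ∃ k ∈ R, k * x * k⁻¹ ∈ P := by
  obtain ⟨k, hk, Q, hQ, hQH, h3, h4⟩ := h.lift1 hP.pi hx hP.le hxH (hP.pi.img f) le_rfl h2
  exact ⟨k, hk, hP.eq_of_le hQ h3 hQH ▸ h4⟩

theorem cl (h : Quo f R) (hT : Cl 𝒯) : Cl (im 𝒯 f) where
  one := ⟨1, hT.one, one_mem _, ap_one' f⟩
  two := by
    rintro _ ⟨x, hx, hH, rfl⟩
    exact (hT.two x hx).ap f hH
  conj := by
    rintro _ ⟨x, hx, hH, rfl⟩ g
    obtain ⟨g, hg, rfl⟩ := h.exists_ap g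
    exact ⟨_, hT.conj x hx g, mul_mem (mul_mem hg hH) (inv_mem hg), ap_conj f hg hH⟩
  mul := by
    rintro E hE _ ⟨x, hx, hH, rfl⟩ _ ⟨y, hy, hH', rfl⟩ h1 h2
    obtain ⟨k, hk, P, hP, hPH, h3, h4⟩ := h.lift2 (hT.two x hx) (hT.two y hy) hH hH' hE h1 h2
    refine ⟨_, hT.mul P hP x hx _ (hT.conj y hy k) h3 h4, hPH (mul_mem h3 h4), ?_⟩
    rw [ap_mul f hH (hPH h4), h.ap_conj_ker hk hH']

theorem img_Og_le (h : Quo f R) (hD : D ≤ H) : img f (Og 𝒯 D) ≤ Og (im 𝒯 f) (img f D) :=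
  (img_le_iff ((Og_le _ _).trans hD)).2 (Og_le_iff.2 fun d hd hdD =>
    mem_pre.2 ⟨hD hdD, mem_Og (mem_im hd (hD hdD)) (ap_mem_img f hdD (hD hdD))⟩)

theorem Og_im (h : Quo f R) (E : Subgroup X) : Og (im 𝒯 f) E = img f (Og 𝒯 (pre f E)) := by
  refine le_antisymm (Og_le_iff.2 ?_) ((h.img_Og_le (pre_le f E)).trans (by rw [h.img_pre]))
  rintro _ ⟨x, hx, hH, rfl⟩ hE
  exact ap_mem_img f (mem_Og hx (mem_pre.2 ⟨hH, hE⟩)) hH

theorem Og_top (h : Quo f R) : Og (im 𝒯 f) ⊤ = img f (Og 𝒯 H) := by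
  rw [h.Og_im, pre_top]

theorem Od_img (h : Quo f R) (hR : OddG R) (hD : D ≤ H) : img f Od[D] = Od[img f D] :=
  img_pcore_of_inj _ f hD (h.ker ▸ hR.inf_left D)

theorem Od_eq_bot (h : Quo f Od[H]) : Od[(⊤ : Subgroup X)] = ⊥ := by
  rw [← h.img_top, ← h.Od_img (Od_odd H) le_rfl, h.eq_bot (pcore_le _ _)]

/-- if the kernel misses `𝒯`, centralisers of elements of `𝒯` are covered -/
theorem img_C1 (h : Quo f R) (hT : Cl 𝒯) (hR : ∀ x ∈ 𝒯, x ∈ R → x = 1) (ha : a ∈ 𝒯)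
    (haH : a ∈ H) : img f (H ⊓ C{a}) = C{ap f a} := by
  refine le_antisymm (img_cent1 f inf_le_right haH) fun y hy => ?_
  obtain ⟨x, hx, rfl⟩ := h.exists_ap y
  have h2 := hT.two a ha
  have hxa : x * a * x⁻¹ ∈ H := mul_mem (mul_mem hx haH) (inv_mem hx)
  have e : ap f (x * a * x⁻¹) = ap f a := by rw [ap_conj f hx haH, mem_C1_iff_conj.1 hy]
  obtain ⟨k, hk, P, hP, hPH, h3, h4⟩ := h.lift2 h2 (h2.conj x) haH hxa (h2.ap f haH).isPi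
    (mem_zpowers _) (e ▸ mem_zpowers _)
  have h5 := hR _ (hT.mul P hP _ (hT.inv ha) _ (hT.conj _ (hT.conj a ha x) k) (inv_mem h3) h4)
    ((h.eq_iff haH (hPH h4)).1 (by rw [h.ap_conj_ker hk hxa, e]))
  have hkx : k * x ∈ H := mul_mem (h.le hk) hx
  refine (mem_img_of_le inf_le_left).2 ⟨k * x, ⟨hkx, mem_C1_iff_conj.2 ?_⟩, ?_⟩
  · rw [inv_mul_eq_one] at h5
    rw [mul_inv_rev]
    conv_rhs => rw [h5]
    group
  · rw [ap_mul f (h.le hk) hx, h.ap_ker hk, one_mul]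

end Quo

end quo

end PC
end H8
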