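import Mathlib
import Cfsg.Agent.H8.PC1

/-!
# Consequences of the `Z*`-theorem for closed sets; commuting pairs
-/

set_option autoImplicit false
set_option linter.unusedSectionVars false
set_option linter.unusedVariables false

namespace H8
namespace PC

open Cfsg H24 H26 H26.Gold Subgroup
open scoped commutatorElement

universe u

variable {G : Type u} [Group G] [Finite G] {𝒯 𝒰 : Set G}
  {A B D H K L M N P Q R S V W X Y : Subgroup G} {a b c d g k t x y z : G}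

theorem le_sup_Od_of_cent (hV : TwoG V) (hVL : V ≤ L) (hc : L ≤ C[V])
    (hi : PiNat {2}ᶜ (V.relIndex L)) : L ≤ V ⊔ Od[L] := by
  have hH : Hall {2} L V := Hall.mk' hVL hV hi
  obtain ⟨Y, hY⟩ := Hall.exists_sd hH (norm_of_cent hc)
  have hdp : DP V Y L := hY.dp (hY.right_le.trans hc)
  rw [hdp.pcore_compl_eq hV (hY.isPi_right hH), hdp.sup]

theorem Quo.pre_Od_le {X : Type u} [Group X] [Finite X] {f : H →* X} (h : Quo f V) (hV : TwoG V)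
    (hD : D ≤ H) (hVD : V ≤ D) (hc : D ≤ C[V]) : pre f Od[img f D] ≤ V ⊔ Od[D] := by
  have h1 : pre f Od[img f D] ⊴ D := by
    have := h.pre_nml (pcore_nml {2}ᶜ (img f D))
    rwa [h.pre_img hD, sup_eq_left.2 hVD] at this
  refine (le_sup_Od_of_cent hV (h.le_pre _) (h1.le.trans hc) ?_).trans
    (sup_le_sup_left (h1.pcore_le _) V)
  rw [h.idx_pre]; exact Od_odd _

theorem Od_sup_two (hP : TwoG P) (hn : P ≤ N[D]) : Od[D ⊔ P] ≤ Od[D] := by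
  have h1 : D ⊴ D ⊔ P := nml_sup_left hn
  have h2 : Od[D ⊔ P] ≤ D := le_of_idx_compl' h1
    (by rw [relIndex_sup_of_norm hn]; exact hP.relIndex D) (Od_odd _) (pcore_le _ _)
  exact pcore_le_pcore_of_le le_sup_left h2

theorem conj_eq_of_mem_sup (hn : x ∈ N[D]) (hg : g ∈ D ⊔ zpowers x) :
    ∃ d ∈ D, g * x * g⁻¹ = d * x * d⁻¹ := by
  obtain ⟨l, hl, y, hy, rfl⟩ := (mem_sup_of_norm (zpowers_le.2 hn)).1 hg
  refine ⟨l, hl, ?_⟩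
  calc l * y * x * (l * y)⁻¹ = l * (y * x * y⁻¹) * l⁻¹ := by group
    _ = _ := by rw [mem_C1_iff_conj.1 (zpowers_le_C1 x hy)]

theorem orderOf_sq_lt (h2 : TwoE x) (h1 : x ≠ 1) : orderOf (x * x) < orderOf x := by
  have h3 := h2.dvd_orderOf h1
  rw [← pow_two, orderOf_pow_of_dvd two_ne_zero h3]
  exact Nat.div_lt_self (orderOf_pos x) one_lt_two

theorem zl0_aux (hT : Cl 𝒯) (hD : ∀ y ∈ 𝒯, y ∈ D → y = 1) (hO : Od[D] = ⊥) :
    ∀ n, ∀ x ∈ 𝒯, orderOf x = n → x ∈ N[D] → D ≤ C{x} := by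
  intro n
  induction n using Nat.strong_induction_on with
  | _ n ih =>
  intro x hx hn hxD
  by_cases h1 : x = 1
  · subst h1; intro y _; simp [mem_C1]
  have h2 := hT.two x hx
  have hxx : x * x ∈ 𝒯 := hT.mul_of_comm hx hx rfl
  have h3 : D ≤ C{x * x} := ih _ (hn ▸ orderOf_sq_lt h2 h1) _ hxx rfl (mul_mem hxD hxD)
  set R := zpowers (x * x) with hR
  set H := D ⊔ zpowers x with hH
  have hxH : x ∈ H := mem_sup_right (mem_zpowers x)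
  have hRx : R ≤ zpowers x := zpowers_le.2 (mul_mem (mem_zpowers x) (mem_zpowers x))
  have hc : H ≤ C[R] := by
    rw [hR, C_zpowers]
    exact sup_le h3 (zpowers_le.2 (by rw [mem_C1, mul_assoc]))
  have hRH : R ≤ H := hRx.trans le_sup_right
  have hR2 : TwoG R := (hT.two _ hxx).isPi
  have hRT : ∀ r ∈ R, r ∈ 𝒯 := fun r hr => hT.of_zpowers hxx hr
  obtain ⟨X, _, _, f, hf⟩ := exists_quo (R := R) (H := H) ⟨hRH, norm_of_cent hc⟩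
  have hO' : Od[(⊤ : Subgroup X)] = ⊥ := by
    have h4 := hf.pre_Od_le hR2 le_rfl hRH hc
    have h5 : Od[H] = ⊥ := le_bot_iff.1 (hO ▸ Od_sup_two h2.isPi (zpowers_le.2 hxD))
    rw [h5, sup_bot_eq, hf.img_top] at h4
    rw [← hf.img_pre Od[⊤], hf.eq_bot (pre_le _ _)]
    exact h4
  have key : ⁅zpowers x, D⁆ ≤ R := by
    rw [hf.comm_le (zpowers_le.2 hxH) le_sup_left, img_zpowers f hxH]
    by_cases h4 : ap f x = 1
    · rw [h4, zpowers_one_eq_bot]; exact bot_le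
    refine cents_of_le (B := ⊤) (comm_eq_bot.1 (le_bot_iff.1 ?_)) le_top
    have hsq : ap f x * ap f x = 1 := by
      rw [← ap_mul f hxH hxH]; exact hf.ap_ker (mem_zpowers _)
    rw [← hO']
    refine zstar_sub' (mem_top _) h4 hsq fun g _ hg => ?_
    obtain ⟨g, hgH, rfl⟩ := hf.exists_ap g
    rw [← ap_conj f hgH hxH] at hg ⊢
    obtain ⟨d, hd, e⟩ := conj_eq_of_mem_sup hxD hgH
    rw [e] at hg ⊢
    have hdH : d * x * d⁻¹ ∈ H :=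
      mul_mem (mul_mem (mem_sup_left hd) hxH) (inv_mem (mem_sup_left hd))
    have hcl := hf.cl hT
    obtain ⟨y, hy, hyH, e2⟩ := hcl.mul_of_comm (hcl.inv (mem_im hx hxH))
      (mem_im (hT.conj x hx d) hdH) (Commute.inv_left hg)
    have hm : x⁻¹ * (d * x * d⁻¹) ∈ D := by
      have := D.mul_mem (conj_mem' hxD hd) (D.inv_mem hd)
      simpa [mul_assoc] using this
    rw [← ap_inv f hxH, ← ap_mul f (inv_mem hxH) hdH] at e2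
    have h6 := (hf.eq_iff hyH (mem_sup_left hm)).1 e2
    have h7 := hD _ (hT.mul_of_comm hy (hRT _ h6) (comm_of_cent hc hyH h6)) (by simpa using hm)
    rw [mul_inv_cancel_left, inv_mul_eq_one] at h7
    rw [← h7]
  have h4 : ⁅zpowers x, D⁆ = ⊥ := by
    refine le_bot_iff.1 fun y hy => mem_bot.2 (hD y (hRT y (key hy)) ?_)
    exact comm_le_right (zpowers_le.2 hxD) hy
  rwa [comm_eq_bot', C_zpowers] at h4

/-- elements of `𝒯` centralise, modulo the core, every normalised subgroup missing `𝒯` -/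
theorem zl0 (hT : Cl 𝒯) (hD : ∀ y ∈ 𝒯, y ∈ D → y = 1) (hx : x ∈ 𝒯) (hxD : x ∈ N[D]) :
    ⁅zpowers x, D⁆ ≤ Od[D] := by
  set H := D ⊔ zpowers x with hH
  have hxH : x ∈ H := mem_sup_right (mem_zpowers x)
  obtain ⟨X, _, _, f, hf⟩ := exists_quo (R := Od[D]) (H := H)
    ((nml_sup_left (zpowers_le.2 hxD)).pcore _)
  rw [hf.comm_le (zpowers_le.2 hxH) le_sup_left, img_zpowers f hxH, centsC, C_zpowers]
  refine zl0_aux (hf.cl hT) ?_ ?_ _ _ (mem_im hx hxH) rfl (ap_mem_N f hxD hxH)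
  · rintro _ ⟨y, hy, hyH, rfl⟩ h1
    rw [hf.mem_iff hyH le_sup_left, sup_eq_left.2 (pcore_le _ _)] at h1
    rw [hD y hy h1, ap_one']
  · rw [← hf.Od_img (Od_odd D) le_sup_left, hf.eq_bot ((pcore_le _ _).trans le_sup_left)]

theorem comm_Og_le (h : ∀ x ∈ 𝒯, x ∈ H → ⁅zpowers x, D⁆ ≤ R) (hn : H ≤ N[R]) (hD : D ≤ N[R]) :
    ⁅Og 𝒯 H, D⁆ ≤ R := by
  refine ((le_centQ hD).1 (Og_le_iff.2 fun x hx hH => ?_)).2
  exact (le_centQ hD).2 ⟨zpowers_le.2 (hn hH), h x hx hH⟩ (mem_zpowers x)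

theorem zl0' (hT : Cl 𝒯) (hD : ∀ y ∈ 𝒯, y ∈ D → y = 1) (hH : H ≤ N[D]) : ⁅Og 𝒯 H, D⁆ ≤ Od[D] :=
  comm_Og_le (fun x hx h => zl0 hT hD hx (hH h)) (norm_pcore _ hH) (pcore_nml _ D).norm

/-- the same when `𝒯 ∩ D` is central in `D` -/
theorem zl1 (hT : Cl 𝒯) (hD : D ≤ C[Og 𝒯 D]) (hx : x ∈ 𝒯) (hxD : x ∈ N[D]) :
    ⁅zpowers x, D⁆ ≤ Og 𝒯 D ⊔ Od[D] := by
  set H := D ⊔ zpowers x with hH
  have hxH : x ∈ H := mem_sup_right (mem_zpowers x)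
  have hn : D ⊴ H := nml_sup_left (zpowers_le.2 hxD)
  obtain ⟨X, _, _, f, hf⟩ := exists_quo (R := Og 𝒯 D) (H := H)
    ⟨(Og_le _ _).trans le_sup_left, hT.norm_Og hn.norm⟩
  refine le_trans ?_ (hf.pre_Od_le (hT.two_Og ((Og_le _ _).trans hD)) le_sup_left (Og_le _ _) hD)
  rw [← img_le_iff (comm_le_of_le (zpowers_le.2 hxH) le_sup_left),
    img_comm f (zpowers_le.2 hxH) le_sup_left, img_zpowers f hxH]
  refine zl0 (hf.cl hT) ?_ (mem_im hx hxH) (ap_mem_N f hxD hxH)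
  rintro _ ⟨y, hy, hyH, rfl⟩ h1
  rw [hf.mem_iff hyH le_sup_left, sup_eq_left.2 (Og_le _ _)] at h1
  exact hf.ap_ker (mem_Og hy h1)

/-- two closed sets which commute inside `2`-subgroups and are disjoint -/
structure Pr (𝒯 𝒰 : Set G) : Prop where
  l : Cl 𝒯
  r : Cl 𝒰
  comm : ∀ P : Subgroup G, TwoG P → ∀ x ∈ 𝒯, ∀ y ∈ 𝒰, x ∈ P → y ∈ P → x * y = y * x
  disj : ∀ x ∈ 𝒯, x ∈ 𝒰 → x = 1

theorem Pr.symm (h : Pr 𝒯 𝒰) : Pr 𝒰 𝒯 :=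
  ⟨h.r, h.l, fun P hP x hx y hy h1 h2 => (h.comm P hP y hy x hx h2 h1).symm,
    fun x hx h1 => h.disj x h1 hx⟩

theorem Pr.cent (h : Pr 𝒯 𝒰) (hP : TwoG P) : Og 𝒯 P ≤ C[Og 𝒰 P] :=
  le_C_iff.2 fun a ha b hb => h.comm P hP a ((h.l.mem_Og_two hP).1 ha).2 b
    ((h.r.mem_Og_two hP).1 hb).2 (Og_le _ _ ha) (Og_le _ _ hb)

theorem Og_cent (h : ∀ x ∈ 𝒯, ∀ y ∈ 𝒰, x ∈ H → y ∈ K → x * y = y * x) : Og 𝒯 H ≤ C[Og 𝒰 K] :=
  Og_le_iff.2 fun x hx hH => mem_C_iff_le_C1.2 (Og_le_iff.2 fun y hy hK =>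
    mem_C1.2 (h x hx y hy hH hK).symm)

section quo

variable {X : Type u} [Group X] [Finite X] {f : H →* X}

/-- passage to a quotient -/
theorem Quo.pr (h : Quo f R) (hP : Pr 𝒯 𝒰)
    (hd : ∀ P : Subgroup G, TwoG P → P ≤ H → ∀ x ∈ 𝒯, ∀ y ∈ 𝒰, x ∈ P → y ∈ P → x⁻¹ * y ∈ R →
      x ∈ R) : Pr (im 𝒯 f) (im 𝒰 f) where
  l := h.cl hP.l
  r := h.cl hP.r
  comm := by
    rintro E hE _ ⟨x, hx, hH, rfl⟩ _ ⟨y, hy, hH', rfl⟩ h1 h2
    obtain ⟨k, hk, P, h2P, hPH, h3, h4⟩ := h.lift2 (hP.l.two x hx) (hP.r.two y hy) hH hH' hE h1 h2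
    rw [← h.ap_conj_ker hk hH', ← ap_mul f hH (hPH h4), ← ap_mul f (hPH h4) hH,
      hP.comm P h2P x hx _ (hP.r.conj y hy k) h3 h4]
  disj := by
    rintro _ ⟨x, hx, hH, rfl⟩ ⟨y, hy, hH', e⟩
    obtain ⟨k, hk, P, h2P, hPH, h3, h4⟩ := h.lift2 (hP.l.two x hx) (hP.r.two y hy) hH hH'
      ((hP.l.two x hx).ap f hH).isPi (mem_zpowers _) (e ▸ mem_zpowers _)
    exact h.ap_ker (hd P h2P hPH x hx _ (hP.r.conj y hy k) h3 h4
      ((h.eq_iff hH (hPH h4)).1 (by rw [h.ap_conj_ker hk hH', e])))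

theorem Quo.pr_odd (h : Quo f R) (hP : Pr 𝒯 𝒰) (hR : OddG R) : Pr (im 𝒯 f) (im 𝒰 f) :=
  h.pr hP fun P h2 _ x hx y hy h3 h4 h5 => by
    have h6 := (h2.piElt (mul_mem (inv_mem h3) h4)).eq_one (hR.piElt h5)
    rw [inv_mul_eq_one] at h6
    rw [hP.disj x hx (h6 ▸ hy)]; exact one_mem _

end quo

/-- the product theorem for groups of order less than `n` -/
def PCat (n : ℕ) : Prop :=
  ∀ (X : Type u) [Group X] [Finite X], Nat.card X < n → ∀ 𝒯 𝒰 : Set X, Pr 𝒯 𝒰 →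
    ⁅Og 𝒯 ⊤, Og 𝒰 ⊤⁆ ≤ Od[⊤]

theorem PCat.quo {n : ℕ} (ih : PCat.{u} n) {X : Type u} [Group X] [Finite X] {f : H →* X}
    (h : Quo f R) (hn : Nat.card X < n) (hP : Pr (im 𝒯 f) (im 𝒰 f)) :
    ⁅Og 𝒯 H, Og 𝒰 H⁆ ≤ pre f Od[⊤] := by
  rw [← img_le_iff (comm_le_of_le (Og_le _ _) (Og_le _ _)), img_comm f (Og_le _ _) (Og_le _ _),
    ← h.Og_top, ← h.Og_top]
  exact ih X hn _ _ hP

theorem PCat.odd (ih : PCat.{u} (Nat.card G)) (hP : Pr 𝒯 𝒰) (h1 : H ≠ ⊤ ∨ Od[H] ≠ ⊥) :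
    ⁅Og 𝒯 H, Og 𝒰 H⁆ ≤ Od[H] := by
  obtain ⟨X, _, _, f, hf⟩ := exists_quo (pcore_nml {2}ᶜ H)
  have := ih.quo hf (hf.card_lt h1) (hf.pr_odd hP (Od_odd H))
  rwa [hf.Od_eq_bot, hf.ker] at this

theorem PCat.sub (ih : PCat.{u} (Nat.card G)) (hP : Pr 𝒯 𝒰) (h1 : H ≠ ⊤) :
    ⁅Og 𝒯 H, Og 𝒰 H⁆ ≤ Od[H] := ih.odd hP (Or.inl h1)

end PC
end H8
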