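import Mathlib
import Cfsg.Agent.H8.PC2

/-!
# The product theorem: reduction to simple groups
-/

set_option autoImplicit false
set_option linter.unusedSectionVars false
set_option linter.unusedVariables false

namespace H8
namespace PC

open Cfsg H24 H26 H26.Gold Subgroup
open scoped commutatorElement

universe u

variable {G : Type u} [Group G] [Finite G] {𝒯 𝒰 : Set G}
  {A B D H K L M N P Q R S V W X Y : Subgroup G} {a b c d g k t x y z : G}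

theorem Od_nml_eq_bot (hO : Od[H] = ⊥) (hN : N ⊴ H) : Od[N] = ⊥ :=
  le_bot_iff.1 (hO ▸ hN.pcore_le _)

theorem two_of_nil (hO : Od[N] = ⊥) (hN : Nil N) : TwoG N := by
  have := (hN.pcoreC {2}).sup
  rw [hO, sup_bot_eq] at this
  exact isPi_of_pcore_eq this

theorem pc_proper (ih : PCat.{u} (Nat.card G)) (hP : Pr 𝒯 𝒰) (hO : Od[(⊤ : Subgroup G)] = ⊥)
    (h : Og 𝒰 ⊤ ≠ ⊤) : Og 𝒯 ⊤ ≤ C[Og 𝒰 ⊤] := by
  set N := Og 𝒰 ⊤ with hN
  have hn : N ⊴ ⊤ := hP.r.Og_nml ⊤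
  have hON := Od_nml_eq_bot hO hn
  have h1 := ih.sub hP h
  rw [hON, le_bot_iff, hN, Og_Og, ← hN, comm_eq_bot'] at h1
  have hV2 := hP.l.two_Og ((Og_le _ _).trans h1)
  refine Og_cent fun x hx y hy _ _ => ?_
  have hyN : y ∈ N := mem_Og hy (mem_top y)
  have h2 := zl1 hP.l h1 hx (hn.norm (mem_top x))
  rw [hON, sup_bot_eq] at h2
  have h3 := h2 (commutator_mem_commutator (mem_zpowers x) hyN)
  have h4 : ⁅x, y⁆ ∈ 𝒰 := by
    refine hP.r.mul_of_comm (hP.r.conj y hy x) (hP.r.inv hy) ?_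
    have h5 := comm_of_cent h1 hyN h3
    rw [commutatorElement_def] at h5
    calc x * y * x⁻¹ * y⁻¹ = y⁻¹ * (y * (x * y * x⁻¹ * y⁻¹)) := by group
      _ = _ := by rw [h5]; group
  exact commutatorElement_eq_one_iff_mul_comm.1 (hP.disj _ (hP.l.mem_of_Og hV2 h3) h4)

theorem pc_central (ih : PCat.{u} (Nat.card G)) (hP : Pr 𝒯 𝒰) (hO : Od[(⊤ : Subgroup G)] = ⊥)
    (hV : V ≠ ⊥) (hc : ⊤ ≤ C[V])
    (hd : ∀ P : Subgroup G, TwoG P → ∀ x ∈ 𝒯, ∀ y ∈ 𝒰, x ∈ P → y ∈ P → x⁻¹ * y ∈ V → x ∈ V) :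
    Og 𝒯 ⊤ ≤ C[Og 𝒰 ⊤] := by
  have hn : V ⊴ ⊤ := ⟨le_top, norm_of_cent hc⟩
  have hV2 : TwoG V := two_of_nil (Od_nml_eq_bot hO hn) (abl_iff.2 (le_top.trans hc)).nil
  obtain ⟨X, _, _, f, hf⟩ := exists_quo hn
  have h1 := ih.quo hf (hf.card_lt (Or.inr hV)) (hf.pr hP fun P h2 _ => hd P h2)
  have h2 := hf.pre_Od_le hV2 le_rfl le_top hc
  rw [hO, sup_bot_eq, hf.img_top] at h2
  refine Og_cent fun x hx y hy _ _ => ?_
  have h3 := h2 (h1 (commutator_mem_commutator (mem_Og hx (mem_top x)) (mem_Og hy (mem_top y))))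
  have h4 : ap f x * ap f y = ap f y * ap f x := by
    rw [← commutatorElement_eq_one_iff_mul_comm, ← ap_commutator f (mem_top x) (mem_top y)]
    exact hf.ap_ker h3
  have h5 := hf.isPi_pre hV2 (two_of_comm ((hP.l.two x hx).ap f (mem_top x))
    ((hP.r.two y hy).ap f (mem_top y)) h4)
  exact hP.comm _ h5 x hx y hy (mem_pre.2 ⟨mem_top _, mem_sup_left (mem_zpowers _)⟩)
    (mem_pre.2 ⟨mem_top _, mem_sup_right (mem_zpowers _)⟩)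

theorem pc_central_l (ih : PCat.{u} (Nat.card G)) (hP : Pr 𝒯 𝒰)
    (hO : Od[(⊤ : Subgroup G)] = ⊥) (hV : Og 𝒯 C[(⊤ : Subgroup G)] ≠ ⊥) :
    Og 𝒯 ⊤ ≤ C[Og 𝒰 ⊤] := by
  have hc : ⊤ ≤ C[Og 𝒯 C[(⊤ : Subgroup G)]] := cents_symm (Og_le _ _)
  have hV2 := hP.l.two_Og (le_top.trans hc)
  refine pc_central ih hP hO hV hc fun P h2 x hx y hy h3 h4 h5 => ?_
  have h6 := hP.l.mul P h2 x hx _ (hP.l.mem_of_Og hV2 h5) h3 (mul_mem (inv_mem h3) h4)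
  rw [mul_inv_cancel_left] at h6
  rw [hP.disj y h6 hy, mul_one] at h5
  exact inv_mem_iff.1 h5

theorem pc_center (ih : PCat.{u} (Nat.card G)) (hP : Pr 𝒯 𝒰)
    (hO : Od[(⊤ : Subgroup G)] = ⊥) (hV : C[(⊤ : Subgroup G)] ≠ ⊥) :
    Og 𝒯 ⊤ ≤ C[Og 𝒰 ⊤] := by
  by_cases h1 : Og 𝒯 C[(⊤ : Subgroup G)] = ⊥
  swap
  · exact pc_central_l ih hP hO h1
  by_cases h2 : Og 𝒰 C[(⊤ : Subgroup G)] = ⊥
  swap
  · exact cents_symm (pc_central_l ih hP.symm hO h2)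
  rw [Og_eq_bot] at h1 h2
  refine pc_central ih hP hO hV (le_CC ⊤) fun P hP2 x hx y hy h3 h4 h5 => ?_
  by_cases hx1 : x = 1
  · rw [hx1]; exact one_mem _
  exfalso
  obtain ⟨n, hn1, hn2⟩ := exists_pow_inv (hP.l.two x hx) hx1
  have hcomm : Commute x y := hP.comm P hP2 x hx y hy h3 h4
  set z := x ^ n with hz
  set v := (x⁻¹ * y) ^ n with hv
  have hvZ : v ∈ C[(⊤ : Subgroup G)] := pow_mem h5 n
  have hvc : ∀ g : G, g * v = v * g := fun g => mem_C.1 hvZ g (mem_top g)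
  have hzT : z ∈ 𝒯 := hP.l.pow hx n
  have hu : z * v ∈ 𝒰 := by
    rw [hz, hv, ← Commute.mul_pow ((Commute.refl x).inv_right.mul_right hcomm), mul_inv_cancel_left]
    exact hP.r.pow hy n
  have hvv : v * v = 1 := by
    refine h2 _ ?_ (mul_mem hvZ hvZ)
    have := hP.r.mul_of_comm hu hu rfl
    rwa [mul_assoc, ← mul_assoc v, ← hvc z, ← mul_assoc, ← mul_assoc, hn2, one_mul] at this
  have h6 := zstar_sub' (H := ⊤) (mem_top z) hn1 hn2 fun g _ hg => ?_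
  · rw [hO, le_bot_iff, comm_eq_bot] at h6
    exact hn1 (h1 z hzT (h6 (mem_zpowers z)))
  have e : g * (z * v) * g⁻¹ = g * z * g⁻¹ * v := by
    rw [mul_assoc (g * z), hvc g⁻¹]; group
  have e2 : z * v * (g * z * g⁻¹ * v) = z * (g * z * g⁻¹) := by
    rw [hvc (g * z * g⁻¹), mul_assoc z, ← mul_assoc v, hvv, one_mul]
  have h7 := hP.r.mul_of_comm hu (hP.r.conj _ hu g) (by
    rw [e, e2, hvc z, mul_assoc (g * z * g⁻¹) v, ← mul_assoc v, hvv, one_mul, hg])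
  rw [e, e2] at h7
  have h8 := hP.disj _ (hP.l.mul_of_comm hzT (hP.l.conj z hzT g) hg) h7
  rw [← H6.inv_eq_of_mul_self hn2, eq_inv_iff_mul_eq_one, H6.inv_eq_of_mul_self hn2, ← hg, h8]

theorem cent_of_minNml (ih : PCat.{u} (Nat.card G)) (hP : Pr 𝒯 𝒰)
    (hO : Od[(⊤ : Subgroup G)] = ⊥) (h1 : Og 𝒯 ⊤ = ⊤) (hN : N ⊴ ⊤) (h2 : Og 𝒯 N = ⊥) :
    N ≤ C[(⊤ : Subgroup G)] := by
  have := zl0' hP.l (Og_eq_bot.1 h2) hN.norm
  rwa [Od_nml_eq_bot hO hN, h1, le_bot_iff, comm_eq_bot'] at this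

theorem pc_step (ih : PCat.{u} (Nat.card G)) (hP : Pr 𝒯 𝒰)
    (hsp : IsSimpleGroup G → ¬ IsMulCommutative G → Og 𝒯 ⊤ = ⊤ → Og 𝒰 ⊤ = ⊤ → False) :
    ⁅Og 𝒯 ⊤, Og 𝒰 ⊤⁆ ≤ Od[⊤] := by
  by_cases hO : Od[(⊤ : Subgroup G)] = ⊥
  swap
  · exact ih.odd hP (Or.inr hO)
  rw [hO, le_bot_iff, comm_eq_bot]
  by_cases h2 : Og 𝒰 ⊤ = ⊤
  swap
  · exact pc_proper ih hP hO h2
  by_cases h1 : Og 𝒯 ⊤ = ⊤
  swap
  · exact cents_symm (pc_proper ih hP.symm hO h1)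
  by_cases hZ : C[(⊤ : Subgroup G)] = ⊥
  swap
  · exact pc_center ih hP hO hZ
  by_cases ha : IsMulCommutative G
  · exact (abl_top_iff.2 ha).cents le_top le_top
  refine (hsp ?_ ha h1 h2).elim
  have hnt : Nontrivial G := by
    by_contra h
    rw [not_nontrivial_iff_subsingleton] at h
    exact ha ⟨⟨fun a b => Subsingleton.elim _ _⟩⟩
  refine ⟨fun M hM => ?_⟩
  by_contra hne
  push Not at hne
  obtain ⟨N, hN, hNM⟩ := exists_minNml hne.1 (nml_top M).norm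
  have hNn : N ⊴ ⊤ := ⟨le_top, hN.norm⟩
  have h3 := ih.sub hP (H := N) fun e => hne.2 (top_le_iff.1 (e ▸ hNM))
  rw [Od_nml_eq_bot hO hNn, le_bot_iff, comm_eq_bot] at h3
  rcases hN.eq_or (Og_le 𝒯 N) (hP.l.norm_Og hN.norm) with e1 | e1
  · exact hN.ne_bot (eq_bot_of_le hZ (cent_of_minNml ih hP hO h1 hNn e1))
  rcases hN.eq_or (Og_le 𝒰 N) (hP.r.norm_Og hN.norm) with e2 | e2
  · exact hN.ne_bot (eq_bot_of_le hZ (cent_of_minNml ih hP.symm hO h2 hNn e2))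
  obtain ⟨x, hx, hx1⟩ := exists_ne_one hN.ne_bot
  have h4 : TwoG (Og 𝒯 N) := hP.l.two_Og (by rw [e2] at h3; rw [e1] at h3 ⊢; exact h3)
  have h5 : TwoG (Og 𝒰 N) := by rw [e2, ← e1]; exact h4
  exact hx1 (hP.disj x (hP.l.mem_of_Og h4 (e1.ge hx)) (hP.r.mem_of_Og h5 (e2.ge hx)))

end PC
end H8
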