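import Mathlib
import Cfsg.Agent.H8.PC3

/-!
# Closed sets whose involutions have fusion and centralisers in a proper subgroup
-/

set_option autoImplicit false
set_option linter.unusedSectionVars false
set_option linter.unusedVariables false

namespace H8
namespace PC

open Cfsg H24 H26 H26.Gold Subgroup
open scoped commutatorElement

universe u

variable {G : Type u} [Group G] [Finite G] {𝒯 𝒰 : Set G}
  {A B D H K L M N P Q R S V W X Y Z : Subgroup G} {a b c d g k t x y z : G}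

/-- what is needed from Bender's theorem -/
def BH : Prop :=
  ∀ (X : Type u) [Group X] [Finite X], IsSimpleGroup X → ¬ IsMulCommutative X →
    ∀ (𝒯 : Set X) (S M : Subgroup X), Cl 𝒯 → Syl 2 ⊤ S → Og 𝒯 S ≠ ⊥ → M ≠ ⊤ →
      (∀ t ∈ 𝒯, t ∈ S → t ≠ 1 → t * t = 1 → C{t} ≤ M) → ∃ Q Z : Subgroup X, TZ ⊤ Q Z ∧ Ty1 ⊤ Q Z

theorem Cl.sub (h : Cl 𝒯) (H : Subgroup G) : Cl {x : H | (x : G) ∈ 𝒯} where
  one := h.one
  two := fun x hx => by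
    have := h.two x hx
    rwa [TwoE, PiElt, orderOf_coe] at this
  conj := fun x hx g => h.conj x hx g
  mul := fun P hP x hx y hy h1 h2 =>
    h.mul _ (hP.map H.subtype) x hx y hy (mem_map_of_mem _ h1) (mem_map_of_mem _ h2)

theorem BH.sub (bh : BH.{u}) (hK : AS K) (hT : Cl 𝒯) (hS : Syl 2 K S) (h1 : Og 𝒯 S ≠ ⊥)
    (hM : ¬ K ≤ M) (hc : ∀ t ∈ 𝒯, t ∈ S → t ≠ 1 → t * t = 1 → K ⊓ C{t} ≤ M) :
    ∃ Z : Subgroup G, TZ K S Z ∧ Ty1 K S Z := by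
  obtain ⟨t, ht, htS, ht1, -⟩ := hT.exists_of_Og_ne h1
  obtain ⟨Q, Z, h2, h3⟩ := bh K hK.isSimpleGroup hK.nab _ (S.subgroupOf K) (M.subgroupOf K)
    (hT.sub K) ((hall_subgroupOf_top hS.le).2 hS)
    (ne_bot_of_mem (x := ⟨t, hS.le htS⟩) (mem_Og ht htS) fun e => ht1 (congrArg Subtype.val e))
    (fun e => hM (subgroupOf_eq_top.1 e)) fun s hs hsS hs1 hs2 y hy =>
      hc s hs hsS (fun e => hs1 (Subtype.ext e)) (congrArg Subtype.val hs2)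
        ⟨y.2, mem_C1.2 (congrArg Subtype.val (mem_C1.1 hy))⟩
  have h4 := h2.map K.subtype_injective
  have h5 := h3.map K.subtype_injective
  rw [map_subtype_top] at h4 h5
  obtain ⟨g, hg, rfl⟩ := Sylow_trans Nat.prime_two h4.syl hS
  have e : K.map (MulAut.conj g).toMonoidHom = K := cj_of_mem hg
  have h6 := h4.map (conj_injective' g)
  have h7 := h5.map (conj_injective' g)
  rw [e] at h6 h7
  exact ⟨_, h6, h7⟩

/-- fusion of the involutions of `𝒯` in `P` is confined to `M` -/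
structure Bd (𝒯 : Set G) (H P M : Subgroup G) : Prop where
  cl : Cl 𝒯
  syl : Syl 2 H P
  nle : ¬ H ≤ M
  fus : ∀ t ∈ 𝒯, t ∈ P → t ≠ 1 → t * t = 1 → ∀ g ∈ H, g * t * g⁻¹ ∈ P → g ∈ M

theorem exists_conj_syl (hP : Syl 2 H P) (hN : N ⊴ H) (h2 : TwoE t) (ht : t ∈ N) :
    ∃ n ∈ N, n * t * n⁻¹ ∈ P := by
  obtain ⟨n, hn, h⟩ := Sylow_Jsub Nat.prime_two (hP.inf_nml hN) h2.isPi (zpowers_le.2 ht)
  exact ⟨n, hn, (h (conj_mem_cj n (mem_zpowers t))).1⟩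

namespace Bd

theorem cent (h : Bd 𝒯 H P M) (ht : t ∈ 𝒯) (hP : t ∈ P) (h1 : t ≠ 1) (h2 : t * t = 1) :
    H ⊓ C{t} ≤ M := fun g hg => h.fus t ht hP h1 h2 g hg.1 (by rwa [mem_C1_iff_conj.1 hg.2])

theorem exists_inv (h : Bd 𝒯 H P M) (hN : N ⊴ H) (hL : L ⊴ N) (h1 : Og 𝒯 L ≠ ⊥) :
    ∃ t ∈ 𝒯, t ∈ L ∧ t ∈ P ∧ t ≠ 1 ∧ t * t = 1 := by
  obtain ⟨t, ht, htL, ht1, ht2⟩ := h.cl.exists_of_Og_ne h1
  obtain ⟨n, hn, h2⟩ := exists_conj_syl h.syl hN (h.cl.two t ht) (hL.le htL)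
  exact ⟨_, h.cl.conj t ht n, hL.conj_mem hn htL, h2, by rwa [Ne, conj_eq_one_iff'], conj_sq ht2 n⟩

theorem not_le (h : Bd 𝒯 H P M) (hN : N ⊴ H) (h1 : Og 𝒯 N ≠ ⊥) : ¬ N ≤ M := fun hle => by
  obtain ⟨t, ht, htN, htP, ht1, ht2⟩ := h.exists_inv hN (Nml.refl N) h1
  refine h.nle fun g hg => ?_
  obtain ⟨n, hn, h2⟩ := exists_conj_syl h.syl hN ((h.cl.two t ht).conj g) (hN.conj_mem hg htN)
  have := h.fus t ht htP ht1 ht2 (n * g) (mul_mem (hN.le hn) hg) (by simpa [mul_assoc] using h2)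
  exact (mul_mem_cancel_left (hle hn)).1 this

theorem quo {X : Type u} [Group X] [Finite X] {f : H →* X} (h : Bd 𝒯 H P M) (hf : Quo f R)
    (hR : ∀ x ∈ 𝒯, x ∈ R → x = 1) (hM : R ≤ M) :
    Bd (im 𝒯 f) ⊤ (img f P) (img f (M ⊓ H)) where
  cl := hf.cl h.cl
  syl := hf.img_top ▸ h.syl.img f le_rfl
  nle := fun e => by
    rw [← hf.img_top, hf.le_iff le_rfl inf_le_right] at e
    exact h.nle (e.trans (sup_le inf_le_left hM))
  fus := by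
    rintro _ ⟨t, ht, htH, rfl⟩ h1 h2 h3 g - h4
    obtain ⟨g, hg, rfl⟩ := hf.exists_ap g
    obtain ⟨k, hk, h5⟩ := hf.lift_syl h.syl (h.cl.two t ht) htH h1
    have hkH := hf.le hk
    have htt : t * t = 1 := hR _ (h.cl.mul_of_comm ht ht rfl)
      ((hf.eq_one (mul_mem htH htH)).1 (by rw [ap_mul f htH htH, h3]))
    have ht1 : t ≠ 1 := fun e => h2 (by rw [e, ap_one'])
    rw [← ap_conj f hg htH] at h4
    obtain ⟨k', hk', h6⟩ := hf.lift_syl h.syl ((h.cl.two t ht).conj g)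
      (mul_mem (mul_mem hg htH) (inv_mem hg)) h4
    have h7 := h.fus _ (h.cl.conj t ht k) h5 (by rwa [Ne, conj_eq_one_iff']) (conj_sq htt k)
      (k' * g * k⁻¹) (mul_mem (mul_mem (hf.le hk') hg) (inv_mem hkH)) (by simpa [mul_assoc] using h6)
    rw [mul_mem_cancel_right (inv_mem (hM hk)), mul_mem_cancel_left (hM hk')] at h7
    exact ap_mem_img f (A := M ⊓ H) ⟨h7, hg⟩ hg

theorem exists_min (h : Bd 𝒯 ⊤ P M) (hO : Od[(⊤ : Subgroup G)] = ⊥) (h1 : Og 𝒯 ⊤ ≠ ⊥) :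
    ∃ N : Subgroup G, N ⊴ ⊤ ∧ Og 𝒯 N ≠ ⊥ ∧ ⁅N, N⁆ = N ∧ ∀ R, R ⊴ ⊤ → R ≤ N → R = N ∨ R ≤ C[N] := by
  obtain ⟨N, -, ⟨hN, hN1⟩, hmin⟩ := H24.exists_min (P := fun N : Subgroup G => N ⊴ ⊤ ∧ Og 𝒯 N ≠ ⊥)
    ⟨Nml.refl ⊤, h1⟩
  have e : Og 𝒯 N = N := hmin _ ⟨⟨le_top, h.cl.norm_Og hN.norm⟩, by rwa [Og_Og]⟩ (Og_le _ _)
  have key : ∀ R, R ⊴ ⊤ → R ≤ N → R = N ∨ R ≤ C[N] := fun R hR hRN => by
    by_cases h2 : Og 𝒯 R = ⊥
    · have := zl0' h.cl (Og_eq_bot.1 h2) (le_top.trans hR.norm : N ≤ _)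
      rw [Od_nml_eq_bot hO hR, e, le_bot_iff, comm_eq_bot'] at this
      exact Or.inr this
    · exact Or.inl (hmin R ⟨hR, h2⟩ hRN)
  refine ⟨N, hN, hN1, (key _ (hN.comm hN) (der1_le N)).resolve_right fun h2 => ?_, key⟩
  have h4 : N ≤ P := h.syl.nml_le (two_of_nil (Od_nml_eq_bot hO hN) (nil_of_der1_le_C h2)) hN
  obtain ⟨t, ht, htN, htP, ht1, ht2⟩ := h.exists_inv hN (Nml.refl N) hN1
  exact h.nle fun g hg => h.fus t ht htP ht1 ht2 g hg (h4 (hN.conj_mem hg htN))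

theorem as (h : Bd 𝒯 ⊤ P M) (hN : MinNml N ⊤) (hC : C[N] = ⊥) (h1 : Og 𝒯 N ≠ ⊥) : AS N := by
  have hn : N ⊴ ⊤ := ⟨le_top, hN.norm⟩
  have e : Og 𝒯 N = N := (hN.eq_or (Og_le _ _) (h.cl.norm_Og hN.norm)).resolve_left h1
  have hO : Od[N] = ⊥ := (hN.eq_or (pcore_le _ _) (norm_pcore _ hN.norm)).resolve_right fun e' => by
    obtain ⟨t, ht, htN, ht1, ht2⟩ := h.cl.exists_of_Og_ne h1
    exact ht1 (eq_one_of_odd_sq ((Od_odd N).piElt (e'.ge htN)) ht2)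
  refine ⟨hN.norm, fun L0 hL0 => ?_, fun ha => hN.ne_bot (eq_bot_of_le hC ha.le_C), hC⟩
  by_contra hne
  push Not at hne
  obtain ⟨L, hL, hle⟩ := exists_minNml hne.1 hL0.norm
  have hLN : L ≤ N := hle.trans hL0.le
  have hcj : ∀ g, cj g N = N := fun g => cj_of_mem_N (hN.norm (mem_top g))
  have hm : ∀ g, MinNml (cj g L) N := fun g => hcj g ▸ hL.cj g
  have hl : ∀ g, cj g L ⊴ N := fun g => ⟨hcj g ▸ cj_mono g hLN, (hm g).norm⟩
  have hog : ∀ g, Og 𝒯 (cj g L) ≠ ⊥ := fun g e' => by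
    have := zl0' h.cl (Og_eq_bot.1 e') (hl g).norm
    rw [Od_nml_eq_bot hO (hl g), e, le_bot_iff, comm_eq_bot', hC] at this
    exact (hm g).ne_bot (le_bot_iff.1 this)
  obtain ⟨g0, hg0⟩ : ∃ g0, cj g0 L ≠ L := by
    by_contra hc
    push Not at hc
    exact hne.2 (le_antisymm hL0.le ((hN.min L hLN hL.ne_bot (norm_of_cj_eq fun g _ => hc g)).ge.trans
      hle))
  have hJ : (⨆ g, cj g L) = N := by
    refine hN.min _ (iSup_le fun g => (hl g).le) (ne_bot_of_le (hm 1).ne_bot (le_iSup (cj · L) 1))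
      fun x _ => mem_N_of_le_cj (iSup_le fun g => le_cj_iff.2 ?_)
    rw [← cj_mul]
    exact le_iSup (cj · L) _
  refine h.not_le hn h1 (hJ ▸ iSup_le fun g => ?_)
  obtain ⟨t, ht, htL, htP, ht1, ht2⟩ := h.exists_inv hn (hl (g * g0)) (hog _)
  have h2 : cj (g * g0) L ⊓ cj g L = ⊥ :=
    ((hm (g * g0)).inf_eq_or (hl g).norm).resolve_right fun e' => hg0 (by
      have := (hm g).min _ e' (hm _).ne_bot (hl _).norm
      rw [cj_mul] at this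
      exact le_antisymm (cj_le_cj.1 this.le) (cj_le_cj.1 this.ge))
  have h3 := cents_of_inf_eq_bot ((hl _).le.trans (hl g).norm) ((hl g).le.trans (hl _).norm) h2
  exact (le_inf le_top (mem_C_iff_le_C1.1 (h3 htL))).trans (h.cent ht htP ht1 ht2)

end Bd

end PC
end H8
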