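import Mathlib
import Cfsg.Agent.H8.PC4

/-!
# Cores of centralisers in the Bender situation
-/

set_option autoImplicit false
set_option linter.unusedSectionVars false
set_option linter.unusedVariables false

namespace H8
namespace PC

open Cfsg H24 H26 H26.Gold Subgroup
open scoped commutatorElement

universe u

variable {G : Type u} [Group G] [Finite G] {𝒯 𝒰 : Set G}
  {A B D H K L M N P Q R S V W X Y Z : Subgroup G} {a b c d g k t x y z : G}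

theorem Cl.refl_mem (h : Cl 𝒯) (hx : x ∈ 𝒯) (hy : y ∈ 𝒯) (hx2 : x * x = 1) (hy2 : y * y = 1)
    (m : ℕ) : x * (x * y) ^ m ∈ 𝒯 := by
  rcases Nat.even_or_odd' m with ⟨k, rfl | rfl⟩
  · have := h.conj x hx (x * (x * y) ^ (k : ℤ))
    rw [H6.refl_conj_left hx2 hy2] at this
    rw [← zpow_natCast]; push_cast; exact this
  · have := h.conj y hy ((x * y) ^ (-(k : ℤ)))
    have e : (x * y) ^ (-(k : ℤ)) * y * ((x * y) ^ (-(k : ℤ)))⁻¹ = x * (x * y) ^ (2 * k + 1) := by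
      calc (x * y) ^ (-(k : ℤ)) * y * ((x * y) ^ (-(k : ℤ)))⁻¹
          = (x * y) ^ (-(k : ℤ)) * (x * x * y) * (x * y) ^ (k : ℤ) := by rw [hx2]; group
        _ = ((x * y) ^ (-(k : ℤ)) * x) * (x * y) * (x * y) ^ (k : ℤ) := by simp only [mul_assoc]
        _ = _ := by
          rw [H6.zpow_mul_left hx2 hy2, neg_neg, zpow_natCast]
          generalize x * y = r
          rw [two_mul, add_right_comm, pow_add, pow_succ]
          simp only [mul_assoc]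
    rwa [e] at this

/-- an odd subgroup of an almost simple Bender extension centralising a Sylow subgroup -/
theorem eq_one_of_cent_syl (hK : AS K) (hT : TZ K Q Z) (h1 : Ty1 K Q Z) (hc : OddE c)
    (hQ : c ∈ C[Q]) : c = 1 := by
  have hn : K ≤ N[⨅ g : K, N[cj (g : G) Q]] := le_N_iff.2 fun a ha x hx => mem_iInf.2 fun g => by
    have := mem_iInf.1 hx ⟨a⁻¹ * g, K.mul_mem (K.inv_mem ha) g.2⟩
    have h5 := conj_mem_cj a this
    rwa [cj_N, ← cj_mul, mul_inv_cancel_left] at h5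
  have h2 : K ⊓ ⨅ g : K, N[cj (g : G) Q] = ⊥ :=
    (hK.simple _ (nml_inf_of_norm hn)).resolve_right fun e => hK.not_le_N hT (by
      have := (e.ge.trans inf_le_right).trans (iInf_le _ 1)
      simpa using this)
  have h3 := cents_symm (cents_of_inf_eq_bot hn (hK.norm _) h2)
  rw [hK.cent, le_bot_iff] at h3
  refine mem_bot.1 (h3 ▸ mem_iInf.2 fun g => ?_)
  have hcQ := C_le_N Q hQ
  by_cases hg : (g : G) ∈ N[Q]
  · rw [cj_of_mem_N hg]; exact hcQ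
  obtain ⟨f, hf, e⟩ := h1.bru g g.2 hg (c * g * c⁻¹) (conj_mem (hK.memN c) g.2)
    (by rwa [mul_mem_cancel_right (inv_mem hcQ), mul_mem_cancel_left hcQ])
  rw [cj_mul, cj_of_mem_N (inv_mem hcQ), cj_mul] at e
  have h4 : f⁻¹ * c ∈ N[cj (g : G) Q] := by rw [mem_N_iff_cj, cj_mul, e, cj_inv_cj]
  exact zpowers_le.2 h4 (mem_zpowers_mul_right (mem_C.1 hQ _ (inv_mem hf))
    ((hT.syl.pi.piElt (inv_mem hf)).coprime hc))

theorem Bd.Od_as (bh : BH.{u}) (h : Bd 𝒯 ⊤ P M) (hK : AS K) (h1 : Og 𝒯 K ≠ ⊥) (ha : a ∈ 𝒯)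
    (haP : a ∈ P) (ha1 : a ≠ 1) (ha2 : a * a = 1) : Od[C{a}] = ⊥ := by
  have hn : K ⊴ ⊤ := ⟨le_top, hK.nml⟩
  have hQ : Syl 2 K (P ⊓ K) := h.syl.inf_nml hn
  set Q := P ⊓ K with hQd
  obtain ⟨t, ht, htK, htP, ht1, ht2⟩ := h.exists_inv hn (Nml.refl K) h1
  have hKM := h.not_le hn h1
  obtain ⟨Z, hT, hT1⟩ := bh.sub hK h.cl hQ (ne_bot_of_mem (mem_Og ht ⟨htP, htK⟩) ht1) hKM
    fun s hs hsQ hs1 hs2 => (inf_le_inf_right _ le_top).trans (h.cent hs hsQ.1 hs1 hs2)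
  have hNQ : N[Q] ≤ M := fun n hn =>
    h.fus t ht htP ht1 ht2 n (mem_top n) (conj_mem hn (⟨htP, htK⟩ : t ∈ Q)).1
  have hMK : ∀ m ∈ M, m ∈ K → m ∈ N[Q] := fun m hm hmK => by
    by_contra hmN
    refine hKM fun g hg => ?_
    by_cases hgN : g ∈ N[Q]
    · exact hNQ hgN
    obtain ⟨f, hf, e⟩ := hT1.bru m hmK hmN g hg hgN
    rw [← cj_mul, cj_eq_cj_iff] at e
    exact (mul_mem_cancel_left (inv_mem (mul_mem (hNQ (norm_self Q hf)) hm))).1 (hNQ e)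
  have hM : M ≤ N[Q] := fun g hg => by
    obtain ⟨l, hl, m, hm, rfl⟩ := (Frattini_arg Nat.prime_two hn hQ).mul g (mem_top g)
    exact mul_mem (hMK l ((mul_mem_cancel_right (hNQ hm.2)).1 hg) hl) hm.2
  have hPN : Syl 2 N[Q] P := h.syl.of_le (norm_inf (norm_self P) (hK.norm P)) le_top
  have two : ∀ w ∈ 𝒯, w ≠ 1 → w * w = 1 → w ∈ N[Q] → ∀ g, w ∈ N[cj g Q] → g ∈ N[Q] := by
    intro w hw hw1 hw2 hwN g hg
    obtain ⟨n, hn, e1⟩ := exists_conj_syl hPN (Nml.refl _) (h.cl.two w hw) hwN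
    rw [← cj_N, mem_cj] at hg
    obtain ⟨n', hn', e2⟩ := exists_conj_syl hPN (Nml.refl _) (h.cl.two _ (h.cl.conj' hw g)) hg
    have := hM (h.fus _ (h.cl.conj w hw n) e1 (by rwa [Ne, conj_eq_one_iff']) (conj_sq hw2 n)
      (n' * g⁻¹ * n⁻¹) (mem_top _) (by simpa [mul_assoc] using e2))
    rwa [mul_mem_cancel_right (inv_mem hn), mul_mem_cancel_left hn', inv_mem_iff] at this
  have hCa : C{a} ≤ N[Q] := (le_inf le_top le_rfl).trans ((h.cent ha haP ha1 ha2).trans hM)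
  have haK : a ∈ K := by
    obtain ⟨g0, hg0, hg0N⟩ := SetLike.not_le_iff_exists.1 (hK.not_le_N hT)
    have hz := h.cl.conj t ht g0
    have hz2 := conj_sq ht2 g0
    rcases Nat.even_or_odd (orderOf (a * (g0 * t * g0⁻¹))) with he | ho
    · obtain ⟨w2, c1, c2⟩ := H6.central_involution ha2 hz2 he
      set w := (a * (g0 * t * g0⁻¹)) ^ (orderOf (a * (g0 * t * g0⁻¹)) / 2) with hw
      have hw' : w ∈ 𝒯 := by
        have := h.cl.mul_of_comm ha (h.cl.refl_mem ha hz ha2 hz2 _) (by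
          rw [← hw, mul_assoc, c1.eq])
        rwa [← mul_assoc, ha2, one_mul] at this
      exact absurd (two w hw' (H6.ne_one_of_orderOf_two w2) (H6.mul_self_of_orderOf_two w2)
        (hCa (mem_C1.2 c1.eq)) g0 (hK.norm_of_comm hT hT1 (conj_mem_cj g0 (⟨htP, htK⟩ : t ∈ Q))
          (by rwa [Ne, conj_eq_one_iff']) c2.eq)) hg0N
    · obtain ⟨d, -, e⟩ := H6.exists_conj_of_odd ha2 hz2 ho
      exact (conj_mem_iff (hK.memN d)).1 (e ▸ conj_mem (hK.memN g0) htK)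
  have hQa : Q ≤ C{a} := hT.cent.trans (C_le_C1 ((hT.memZ a).2 ⟨⟨haP, haK⟩, ha2⟩))
  have hY := pcore_compl_cents hQ.pi (⟨hQa, hCa⟩ : Q ⊴ C{a})
  exact le_bot_iff.1 fun c hc => mem_bot.2
    (eq_one_of_cent_syl hK hT hT1 ((Od_odd _).piElt hc) (hY hc))

theorem Quo.Od_C1_le {X : Type u} [Group X] [Finite X] {f : H →* X} (hf : Quo f R) (hT : Cl 𝒯)
    (hR : ∀ x ∈ 𝒯, x ∈ R → x = 1) (ha : a ∈ 𝒯) (haH : a ∈ H) (h : Od[C{ap f a}] = ⊥) :
    Od[H ⊓ C{a}] ≤ R := by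
  rw [← hf.eq_bot ((pcore_le _ _).trans inf_le_left), ← le_bot_iff, ← h, ← hf.img_C1 hT hR ha haH]
  exact img_pcore_le _ _ f

theorem Bd.Od_core (bh : BH.{u}) (h : Bd 𝒯 ⊤ P M) (hO : Od[(⊤ : Subgroup G)] = ⊥) (ha : a ∈ 𝒯)
    (haP : a ∈ P) (ha1 : a ≠ 1) (ha2 : a * a = 1) : Od[C{a}] = ⊥ := by
  obtain ⟨N, hN, hN1, hp, hmin⟩ := h.exists_min hO (ne_bot_of_mem (mem_Og ha (mem_top a)) ha1)
  have hC : C[N] ⊴ ⊤ := ⟨le_top, norm_C hN.norm⟩
  obtain ⟨t, ht, htN, htP, ht1, ht2⟩ := h.exists_inv hN (Nml.refl N) hN1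
  have hCT : Og 𝒯 C[N] = ⊥ := by
    by_contra h2
    obtain ⟨s, hs, hsC, hsP, hs1, hs2⟩ := h.exists_inv hC (Nml.refl _) h2
    exact h.not_le hN hN1 ((le_inf le_top (mem_C_iff_le_C1.1 hsC)).trans (h.cent hs hsP hs1 hs2))
  rw [Og_eq_bot] at hCT
  have hCM : C[N] ≤ M := (le_inf le_top (C_le_C1 htN)).trans (h.cent ht htP ht1 ht2)
  obtain ⟨X, _, _, f, hf⟩ := exists_quo hC
  have hb := h.quo hf hCT hCM
  have htop : ∀ {E : Subgroup G}, E ⊴ ⊤ → ⊤ ≤ N[img f E] := fun hE =>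
    hf.img_top ▸ img_norm f hE.norm
  have hne : ∀ s ∈ 𝒯, s ≠ 1 → ap f s ≠ 1 := fun s hs hs1 e =>
    hs1 (hCT s hs ((hf.eq_one (mem_top s)).1 e))
  have hN1' : Og (im 𝒯 f) (img f N) ≠ ⊥ := ne_bot_of_mem
    (mem_Og (mem_im ht (mem_top t)) (ap_mem_img f htN (mem_top t))) (hne t ht ht1)
  have hAS : AS (img f N) := by
    refine hb.as ⟨ne_bot_of_le hN1' (Og_le _ _), htop hN, fun E hE hE1 hEn => ?_⟩ ?_ hN1'
    · have h2 := hf.pre_nml_top hEn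
      rcases hmin _ (h2.inf hN) inf_le_right with e | e
      · refine le_antisymm hE ((img_le_iff le_top).2 (e.ge.trans inf_le_left))
      · refine absurd ?_ hE1
        rw [← hf.img_pre E, hf.eq_bot le_top]
        have h3 : pre f E ≤ N ⊔ C[N] := hf.pre_img (A := N) le_top ▸ pre_mono f hE
        rw [← inf_eq_right.2 h3, ← group_modr (C_le_N N) (hf.le_pre E), inf_comm]
        exact sup_le e le_rfl
    · rw [← hf.img_pre C[img f N], hf.eq_bot le_top]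
      have h2 : ⁅pre f C[img f N], N⁆ ≤ C[N] := (hf.comm_le le_top le_top).2 (img_pre_le _ _)
      have h3 : ⁅⁅pre f C[img f N], N⁆, N⁆ = ⊥ := comm_eq_bot.2 h2
      have h4 := three_subgroup (A := N) (B := pre f C[img f N]) (K := N) (by rwa [commC N]) h3
      rwa [hp, comm_eq_bot'] at h4
  have h2 := hb.Od_as bh hAS hN1' (mem_im ha (mem_top a)) (ap_mem_img f haP (mem_top a))
    (hne a ha ha1) (by rw [← ap_mul f (mem_top a) (mem_top a), ha2, ap_one'])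
  have h3 := hf.Od_C1_le h.cl hCT ha (mem_top a) h2
  rw [top_inf_eq] at h3
  have h4 := zl0 h.cl hCT ha (hC.norm (mem_top a))
  rw [Od_nml_eq_bot hO hC, le_bot_iff, comm_eq_bot', C_zpowers] at h4
  exact le_bot_iff.1 (Od_nml_eq_bot hO hC ▸ pcore_le_pcore_of_le h4 h3)

/-- balance in the Bender situation -/
theorem Bd.Od_le (bh : BH.{u}) (h : Bd 𝒯 H P M) (hO : Od[H] ≤ M) (ha : a ∈ 𝒯)
    (haP : a ∈ P) (ha1 : a ≠ 1) (ha2 : a * a = 1) : Od[H ⊓ C{a}] ≤ Od[H] := by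
  obtain ⟨X, _, _, f, hf⟩ := exists_quo (pcore_nml {2}ᶜ H)
  have hR : ∀ x ∈ 𝒯, x ∈ Od[H] → x = 1 := fun x hx h1 => (h.cl.two x hx).eq_one ((Od_odd H).piElt h1)
  have haH := h.syl.le haP
  exact hf.Od_C1_le h.cl hR ha haH ((h.quo hf hR hO).Od_core bh hf.Od_eq_bot (mem_im ha haH)
    (ap_mem_img f haP haH) (fun e => ha1 (hR a ha ((hf.eq_one haH).1 e)))
    (by rw [← ap_mul f haH haH, ha2, ap_one']))

end PC
end H8
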