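import Mathlib
import Cfsg.Agent.H8.PC5
import Cfsg.Agent.H25.CoreSep
import Cfsg.Agent.S0217

/-!
# The signalizer functor of a commuting pair of closed sets in a simple group
-/

set_option autoImplicit false
set_option linter.unusedSectionVars false
set_option linter.unusedVariables false

namespace H8
namespace PC

open Cfsg H24 H26 H26.Gold Subgroup
open scoped commutatorElement

universe u

variable {G : Type u} [Group G] [Finite G] {𝒯 𝒰 : Set G}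
  {A A' B B' D H K L M N P Q R S V W W' X Y Z : Subgroup G} {a b c d e g k t u x y z : G}

/-- the minimal counterexample -/
structure Sp (𝒯 𝒰 : Set G) : Prop where
  pr : Pr 𝒯 𝒰
  simple : IsSimpleGroup G
  nab : ¬ IsMulCommutative G
  ih : ∀ H : Subgroup G, H ≠ ⊤ → ⁅Og 𝒯 H, Og 𝒰 H⁆ ≤ Od[H]

/-- a pair of commuting four-groups -/
structure Fr (𝒯 𝒰 : Set G) (A B : Subgroup G) : Prop where
  eA : EA A
  cA : ♯A = 4
  mA : ∀ a ∈ A, a ∈ 𝒯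
  eB : EA B
  cB : ♯B = 4
  mB : ∀ b ∈ B, b ∈ 𝒰
  cent : A ≤ C[B]

theorem Fr.symm (h : Fr 𝒯 𝒰 A B) : Fr 𝒰 𝒯 B A :=
  ⟨h.eB, h.cB, h.mB, h.eA, h.cA, h.mA, cents_symm h.cent⟩

theorem ea_cj (h : EA A) (g : G) : EA (cj g A) := ea_of_sq fun a ha => by
  obtain ⟨y, hy, rfl⟩ := mem_cj'.1 ha
  exact conj_sq (h.sq hy) g

theorem card_cj' (g : G) (A : Subgroup G) : ♯(cj g A) = ♯A := (Nat.card_congr (cjEquiv g A).toEquiv).symm

theorem Fr.cj (hP : Pr 𝒯 𝒰) (h : Fr 𝒯 𝒰 A B) (g : G) : Fr 𝒯 𝒰 (cj g A) (cj g B) :=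
  ⟨ea_cj h.eA g, (card_cj' g A).trans h.cA, fun a ha => by
      obtain ⟨y, hy, rfl⟩ := mem_cj'.1 ha; exact hP.l.conj y (h.mA y hy) g,
    ea_cj h.eB g, (card_cj' g B).trans h.cB, fun a ha => by
      obtain ⟨y, hy, rfl⟩ := mem_cj'.1 ha; exact hP.r.conj y (h.mB y hy) g, cent_cj h.cent g⟩

theorem Fr.AC (h : Fr 𝒯 𝒰 A B) (ha : a ∈ A) : A ≤ C{a} := h.eA.le_C.trans (C_le_C1 ha)

theorem Fr.BC (h : Fr 𝒯 𝒰 A B) (ha : a ∈ A) : B ≤ C{a} := (cents_symm h.cent).trans (C_le_C1 ha)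

theorem Fr.supC (h : Fr 𝒯 𝒰 A B) (he : e ∈ A ⊔ B) : A ⊔ B ≤ C{e} :=
  (h.eA.abl.sup h.eB.abl h.cent).le_C.trans (C_le_C1 he)

theorem Fr.ncyc (h : Fr 𝒯 𝒰 A B) : ¬ Cyc A := fun hc => by
  obtain ⟨x, hx, e⟩ := hc.exists_gen
  have h1 := card_zpowers' x
  rw [e, h.cA] at h1
  have := orderOf_le_of_pow_eq_one (x := x) (n := 2) two_pos (by rw [pow_two]; exact h.eA.sq hx)
  omega

namespace Sp

theorem symm (h : Sp 𝒯 𝒰) : Sp 𝒰 𝒯 :=
  ⟨h.pr.symm, h.simple, h.nab, fun H hH => by rw [commC]; exact h.ih H hH⟩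

theorem nml (h : Sp 𝒯 𝒰) (hN : ⊤ ≤ N[N]) : N = ⊥ ∨ N = ⊤ :=
  haveI := h.simple
  (nml_top_iff.1 ⟨le_top, hN⟩).eq_bot_or_eq_top

theorem C1_ne (h : Sp 𝒯 𝒰) (hx : x ≠ 1) : C{x} ≠ ⊤ := fun e => by
  rcases h.nml (N_le_NC ⊤ |> (N_top (G := G)).ge.trans) with e' | e'
  · exact hx (mem_bot.1 (e' ▸ mem_C_iff_le_C1.2 e.ge))
  · exact h.nab (abl_top_iff.1 (abl_iff.2 e'.ge))

theorem sol_eq_bot (h : Sp 𝒯 𝒰) (hs : Sol N) (hN : ⊤ ≤ N[N]) : N = ⊥ :=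
  (h.nml hN).resolve_right fun e => by
    haveI := h.simple
    exact h.nab (IsSimpleGroup.comm_iff_isSolvable.2 (sol_top_iff.1 (e ▸ hs)) |> fun h => ⟨⟨h⟩⟩)

theorem Od_top (h : Sp 𝒯 𝒰) : Od[(⊤ : Subgroup G)] = ⊥ :=
  h.sol_eq_bot (Od_sol _) (pcore_nml _ _).norm

theorem cs (h : Sp 𝒯 𝒰) (hF : Fr 𝒯 𝒰 A B) : IsCoreSeparated A B := by
  have hd : A ⊓ B = ⊥ := le_bot_iff.1 fun x hx => mem_bot.2 (h.pr.disj x (hF.mA x hx.1) (hF.mB x hx.2))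
  refine ⟨hF.eA, hF.eB, hF.cA, hF.cB, fun e => ?_, hd, le_C_iff.1 hF.cent, fun e he he1 E hE => ?_⟩
  · rw [← e, inf_idem] at hd
    have := hF.cA
    rw [hd, card_bot] at this
    omega
  have h1 := h.ih _ (h.C1_ne he1)
  have hC := hF.supC he
  have e1 : centralizerPPrimeCore 2 e = Od[C{e}] := (pcore_compl_singleton Nat.prime_two _).symm
  rw [e1]
  have hA : A ≤ Og 𝒯 C{e} := fun a ha => mem_Og (hF.mA a ha) (hC (mem_sup_left ha))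
  have hB : B ≤ Og 𝒰 C{e} := fun a ha => mem_Og (hF.mB a ha) (hC (mem_sup_right ha))
  rcases H23.IsPComponent.le_or_comm_le hE (h.pr.l.Og_nml C{e}).normal.isSubnormal with h2 | h2
  · refine Or.inr ((commutator_mono ?_ hB).trans h1)
    exact (map_mono h2).trans (map_subgroupOf' (Og_le _ _)).le
  · refine Or.inl ((comm_mono_right hA).trans ?_)
    have := map_mono (f := C{e}.subtype) h2
    rwa [map_commutator, map_subgroupOf' (Og_le _ _), ← pcore_compl_singleton Nat.prime_two] at this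

end Sp

/-- the value of the functor -/
def th (x y : G) : Subgroup G := ⁅Od[C{x}], zpowers y⁆ ⊔ (Od[C{x}] ⊓ Od[C{y}])

/-- the closure of the functor -/
def Wf (A : Subgroup G) (y : G) : Subgroup G := ⨆ a : {a : G // a ∈ A ∧ a ≠ 1}, th (a : G) y

theorem norm_Od1 (h : X ≤ C{x}) : X ≤ N[Od[C{x}]] := h.trans (pcore_nml _ _).norm

theorem th_le (h : y ∈ C{x}) : th x y ≤ Od[C{x}] :=
  sup_le (comm_le_left (norm_Od1 (zpowers_le.2 h))) inf_le_left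

theorem cj_th (g x y : G) : cj g (th x y) = th (g * x * g⁻¹) (g * y * g⁻¹) := by
  simp only [th, cj_sup, cj_inf, cj_comm, cj_zpowers, ← pcore_cj, cj_C1]

theorem th_le_Wf (ha : a ∈ A) (h1 : a ≠ 1) (y : G) : th a y ≤ Wf A y :=
  le_iSup (fun a : {a : G // a ∈ A ∧ a ≠ 1} => th (a : G) y) ⟨a, ha, h1⟩

theorem Wf_le (h : ∀ a ∈ A, a ≠ 1 → th a y ≤ X) : Wf A y ≤ X := iSup_le fun a => h a a.2.1 a.2.2

theorem cj_Wf_le (g : G) (A : Subgroup G) (y : G) : cj g (Wf A y) ≤ Wf (cj g A) (g * y * g⁻¹) :=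
  cj_le_iff.2 (Wf_le fun a ha h1 => cj_le_iff.1 (by
    rw [cj_th]; exact th_le_Wf (conj_mem_cj g ha) (by rwa [Ne, conj_eq_one_iff']) _))

theorem cj_Wf (g : G) (A : Subgroup G) (y : G) : cj g (Wf A y) = Wf (cj g A) (g * y * g⁻¹) := by
  refine le_antisymm (cj_Wf_le g A y) (le_cj_iff.2 ?_)
  simpa [mul_assoc] using cj_Wf_le g⁻¹ (cj g A) (g * y * g⁻¹)

theorem norm_Wf (hA : X ≤ N[A]) (hy : X ≤ C{y}) : X ≤ N[Wf A y] := fun g hg => by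
  rw [mem_N_iff_cj, cj_Wf, cj_of_mem_N (hA hg), mem_C1_iff_conj.1 (hy hg)]

theorem odd_le_sup (hX : OddG X) (hP : TwoG P) (hn : P ≤ N[X]) : X ≤ ⁅X, P⁆ ⊔ (X ⊓ C[P]) :=
  (coprime_cent_prod hn (cop hX hP) hX.sol).sup_eq.ge

theorem csTheta_eq (A : Subgroup G) (a : G) :
    H25.Sg.csTheta A a = ⁅Od[C{a}], A⁆ ⊔ (Od[C{a}] ⊓ Od[C[A]]) := by
  rw [pcore_compl_singleton Nat.prime_two, pcore_compl_singleton Nat.prime_two]; rfl

theorem Fr.inf_eq (hF : Fr 𝒯 𝒰 A B) (hW : OddG W) (hn : B ≤ N[W])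
    (h : ∀ e ∈ A ⊔ B, e ≠ 1 → W ⊓ C{e} = H25.Sg.csTheta A e ⊓ H25.Sg.csTheta B e)
    (ha : a ∈ A) (ha1 : a ≠ 1) (hb : b ∈ B) (hb1 : b ≠ 1) : W ⊓ C{a} = th a b := by
  have hle : ∀ e ∈ A ⊔ B, e ≠ 1 → W ⊓ C{e} ≤ Od[C{e}] := fun e he he1 => by
    rw [h e he he1, csTheta_eq]
    exact inf_le_left.trans (sup_le (comm_le_left (norm_Od1 (le_sup_left.trans (hF.supC he))))
      inf_le_left)
  have h1 := hle a (mem_sup_left ha) ha1
  refine le_antisymm ?_ ?_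
  · refine (odd_le_sup (hW.inf_left _) (hF.eB.two.piElt hb).isPi
      (norm_inf (zpowers_le.2 (hn hb)) (norm_of_le (zpowers_le.2 (hF.BC ha hb))))).trans
      (sup_le_sup (comm_mono_left h1) (le_inf (inf_le_left.trans h1) ?_))
    rw [C_zpowers]
    exact (inf_le_inf_right _ inf_le_left).trans (hle b (mem_sup_right hb) hb1)
  rw [h a (mem_sup_left ha) ha1, csTheta_eq, csTheta_eq]
  refine le_inf ((th_le (hF.BC ha hb)).trans ?_) (sup_le ?_ ?_)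
  · exact (odd_le_sup (Od_odd _) hF.eA.two (norm_Od1 (hF.AC ha))).trans
      (sup_le_sup_left (le_inf inf_le_left (pcore_inf_le _ (C_le_C1 ha))) _)
  · exact (comm_mono_right (zpowers_le.2 hb)).trans le_sup_left
  · refine (odd_le_sup ((Od_odd _).inf_left _) hF.eB.two
      (norm_inf (norm_Od1 (hF.BC ha)) (norm_Od1 (hF.symm.AC hb)))).trans
      (sup_le_sup (comm_mono_left inf_le_left) (le_inf (inf_le_left.trans inf_le_left) ?_))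
    exact (inf_le_inf_right _ inf_le_right).trans (pcore_inf_le _ (C_le_C1 hb))

theorem Fr.eq_Wf (hF : Fr 𝒯 𝒰 A B) (hW : OddG W) (hn : A ≤ N[W])
    (h : ∀ a ∈ A, a ≠ 1 → W ⊓ C{a} = th a b) : W = Wf A b :=
  le_antisymm (coprime_abelian_gen_cent1 hF.eA.abl hF.ncyc hn (cop hW hF.eA.two) fun a ha h1 =>
    (h a ha h1).le.trans (th_le_Wf ha h1 b)) (Wf_le fun a ha h1 => (h a ha h1).ge.trans inf_le_left)

theorem Sp.exists_W (h : Sp 𝒯 𝒰) (hF : Fr 𝒯 𝒰 A B) : ∃ W, OddG W ∧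
    ∀ a ∈ A, a ≠ 1 → ∀ b ∈ B, b ≠ 1 → W ⊓ C{a} = th a b ∧ W = Wf A b ∧ W = Wf B a := by
  have hcs := h.cs hF
  obtain ⟨f1, f2, f3, f4⟩ := H25.Sg.cs_functor hcs
  have hea : EA (A ⊔ B) := H25.Sg.cs_ea hcs
  have hc : ♯(A ⊔ B) = 16 := by
    rw [card_sup_of_inf (norm_of_cent (cents_symm hF.cent)) hcs.2.2.2.2.2.1, hF.cA, hF.cB]
  obtain ⟨h1, h2⟩ := Cfsg.Agent.S0217.result (p := 2) (A ⊔ B) (fun a ha b hb => hea.comm ha hb)
    hea.2 (by rw [hc]; norm_num) _ f1 f2 f3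
    (fun a ha h1 => OddG.sol ((isPi_compl_iff Nat.prime_two).2 (f2 a ha h1))) f4
  set W := ⨆ b : {a : G // a ∈ A ⊔ B ∧ a ≠ 1},
    H25.Sg.csTheta A (b : G) ⊓ H25.Sg.csTheta B (b : G) with hWd
  have hW : OddG W := (isPi_compl_iff Nat.prime_two).2 h1
  have hn : A ⊔ B ≤ N[W] := norm_iSup fun e => le_N_iff.2 fun b hb x hx => f3 e e.2.1 e.2.2 b hb x hx
  have k1 : ∀ a ∈ A, a ≠ 1 → ∀ b ∈ B, b ≠ 1 → W ⊓ C{a} = th a b := fun a ha ha1 b hb hb1 =>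
    hF.inf_eq hW (le_sup_right.trans hn) h2 ha ha1 hb hb1
  have k2 : ∀ a ∈ A, a ≠ 1 → ∀ b ∈ B, b ≠ 1 → W ⊓ C{b} = th b a := fun a ha ha1 b hb hb1 =>
    hF.symm.inf_eq hW (le_sup_left.trans hn)
      (fun e he he1 => by rw [inf_comm (H25.Sg.csTheta B e)]; exact h2 e (sup_comm B A ▸ he) he1)
      hb hb1 ha ha1
  exact ⟨W, hW, fun a ha ha1 b hb hb1 => ⟨k1 a ha ha1 b hb hb1,
    hF.eq_Wf hW (le_sup_left.trans hn) fun a ha ha1 => k1 a ha ha1 b hb hb1,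
    hF.symm.eq_Wf hW (le_sup_right.trans hn) fun b hb hb1 => k2 a ha ha1 b hb hb1⟩⟩

section frame

variable (h : Sp 𝒯 𝒰) (hF : Fr 𝒯 𝒰 A B) (ha : a ∈ A) (ha1 : a ≠ 1) (hb : b ∈ B) (hb1 : b ≠ 1)
include h hF

include hb hb1 in
theorem Sp.odd_Wf : OddG (Wf A b) := by
  obtain ⟨W, hW, h1⟩ := h.exists_W hF
  obtain ⟨a, ha, ha1⟩ := exists_ne_one (H := A) fun e => hF.ncyc (e ▸ cyc_bot)
  exact (h1 a ha ha1 b hb hb1).2.1 ▸ hW

include ha ha1 hb hb1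

theorem Sp.Wf_symm : Wf A b = Wf B a := by
  obtain ⟨W, hW, h1⟩ := h.exists_W hF
  exact (h1 a ha ha1 b hb hb1).2.1.symm.trans (h1 a ha ha1 b hb hb1).2.2

theorem Sp.Wf_inf : Wf A b ⊓ C{a} = th a b := by
  obtain ⟨W, hW, h1⟩ := h.exists_W hF
  exact (h1 a ha ha1 b hb hb1).2.1 ▸ (h1 a ha ha1 b hb hb1).1

theorem Sp.Od_norm : Od[C{a} ⊓ C{b}] ≤ N[Wf A b] := by
  set O := Od[C{a} ⊓ C{b}] with hO
  have hOo : OddG O := Od_odd _
  have hOle : O ≤ C{a} ⊓ C{b} := pcore_le _ _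
  have hnO : C{a} ⊓ C{b} ≤ N[O] := (pcore_nml _ _).norm
  have hA : A ≤ N[O] := (le_inf (hF.AC ha) (hF.symm.BC hb)).trans hnO
  have hB : B ≤ N[O] := (le_inf (hF.BC ha) (hF.symm.AC hb)).trans hnO
  refine (odd_le_sup hOo hF.eA.two hA).trans (sup_le ?_
    (norm_Wf (norm_of_cent inf_le_right) (inf_le_left.trans (hOle.trans inf_le_right))))
  have hY : ⁅O, A⁆ ≤ O := comm_le_left hA
  have hYo : OddG ⁅O, A⁆ := hOo.of_le hY
  have hBY : B ≤ N[⁅O, A⁆] := norm_comm hB (norm_of_cent (cents_symm hF.cent))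
  refine (odd_le_sup hYo hF.eB.two hBY).trans (sup_le ?_ ?_)
  swap
  · rw [h.Wf_symm hF ha ha1 hb hb1]
    exact norm_Wf (norm_of_cent inf_le_right)
      (inf_le_left.trans (hY.trans (hOle.trans inf_le_left)))
  have h1 : ⁅⁅O, A⁆, B⁆ ≤ Od[C{a}] := by
    refine le_trans (commutator_mono ?_ fun x hx => mem_Og (hF.mB x hx) (hF.BC ha hx))
      (h.ih _ (h.C1_ne ha1))
    exact (comm_mono_right fun x hx => mem_Og (hF.mA x hx) (hF.AC ha hx)).trans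
      (comm_le_right ((hOle.trans inf_le_left).trans (h.pr.l.Og_nml _).norm))
  refine le_trans ?_ (norm_self _)
  rw [← coprime_commGid hBY (cop hYo hF.eB.two) hYo.sol]
  refine (comm_mono_left h1).trans ?_
  have hW : ∀ b' ∈ B, b' ≠ 1 → Wf A b' = Wf A b := fun b' hb' h1 =>
    (h.Wf_symm hF ha ha1 hb' h1).trans (h.Wf_symm hF ha ha1 hb hb1).symm
  refine commutator_le.2 fun x hx y hy => ?_
  by_cases hy1 : y = 1
  · simp [hy1]
  exact hW y hy hy1 ▸ th_le_Wf ha ha1 y (mem_sup_left (commutator_mem_commutator hx (mem_zpowers y)))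

end frame

end PC
end H8
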