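import Mathlib
import Cfsg.Agent.H8.PC6

/-!
# The product theorem for commuting closed sets
-/

set_option autoImplicit false
set_option linter.unusedSectionVars false
set_option linter.unusedVariables false

namespace H8
namespace PC

open Cfsg H24 H26 H26.Gold Subgroup
open scoped commutatorElement

universe u

variable {G : Type u} [Group G] [Finite G] {𝒯 𝒰 : Set G}
  {A A' B B' D H K L M N P Q R S V W W' X Y Z : Subgroup G} {a b c d e g k t t' u u' x y z : G}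

/-- `W` is the signalizer attached to the pair `t`, `u` -/
def IsW (𝒯 𝒰 : Set G) (t u : G) (W : Subgroup G) : Prop :=
  ∃ A B, Fr 𝒯 𝒰 A B ∧ t ∈ A ∧ u ∈ B ∧ W = Wf A u

theorem IsW.cj (hP : Pr 𝒯 𝒰) (h : IsW 𝒯 𝒰 t u W) (g : G) :
    IsW 𝒯 𝒰 (g * t * g⁻¹) (g * u * g⁻¹) (cj g W) := by
  obtain ⟨A, B, hF, ht, hu, rfl⟩ := h
  exact ⟨_, _, hF.cj hP g, conj_mem_cj g ht, conj_mem_cj g hu, cj_Wf g A u⟩

theorem four_spec (hT : Cl 𝒯) (hP : TwoG P) (ha : a ∈ 𝒯) (hb : b ∈ 𝒯) (haP : a ∈ P) (hbP : b ∈ P)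
    (ha1 : a ≠ 1) (hb1 : b ≠ 1) (ha2 : a * a = 1) (hb2 : b * b = 1) (hc : a * b = b * a)
    (hne : b ≠ a) : ∃ A, EA A ∧ ♯A = 4 ∧ A ≤ Og 𝒯 P ∧ a ∈ A ∧ b ∈ A :=
  ⟨H25.Sg.four a b, H25.Sg.ea_four ha2 hb2 hc, le_antisymm (H25.Sg.card_four_le ha2 hb2 hc)
    (H25.Sg.four_le_card (H6.orderOf_eq_two_of ha2 ha1) (H6.orderOf_eq_two_of hb2 hb1) hc hne),
    H25.Sg.four_le (mem_Og ha haP) (mem_Og hb hbP), H25.Sg.left_mem_four a b,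
    H25.Sg.right_mem_four a b⟩

theorem Cl.exists_central (hT : Cl 𝒯) (hP : TwoG P) (ht : t ∈ 𝒯) (htP : t ∈ P) (ht1 : t ≠ 1) :
    ∃ z ∈ 𝒯, z ∈ P ∧ z ≠ 1 ∧ z * z = 1 ∧ P ≤ C{z} := by
  have h2 : TwoG (Og 𝒯 P) := hP.of_le (Og_le _ _)
  obtain ⟨z, hz, hz1, hz2⟩ := TwoG.exists_inv (h2.inf_left C[P]) (hP.inf_C_ne_bot Nat.prime_two h2
    (hT.Og_nml P).norm (ne_bot_of_mem (mem_Og ht htP) ht1))
  exact ⟨z, ((hT.mem_Og_two hP).1 hz.1).2, Og_le _ _ hz.1, hz1, hz2, mem_C_iff_le_C1.1 hz.2⟩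

theorem Pr.fr (h : Pr 𝒯 𝒰) (hP : TwoG P) (eA : EA A) (cA : ♯A = 4) (hA : A ≤ Og 𝒯 P) (eB : EA B)
    (cB : ♯B = 4) (hB : B ≤ Og 𝒰 P) : Fr 𝒯 𝒰 A B :=
  ⟨eA, cA, fun a ha => ((h.l.mem_Og_two hP).1 (hA ha)).2, eB, cB,
    fun a ha => ((h.r.mem_Og_two hP).1 (hB ha)).2, hA.trans ((h.cent hP).trans (C_anti hB))⟩

namespace Sp

theorem isW_symm (h : Sp 𝒯 𝒰) (ht1 : t ≠ 1) (hu1 : u ≠ 1) (hW : IsW 𝒯 𝒰 t u W) :
    IsW 𝒰 𝒯 u t W := by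
  obtain ⟨A, B, hF, ht, hu, rfl⟩ := hW
  exact ⟨B, A, hF.symm, hu, ht, h.Wf_symm hF ht ht1 hu hu1⟩

theorem isW_uniq (h : Sp 𝒯 𝒰) (ht1 : t ≠ 1) (hu1 : u ≠ 1) (hW : IsW 𝒯 𝒰 t u W)
    (hW' : IsW 𝒯 𝒰 t u W') : W' = W := by
  obtain ⟨A, B, hF, ht, hu, rfl⟩ := hW
  obtain ⟨A', B', hF', ht', hu', rfl⟩ := hW'
  set D := C{t} ⊓ C{u} with hD
  have hA : A ≤ D := le_inf (hF.AC ht) (hF.symm.BC hu)
  have hB : B' ≤ D := le_inf (hF'.BC ht') (hF'.symm.AC hu')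
  obtain ⟨X, _, _, f, hf⟩ := exists_quo (pcore_nml {2}ᶜ D)
  have h1 : ⁅A, B'⁆ ≤ Od[D] :=
    (commutator_mono (fun x hx => mem_Og (hF.mA x hx) (hA hx))
      fun x hx => mem_Og (hF'.mB x hx) (hB hx)).trans
      (h.ih D fun e => h.C1_ne ht1 (top_le_iff.1 (e.ge.trans inf_le_left)))
  obtain ⟨k, hk, P, hP, -, h2, h3⟩ := hf.lift hF.eA.two hF'.eB.two hA hB
    ((hF.eA.two.img f).sup (hF'.eB.two.img f)
      (norm_of_cent (cents_symm ((hf.comm_le hA hB).1 h1)))) le_sup_left le_sup_right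
  have hF2 := hF'.cj h.pr k
  have hF3 : Fr 𝒯 𝒰 A (cj k B') := h.pr.fr hP hF.eA hF.cA (fun x hx => mem_Og (hF.mA x hx) (h2 hx))
    hF2.eB hF2.cB fun x hx => mem_Og (hF2.mB x hx) (h3 hx)
  have hkD := hf.le hk
  have e1 := mem_C1_iff_conj.1 hkD.1
  have e2 := mem_C1_iff_conj.1 hkD.2
  have h4 := h.Wf_symm hF3 ht ht1 (e2 ▸ conj_mem_cj k hu') hu1
  rw [← e1, ← cj_Wf, ← h.Wf_symm hF' ht' ht1 hu' hu1, eq_comm, cj_eq_iff] at h4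
  rw [h4, cj_of_mem_N (inv_mem (h.Od_norm hF ht ht1 hu hu1 hk))]

theorem exists_four (h : Sp 𝒯 𝒰) (hS : Syl 2 ⊤ S) (ht : t ∈ 𝒯) (htS : t ∈ S) (ht1 : t ≠ 1)
    (ht2 : t * t = 1) : ∃ A, EA A ∧ ♯A = 4 ∧ A ≤ Og 𝒯 S ∧ t ∈ A := by
  obtain ⟨z, hz, hzS, hz1, hz2, hzc⟩ := h.pr.l.exists_central hS.pi ht htS ht1
  by_cases e : z = t
  · subst e
    obtain ⟨g, hg, hne⟩ : ∃ g : G, g * z * g⁻¹ ∈ S ∧ g * z * g⁻¹ ≠ z := by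
      by_contra hc
      push Not at hc
      have := zstar_sub hS hzS hz1 hz2 fun g _ hg => hc g hg
      rw [h.Od_top, le_bot_iff, comm_eq_bot', C_zpowers, top_le_iff] at this
      exact h.C1_ne hz1 this
    obtain ⟨A, h1, h2, h3, h4, -⟩ := four_spec h.pr.l hS.pi hz (h.pr.l.conj z hz g) hzS hg hz1
      (by rwa [Ne, conj_eq_one_iff']) hz2 (conj_sq hz2 g) (mem_C1.1 (hzc hg)).symm hne
    exact ⟨A, h1, h2, h3, h4⟩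
  · obtain ⟨A, h1, h2, h3, h4, -⟩ := four_spec h.pr.l hS.pi ht hz htS hzS ht1 hz1 ht2 hz2
      (mem_C1.1 (hzc htS)) e
    exact ⟨A, h1, h2, h3, h4⟩

theorem exists_fr (h : Sp 𝒯 𝒰) (hP : TwoG P) (eA : EA A) (cA : ♯A = 4) (hA : A ≤ Og 𝒯 P)
    (hu : u ∈ 𝒰) (huP : u ∈ P) (hu1 : u ≠ 1) (hu2 : u * u = 1) : ∃ B, Fr 𝒯 𝒰 A B ∧ u ∈ B := by
  obtain ⟨S, hS, hPS⟩ := Sylow_superset Nat.prime_two hP le_top
  obtain ⟨B, h1, h2, h3, h4⟩ := h.symm.exists_four hS hu (hPS huP) hu1 hu2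
  exact ⟨B, h.pr.fr hS.pi eA cA (hA.trans (Og_mono _ hPS)) h1 h2 h3, h4⟩

theorem exists_isW (h : Sp 𝒯 𝒰) (hP : TwoG P) (ht : t ∈ 𝒯) (htP : t ∈ P) (ht1 : t ≠ 1)
    (ht2 : t * t = 1) (hu : u ∈ 𝒰) (huP : u ∈ P) (hu1 : u ≠ 1) (hu2 : u * u = 1) :
    ∃ W, IsW 𝒯 𝒰 t u W := by
  obtain ⟨S, hS, hPS⟩ := Sylow_superset Nat.prime_two hP le_top
  obtain ⟨A, h1, h2, h3, h4⟩ := h.exists_four hS ht (hPS htP) ht1 ht2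
  obtain ⟨B, h5, h6⟩ := h.exists_fr hS.pi h1 h2 h3 hu (hPS huP) hu1 hu2
  exact ⟨_, A, B, h5, h4, h6, rfl⟩

theorem isW_step (h : Sp 𝒯 𝒰) (hP : TwoG P) (ht : t ∈ 𝒯) (htP : t ∈ P) (ht1 : t ≠ 1)
    (ht2 : t * t = 1) (hz : z ∈ 𝒯) (hzP : z ∈ P) (hz1 : z ≠ 1) (hz2 : z * z = 1)
    (hc : t * z = z * t) (hu : u ∈ 𝒰) (huP : u ∈ P) (hu1 : u ≠ 1) (hu2 : u * u = 1)
    (hW : IsW 𝒯 𝒰 t u W) : IsW 𝒯 𝒰 z u W := by
  by_cases e : z = t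
  · rwa [e]
  obtain ⟨A, h1, h2, h3, h4, h5⟩ := four_spec h.pr.l hP ht hz htP hzP ht1 hz1 ht2 hz2 hc e
  obtain ⟨B, h6, h7⟩ := h.exists_fr hP h1 h2 h3 hu huP hu1 hu2
  exact ⟨A, B, h6, h5, h7, h.isW_uniq ht1 hu1 ⟨A, B, h6, h4, h7, rfl⟩ hW⟩

theorem isW_left (h : Sp 𝒯 𝒰) (hP : TwoG P) (ht : t ∈ 𝒯) (htP : t ∈ P) (ht1 : t ≠ 1)
    (ht2 : t * t = 1) (ht' : t' ∈ 𝒯) (htP' : t' ∈ P) (ht1' : t' ≠ 1) (ht2' : t' * t' = 1)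
    (hu : u ∈ 𝒰) (huP : u ∈ P) (hu1 : u ≠ 1) (hu2 : u * u = 1)
    (hW : IsW 𝒯 𝒰 t u W) : IsW 𝒯 𝒰 t' u W := by
  obtain ⟨z, hz, hzP, hz1, hz2, hzc⟩ := h.pr.l.exists_central hP ht htP ht1
  exact h.isW_step hP hz hzP hz1 hz2 ht' htP' ht1' ht2' (mem_C1.1 (hzc htP')).symm hu huP hu1 hu2
    (h.isW_step hP ht htP ht1 ht2 hz hzP hz1 hz2 (mem_C1.1 (hzc htP)) hu huP hu1 hu2 hW)

theorem isW_odd (h : Sp 𝒯 𝒰) (hu1 : u ≠ 1) (hW : IsW 𝒯 𝒰 t u W) : OddG W := by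
  obtain ⟨A, B, hF, ht, hu, rfl⟩ := hW
  exact h.odd_Wf hF hu hu1

theorem th_le_isW (ht1 : t ≠ 1) (hW : IsW 𝒯 𝒰 t u W) : th t u ≤ W := by
  obtain ⟨A, B, hF, ht, hu, rfl⟩ := hW
  exact th_le_Wf ht ht1 u

theorem isW_norm (h : Sp 𝒯 𝒰) (ht1 : t ≠ 1) (hu1 : u ≠ 1) (hW : IsW 𝒯 𝒰 t u W)
    (hW' : IsW 𝒯 𝒰 (g * t * g⁻¹) (g * u * g⁻¹) W) : g ∈ N[W] :=
  mem_N_iff_cj.2 (h.isW_uniq (by rwa [Ne, conj_eq_one_iff']) (by rwa [Ne, conj_eq_one_iff']) hW'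
    (hW.cj h.pr g))

/-- Bender's theorem excludes control of the centralisers -/
theorem not_bender (h : Sp 𝒯 𝒰) (bh : BH.{u}) (hS : Syl 2 ⊤ S) (ht : t ∈ 𝒯) (htS : t ∈ S)
    (ht1 : t ≠ 1) (ht2 : t * t = 1) (hu : u ∈ 𝒰) (hu1 : u ≠ 1) (hu2 : u * u = 1) (hM : M ≠ ⊤)
    (hc : ∀ t ∈ 𝒯, t ∈ S → t ≠ 1 → t * t = 1 → C{t} ≤ M) : False := by
  obtain ⟨Q, Z, hT, -⟩ := bh G h.simple h.nab 𝒯 S M h.pr.l hS (ne_bot_of_mem (mem_Og ht htS) ht1)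
    hM hc
  obtain ⟨k, -, e⟩ := hT.conj_inv (mem_top t) ht1 ht2 (mem_top u) hu1 hu2
  exact hu1 (h.pr.disj u (e ▸ h.pr.l.conj t ht k) hu)

theorem case_bot (h : Sp 𝒯 𝒰) (bh : BH.{u}) (hS : Syl 2 ⊤ S) (ht : t ∈ 𝒯) (htS : t ∈ S)
    (ht1 : t ≠ 1) (ht2 : t * t = 1) (hu : u ∈ 𝒰) (huS : u ∈ S) (hu1 : u ≠ 1) (hu2 : u * u = 1)
    (hW : IsW 𝒯 𝒰 t u ⊥) : False := by
  have all : ∀ a ∈ 𝒯, a ≠ 1 → a * a = 1 → ∀ v ∈ 𝒰, v ≠ 1 → v * v = 1 → v ∈ C{a} →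
      Od[C{a}] ≤ C{v} := fun a ha ha1 ha2 v hv hv1 hv2 hc => by
    obtain ⟨g, -, hg⟩ := Sylow_Jsub Nat.prime_two hS
      (two_of_comm (h.pr.r.two v hv) (h.pr.l.two a ha) (mem_C1.1 hc)) le_top
    have h1 := hg (conj_mem_cj g (mem_sup_left (mem_zpowers v)))
    have h2 := hg (conj_mem_cj g (mem_sup_right (mem_zpowers a)))
    have ha1' : g * a * g⁻¹ ≠ 1 := by rwa [Ne, conj_eq_one_iff']
    have hv1' : g * v * g⁻¹ ≠ 1 := by rwa [Ne, conj_eq_one_iff']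
    have h3 := h.isW_left hS.pi ht htS ht1 ht2 (h.pr.l.conj a ha g) h2 ha1' (conj_sq ha2 g)
      hu huS hu1 hu2 hW
    have h4 := h.symm.isW_left hS.pi hu huS hu1 hu2 (h.pr.r.conj v hv g) h1 hv1' (conj_sq hv2 g)
      (h.pr.l.conj a ha g) h2 ha1' (conj_sq ha2 g) (h.isW_symm ha1' hu1 h3)
    have h5 := th_le_isW ha1' (h.symm.isW_symm hv1' ha1' h4)
    rw [← cj_th, le_bot_iff, cj_eq_bot, th, sup_eq_bot_iff, comm_eq_bot, C_zpowers] at h5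
    exact h5.1
  set I : Set G := {v | v ∈ 𝒰 ∧ v ≠ 1 ∧ v * v = 1} with hI
  have mono : ∀ a ∈ 𝒯, a ≠ 1 → a * a = 1 → ∀ a' ∈ 𝒯, a' ∈ C{a} → Og I C{a} ≤ Og I C{a'} :=
    fun a ha ha1 ha2 a' ha' hc => Og_le_iff.2 fun v hv hva => mem_Og hv (by
      have h1 := h.ih _ (h.C1_ne ha1) (commutator_mem_commutator (mem_Og ha' hc) (mem_Og hv.1 hva))
      have h2 := mem_C1.1 (all a ha ha1 ha2 v hv.1 hv.2.1 hv.2.2 hva h1)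
      have h3 : ⁅a', v⁆ = 1 := eq_one_of_odd_sq ((Od_odd _).piElt h1) (by
        have h4 := conj_sq hv.2.2 a'
        have e : a' * v * a'⁻¹ = ⁅a', v⁆ * v := by rw [commutatorElement_def]; group
        rw [e, mul_assoc, ← mul_assoc v, ← h2, mul_assoc, hv.2.2, mul_one] at h4
        exact h4)
      exact mem_C1.2 (commutatorElement_eq_one_iff_mul_comm.1 h3).symm)
  have hnorm : ∀ a : G, C{a} ≤ N[Og I C{a}] := fun a => norm_closure fun g hg s hs =>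
    subset_closure ⟨⟨h.pr.r.conj s hs.1.1 g, by rw [Ne, conj_eq_one_iff']; exact hs.1.2.1,
      conj_sq hs.1.2.2 g⟩, mul_mem (mul_mem hg hs.2) (inv_mem hg)⟩
  obtain ⟨z, hz, hzS, hz1, hz2, hzc⟩ := h.pr.l.exists_central hS.pi ht htS ht1
  refine h.not_bender bh hS ht htS ht1 ht2 hu hu1 hu2 (M := N[Og I C{z}]) (fun e => ?_)
    fun s hs hsS hs1 hs2 => ?_
  · rcases h.nml e.ge with e' | e'
    · exact hu1 (mem_bot.1 (e' ▸ mem_Og (D := I) ⟨hu, hu1, hu2⟩ (hzc huS)))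
    · exact h.C1_ne hz1 (top_le_iff.1 (e'.ge.trans (Og_le _ _)))
  · rw [le_antisymm (mono z hz hz1 hz2 s hs (hzc hsS))
      (mono s hs hs1 hs2 z hz (mem_C1_comm.1 (hzc hsS)))]
    exact hnorm s

theorem case_ne (h : Sp 𝒯 𝒰) (bh : BH.{u}) (hS : Syl 2 ⊤ S) (ht : t ∈ 𝒯) (htS : t ∈ S)
    (ht1 : t ≠ 1) (ht2 : t * t = 1) (hu : u ∈ 𝒰) (huS : u ∈ S) (hu1 : u ≠ 1) (hu2 : u * u = 1)
    (hW : IsW 𝒯 𝒰 t u W) (hM : N[W] ≠ ⊤) (hnle : ¬ C{u} ≤ N[W]) : False := by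
  have hST : Og 𝒯 S ≤ C{u} := (h.pr.cent hS.pi).trans (C_le_C1 (mem_Og hu huS))
  obtain ⟨P, hP, hSP⟩ := Sylow_superset Nat.prime_two (hS.pi.inf_left C{u}) inf_le_right
  have huP : u ∈ P := hSP ⟨huS, self_mem_C1 u⟩
  have hTP : ∀ s ∈ 𝒯, s ∈ S → s ∈ P := fun s hs hsS => hSP ⟨hsS, hST (mem_Og hs hsS)⟩
  have hall : ∀ s ∈ 𝒯, s ∈ P → s ≠ 1 → s * s = 1 → IsW 𝒯 𝒰 s u W := fun s hs hsP hs1 hs2 =>
    h.isW_left hP.pi ht (hTP t ht htS) ht1 ht2 hs hsP hs1 hs2 hu huP hu1 hu2 hW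
  have hb : Bd 𝒯 C{u} P N[W] := ⟨h.pr.l, hP, hnle, fun s hs hsP hs1 hs2 g hg hgP =>
    h.isW_norm hs1 hu1 (hall s hs hsP hs1 hs2) (by
      rw [mem_C1_iff_conj.1 hg]
      exact hall _ (h.pr.l.conj s hs g) hgP (by rwa [Ne, conj_eq_one_iff']) (conj_sq hs2 g))⟩
  obtain ⟨A, eA, cA, hA, htA⟩ := h.exists_four hS ht htS ht1 ht2
  obtain ⟨B, hF, huB⟩ := h.exists_fr hS.pi eA cA hA hu huS hu1 hu2
  have hO : Od[C{u}] ≤ N[W] := coprime_abelian_gen_cent1 eA.abl hF.ncyc (norm_Od1 (hA.trans hST))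
    (cop (Od_odd _) eA.two) fun a ha ha1 => (inf_le_inf_right _ (pcore_le _ _)).trans
      (hb.cent (hF.mA a ha) (hTP a (hF.mA a ha) (Og_le _ _ (hA ha))) ha1 (eA.sq ha))
  have hle : ∀ s ∈ 𝒯, s ∈ S → s ≠ 1 → s * s = 1 → Od[C{s}] ≤ W := fun s hs hsS hs1 hs2 => by
    have h1 := hb.Od_le bh hO hs (hTP s hs hsS) hs1 hs2
    refine le_trans ?_ (th_le_isW hs1 (hall s hs (hTP s hs hsS) hs1 hs2))
    refine (odd_le_sup (Od_odd _) (twoE_of_sq hu2).isPi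
      (norm_Od1 (zpowers_le.2 (mem_C1_comm.1 (hST (mem_Og hs hsS)))))).trans
      (sup_le_sup_left (le_inf inf_le_left (le_trans ?_ h1)) _)
    rw [C_zpowers]
    refine le_trans ?_ (pcore_inf_le _ (inf_le_right : C{u} ⊓ C{s} ≤ C{s}))
    exact le_inf inf_le_left (le_inf inf_le_right (inf_le_left.trans (pcore_le _ _)))
  refine h.not_bender bh hS ht htS ht1 ht2 hu hu1 hu2 hM fun s hs hsS hs1 hs2 g hg => ?_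
  obtain ⟨A, eA, cA, hA, hsA⟩ := h.exists_four hS hs hsS hs1 hs2
  have hAT : ∀ a ∈ A, a ∈ 𝒯 := fun a ha => ((h.pr.l.mem_Og_two hS.pi).1 (hA ha)).2
  have hAC : A ≤ C{s} := eA.le_C.trans (C_le_C1 hsA)
  have hus : u ∈ C{s} := mem_C1_comm.1 (hST (mem_Og hs hsS))
  have hgu : g * u * g⁻¹ ∈ C{s} := mul_mem (mul_mem hg hus) (inv_mem hg)
  have hgu' := h.pr.r.conj u hu g
  obtain ⟨X, _, _, f, hf⟩ := exists_quo (pcore_nml {2}ᶜ C{s})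
  have h1 : ⁅A, zpowers (g * u * g⁻¹)⁆ ≤ Od[C{s}] :=
    (commutator_mono (fun x hx => mem_Og (hAT x hx) (hAC hx))
      (zpowers_le.2 (mem_Og hgu' hgu))).trans (h.ih _ (h.C1_ne hs1))
  have h2 := (h.pr.r.two _ hgu').isPi
  obtain ⟨k, hk, Q, hQ, -, h3, h4⟩ := hf.lift eA.two h2 hAC (zpowers_le.2 hgu)
    ((eA.two.img f).sup (h2.img f)
      (norm_of_cent (cents_symm ((hf.comm_le hAC (zpowers_le.2 hgu)).1 h1)))) le_sup_left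
    le_sup_right
  have e : k * (g * u * g⁻¹) * k⁻¹ = k * g * u * (k * g)⁻¹ := by group
  have h5 := h4 (conj_mem_cj k (mem_zpowers _))
  rw [e] at h5
  have hu1' : k * g * u * (k * g)⁻¹ ≠ 1 := by rwa [Ne, conj_eq_one_iff']
  obtain ⟨B, hF', hB⟩ := h.exists_fr hQ eA cA (fun x hx => mem_Og (hAT x hx) (h3 hx))
    (h.pr.r.conj u hu (k * g)) h5 hu1' (conj_sq hu2 _)
  have h6 := (hall s hs (hTP s hs hsS) hs1 hs2).cj h.pr (k * g)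
  rw [mem_C1_iff_conj.1 (mul_mem (hf.le hk) hg)] at h6
  have h7 := h.isW_uniq hs1 hu1' ⟨A, B, hF', hsA, hB, rfl⟩ h6
  have h8 : k * g ∈ N[W] := mem_N_of_cj_le (h7.le.trans (Wf_le fun a ha ha1 =>
    (th_le (hF'.BC ha hB)).trans (hle a (hAT a ha) (Og_le _ _ (hA ha)) ha1 (eA.sq ha))))
  exact (mul_mem_cancel_left (norm_self W (hle s hs hsS hs1 hs2 hk))).1 h8

theorem false (h : Sp 𝒯 𝒰) (bh : BH.{u}) (h1 : Og 𝒯 ⊤ ≠ ⊥) (h2 : Og 𝒰 ⊤ ≠ ⊥) : False := by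
  obtain ⟨S, hS⟩ := Sylow_exists Nat.prime_two (⊤ : Subgroup G)
  have ex : ∀ {𝒱 : Set G}, Cl 𝒱 → Og 𝒱 ⊤ ≠ ⊥ → ∃ t ∈ 𝒱, t ∈ S ∧ t ≠ 1 ∧ t * t = 1 := fun hV h0 => by
    obtain ⟨t, ht, -, ht1, ht2⟩ := hV.exists_of_Og_ne h0
    obtain ⟨n, -, hn⟩ := exists_conj_syl hS (Nml.refl ⊤) (hV.two t ht) (mem_top t)
    exact ⟨_, hV.conj t ht n, hn, by rwa [Ne, conj_eq_one_iff'], conj_sq ht2 n⟩
  obtain ⟨t, ht, htS, ht1, ht2⟩ := ex h.pr.l h1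
  obtain ⟨u, hu, huS, hu1, hu2⟩ := ex h.pr.r h2
  obtain ⟨W, hW⟩ := h.exists_isW hS.pi ht htS ht1 ht2 hu huS hu1 hu2
  by_cases hM : N[W] = ⊤
  · rw [h.sol_eq_bot (h.isW_odd hu1 hW).sol hM.ge] at hW
    exact h.case_bot bh hS ht htS ht1 ht2 hu huS hu1 hu2 hW
  refine h.symm.not_bender bh hS hu huS hu1 hu2 ht ht1 ht2 hM fun v hv hvS hv1 hv2 => ?_
  by_contra hn
  exact h.case_ne bh hS ht htS ht1 ht2 hv hvS hv1 hv2 (h.symm.isW_symm hv1 ht1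
    (h.symm.isW_left hS.pi hu huS hu1 hu2 hv hvS hv1 hv2 ht htS ht1 ht2 (h.isW_symm ht1 hu1 hW)))
    hM hn

end Sp

theorem pcat (bh : BH.{u}) (n : ℕ) : PCat.{u} n := by
  induction n with
  | zero => exact fun X _ _ h => absurd h (Nat.not_lt_zero _)
  | succ n ih =>
    intro X _ _ hX 𝒯 𝒰 hP
    have ih' : PCat.{u} (Nat.card X) := fun Y _ _ hY => ih Y (by omega)
    refine pc_step ih' hP fun hs hna h1 h2 => ?_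
    haveI := hs
    exact Sp.false ⟨hP, hs, hna, fun H hH => ih'.sub hP hH⟩ bh (by rw [h1]; exact top_ne_bot)
      (by rw [h2]; exact top_ne_bot)

/-- **Product theorem** (Goldschmidt) -/
theorem Pr.comm_le (bh : BH.{u}) (hP : Pr 𝒯 𝒰) (H : Subgroup G) : ⁅Og 𝒯 H, Og 𝒰 H⁆ ≤ Od[H] := by
  obtain ⟨X, _, _, f, hf⟩ := exists_quo (pcore_nml {2}ᶜ H)
  have := (pcat bh _).quo hf (Nat.lt_succ_self _) (hf.pr_odd hP (Od_odd H))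
  rwa [hf.Od_eq_bot, hf.ker] at this

end PC
end H8
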