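import Mathlib
import Cfsg.Agent.H8.PC7

/-!
# Strongly closed subgroups and closed sets; product fusion
-/

set_option autoImplicit false
set_option linter.unusedSectionVars false
set_option linter.unusedVariables false

namespace H8
namespace PC

open Cfsg H24 H26 H26.Gold Subgroup
open scoped commutatorElement

universe u

variable {G : Type u} [Group G] [Finite G] {𝒯 𝒰 : Set G}
  {A B D H K L M N P Q R S T U V W X Y Z : Subgroup G} {a b c d e g k t u x y z : G}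

/-- the conjugates of the elements of `T` -/
def cls (T : Subgroup G) : Set G := {x | ∃ g : G, g * x * g⁻¹ ∈ T}

theorem mem_cls (hx : x ∈ T) : x ∈ cls T := ⟨1, by simpa using hx⟩

theorem mem_of_cls (hT : IsStronglyClosed T S) (hx : x ∈ cls T) (hS : x ∈ S) : x ∈ T := by
  obtain ⟨g, hg⟩ := hx
  simpa [mul_assoc] using hT.2 _ hg g⁻¹ (by simpa [mul_assoc] using hS)

theorem cls_conj (hx : x ∈ cls T) (g : G) : g * x * g⁻¹ ∈ cls T := by
  obtain ⟨h, hh⟩ := hx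
  exact ⟨h * g⁻¹, by simpa [mul_assoc] using hh⟩

theorem cl_cls (hS : Syl 2 ⊤ S) (hT : IsStronglyClosed T S) : Cl (cls T) where
  one := mem_cls (one_mem T)
  two := fun x ⟨g, hg⟩ => piElt_conj.1 (hS.pi.piElt (hT.1 hg))
  conj := fun x hx g => cls_conj hx g
  mul := fun P hP x hx y hy h1 h2 => by
    obtain ⟨g, -, hg⟩ := Sylow_Jsub Nat.prime_two hS hP le_top
    refine ⟨g, ?_⟩
    have := T.mul_mem (mem_of_cls hT (cls_conj hx g) (hg (conj_mem_cj g h1)))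
      (mem_of_cls hT (cls_conj hy g) (hg (conj_mem_cj g h2)))
    simpa [mul_assoc] using this

theorem Og_cls (hT : IsStronglyClosed T S) : Og (cls T) S = T :=
  le_antisymm (Og_le_iff.2 fun x hx h => mem_of_cls hT hx h) fun x hx => mem_Og (mem_cls hx) (hT.1 hx)

theorem le_Og_cls (h : T ≤ H) : T ≤ Og (cls T) H := fun x hx => mem_Og (mem_cls hx) (h hx)

theorem Og_cls_top (T : Subgroup G) : Og (cls T) ⊤ = normalClosure T := by
  refine le_antisymm (Og_le_iff.2 fun x ⟨g, hg⟩ _ => ?_) (closure_mono fun x hx => ⟨?_, trivial⟩)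
  · simpa [mul_assoc] using (normalClosure_normal (s := (T : Set G))).conj_mem _
      (subset_normalClosure hg) g⁻¹
  · obtain ⟨y, hy, h⟩ := Group.mem_conjugatesOfSet_iff.1 hx
    obtain ⟨g, rfl⟩ := isConj_iff.1 h
    exact cls_conj (mem_cls hy) g

theorem Cl.stronglyClosed (h : Cl 𝒯) (hS : TwoG S) : IsStronglyClosed (Og 𝒯 S) S :=
  ⟨Og_le _ _, fun x hx g hg => mem_Og (h.conj x ((h.mem_Og_two hS).1 hx).2 g) hg⟩

theorem pr_cls (hS : Syl 2 ⊤ S) (hT : IsStronglyClosed T S) (hU : IsStronglyClosed U S)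
    (hc : T ≤ C[U]) (hd : T ⊓ U = ⊥) : Pr (cls T) (cls U) where
  l := cl_cls hS hT
  r := cl_cls hS hU
  comm := fun P hP x hx y hy h1 h2 => by
    obtain ⟨g, -, hg⟩ := Sylow_Jsub Nat.prime_two hS hP le_top
    have := comm_of_cent hc (mem_of_cls hT (cls_conj hx g) (hg (conj_mem_cj g h1)))
      (mem_of_cls hU (cls_conj hy g) (hg (conj_mem_cj g h2)))
    calc x * y = g⁻¹ * (g * x * g⁻¹ * (g * y * g⁻¹)) * g := by group
      _ = _ := by rw [this]; group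
  disj := fun x ⟨g, hg⟩ hx => by
    have : g * x * g⁻¹ ∈ T ⊓ U := ⟨hg, mem_of_cls hU (cls_conj hx g) (hT.1 hg)⟩
    rwa [hd, mem_bot, conj_eq_one_iff'] at this

theorem Od_top_eq : Od[(⊤ : Subgroup G)] = oddCore G := pcore_compl_singleton_top Nat.prime_two

/-- **Goldschmidt's product theorem** for strongly closed subgroups -/
theorem comm_le_oddCore (bh : BH.{u}) (hS : Syl 2 ⊤ S) (hT : IsStronglyClosed T S)
    (hU : IsStronglyClosed U S) (hc : T ≤ C[U]) (hd : T ⊓ U = ⊥) :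
    ⁅normalClosure (T : Set G), normalClosure (U : Set G)⁆ ≤ oddCore G := by
  rw [← Og_cls_top, ← Og_cls_top, ← Od_top_eq]
  exact (pr_cls hS hT hU hc hd).comm_le bh ⊤

/-- the focal subgroup theorem inside a subgroup -/
theorem focal_le {p : ℕ} (hp : p.Prime) (hP : Syl p H P)
    (hX : ∀ x ∈ P, ∀ g ∈ H, ⁅x, g⁆ ∈ P → ⁅x, g⁆ ∈ X) : ⁅H, H⁆ ⊓ P ≤ X := by
  haveI : Fact p.Prime := ⟨hp⟩
  obtain ⟨S, rfl⟩ := hP.exists_sylow hp
  rw [der1_eq_map, ← map_inf _ _ _ H.subtype_injective, commutator_inf_eq_focalSubgroup,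
    map_le_iff_le_comap, focalSubgroup_def, closure_le]
  rintro _ ⟨h1, x, hx, g, rfl⟩
  exact hX x (mem_map_of_mem _ hx) g g.2 (mem_map_of_mem H.subtype h1)

theorem inf_Og_cls (hS : Syl 2 ⊤ S) (hT : IsStronglyClosed T S) (hp : IsProd T U S)
    (hU : U ≤ N) (hc : N ≤ C[Og (cls T) ⊤]) (hG : IsProd (Og (cls T) ⊤) N ⊤) :
    S ⊓ Og (cls T) ⊤ = T := by
  set M := Og (cls T) ⊤ with hM
  have hn : M ⊴ ⊤ := (cl_cls hS hT).Og_nml ⊤
  have hTM : T ≤ M := le_Og_cls le_top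
  have h1 : ⁅M, M⁆ ⊓ (S ⊓ M) ≤ T := focal_le Nat.prime_two (hS.inf_nml hn) fun x hx g hg h => by
    obtain ⟨s, hs, y, hy, rfl⟩ := hp.mul x hx.1
    have e : ⁅s * y, g⁆ = s * (g * s⁻¹ * g⁻¹) := by
      rw [commutatorElement_def, mul_assoc s y g, comm_of_cent hc (hU hy) hg]; group
    rw [e] at h ⊢
    exact mul_mem hs (hT.2 _ (inv_mem hs) g ((mul_mem_cancel_left (hT.1 hs)).1 h.1))
  have h2 : M ≤ ⁅M, M⁆ ⊔ T := Og_le_iff.2 fun x ⟨g, hg⟩ _ => by
    obtain ⟨n, hn, m, hm, e⟩ := hG.mul g⁻¹ (mem_top _)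
    have e2 : x = ⁅n, g * x * g⁻¹⁆ * (g * x * g⁻¹) := by
      have h3 := comm_of_cent hc hm (hTM hg)
      calc x = n * (m * (g * x * g⁻¹)) * m⁻¹ * n⁻¹ := by
            rw [← mul_assoc n m, ← e, mul_assoc _ m⁻¹, ← mul_inv_rev, ← e]; group
        _ = _ := by rw [h3, commutatorElement_def]; group
    rw [e2]
    exact mul_mem (mem_sup_left (commutator_mem_commutator hn (hTM hg))) (mem_sup_right hg)
  refine le_antisymm (fun y hy => ?_) (le_inf hT.1 hTM)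
  obtain ⟨c, hc, s, hs, rfl⟩ := (mem_sup_of_norm (hTM.trans (der1_nml M).norm)).1 (h2 hy.2)
  exact mul_mem (h1 ⟨hc, (mul_mem_cancel_right (hT.1 hs)).1 hy.1, der1_le M hc⟩) hs

/-- product fusion -/
theorem product_fusion (bh : BH.{u}) (hO : oddCore G = ⊥)
    (hO' : ∀ N : Subgroup G, N.Normal → Odd N.index → N = ⊤) (hS : Syl 2 ⊤ S)
    (hp : IsInternalDirectProduct T U S) (hT : IsStronglyClosed T S) (hU : IsStronglyClosed U S) :
    ∃ G₁ G₂ : Subgroup G, G₁.Normal ∧ G₂.Normal ∧ IsInternalDirectProduct G₁ G₂ ⊤ ∧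
      T ≤ G₁ ∧ U ≤ G₂ ∧ Odd (T.relIndex G₁) ∧ Odd (U.relIndex G₂) := by
  obtain ⟨-, -, h1, h2, h3⟩ := hp
  have hc : T ≤ C[U] := le_C_iff.2 h1
  have h4 := (pr_cls hS hT hU hc h2).comm_le bh ⊤
  rw [Od_top_eq, hO, le_bot_iff, comm_eq_bot] at h4
  have n1 := (cl_cls hS hT).Og_nml ⊤
  have n2 := (cl_cls hS hU).Og_nml ⊤
  have l1 : T ≤ Og (cls T) ⊤ := le_Og_cls le_top
  have l2 : U ≤ Og (cls U) ⊤ := le_Og_cls le_top
  have h5 : Og (cls T) ⊤ ⊔ Og (cls U) ⊤ = ⊤ := by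
    refine hO' _ (nml_top_iff.1 (n1.sup n2)) ?_
    have := hS.idx_of_ge (h3.ge.trans (sup_le_sup l1 l2))
    rwa [relIndex_top_right, piNat_compl_singleton Nat.prime_two, Nat.two_dvd_ne_zero,
      ← Nat.odd_iff] at this
  have p1 : IsProd (Og (cls T) ⊤) (Og (cls U) ⊤) ⊤ := by
    have := isProd_sup' (norm_of_cent h4); rwa [h5] at this
  have pS : IsProd T U S := h3 ▸ isProd_sup' (norm_of_cent hc)
  have e1 := inf_Og_cls hS hT pS l2 (cents_symm h4) p1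
  have e2 := inf_Og_cls hS hU pS.symm l1 h4 p1.symm
  have odd : ∀ {T N : Subgroup G}, N ⊴ ⊤ → S ⊓ N = T → Odd (T.relIndex N) := fun hN e => by
    have := (hS.inf_nml hN).idx
    rwa [e, piNat_compl_singleton Nat.prime_two, Nat.two_dvd_ne_zero, ← Nat.odd_iff] at this
  refine ⟨_, _, nml_top_iff.1 n1, nml_top_iff.1 n2, ⟨le_top, le_top, le_C_iff.1 h4, ?_, h5⟩, l1, l2,
    odd n1 e1, odd n2 e2⟩
  have h6 : TwoG (Og (cls T) ⊤ ⊓ Og (cls U) ⊤) :=
    two_of_nil (Od_nml_eq_bot (Od_top_eq.trans hO) (n1.inf n2))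
      (abl_iff.2 (inf_le_left.trans (h4.trans (C_anti inf_le_right)))).nil
  have h7 := hS.nml_le h6 (n1.inf n2)
  rw [← le_bot_iff, ← h2]
  exact le_inf ((le_inf h7 inf_le_left).trans e1.le) ((le_inf h7 inf_le_right).trans e2.le)

end PC
end H8
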