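import Mathlib
import Cfsg.Agent.H8.PC8

/-!
# The perfect residual of the centraliser of a strongly closed subgroup has a strongly closed
Sylow subgroup
-/

set_option autoImplicit false
set_option linter.unusedSectionVars false
set_option linter.unusedVariables false

namespace H8
namespace PC

open Cfsg H24 H26 H26.Gold Subgroup
open scoped commutatorElement

universe u

variable {G : Type u} [Group G] [Finite G] {𝒯 𝒰 : Set G}
  {A B D E H K L M N P Q R S T U V W X Y Z : Subgroup G} {a b c d e g k t u x y z : G}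

/-- the largest perfect subgroup -/
def rs (H : Subgroup G) : Subgroup G := sSup {K | K ≤ H ∧ ⁅K, K⁆ = K}

theorem rs_le (H : Subgroup G) : rs H ≤ H := sSup_le fun _ h => h.1

theorem le_rs (h : K ≤ H) (hp : ⁅K, K⁆ = K) : K ≤ rs H := le_sSup ⟨h, hp⟩

theorem rs_perf (H : Subgroup G) : ⁅rs H, rs H⁆ = rs H :=
  le_antisymm (der1_le _) (sSup_le fun K h => h.2.ge.trans (der1_mono (le_rs h.1 h.2)))

theorem rs_mono (h : H ≤ K) : rs H ≤ rs K := le_rs ((rs_le H).trans h) (rs_perf H)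

theorem cj_rs_le (g : G) (H : Subgroup G) : cj g (rs H) ≤ rs (cj g H) :=
  le_rs (cj_mono g (rs_le H)) (by rw [← cj_comm, rs_perf])

theorem cj_rs (g : G) (H : Subgroup G) : cj g (rs H) = rs (cj g H) :=
  le_antisymm (cj_rs_le g H) (le_cj_iff.2 (by simpa using cj_rs_le g⁻¹ (cj g H)))

theorem norm_rs (h : X ≤ N[H]) : X ≤ N[rs H] := fun g hg => by
  rw [mem_N_iff_cj, cj_rs, cj_of_mem_N (h hg)]

theorem rs_eq (H : Subgroup G) : (⨅ n : ℕ, derivedSeries H n).map H.subtype = rs H := by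
  refine le_antisymm ?_ fun x hx => ?_
  · obtain ⟨K, -, ⟨n, rfl⟩, hmin⟩ := exists_min (P := fun K => ∃ n, K = der n H) ⟨0, rfl⟩
    refine le_trans ?_ (le_rs (der_le n H) (hmin _ ⟨n + 1, rfl⟩ (der1_le _)))
    rw [der_eq_map]
    exact map_mono (iInf_le _ n)
  · refine ⟨⟨x, rs_le H hx⟩, mem_iInf.2 fun n => ?_, rfl⟩
    have h1 : rs H ≤ der n H := by
      induction n with
      | zero => exact rs_le H
      | succ n ih => exact (rs_perf H).ge.trans (der1_mono ih)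
    obtain ⟨y, hy, e⟩ := (der_eq_map n H ▸ h1) hx
    rwa [← show y = ⟨x, rs_le H hx⟩ from Subtype.ext e]

theorem sol_of_rs (h : rs H = ⊥) : Sol H := by
  induction H using subgroup_ind with
  | _ H ih =>
    by_cases e : ⁅H, H⁆ = H
    · rw [eq_bot_of_le h (le_rs le_rfl e)]; exact sol_bot
    · exact sol_of_der1 (ih _ (lt_of_le_of_ne (der1_le H) e) (eq_bot_of_le h (rs_mono (der1_le H))))

theorem perfect_le_of_two (hp : ⁅E, E⁆ = E) (hn : E ≤ N[R]) (h : ∀ x ∈ E, TwoE x → x ∈ R) :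
    E ≤ R := by
  obtain ⟨P, hP⟩ := Sylow_exists Nat.prime_two E
  have h1 : OddG (quo E R) := (isPi_quo_iff hn).2 (hP.idx_of_ge fun x hx => h x (hP.le hx) (hP.pi.piElt hx))
  exact (quo_eq_bot hn).1 (perfect_eq_bot (by rw [← quo_comm hn hn, hp]) h1.sol)

/-- the centric case -/
theorem cov_of_centric (hT : Cl 𝒯) (hS : TwoG S) :
    ∀ Y : Subgroup G, Y ≤ Og 𝒯 S → (∀ x ∈ 𝒯, x ∈ C[Y] → x ∈ Y) → Cov (rs C[Og 𝒯 S]) (rs C[Y]) := by
  intro Y
  induction Y using subgroup_ind_up with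
  | _ Y ih =>
  intro hY hc
  have h2 : TwoG (Og 𝒯 S) := hS.of_le (Og_le _ _)
  rcases hY.eq_or_lt with e | hlt
  · rw [e]; exact Cov.refl (rs_perf _)
  have h3 := (h2.nil Nat.prime_two).proper_norm hlt
  refine (ih _ h3 inf_le_left fun x hx h => h3.le (hc x hx (C_anti h3.le h))).trans ?_
  have hD : C[Y] ≤ C[Og 𝒯 C[Y]] := C_anti (Og_le_iff.2 hc)
  have hE := rs_le C[Y]
  have h4 : Og 𝒯 S ⊓ N[Y] ≤ Ck (rs C[Y]) := fun x hx => by
    have hxN : x ∈ N[C[Y]] := N_le_NC Y hx.2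
    refine le_Ck_of_comm (rs_perf _) (norm_rs (zpowers_le.2 hxN)) ?_ (mem_zpowers x)
    refine (comm_mono_right hE).trans ((zl1 hT hD ((hT.mem_Og_two hS).1 hx.1).2 hxN).trans
      (sup_le ((cents_symm (hE.trans hD)).trans (C_le_Ck _)) ?_))
    have h5 : rs C[Y] ≤ N[Od[C[Y]]] := hE.trans (pcore_nml _ _).norm
    exact le_Ck_of_odd (norm_rs (norm_of_le (pcore_le _ _))) (Od_odd _) h5 (comm_le_left h5)
  obtain ⟨K0, h5, h6, -⟩ := exists_cov_cent (X := ⊥) (rs_perf _) (h2.inf_left _) h4 bot_le bot_le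
  exact ⟨rs_mono (C_anti h3.le), rs_perf _, h6.cov.trans (sup_le_sup_right (le_rs h5 h6.perf) _)⟩

theorem syl_rs (hT : Cl 𝒯) (hS : Syl 2 ⊤ S) : Syl 2 (rs C[Og 𝒯 S]) (S ⊓ rs C[Og 𝒯 S]) := by
  have h1 : Syl 2 N[Og 𝒯 S] S := hS.of_le (hT.Og_nml S).norm le_top
  exact h1.inf_nml ⟨(rs_le _).trans (C_le_N _), norm_rs (N_le_NC _)⟩

theorem inf_rs_of_centric (hT : Cl 𝒯) (hS : Syl 2 ⊤ S) (hY : Y ≤ Og 𝒯 S)
    (hc : ∀ x ∈ 𝒯, x ∈ C[Y] → x ∈ Y) : S ⊓ rs C[Y] = S ⊓ rs C[Og 𝒯 S] := by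
  have h1 := cov_of_centric hT hS.pi Y hY hc
  have h2 : Syl 2 (rs C[Y]) (S ⊓ rs C[Og 𝒯 S]) := by
    refine (syl_rs hT hS).of_idx h1.le ?_
    have h3 : IsProd (rs C[Og 𝒯 S]) Od[rs C[Y]] (rs C[Y]) := by
      have := isProd_sup' (h1.le.trans (pcore_nml {2}ᶜ _).norm)
      rwa [le_antisymm (sup_le h1.le (pcore_le _ _)) h1.cov] at this
    exact (Od_odd _).piNat.dvd h3.relIndex_dvd
  exact h2.eq_of_le (hS.pi.inf_left _) (inf_le_inf_left _ h1.le) inf_le_right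

/-- the local step: `N(P)` normalises `P ∩ C(T)^∞` -/
theorem local_step (hT : Cl 𝒯) (hS : Syl 2 ⊤ S) (hP : P ≤ S) (hQ : Syl 2 N[P] (S ⊓ N[P]))
    (ih : ∀ g : G, P < S ⊓ cj g S → S ⊓ cj g S ⊓ rs C[Og 𝒯 (cj g S)] ≤ rs C[Og 𝒯 S]) :
    N[P] ≤ N[P ⊓ rs C[Og 𝒯 S]] := by
  set Y := Og 𝒯 P with hY
  have hP2 : TwoG P := hS.pi.of_le hP
  have hY2 : TwoG Y := hP2.of_le (Og_le _ _)
  have hNY : N[P] ≤ N[Y] := hT.norm_Og le_rfl
  have hPY : P ≤ N[Y] := (norm_self P).trans hNY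
  set Ns := N[P] ⊓ (C[Y] ⊓ centQ P Y) with hNs
  have hn : Ns ⊴ N[P] := nml_inf_of_norm (norm_inf (norm_C hNY) (norm_centQ le_rfl hNY))
  have hQs := hQ.inf_nml hn
  set Qs := S ⊓ N[P] ⊓ Ns with hQsd
  have hSH : S ≤ N[rs C[Og 𝒯 S]] := norm_rs (norm_C (hT.Og_nml S).norm)
  by_cases hle : Qs ≤ P
  · have hc : ∀ x ∈ 𝒯, x ∈ C[Y] → x ∈ Y := by
      by_contra hne
      push Not at hne
      obtain ⟨x, hx, hxC, hxY⟩ := hne
      obtain ⟨S3, hS3, h3⟩ := Sylow_superset Nat.prime_two hQ.pi (hQ.le.trans hNY)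
      obtain ⟨c, hc, hcx⟩ := exists_conj_syl hS3 (C_nml_N Y) (hT.two x hx) hxC
      have hPS : P ≤ S3 := (le_inf hP (norm_self P)).trans h3
      set Y3 := Og 𝒯 (S3 ⊓ C[Y]) with hY3
      have hPY3 : P ≤ N[Y3] := hT.norm_Og (norm_inf (norm_of_le hPS) (norm_C hPY))
      have hY3S : Y3 ≤ S3 ⊓ C[Y] := Og_le _ _
      have h4 : ¬ Y3 ≤ P := fun h => hxY ((conj_mem_iff (C_le_N Y hc)).1 (mem_Og (hT.conj x hx c)
        (h (mem_Og (hT.conj x hx c) ⟨hcx, conj_mem (norm_self _ hc) hxC⟩))))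
      have h5 : TwoG (Y3 ⊔ P) := hS3.pi.of_le (sup_le (hY3S.trans inf_le_left) hPS)
      have h6 := (h5.nil Nat.prime_two).proper_norm
        (lt_of_le_of_ne le_sup_right fun e => h4 (le_sup_left.trans e.ge))
      rw [← group_modr hPY3 (norm_self P)] at h6
      refine h6.not_ge (sup_le (le_trans ?_ hle) le_rfl)
      have h7 : S3 ⊓ N[P] = S ⊓ N[P] := hQ.eq_of_le (hS3.pi.inf_left _) (le_inf h3 hQ.le) inf_le_right
      refine le_inf (h7 ▸ inf_le_inf_right _ (hY3S.trans inf_le_left)) (le_inf inf_le_right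
        (le_inf (inf_le_left.trans (hY3S.trans inf_le_right)) fun s hs => ?_))
      refine (mem_centQ hPY).2 ⟨hNY hs.2, fun p hp => mem_Og ?_ ?_⟩
      · have h8 := ((hT.mem_Og_two (hS3.pi.inf_left _)).1 hs.1).2
        have := hT.mul _ hS3.pi _ h8 _ (hT.conj _ (hT.inv h8) p) (hY3S hs.1).1
          (mul_mem (mul_mem (hPS hp) (inv_mem (hY3S hs.1).1)) (inv_mem (hPS hp)))
        simpa [commutatorElement_def, mul_assoc] using this
      · rw [commutatorElement_def]; exact P.mul_mem (conj_mem hs.2 hp) (P.inv_mem hp)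
    have e : P ⊓ rs C[Og 𝒯 S] = P ⊓ rs C[Y] := by
      rw [← inf_eq_left.2 hP, inf_assoc, inf_assoc, inf_rs_of_centric hT hS (Og_mono _ hP) hc]
    rw [e]
    exact norm_inf le_rfl (norm_rs (norm_C hNY))
  rw [← (Frattini_arg Nat.prime_two hn hQs).sup_eq]
  refine sup_le (le_of_syl_le fun p hp _ => ?_) fun n hn => ?_
  · by_cases e : p = 2
    · subst e
      exact ⟨_, hQs, norm_inf (inf_le_left.trans inf_le_right)
        ((inf_le_left.trans inf_le_left).trans hSH)⟩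
    · obtain ⟨R, hR⟩ := Sylow_exists hp Ns
      refine ⟨R, hR, le_trans ?_ (norm_of_cent (C_anti inf_le_left))⟩
      have h1 := hR.le.trans inf_le_right
      exact stable_factor_cent (h1.trans inf_le_left)
        (by rw [commC]; exact ((le_centQ hPY).1 (h1.trans inf_le_right)).2) (Og_le _ _)
        (hY2.coprime_of_ne hR.pi (Ne.symm e)) (Or.inl (hY2.sol Nat.prime_two))
  · have h1 : P < S ⊓ cj n S := by
      refine lt_of_lt_of_le (lt_of_le_of_ne (le_sup_left : P ≤ P ⊔ Qs) fun e => hle (le_sup_right.trans e.ge))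
        (le_inf (sup_le hP (inf_le_left.trans inf_le_left)) ?_)
      rw [← cj_of_mem_N (norm_sup inf_le_left inf_le_right hn : n ∈ N[P ⊔ Qs])]
      exact cj_mono n (sup_le hP (inf_le_left.trans inf_le_left))
    refine mem_N_of_cj_le ?_
    rw [cj_inf, cj_of_mem_N hn.1, cj_rs, cj_C, hT.cj_Og]
    exact le_inf inf_le_left ((inf_le_inf_right _ h1.le).trans (ih n h1))

theorem inf_rs_le (hT : Cl 𝒯) : ∀ P : Subgroup G, ∀ S₁ S₂ : Subgroup G, Syl 2 ⊤ S₁ → Syl 2 ⊤ S₂ →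
    P = S₁ ⊓ S₂ → P ⊓ rs C[Og 𝒯 S₁] ≤ rs C[Og 𝒯 S₂] := by
  intro P
  induction P using subgroup_ind_up with
  | _ P ih =>
  intro S₁ S₂ h1 h2 e
  by_cases he : S₁ = S₂
  · rw [he]; exact inf_le_right
  have key : ∀ {S : Subgroup G}, Syl 2 ⊤ S → P < S → ∃ S', Syl 2 ⊤ S' ∧ P < S ⊓ S' ∧
      Syl 2 N[P] (S' ⊓ N[P]) := fun {S} hS hlt => by
    have h3 := (hS.pi.nil Nat.prime_two).proper_norm hlt
    obtain ⟨Q, hQ, h4⟩ := Sylow_superset Nat.prime_two (hS.pi.inf_left N[P]) inf_le_right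
    obtain ⟨S', hS', h5⟩ := Sylow_superset Nat.prime_two hQ.pi le_top
    refine ⟨S', hS', h3.trans_le (le_inf inf_le_left (h4.trans h5)), ?_⟩
    rwa [hQ.eq_of_le (hS'.pi.inf_left _) (le_inf h5 hQ.le) inf_le_right]
  obtain ⟨S1', a1, a2, a3⟩ := key h1 (lt_of_le_of_ne (e ▸ inf_le_left) fun e' =>
    he (h1.eq_of_le h2.pi (e' ▸ e ▸ inf_le_right) le_top).symm)
  obtain ⟨S2', b1, b2, b3⟩ := key h2 (lt_of_le_of_ne (e ▸ inf_le_right) fun e' =>
    he (h2.eq_of_le h1.pi (e' ▸ e ▸ inf_le_left) le_top))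
  obtain ⟨n, hn, e2⟩ := Sylow_trans Nat.prime_two a3 b3
  have c1 := a1.cj_mem (mem_top n)
  have hP2 : P < S2' ⊓ N[P] :=
    (b1.pi.nil Nat.prime_two).proper_norm (b2.trans_le inf_le_right)
  have c2 : P < cj n S1' ⊓ S2' :=
    hP2.trans_le (le_inf (e2.le.trans (cj_mono n inf_le_left)) inf_le_left)
  have d1 : P ⊓ rs C[Og 𝒯 S₁] ≤ P ⊓ rs C[Og 𝒯 S1'] :=
    le_inf inf_le_left ((inf_le_inf_right _ a2.le).trans (ih _ a2 _ _ h1 a1 rfl))
  have d2 := local_step hT a1 (a2.le.trans inf_le_right) a3 (fun g hg =>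
    ih _ hg _ _ (a1.cj_mem (mem_top g)) a1 (inf_comm _ _)) hn
  rw [mem_N_iff_cj, cj_inf, cj_of_mem_N hn, cj_rs, cj_C, hT.cj_Og] at d2
  have d3 : P ⊓ rs C[Og 𝒯 (cj n S1')] ≤ P ⊓ rs C[Og 𝒯 S2'] :=
    le_inf inf_le_left ((inf_le_inf_right _ c2.le).trans (ih _ c2 _ _ c1 b1 rfl))
  exact (d1.trans (d2.ge.trans d3)).trans
    ((inf_le_inf_right _ b2.le).trans (ih _ b2 _ _ b1 h2 (inf_comm _ _)))

theorem stronglyClosed_rs (hS : Syl 2 ⊤ S) (hT : IsStronglyClosed T S) :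
    IsStronglyClosed (S ⊓ rs C[T]) S := by
  refine ⟨inf_le_left, fun x hx g hg => ⟨hg, ?_⟩⟩
  have h := cl_cls hS hT
  have := inf_rs_le h _ _ _ (hS.cj_mem (mem_top g)) hS rfl
  rw [← h.cj_Og, ← cj_C, ← cj_rs, Og_cls hT] at this
  exact this ⟨⟨conj_mem_cj g hx.1, hg⟩, conj_mem_cj g hx.2⟩

end PC
end H8
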