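import Mathlib
import Cfsg.Agent.H8.PC9
import Cfsg.Agent.H8.SuzWrap
import Cfsg.Agent.H25.Rank2

/-!
# Automorphisms of a Bender group centralising the involutions of a Sylow subgroup
-/

set_option autoImplicit false
set_option linter.unusedSectionVars false
set_option linter.unusedVariables false

namespace H8
namespace PC

open Cfsg H24 H26 H26.Gold Subgroup
open scoped commutatorElement

universe u

variable {G : Type u} [Group G] [Finite G] {𝒯 𝒰 : Set G}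
  {A B D E H K L M N P Q R S T U V W X Y Z : Subgroup G} {a b c d e g k t u x y z : G}

theorem hyp_irr {Ω : Type*} [MulAction G Ω] {a : Ω} {s r : G} (hG : Suz.Hyp G Ω a t Q s r)
    (hU : U ≤ Q) (h0 : Suz.Q0 Q ≤ U) (hD : ∀ d ∈ Suz.DD a t, ∀ x ∈ U, d⁻¹ * x * d ∈ U) :
    U = Suz.Q0 Q ∨ U = Q := by
  have hK : ∀ k ∈ Suz.KK a t, ∀ x ∈ U, k⁻¹ * x * k ∈ U := fun k hk => hD k (Suz.KK_le hk)
  rcases hG.cases with h | ⟨h, hc⟩ | ⟨hC, ω, hω, hω2, ζ, hζ, hζ1, hf⟩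
  · exact Or.inr (le_antisymm hU fun x hx => h0 (hG.mem_Q0.2 ⟨hx, h x hx⟩))
  · refine or_iff_not_imp_left.2 fun hne => le_antisymm hU fun y hy => ?_
    obtain ⟨x, hx, hx0⟩ := SetLike.not_le_iff_exists.1 fun e => hne (le_antisymm e h0)
    by_cases hy0 : y ∈ Suz.Q0 Q
    · exact h0 hy0
    obtain ⟨k, hk, z, hz, rfl⟩ := hG.exists_K_conj_of_sq le_rfl Suz.Q0_le
      (fun _ hk _ hx => hG.conj_Q (Suz.KK_le hk) hx) hc (hU hx) hx0 hy hy0
    exact hK k hk _ (mul_mem hx (h0 hz))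
  · rcases hG.card_of_K_inv hC hU h0 hK with h | h | h
    · exact Or.inl h
    · exact Or.inr h
    obtain ⟨x, hx, hx0⟩ := hG.exists_notMem_Q0 le_rfl h
    refine absurd (hG.W_fpf hC hζ hζ1 (hU hx) ?_) hx0
    rw [mul_assoc ζ⁻¹, ← hG.comm_W_of_sq hU h0 hK h hζ hx (hG.sq_mem hC (hU hx)) (hD ζ hζ.1 x hx)]
    simp

theorem as_top [IsSimpleGroup G] (hna : ¬ IsMulCommutative G) : AS (⊤ : Subgroup G) := by
  refine ⟨N_top.ge, fun M hM => (nml_top_iff.1 hM).eq_bot_or_eq_top, fun h => hna (abl_top_iff.1 h),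
    ?_⟩
  exact (nml_top_iff.1 ⟨le_top, norm_C N_top.ge⟩).eq_bot_or_eq_top.resolve_right fun e =>
    hna (abl_top_iff.1 (abl_iff.2 e.ge))

/-- the two-point stabiliser of a Bender group is cyclic and irreducible on `Q / Z` -/
theorem bender_facts [IsSimpleGroup G] (hna : ¬ IsMulCommutative G) (hT : TZ ⊤ Q Z)
    (h1 : Ty1 ⊤ Q Z) : ∃ t, t ∉ N[Q] ∧ Cyc (N[Q] ⊓ N[cj t Q]) ∧
      ∀ U, Z ≤ U → U ≤ Q → N[Q] ⊓ N[cj t Q] ≤ N[U] → U = Z ∨ U = Q := by
  have hA := as_top hna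
  have hH : N[Q] ≠ ⊤ := fun e => hA.not_le_N hT e.ge
  obtain ⟨z, hz, hz1⟩ := exists_ne_one hT.ne_bot
  have hev : Even ♯N[Q] := by
    have := orderOf_dvd_card' (norm_self Q (hT.le hz))
    rw [H6.orderOf_eq_two_of (hT.ea.sq hz) hz1] at this
    exact even_iff_two_dvd.2 this
  have hreg : ∀ g, g ∉ N[Q] → ∀ c, TwoE c → c ∈ N[Q] → c ∈ N[cj g Q] → c = 1 :=
    fun g hg c h2 h3 h4 => hA.eq_one_of_norm hT h1 hg (mem_top c) h2 h3 h4
  have hSE : IsStronglyEmbedded N[Q] := ⟨hH, hev, fun g hg => by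
    rw [← cj_def, cj_N, ← oddG_iff]
    refine isPi_iff_piElt.2 fun x hx => constt_eq_one_iff.1
      (hreg g hg _ (piElt_constt _ x) (constt_mem _ hx.1) (constt_mem _ hx.2))⟩
  obtain ⟨t, ht, ht2⟩ := Suz.exists_invol_notMem hH (hev.trans_dvd (card_subgroup_dvd_card _))
  have hS := Suz.setup_of_regular hSE (norm_self Q) (fun h hh x hx => conj_mem hh hx)
    (fun g₁ g₂ k1 k2 => by
      obtain ⟨f, hf, e⟩ := h1.bru g₁ (mem_top _) k1 g₂ (mem_top _) k2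
      exact ⟨f, hf, cj_eq_cj_iff.1 (by rw [e, cj_mul])⟩)
    (fun g hg u hu h => hreg g hg u (hT.syl.pi.piElt hu) (norm_self Q hu) (by
      rw [← cj_N, mem_cj, mul_assoc]; exact h)) ht ht2
  obtain ⟨s, r, hG⟩ := Suz.exists_hyp_of_simple hS
  have hD : Suz.DD ((1 : G) : G ⧸ N[Q]) t = N[Q] ⊓ N[cj t Q] := by
    ext d
    have hm : ∀ g x : G, g • (x : G ⧸ N[Q]) = ((g * x : G) : G ⧸ N[Q]) := fun _ _ => rfl
    rw [Suz.mem_DD, hm, hm, hm, mul_one, mul_one, eq_comm, QuotientGroup.eq, eq_comm,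
      QuotientGroup.eq, mem_inf, ← cj_N, mem_cj, mul_assoc, inv_one, one_mul]
  have hZ : Suz.Q0 Q = Z := by ext x; rw [hG.mem_Q0, hT.memZ]
  refine ⟨t, ht, ?_, fun U h2 h3 h4 => ?_⟩
  · have := hG.DD_inf_LL
    rw [hG.LL_eq_top, inf_top_eq, hD] at this
    exact Cyc.of_le this.2.1 this.1
  · rw [← hZ] at h2 ⊢
    exact hyp_irr hG h3 h2 fun d hd x hx => conj_mem' (h4 (hD ▸ hd)) hx

theorem rs_eq_bot_of_ty1 (hL : AS L) (hT : TZ L Q Z) (h1 : Ty1 L Q Z) (htL : t ∈ L) (ht : t ∉ N[Q])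
    (hc : Cyc (L ⊓ (N[Q] ⊓ N[cj t Q])))
    (hi : ∀ U, Z ≤ U → U ≤ Q → L ⊓ (N[Q] ⊓ N[cj t Q]) ≤ N[U] → U = Z ∨ U = Q) : rs C[Z] = ⊥ := by
  obtain ⟨z, hz, hz1⟩ := exists_ne_one hT.ne_bot
  have hCN : C[Z] ≤ N[Q] := fun c hc => by
    simpa using hL.norm_of_comm hT h1 (g := 1) (by simpa using hT.le hz) hz1 (mem_C'.1 hc z hz)
  have hQZ : Q ≤ N[Z] := norm_of_cent hT.cent
  have hp : IsProd Q (C[Z] ⊓ N[cj t Q]) C[Z] := ⟨hT.cent, inf_le_left, fun c hc => by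
    have hcQ := hCN hc
    obtain ⟨f, hf, e⟩ := h1.bru t htL ht (c * t * c⁻¹) (conj_mem (hL.memN c) htL)
      (by rwa [mul_mem_cancel_right (inv_mem hcQ), mul_mem_cancel_left hcQ])
    rw [cj_mul, cj_of_mem_N (inv_mem hcQ), cj_mul] at e
    exact ⟨f, hf, f⁻¹ * c, mem_inf.2 ⟨mul_mem (inv_mem (hT.cent hf)) hc, by
      rw [mem_N_iff_cj, cj_mul, e, cj_inv_cj]⟩, by group⟩⟩
  have key : rs (C[Z] ⊓ N[cj t Q]) = ⊥ := by
    set E := rs (C[Z] ⊓ N[cj t Q]) with hE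
    have hp := rs_perf (C[Z] ⊓ N[cj t Q])
    rw [← hE] at hp
    have e1 : E ≤ C[Z] := (rs_le _).trans inf_le_left
    have e2 : E ≤ N[Q] := e1.trans hCN
    have e3 : E ≤ N[cj t Q] := (rs_le _).trans inf_le_right
    have hD : E ≤ C[L ⊓ (N[Q] ⊓ N[cj t Q])] := hp ▸ H25.cyc_der1_norm_le_cent hc
      (norm_inf (hL.norm E) (norm_inf (norm_N e2) (norm_N e3)))
    have h2 : E ≤ centQ Q Z := by
      refine perfect_le_of_two hp (norm_centQ e2 (norm_of_cent e1)) fun y hy h2 => ?_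
      have hyZ : zpowers y ≤ N[Z] := zpowers_le.2 (C_le_N Z (e1 hy))
      have h3 : Z ≤ Q ⊓ centQ (zpowers y) Z :=
        le_inf hT.le ((le_centQ hyZ).2 ⟨norm_self Z, comm_le_left hyZ⟩)
      have h4 : Q ≤ centQ (zpowers y) Z := by
        rcases hi _ h3 inf_le_left (norm_inf (inf_le_right.trans inf_le_left) (norm_centQ
          (norm_of_cent (cents_symm ((zpowers_le.2 hy).trans hD)))
          ((inf_le_right.trans inf_le_left).trans hT.norm))) with e | e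
        · by_cases hq : quo Q Z = ⊥
          · exact ((quo_eq_bot hQZ).1 hq).trans (h3.trans inf_le_right)
          refine absurd ?_ ((h2.isPi.quo Z).inf_C_ne_bot Nat.prime_two (hT.syl.pi.quo Z)
            (quo_norm Z (zpowers_le.2 (e2 hy))) hq)
          rw [← quo_inf_coq, ← centQ, e, quo_eq_bot_of_le le_rfl]
        · exact e.ge.trans inf_le_right
      refine (le_centQ hQZ).2 ⟨hyZ, ?_⟩ (mem_zpowers y)
      rw [commC]; exact ((le_centQ hyZ).1 h4).2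
    have h3 : ⁅⁅E, Q⁆, E⁆ = ⊥ := comm_eq_bot'.2 (e1.trans (C_anti ((le_centQ hQZ).1 h2).2))
    have h4 := three_subgroup (A := E) (B := Q) (K := E) h3 (by rwa [commC Q])
    rw [hp, comm_eq_bot] at h4
    refine perfect_eq_bot hp (IsPi.sol Nat.prime_two (isPi_iff_piElt.2 fun x hx => ?_))
    have h5 := eq_one_of_cent_syl hL hT h1 (piElt_constt _ x) (h4 (constt_mem _ hx))
    rwa [constt_eq_one_iff, compl_compl] at h5
  refine perfect_eq_bot (rs_perf _) (Sol.of_le ?_ (rs_le _))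
  rw [← hp.sup_eq]
  exact (hT.syl.pi.sol Nat.prime_two).sup (sol_of_rs key) (inf_le_left.trans hCN)

/-- the structure theorem for an almost simple group, with the consequence needed -/
theorem typeG_rs (hL : AS L) (hG : TypeG (⊤ : Subgroup L)) (hQ : Syl 2 L Q) :
    ∃ Z, TZ L Q Z ∧ (Q = Z ∨ rs C[Z] = ⊥) := by
  obtain ⟨Z, h1, h2⟩ := hG.of_syl ((hall_subgroupOf_top hQ.le).2 hQ)
  have h3 := h1.map L.subtype_injective
  rw [map_subtype_top, map_subgroupOf' hQ.le] at h3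
  refine ⟨_, h3, ?_⟩
  rcases h2 with h2 | h2
  swap
  · exact Or.inl (by rw [← h2.eq, map_subgroupOf' hQ.le])
  have h4 := h2.map L.subtype_injective
  rw [map_subtype_top, map_subgroupOf' hQ.le] at h4
  haveI := hL.isSimpleGroup
  obtain ⟨t, ht, hc, hi⟩ := bender_facts hL.nab h1 h2
  have hN : ∀ A : Subgroup L, N[A].map L.subtype = L ⊓ N[A.map L.subtype] := fun A => by
    have := map_inf_N L.subtype_injective ⊤ A
    rwa [top_inf_eq, map_subtype_top] at this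
  have e : (N[Q.subgroupOf L] ⊓ N[cj t (Q.subgroupOf L)]).map L.subtype =
      L ⊓ (N[Q] ⊓ N[cj (t : G) Q]) := by
    rw [map_inf _ _ _ L.subtype_injective, hN, hN, map_cj, map_subgroupOf' hQ.le, ← inf_inf_distrib_left]
    rfl
  refine Or.inr (rs_eq_bot_of_ty1 hL h3 h4 t.2 (fun h => ht ?_) (e ▸ hc.map _) fun U k1 k2 k3 => ?_)
  · have : (t : G) ∈ N[Q.subgroupOf L].map L.subtype := by
      rw [hN, map_subgroupOf' hQ.le]; exact ⟨t.2, h⟩
    exact (mem_map_iff_mem L.subtype_injective).1 this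
  · have k4 := k2.trans hQ.le
    refine (hi (U.subgroupOf L) (map_le_iff_le_comap.1 k1) (comap_mono k2)
      (norm_of_map L.subtype_injective (by rwa [e, map_subgroupOf' k4]))).imp (fun h => ?_) fun h => ?_
    · rw [← h, map_subgroupOf' k4]
    · rw [← map_subgroupOf' k4, h, map_subgroupOf' hQ.le]

end PC
end H8
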