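import Mathlib
import Cfsg.Agent.H8.PC10

/-!
# Strongly closed abelian subgroups centralised by a perfect overgroup
-/

set_option autoImplicit false
set_option linter.unusedSectionVars false
set_option linter.unusedVariables false

namespace H8
namespace PC

open Cfsg H24 H26 H26.Gold Subgroup
open scoped commutatorElement

universe u

variable {G : Type u} [Group G] [Finite G] {𝒯 𝒰 𝒜 : Set G}
  {A B D E H J K L M N P Q R S T U V W X Y Z : Subgroup G} {a b c d e g k t u x y z : G}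

/-- `A` is a maximal `𝒜`-subgroup, central in the perfect group `H` -/
structure Ga (𝒜 : Set G) (A H : Subgroup G) : Prop where
  cl : Cl 𝒜
  two : TwoG A
  mem : ∀ a ∈ A, a ∈ 𝒜
  max : ∀ P, TwoG P → A ≤ P → ∀ x ∈ 𝒜, x ∈ P → x ∈ A
  le : A ≤ H
  cent : H ≤ C[A]
  perf : ⁅H, H⁆ = H

namespace Ga

theorem quo {X : Type u} [Group X] [Finite X] {f : J →* X} (h : Ga 𝒜 A H) (hf : Quo f R)
    (hH : H ≤ J) : Ga (im 𝒜 f) (img f A) (img f H) where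
  cl := hf.cl h.cl
  two := h.two.img f
  mem := fun y hy => by
    obtain ⟨x, hx, hJ, rfl⟩ := mem_img.1 hy
    exact mem_im (h.mem x hx) hJ
  max := by
    rintro E hE h1 _ ⟨x, hx, hJ, rfl⟩ h2
    obtain ⟨k, hk, P, hP, hPJ, h3, h4⟩ := hf.lift1 h.two (h.cl.two x hx) (h.le.trans hH) hJ hE h1 h2
    rw [← hf.ap_conj_ker hk hJ]
    exact ap_mem_img f (h.max P hP h3 _ (h.cl.conj x hx k) h4) (hPJ h4)
  le := img_mono f h.le
  cent := img_cent f h.cent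
  perf := by rw [← img_comm f hH hH, h.perf]

theorem conj_mem (h : Ga 𝒜 A H) (hP : TwoG P) :
    ∃ g : G, ∀ x ∈ 𝒜, x ∈ P → g * x * g⁻¹ ∈ A := by
  obtain ⟨S, hS, hAS⟩ := Sylow_superset Nat.prime_two h.two le_top
  obtain ⟨g, -, hg⟩ := Sylow_Jsub Nat.prime_two hS hP le_top
  exact ⟨g, fun x hx hxP => h.max S hS.pi hAS _ (h.cl.conj x hx g) (hg (conj_mem_cj g hxP))⟩

theorem comm (h : Ga 𝒜 A H) (hP : TwoG P) (hx : x ∈ 𝒜) (hy : y ∈ 𝒜) (h1 : x ∈ P) (h2 : y ∈ P) :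
    x * y = y * x := by
  obtain ⟨g, hg⟩ := h.conj_mem hP
  have := comm_of_cent (h.le.trans h.cent) (hg x hx h1) (hg y hy h2)
  calc x * y = g⁻¹ * (g * x * g⁻¹ * (g * y * g⁻¹)) * g := by group
    _ = _ := by rw [this]; group

theorem sc (h : Ga 𝒜 A H) : SC {d | d ∈ 𝒜 ∧ d ≠ 1 ∧ d * d = 1} := by
  refine ⟨fun d hd => hd.2.1, fun d hd => hd.2.2, fun d hd g => ⟨h.cl.conj d hd.1 g,
    by rw [Ne, conj_eq_one_iff']; exact hd.2.1, conj_sq hd.2.2 g⟩, fun d hd e he h2 => ?_⟩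
  have hn : zpowers d ≤ N[zpowers (d * e)] := zpowers_le.2 (mem_N_of_cj_le (by
    rw [cj_zpowers, zpowers_le]
    have : d * (d * e) * d⁻¹ = (d * e)⁻¹ := by
      rw [← mul_assoc, hd.2.2, one_mul, mul_inv_rev, H6.inv_eq_of_mul_self he.2.2]
    rw [this]; exact inv_mem (mem_zpowers _)))
  have h3 := h2.isPi.sup (twoE_of_sq hd.2.2).isPi hn
  have h4 : d ∈ zpowers (d * e) ⊔ zpowers d := mem_sup_right (mem_zpowers d)
  have h5 := (mul_mem_cancel_left h4).1 (mem_sup_left (mem_zpowers _))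
  have h6 := h.comm h3 hd.1 he.1 h4 h5
  refine or_iff_not_imp_left.2 fun h7 => ⟨h.cl.mul_of_comm hd.1 he.1 h6, h7, ?_⟩
  rw [mul_assoc, ← mul_assoc e, ← h6, mul_assoc, he.2.2, mul_one, hd.2.2]

theorem not_as (ih : ∀ n, IH.{u} n) (h : Ga 𝒜 A H) (hL : AS L) (ha : a ∈ A) (haL : a ∈ L)
    (ha1 : a ≠ 1) : False := by
  obtain ⟨d, hd, hd1⟩ := h.cl.exists_inv (h.mem a ha) ha1
  have hdL : d ∈ L := zpowers_le.2 haL hd
  obtain ⟨S, hS, hAS⟩ := Sylow_superset Nat.prime_two h.two le_top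
  have hQ := hS.inf_nml ⟨le_top, hL.nml⟩
  obtain ⟨Z, hT, h1⟩ := typeG_rs hL (ih _ L (Nat.lt_succ_self _) hL.isSimpleGroup hL.nab _
    (h.sc.sub L) ⟨⟨d, hdL⟩, hd1⟩) hQ
  have hZA : Z ≤ A := fun z hz => by
    by_cases hz1 : z = 1
    · rw [hz1]; exact one_mem _
    exact h.max S hS.pi hAS z (hT.mem_D h.sc hd1 hdL (hT.le hz).2 hz1 (hT.ea.sq hz)).1 (hT.le hz).1
  have hH : H ≤ C[Z] := h.cent.trans (C_anti hZA)
  suffices hs : H = ⊥ from ha1 (mem_bot.1 (hs ▸ h.le ha))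
  rcases h1 with e | e
  · obtain ⟨P, hP⟩ := Sylow_exists Nat.prime_two H
    have h2 := hL.le_of_cent hQ (e ▸ hT.ea.abl) hP.pi (e ▸ hP.le.trans hH)
    rw [e] at h2
    refine perfect_eq_bot h.perf (Sol.of_le ?_
      (le_sup_Od_of_cent hT.ea.two (hZA.trans h.le) hH (hP.idx_of_ge h2)))
    exact hT.ea.abl.sol.sup (Od_sol H) (norm_of_cent ((pcore_le _ _).trans hH))
  · exact eq_bot_of_le e (le_rs hH h.perf)

end Ga

theorem Quo.as {X : Type u} [Group X] [Finite X] {f : J →* X} (hf : Quo f (J ⊓ C[L])) (hL : L ⊴ J)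
    (hs : ∀ M, M ⊴ L → M = ⊥ ∨ M = L) (hna : ¬ Abl L) : AS (img f L) := by
  have hp : ⁅L, L⁆ = L := (hs _ (der1_nml L)).resolve_left fun e => hna (der1_eq_bot.1 e)
  refine ⟨hf.img_top ▸ img_norm f hL.norm, fun E hE => ?_, fun h => hna (abl_iff.2 ?_), ?_⟩
  · refine (hs _ (nml_inf_of_norm' (norm_pre hL.le hE.norm))).imp (fun e => ?_) fun e => ?_
    · rw [← hf.img_pre E, hf.eq_bot (pre_le _ _)]
      have h3 : pre f E ≤ L ⊔ (J ⊓ C[L]) := hf.pre_img hL.le ▸ pre_mono f hE.le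
      rw [← inf_eq_right.2 h3, ← group_modr (inf_le_right.trans (C_le_N L)) (hf.le_pre E),
        inf_comm L, e, bot_sup_eq]
    · exact le_antisymm hE.le ((img_le_iff hL.le).2 (e.ge.trans inf_le_left))
  · exact hp.ge.trans (((hf.comm_le hL.le hL.le).2 h.le_C).trans inf_le_right)
  · rw [← hf.img_pre C[img f L], hf.eq_bot (pre_le _ _)]
    have h2 : ⁅pre f C[img f L], L⁆ ≤ C[L] :=
      ((hf.comm_le (pre_le _ _) hL.le).2 (img_pre_le _ _)).trans inf_le_right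
    have h3 : ⁅⁅pre f C[img f L], L⁆, L⁆ = ⊥ := comm_eq_bot.2 h2
    have h4 := three_subgroup (A := L) (B := pre f C[img f L]) (K := L) (by rwa [commC L]) h3
    rw [hp, comm_eq_bot'] at h4
    exact le_inf (pre_le _ _) h4

theorem exists_simple_factor (hN : MinNml N ⊤) : ∃ L, L ⊴ N ∧ L ≠ ⊥ ∧
    (∀ M, M ⊴ L → M = ⊥ ∨ M = L) ∧ ∀ g, cj g L = L ∨ cj g L ⊓ L = ⊥ := by
  obtain ⟨L, hL, hLN⟩ := exists_minNml hN.ne_bot (norm_self N)
  have hcj : ∀ g, cj g N = N := fun g => cj_of_mem_N (hN.norm (mem_top g))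
  have hm : ∀ g, MinNml (cj g L) N := fun g => hcj g ▸ hL.cj g
  have hl : ∀ g, cj g L ⊴ N := fun g => ⟨hcj g ▸ cj_mono g hLN, (hm g).norm⟩
  have h1 : ∀ g, cj g L = L ∨ cj g L ⊓ L = ⊥ := fun g =>
    (((hm g).inf_eq_or hL.norm).imp_right fun e => hL.min _ e (hm g).ne_bot (hm g).norm).symm
  have hJ : (⨆ g, cj g L) = N := by
    refine hN.min _ (iSup_le fun g => (hl g).le) (ne_bot_of_le (hm 1).ne_bot (le_iSup (cj · L) 1))
      fun x _ => mem_N_of_le_cj (iSup_le fun g => le_cj_iff.2 ?_)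
    rw [← cj_mul]
    exact le_iSup (cj · L) _
  refine ⟨L, ⟨hLN, hL.norm⟩, hL.ne_bot, fun M hM => hL.eq_or hM.le ?_, h1⟩
  rw [← hJ]
  refine iSup_le fun g => ?_
  rcases h1 g with e | e
  · rw [e]; exact hM.norm
  · exact norm_of_cent ((cents_of_inf_eq_bot ((hl g).le.trans hL.norm) (hLN.trans (hl g).norm)
      e).trans (C_anti hM.le))

theorem ga_sol (ih : ∀ n, IH.{u} n) (n : ℕ) : ∀ (G : Type u) [Group G] [Finite G] (𝒜 : Set G)
    (A H : Subgroup G), Nat.card G < n → Ga 𝒜 A H → Sol (Og 𝒜 ⊤) := by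
  induction n with
  | zero => exact fun _ _ _ _ _ _ h => absurd h (Nat.not_lt_zero _)
  | succ n IH =>
  intro G _ _ 𝒜 A H hn h
  by_cases hR : ∃ R : Subgroup G, R ⊴ ⊤ ∧ R ≠ ⊥ ∧ Sol R
  · obtain ⟨R, h1, h2, h3⟩ := hR
    obtain ⟨X, _, _, f, hf⟩ := exists_quo h1
    have := IH X _ _ _ ((hf.card_lt (Or.inr h2)).trans_le (Nat.lt_succ_iff.1 hn)) (h.quo hf le_top)
    rw [hf.Og_top] at this
    exact sol_of_img le_top (by rw [hf.ker]; exact h3.of_le inf_le_left) this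
  have hR' : ∀ R : Subgroup G, R ⊴ ⊤ → Sol R → R = ⊥ := fun R h1 h2 => by
    by_contra h3
    exact hR ⟨R, h1, h3, h2⟩
  by_cases h0 : Og 𝒜 ⊤ = ⊥
  · rw [h0]; exact sol_bot
  exfalso
  obtain ⟨N, -, ⟨hN, hN1⟩, hmin⟩ := exists_min (P := fun N : Subgroup G => N ⊴ ⊤ ∧ Og 𝒜 N ≠ ⊥)
    ⟨Nml.refl ⊤, h0⟩
  have e : Og 𝒜 N = N := hmin _ ⟨⟨le_top, h.cl.norm_Og hN.norm⟩, by rwa [Og_Og]⟩ (Og_le _ _)
  have hO := hR' _ (pcore_nml {2}ᶜ ⊤) (Od_sol _)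
  have hZ : N ⊓ C[N] = ⊥ := hR' _ hN.center (abl_center N).sol
  have key : ∀ R, R ⊴ N → R ≠ ⊥ → Og 𝒜 R ≠ ⊥ := fun R hR h1 h2 => by
    have := zl0' h.cl (Og_eq_bot.1 h2) hR.norm
    rw [Od_nml_eq_bot (Od_nml_eq_bot hO hN) hR, e, le_bot_iff, comm_eq_bot'] at this
    exact h1 (eq_bot_of_le hZ (le_inf hR.le this))
  obtain ⟨L, hL, hL1, hs, hc⟩ := exists_simple_factor ⟨ne_bot_of_le hN1 (Og_le _ _), hN.norm,
    fun W h1 h2 h3 => hmin W ⟨⟨le_top, h3⟩, key W ⟨h1, le_top.trans h3⟩ h2⟩ h1⟩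
  have hna : ¬ Abl L := fun ha => hL1 (eq_bot_of_le
    (hR' _ (hN.Fitting) (Fitting_nil N).sol) (Fitting_max hL ha.nil))
  obtain ⟨t, ht, htL, ht1, -⟩ := h.cl.exists_of_Og_ne (key L hL hL1)
  obtain ⟨S, hS, hAS⟩ := Sylow_superset Nat.prime_two h.two le_top
  obtain ⟨m, hm, hmS⟩ := exists_conj_syl hS hN (h.cl.two t ht) (hL.le htL)
  have ha := h.max S hS.pi hAS _ (h.cl.conj t ht m) hmS
  have haL := hL.conj_mem hm htL
  have ha1 : m * t * m⁻¹ ≠ 1 := by rwa [Ne, conj_eq_one_iff']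
  set a := m * t * m⁻¹
  have hHL : H ≤ N[L] := fun g hg => mem_N_iff_cj.2 ((hc g).resolve_right fun e' => ha1 (by
    have h1 := conj_mem_cj g haL
    rw [conj_eq_of_mem_C (h.cent hg) ha] at h1
    exact mem_bot.1 (e' ▸ mem_inf.2 ⟨h1, haL⟩)))
  have hLJ : L ⊴ L ⊔ H := nml_sup_left hHL
  obtain ⟨X, _, _, f, hf⟩ := exists_quo hLJ.infC
  refine (h.quo hf le_sup_right).not_as ih (hf.as hLJ hs hna) (ap_mem_img f ha (hLJ.le haL))
    (ap_mem_img f haL (hLJ.le haL)) fun e' => ha1 ?_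
  have h1 := ((hf.eq_one (hLJ.le haL)).1 e').2
  rcases hs _ (center_nml L) with e2 | e2
  · exact mem_bot.1 (e2 ▸ mem_inf.2 ⟨haL, h1⟩)
  · exact absurd (abl_iff.2 (e2.ge.trans inf_le_right)) hna

theorem Ga.nml (ih : ∀ n, IH.{u} n) (h : Ga 𝒜 A H) (hO : Od[(⊤ : Subgroup G)] = ⊥) : A ⊴ ⊤ := by
  have hs := ga_sol ih _ G 𝒜 A H (Nat.lt_succ_self _) h
  set M := Og 𝒜 ⊤ with hM
  have hn : M ⊴ ⊤ := h.cl.Og_nml ⊤
  have hQn : O[{2}, M] ⊴ ⊤ := hn.pcore _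
  have hQ2 : TwoG O[{2}, M] := pcore_pi _ _
  have hc := cent_sub_pcore Nat.prime_two hs (Od_nml_eq_bot hO hn)
  set Q := O[{2}, M]
  have hB : ⊤ ≤ N[Og 𝒜 Q] := h.cl.norm_Og hQn.norm
  have hx2 : ∀ x ∈ 𝒜, TwoG (Q ⊔ zpowers x) := fun x hx =>
    hQ2.sup (h.cl.two x hx).isPi (le_top.trans hQn.norm)
  have h1 : M ≤ C[Og 𝒜 Q] := Og_cent fun x hx y hy _ hyQ =>
    h.comm (hx2 x hx) hx hy (mem_sup_right (mem_zpowers x)) (mem_sup_left hyQ)
  have h2 : M ≤ centQ Q (Og 𝒜 Q) := Og_le_iff.2 fun x hx _ =>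
    (mem_centQ (le_top.trans hB)).2 ⟨hB (mem_top x), fun q hq => mem_Og (by
      have hxm : x ∈ Q ⊔ zpowers x := mem_sup_right (mem_zpowers x)
      have := h.cl.mul _ (hx2 x hx) _ hx _ (h.cl.conj _ (h.cl.inv hx) q) hxm
        (mul_mem (mul_mem (mem_sup_left hq) (inv_mem hxm)) (inv_mem (mem_sup_left hq)))
      simpa [commutatorElement_def, mul_assoc] using this) (by
      rw [commutatorElement_def]
      exact Q.mul_mem (H24.conj_mem (hQn.norm (mem_top x)) hq) (Q.inv_mem hq))⟩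
  have h3 : TwoG M := isPi_iff_piElt.2 fun x hx => by
    have hy := piElt_constt {2}ᶜ x
    have hyM := constt_mem {2}ᶜ hx
    have h4 := stable_factor_cent (zpowers_le.2 (h1 hyM))
      (by rw [commC]; exact ((le_centQ (le_top.trans hB)).1 (zpowers_le.2 (h2 hyM))).2)
      (Og_le _ _) (cop hy.isPi (hQ2.of_le (Og_le _ _))).symm (Or.inr (abl_zpowers _).sol)
    have h5 := (hQ2.piElt (hc ⟨hyM, h4 (mem_zpowers _)⟩)).eq_one hy
    rwa [constt_eq_one_iff, compl_compl] at h5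
  have h4 : A ≤ M := fun a ha => mem_Og (h.mem a ha) (mem_top a)
  rwa [le_antisymm h4 (Og_le_iff.2 fun x hx _ => h.max M h3 h4 x hx (mem_Og hx (mem_top x)))]

theorem Quo.pr' {X : Type u} [Group X] [Finite X] {f : H →* X} (h : Quo f R) (hl : Cl 𝒯) (hr : Cl 𝒰)
    (hc : ∀ P : Subgroup G, TwoG P → ∀ x ∈ 𝒯, ∀ y ∈ 𝒰, x ∈ P → y ∈ P → x * y = y * x)
    (hd : ∀ P : Subgroup G, TwoG P → P ≤ H → ∀ x ∈ 𝒯, ∀ y ∈ 𝒰, x ∈ P → y ∈ P → x⁻¹ * y ∈ R →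
      x ∈ R) : Pr (im 𝒯 f) (im 𝒰 f) where
  l := h.cl hl
  r := h.cl hr
  comm := by
    rintro E hE _ ⟨x, hx, hH, rfl⟩ _ ⟨y, hy, hH', rfl⟩ h1 h2
    obtain ⟨k, hk, P, h2P, hPH, h3, h4⟩ := h.lift2 (hl.two x hx) (hr.two y hy) hH hH' hE h1 h2
    rw [← h.ap_conj_ker hk hH', ← ap_mul f hH (hPH h4), ← ap_mul f (hPH h4) hH,
      hc P h2P x hx _ (hr.conj y hy k) h3 h4]
  disj := by
    rintro _ ⟨x, hx, hH, rfl⟩ ⟨y, hy, hH', e⟩
    obtain ⟨k, hk, P, h2P, hPH, h3, h4⟩ := h.lift2 (hl.two x hx) (hr.two y hy) hH hH'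
      ((hl.two x hx).ap f hH).isPi (mem_zpowers _) (e ▸ mem_zpowers _)
    exact h.ap_ker (hd P h2P hPH x hx _ (hr.conj y hy k) h3 h4
      ((h.eq_iff hH (hPH h4)).1 (by rw [h.ap_conj_ker hk hH', e])))

theorem cls_max (hS : Syl 2 ⊤ S) (hA : IsStronglyClosed A S) (hP : TwoG P) (h : A ≤ P)
    (hx : x ∈ cls A) (hxP : x ∈ P) : x ∈ A := by
  obtain ⟨g, -, hg⟩ := Sylow_Jsub Nat.prime_two hS hP le_top
  have h1 : g ∈ N[A] := mem_N_of_finite fun a ha => hA.2 a ha g (hg (conj_mem_cj g (h ha)))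
  exact (conj_mem_iff h1).1 (mem_of_cls hA (cls_conj hx g) (hg (conj_mem_cj g hxP)))

/-- **Goldschmidt**: `C(T)^∞` is normal -/
theorem rs_cent_nml (bh : BH.{u}) (ih : ∀ n, IH.{u} n) (hO : Od[(⊤ : Subgroup G)] = ⊥)
    (hS : Syl 2 ⊤ S) (hT : IsStronglyClosed T S) : rs C[T] ⊴ ⊤ := by
  have hR := stronglyClosed_rs hS hT
  have hRs : Syl 2 (rs C[T]) (S ⊓ rs C[T]) := by
    have := syl_rs (cl_cls hS hT) hS; rwa [Og_cls hT] at this
  set H := rs C[T] with hH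
  set R := S ⊓ H with hRd
  have hHT : H ≤ C[T] := rs_le _
  have hA : IsStronglyClosed (R ⊓ T) S :=
    ⟨inf_le_right.trans hT.1, fun x hx g hg => ⟨hR.2 x hx.1 g hg, hT.2 x hx.2 g hg⟩⟩
  have hA2 : TwoG (R ⊓ T) := hS.pi.of_le hA.1
  have hAn : R ⊓ T ⊴ ⊤ := Ga.nml ih (H := H) ⟨cl_cls hS hA, hA2, fun a ha => mem_cls ha,
    fun P hP h x hx hxP => cls_max hS hA hP h hx hxP, inf_le_left.trans inf_le_right,
    hHT.trans (C_anti inf_le_right), rs_perf _⟩ hO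
  set A := R ⊓ T with hAd
  obtain ⟨X, _, _, f, hf⟩ := exists_quo hAn
  have cT := cl_cls hS hT
  have cR := cl_cls hS hR
  have hP := hf.pr' cR cT (fun P hP x hx y hy h1 h2 => by
    obtain ⟨g, -, hg⟩ := Sylow_Jsub Nat.prime_two hS hP le_top
    have := comm_of_cent hHT (mem_of_cls hR (cls_conj hx g) (hg (conj_mem_cj g h1))).2
      (mem_of_cls hT (cls_conj hy g) (hg (conj_mem_cj g h2)))
    calc x * y = g⁻¹ * (g * x * g⁻¹ * (g * y * g⁻¹)) * g := by group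
      _ = _ := by rw [this]; group) fun P hP _ x hx y hy h1 h2 h3 => by
    obtain ⟨g, -, hg⟩ := Sylow_Jsub Nat.prime_two hS hP le_top
    have h4 := cT.mul P hP _ hy _ (cT.inv (mem_cls h3.2)) h2 (inv_mem (mul_mem (inv_mem h1) h2))
    rw [mul_inv_rev, mul_inv_cancel_left, inv_inv] at h4
    exact (conj_mem_iff (hAn.norm (mem_top g))).1
      ⟨mem_of_cls hR (cls_conj hx g) (hg (conj_mem_cj g h1)),
        mem_of_cls hT (cls_conj h4 g) (hg (conj_mem_cj g h1))⟩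
  have h1 := (pcat bh _).quo hf (Nat.lt_succ_self _) hP
  set L := Og (cls R) ⊤ with hL
  set M := Og (cls T) ⊤ with hM
  have hLn : L ⊴ ⊤ := cR.Og_nml ⊤
  have hCn : C[A] ⊴ ⊤ := ⟨le_top, norm_C hAn.norm⟩
  have hLA : L ≤ C[A] := Og_le_iff.2 fun x ⟨g, hg⟩ _ =>
    (conj_mem_iff (hCn.norm (mem_top g))).1 (C_anti inf_le_right (hHT hg.2))
  have hYn : pre f Od[⊤] ⊓ C[A] ⊴ ⊤ := (hf.pre_nml_top (pcore_nml _ _).norm).inf hCn
  have h2 : pre f Od[⊤] ⊓ C[A] ≤ A := by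
    have := le_sup_Od_of_cent hA2 (le_inf (hf.le_pre Od[⊤])
      (((inf_le_left.trans inf_le_right).trans hHT).trans (C_anti inf_le_right))) inf_le_right
      (PiNat.dvd (by rw [hf.idx_pre]; exact Od_odd _) (relIndex_dvd_of_nml
        (hAn.of_le (hf.le_pre Od[⊤]) le_top) inf_le_left))
    rwa [Od_nml_eq_bot hO hYn, sup_bot_eq] at this
  have h3 : ⁅L, M⁆ ≤ A := (le_inf h1 ((comm_le_left (le_top.trans hLn.norm)).trans hLA)).trans h2
  have h4 : ⁅⁅L, M⁆, L⁆ = ⊥ := comm_eq_bot'.2 (hLA.trans (C_anti h3))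
  have h5 := three_subgroup (A := L) (B := M) (K := L) h4 (by rwa [commC M])
  have h6 : rs L ≤ H := le_rs ((rs_perf L).ge.trans ((der1_mono (rs_le L)).trans
    ((comm_eq_bot.1 h5).trans (C_anti (le_Og_cls le_top))))) (rs_perf L)
  have h7 : H ≤ L := perfect_le_of_two (rs_perf _) (le_top.trans hLn.norm) fun x hx h2 => by
    obtain ⟨n, -, hn⟩ := exists_conj_syl hRs (Nml.refl _) h2 hx
    exact mem_Og ⟨n, hn⟩ (mem_top x)
  rw [le_antisymm (le_rs h7 (rs_perf _)) h6]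
  exact ⟨le_top, norm_rs hLn.norm⟩

end PC
end H8
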