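import Mathlib
import Cfsg.Agent.H8.PC8
import Cfsg.Agent.H26.GBender
import Cfsg.Agent.S1174

/-!
# The input from Bender's theorem; the unconditional product theorem
-/

set_option autoImplicit false

namespace H8
namespace PC

open Cfsg H24 H26 H26.Gold Subgroup

universe u

theorem bh : BH.{u} := by
  intro X _ _ hs hna 𝒯 S M hT hS h1 hM hc
  have hcl := hT.stronglyClosed hS.pi
  obtain ⟨P, rfl⟩ := hS.exists_sylow_top Nat.prime_two
  obtain ⟨H, hH⟩ := Cfsg.Agent.S1174.result P _ h1 hcl fun e => hM (top_le_iff.1 (e ▸ iSup_le fun t =>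
    hc t ((hT.mem_Og_two hS.pi).1 t.2.1).2 (Og_le _ _ t.2.1) (H6.ne_one_of_orderOf_two t.2.2)
      (H6.mul_self_of_orderOf_two t.2.2)))
  exact ty1_of_stronglyEmbedded hna hH

/-- **Goldschmidt's product theorem** -/
theorem comm_le_oddCore' {G : Type u} [Group G] [Finite G] (S : Sylow 2 G) {T U : Subgroup G}
    (hT : IsStronglyClosed T (S : Subgroup G)) (hU : IsStronglyClosed U (S : Subgroup G))
    (hc : ∀ a ∈ T, ∀ b ∈ U, a * b = b * a) (hd : T ⊓ U = ⊥) :
    ⁅normalClosure (T : Set G), normalClosure (U : Set G)⁆ ≤ oddCore G :=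
  comm_le_oddCore bh (syl_top_of_sylow Nat.prime_two S) hT hU (le_C_iff.2 hc) hd

end PC
end H8
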