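import Mathlib
import Cfsg.Agent.H12.NGDefs
import Cfsg.Agent.H2.MinNormal

/-! Coprime triples and minimal simple sections. -/

set_option autoImplicit false
open Cfsg

namespace H8.NG
universe u

/-- a triple of non-trivial elements of pairwise coprime orders with product one -/
def Tri (G : Type*) [Group G] : Prop :=
  ∃ a b c : G, a ≠ 1 ∧ b ≠ 1 ∧ c ≠ 1 ∧ (orderOf a).Coprime (orderOf b) ∧
    (orderOf b).Coprime (orderOf c) ∧ (orderOf a).Coprime (orderOf c) ∧ a * b * c = 1

variable {G : Type*} [Group G]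

theorem eq_one_of_pow_coprime {a : G} {l m : ℕ} (h : l.Coprime m) (h1 : a ^ l = 1)
    (h2 : a ^ m = 1) : a = 1 := by
  have := Nat.dvd_gcd (orderOf_dvd_of_pow_eq_one h1) (orderOf_dvd_of_pow_eq_one h2)
  rw [h, Nat.dvd_one, orderOf_eq_one_iff] at this
  exact this

theorem tri_of_rel {a b : G} {l m n : ℕ} (hlm : l.Coprime m) (hmn : m.Coprime n)
    (hln : l.Coprime n) (ha : a ^ l = 1) (hb : b ^ m = 1) (hab : (a * b) ^ n = 1)
    (h1 : a ≠ 1) : Tri G := by
  have hc : orderOf (a * b)⁻¹ ∣ n := by rw [orderOf_inv]; exact orderOf_dvd_of_pow_eq_one hab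
  have ha' := orderOf_dvd_of_pow_eq_one ha
  have hb' := orderOf_dvd_of_pow_eq_one hb
  refine ⟨a, b, (a * b)⁻¹, h1, ?_, ?_, Nat.Coprime.coprime_dvd_left ha' (hlm.coprime_dvd_right hb'),
    Nat.Coprime.coprime_dvd_left hb' (hmn.coprime_dvd_right hc),
    Nat.Coprime.coprime_dvd_left ha' (hln.coprime_dvd_right hc), mul_inv_cancel _⟩
  · rintro rfl
    exact h1 (eq_one_of_pow_coprime hln ha (by simpa using hab))
  · intro h
    have : b = a⁻¹ := eq_inv_of_mul_eq_one_right (inv_eq_one.1 h)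
    subst this
    exact h1 (eq_one_of_pow_coprime hlm ha (by simpa using hb))

theorem mem_commutator_of_rel {a b : G} {l m n : ℕ} (hlm : l.Coprime m) (hmn : m.Coprime n)
    (hln : l.Coprime n) (ha : a ^ l = 1) (hb : b ^ m = 1) (hab : (a * b) ^ n = 1) :
    a ∈ commutator G ∧ b ∈ commutator G := by
  let f : G →* Abelianization G := Abelianization.of
  have h1 : f a ^ l = 1 := by rw [← map_pow, ha, map_one]
  have h2 : f b ^ m = 1 := by rw [← map_pow, hb, map_one]
  have h3 : f a ^ n * f b ^ n = 1 := by rw [← mul_pow, ← map_mul, ← map_pow, hab, map_one]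
  have h4 : f a ^ (n * m) = 1 := by
    have := congrArg (· ^ m) h3
    simp only [mul_pow, one_pow, ← pow_mul] at this
    rwa [mul_comm n m, pow_mul (f b), h2, one_pow, mul_one, mul_comm m n] at this
  have h5 : f a = 1 := eq_one_of_pow_coprime (Nat.Coprime.mul_right hln hlm) h1 h4
  have h6 : f b = 1 := eq_one_of_pow_coprime hmn h2 (by simpa [h5] using h3)
  rw [← Abelianization.ker_of]
  exact ⟨h5, h6⟩

theorem Tri.not_solvable (h : Tri G) : ¬ Group.IsSolvable G := by
  obtain ⟨a, b, c, ha, -, -, hab, hbc, hac, h⟩ := h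
  have hc : (a * b) ^ orderOf c = 1 := by
    rw [eq_inv_of_mul_eq_one_left h, inv_pow, pow_orderOf_eq_one, inv_one]
  have key : ∀ k, a ∈ derivedSeries G k ∧ b ∈ derivedSeries G k := by
    intro k
    induction k with
    | zero => simp
    | succ k ih =>
      have := mem_commutator_of_rel (G := derivedSeries G k) (a := ⟨a, ih.1⟩) (b := ⟨b, ih.2⟩)
        hab hbc hac (Subtype.ext (pow_orderOf_eq_one a)) (Subtype.ext (pow_orderOf_eq_one b))
        (Subtype.ext hc)
      rw [derivedSeries_succ, ← Subgroup.map_subtype_commutator]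
      exact ⟨⟨_, this.1, rfl⟩, ⟨_, this.2, rfl⟩⟩
  rintro ⟨k, hk⟩
  have := (key k).1
  rw [hk] at this
  exact ha this

theorem Tri.of_injective {H : Type*} [Group H] (h : Tri H) (f : H →* G)
    (hf : Function.Injective f) : Tri G := by
  obtain ⟨a, b, c, ha, hb, hc, hab, hbc, hac, h⟩ := h
  refine ⟨f a, f b, f c, ?_, ?_, ?_, ?_, ?_, ?_, by rw [← map_mul, ← map_mul, h, map_one]⟩
  · simpa [map_eq_one_iff f hf] using ha
  · simpa [map_eq_one_iff f hf] using hb
  · simpa [map_eq_one_iff f hf] using hc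
  all_goals simpa [orderOf_injective f hf]

theorem Tri.of_equiv {H : Type*} [Group H] (h : Tri H) (e : G ≃* H) : Tri G :=
  h.of_injective e.symm.toMonoidHom e.symm.injective

/-- lifting an element of order prime to `p` through a normal `p`-subgroup -/
theorem exists_lift [Finite G] {V : Subgroup G} [V.Normal] {p : ℕ} (hV : IsPGroup p V)
    (x : G ⧸ V) (hx : (orderOf x).Coprime p) :
    ∃ a : G, (a : G ⧸ V) = x ∧ a ^ orderOf x = 1 := by
  obtain ⟨a, rfl⟩ := QuotientGroup.mk_surjective x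
  have h1 : a ^ orderOf (a : G ⧸ V) ∈ V := by
    rw [← QuotientGroup.eq_one_iff, QuotientGroup.mk_pow, pow_orderOf_eq_one]
  obtain ⟨k, hk⟩ := hV ⟨_, h1⟩
  have hk' : (a ^ orderOf (a : G ⧸ V)) ^ p ^ k = 1 := congrArg Subtype.val hk
  obtain ⟨e, he1, he2⟩ := Nat.chineseRemainder (hx.pow_right k) 1 0
  refine ⟨a ^ e, ?_, ?_⟩
  · rw [QuotientGroup.mk_pow, pow_eq_pow_iff_modEq.2 he1, pow_one]
  · obtain ⟨j, rfl⟩ := (Nat.modEq_zero_iff_dvd.1 he2)
    rw [← pow_mul, show p ^ k * j * orderOf (a : G ⧸ V) = orderOf (a : G ⧸ V) * p ^ k * j by ring,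
      pow_mul, pow_mul, hk', one_pow]

theorem tri_lift_aux [Finite G] {V : Subgroup G} [V.Normal] {p : ℕ} (hV : IsPGroup p V)
    {a b c : G ⧸ V} (ha : a ≠ 1) (hab : (orderOf a).Coprime (orderOf b))
    (hbc : (orderOf b).Coprime (orderOf c)) (hac : (orderOf a).Coprime (orderOf c))
    (h : a * b * c = 1) (hap : (orderOf a).Coprime p) (hbp : (orderOf b).Coprime p) : Tri G := by
  obtain ⟨x, hx, hx'⟩ := exists_lift hV a hap
  obtain ⟨y, hy, hy'⟩ := exists_lift hV b hbp
  have h1 : (x * y) ^ orderOf c ∈ V := by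
    rw [← QuotientGroup.eq_one_iff, QuotientGroup.mk_pow, QuotientGroup.mk_mul, hx, hy,
      eq_inv_of_mul_eq_one_left h, inv_pow, pow_orderOf_eq_one, inv_one]
  obtain ⟨k, hk⟩ := hV ⟨_, h1⟩
  have hk' : (x * y) ^ (orderOf c * p ^ k) = 1 := by
    rw [pow_mul]; exact congrArg Subtype.val hk
  refine tri_of_rel hab (hbc.mul_right (hbp.pow_right k)) (hac.mul_right (hap.pow_right k))
    hx' hy' hk' ?_
  rintro rfl
  exact ha (hx ▸ rfl)

theorem Tri.lift [Finite G] {V : Subgroup G} [V.Normal] {p : ℕ} (hp : p.Prime)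
    (hV : IsPGroup p V) (h : Tri (G ⧸ V)) : Tri G := by
  obtain ⟨a, b, c, ha, hb, hc, hab, hbc, hac, h⟩ := h
  have h2 : b * c * a = 1 := by
    rw [mul_assoc] at h; exact mul_eq_one_comm.1 h
  have h3 : c * a * b = 1 := by
    rw [mul_assoc]; exact mul_eq_one_comm.1 h
  have cop : ∀ n : ℕ, ¬ p ∣ n → n.Coprime p := fun n hn => (hp.coprime_iff_not_dvd.2 hn).symm
  have nd : ∀ {m n : ℕ}, m.Coprime n → p ∣ m → ¬ p ∣ n := fun hmn hm hn =>
    hp.one_lt.ne' (Nat.eq_one_of_dvd_coprimes hmn hm hn)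
  by_cases h1 : p ∣ orderOf a
  · exact tri_lift_aux hV hb hbc hac.symm hab.symm h2 (cop _ (nd hab h1)) (cop _ (nd hac h1))
  by_cases h4 : p ∣ orderOf b
  · exact tri_lift_aux hV hc hac.symm hab hbc.symm h3 (cop _ (nd hbc h4)) (cop _ h1)
  · exact tri_lift_aux hV ha hab hbc hac h (cop _ h1) (cop _ h4)

theorem tri_of_min (HT : ∀ (X : Type u) [Group X] [Finite X], IsMinimalSimple X → Tri X)
    (n : ℕ) : ∀ (X : Type u) [Group X] [Finite X], Nat.card X = n → ¬ Group.IsSolvable X →
      Tri X := by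
  induction n using Nat.strong_induction_on with
  | _ n ih =>
    intro X _ _ hn hX
    by_cases h1 : ∃ H : Subgroup X, H ≠ ⊤ ∧ ¬ Group.IsSolvable H
    · obtain ⟨H, hH, hs⟩ := h1
      have : Nat.card H < n := by
        rw [← hn]
        exact lt_of_le_of_ne H.card_le_card_group fun e => hH (H.eq_top_of_card_eq e)
      exact (ih _ this H rfl hs).of_injective H.subtype H.subtype_injective
    push Not at h1
    by_cases h2 : ∀ N : Subgroup X, N.Normal → N = ⊥ ∨ N = ⊤
    · have : Nontrivial X := by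
        by_contra h
        rw [not_nontrivial_iff_subsingleton] at h
        exact hX inferInstance
      refine HT X ⟨⟨h2⟩, fun h => hX ?_, h1⟩
      exact isSolvable_of_comm fun a b => h.1.1 a b
    push Not at h2
    obtain ⟨N, hN, hb, ht⟩ := h2
    obtain ⟨M, p, hp, hM, -, -, hMp, -⟩ :=
      H2.exists_elementary_abelian_normal_le hN (h1 N ht) hb
    have := hM.1
    have : Fact p.Prime := ⟨hp⟩
    have hs : ¬ Group.IsSolvable (X ⧸ M) := fun h =>
      hX (H2.isSolvable_of_normal_quotient M (by have := hMp.isNilpotent; infer_instance) h)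
    refine Tri.lift hp hMp (ih _ ?_ (X ⧸ M) rfl hs)
    rw [← hn, Subgroup.card_eq_card_quotient_mul_card_subgroup M]
    have h3 : 1 < Nat.card M := (Subgroup.one_lt_card_iff_ne_bot M).2 hM.2.1
    have h4 : 0 < Nat.card (X ⧸ M) := Nat.card_pos
    nlinarith

theorem exists_minSimple [Finite G] (h : ¬ Group.IsSolvable G) :
    ∃ (H : Subgroup G) (N : Subgroup H) (_ : N.Normal), IsMinimalSimple (H ⧸ N) := by
  obtain ⟨H, hH, hmin⟩ := (wellFounded_lt (α := Subgroup G)).has_min
    {H : Subgroup G | ¬ Group.IsSolvable H} ⟨⊤, fun h' => h (H2.isSolvable_top_iff.1 h')⟩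
  have hH' : ¬ Group.IsSolvable H := hH
  have hsub : ∀ K : Subgroup H, K ≠ ⊤ → Group.IsSolvable K := by
    intro K hK
    by_contra hs
    refine hmin (K.map H.subtype) (fun h' => hs (H2.isSolvable_of_map_subtype h')) ?_
    refine lt_of_le_of_ne (Subgroup.map_subtype_le K) fun e => hK ?_
    rw [eq_top_iff]
    intro x _
    have : (x : G) ∈ K.map H.subtype := by rw [e]; exact x.2
    obtain ⟨y, hy, hy'⟩ := this
    exact (Subtype.ext hy' : y = x) ▸ hy
  have hbt : (⊥ : Subgroup H) ≠ ⊤ := by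
    intro e
    have : Subsingleton H := Subgroup.subsingleton_iff.1 (subsingleton_iff_bot_eq_top.1 e)
    exact hH' inferInstance
  obtain ⟨N, ⟨hN, hNt⟩, hmax⟩ := (wellFounded_gt (α := Subgroup H)).has_min
    {N : Subgroup H | N.Normal ∧ N ≠ ⊤} ⟨⊥, inferInstance, hbt⟩
  have hq : ¬ Group.IsSolvable (H ⧸ N) := fun h' =>
    hH' (H2.isSolvable_of_normal_quotient N (hsub N hNt) h')
  have hc : ∀ K : Subgroup (H ⧸ N), K ≠ ⊤ → K.comap (QuotientGroup.mk' N) ≠ ⊤ := by
    intro K hK e
    rw [← H2.map_comap_mk' N K, e] at hK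
    exact hK (Subgroup.map_top_of_surjective _ (QuotientGroup.mk'_surjective N))
  refine ⟨H, N, hN, ?_, fun h' => hq (isSolvable_of_comm fun a b => h'.1.1 a b), ?_⟩
  · have : Nontrivial (H ⧸ N) := by
      by_contra h
      rw [not_nontrivial_iff_subsingleton] at h
      exact hq inferInstance
    refine ⟨fun K hK => ?_⟩
    by_contra hne
    push Not at hne
    refine hmax (K.comap (QuotientGroup.mk' N)) ⟨inferInstance, hc K hne.2⟩ ?_
    refine lt_of_le_of_ne (H2.le_comap_mk' N K) fun e => hne.1 ?_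
    rw [← H2.map_comap_mk' N K, ← e, H2.map_mk'_eq_bot_iff]
  · intro K hK
    rw [← H2.map_comap_mk' N K]
    exact H2.isSolvable_map (hsub _ (hc K hK)) _

theorem IsMinimalSimple.congr {H : Type*} [Group H] (h : IsMinimalSimple G) (e : G ≃* H) :
    IsMinimalSimple H := by
  obtain ⟨h1, h2, h3⟩ := h
  refine ⟨e.symm.isSimpleGroup, fun h => h2 ⟨⟨fun a b => e.injective ?_⟩⟩, fun K hK => ?_⟩
  · rw [map_mul, map_mul, h.1.1]
  · have : K = (K.comap e.toMonoidHom).map e.toMonoidHom :=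
      (Subgroup.map_comap_eq_self_of_surjective e.surjective K).symm
    rw [this]
    refine H2.isSolvable_map (h3 _ fun h => hK ?_) _
    rw [this, h]
    exact Subgroup.map_top_of_surjective _ e.surjective

theorem not_solvable_of_simple [IsSimpleGroup G] (h : ¬ IsMulCommutative G) :
    ¬ Group.IsSolvable G := fun h' =>
  h ⟨⟨IsSimpleGroup.comm_iff_isSolvable.2 h'⟩⟩

theorem IsMinimalSimple.not_solvable (h : IsMinimalSimple G) : ¬ Group.IsSolvable G :=
  have := h.1
  not_solvable_of_simple h.2.1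

/-- the normaliser of a non-trivial solvable subgroup of a non-abelian simple group is proper -/
theorem normalizer_ne_top [IsSimpleGroup G] (h : ¬ IsMulCommutative G) {T : Subgroup G}
    (hT : Group.IsSolvable T) (h1 : T ≠ ⊥) : Subgroup.normalizer (T : Set G) ≠ ⊤ := by
  intro e
  have hn : T.Normal := Subgroup.normalizer_eq_top_iff.1 e
  rcases hn.eq_bot_or_eq_top with h2 | h2
  · exact h1 h2
  · subst h2
    exact not_solvable_of_simple h (H2.isSolvable_top_iff.1 hT)

theorem IsMinimalSimple.sol2 {X : Type u} [Group X] [Finite X] (h : IsMinimalSimple X) :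
    H12.NG.Sol2 X := by
  rintro N ⟨T, hT, h1, rfl⟩
  have := h.1
  have := hT.isNilpotent
  exact h.2.2 _ (normalizer_ne_top h.2.1 inferInstance h1)

theorem not_min_of_rel {a b : G} {l m n : ℕ} (hlm : l.Coprime m) (hmn : m.Coprime n)
    (hln : l.Coprime n) (ha : a ^ l = 1) (hb : b ^ m = 1) (hab : (a * b) ^ n = 1)
    (h1 : a ≠ 1) (H : Subgroup G) (haH : a ∈ H) (hbH : b ∈ H) (hH : H ≠ ⊤) :
    ¬ IsMinimalSimple G := fun h =>
  (tri_of_rel (G := H) (a := ⟨a, haH⟩) (b := ⟨b, hbH⟩) hlm hmn hln (Subtype.ext ha)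
    (Subtype.ext hb) (Subtype.ext hab) fun e => h1 (congrArg Subtype.val e)).not_solvable
    (h.2.2 H hH)

/-- a non-trivial element with non-solvable centraliser -/
def BigC (G : Type*) [Group G] : Prop :=
  ∃ y : G, y ≠ 1 ∧ ¬ Group.IsSolvable (Subgroup.centralizer ({y} : Set G))

theorem BigC.of_equiv {H : Type*} [Group H] (h : BigC H) (e : G ≃* H) : BigC G := by
  obtain ⟨y, hy, hs⟩ := h
  refine ⟨e.symm y, by simpa using hy, fun h => hs ?_⟩
  refine H2.isSolvable_of_le (H2.isSolvable_map h e.toMonoidHom) fun g hg => ⟨e.symm g, ?_, by simp⟩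
  rw [SetLike.mem_coe, Subgroup.mem_centralizer_singleton_iff] at *
  rw [← map_mul, hg, map_mul]

theorem BigC.not_nGroup [Finite G] (h : BigC G) : ¬ IsNGroup G := by
  obtain ⟨y, hy, hs⟩ := h
  intro hN
  obtain ⟨x, hx, hp⟩ := H2.exists_mem_prime_orderOf (H := Subgroup.zpowers y)
    (by simpa using hy)
  have : Fact (orderOf x).Prime := ⟨hp⟩
  have h1 := hN _ ⟨orderOf x, Subgroup.zpowers x, hp,
    IsPGroup.of_card (n := 1) (by simp), by
      rw [Ne, Subgroup.zpowers_eq_bot]; rintro rfl; simp at hp; exact Nat.not_prime_one hp, rfl⟩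
  refine hs (H2.isSolvable_of_le h1 ?_)
  refine le_trans ?_ (Subgroup.centralizer_le_normalizer _)
  intro g hg z hz
  obtain ⟨k, rfl⟩ := hx
  obtain ⟨j, rfl⟩ := hz
  rw [Subgroup.mem_centralizer_singleton_iff] at hg
  exact (((Commute.symm hg).zpow_left k).zpow_left j)

theorem IsMinimalSimple.nGroup [Finite G] (h : IsMinimalSimple G) : IsNGroup G := by
  rintro N ⟨p, T, hp, hT, h1, rfl⟩
  have := h.1
  have : Fact p.Prime := ⟨hp⟩
  have := hT.isNilpotent
  exact h.2.2 _ (normalizer_ne_top h.2.1 inferInstance h1)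

end H8.NG
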