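import Mathlib
import Cfsg.Agent.H8.NG0
import Cfsg.Agent.H8.SzLie
import Cfsg.Agent.H16.KG0
import Cfsg.Agent.H16.PSL2Small
import Cfsg.Agent.H15.Finite
import Cfsg.Agent.S0144
import Cfsg.Agent.S0281

/-! Triples and subgroups in the infinite families of the list. -/

set_option autoImplicit false
open Cfsg Matrix
open scoped MatrixGroups

namespace H8.NG

theorem three_le_primes {G : Type*} [Group G] [Finite G] (h : ¬ Group.IsSolvable G) :
    3 ≤ (Nat.card G).primeFactors.card := by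
  by_contra hlt
  apply h
  have hn := (Nat.factorization_prod_pow_eq_self (Nat.card_pos (α := G)).ne').symm
  rw [Finsupp.prod, Nat.support_factorization] at hn
  have h3 : (Nat.card G).primeFactors.card = 0 ∨ (Nat.card G).primeFactors.card = 1 ∨
      (Nat.card G).primeFactors.card = 2 := by omega
  rcases h3 with h3 | h3 | h3
  · rw [Finset.card_eq_zero.1 h3] at hn
    exact Cfsg.Agent.S0144.result 2 2 0 0 Nat.prime_two Nat.prime_two (by simpa using hn)
  · obtain ⟨p, hp⟩ := Finset.card_eq_one.1 h3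
    have : p.Prime := Nat.prime_of_mem_primeFactors (hp ▸ Finset.mem_singleton_self p)
    rw [hp, Finset.prod_singleton] at hn
    exact Cfsg.Agent.S0144.result p p _ 0 this this (hn.trans (mul_one _).symm)
  · obtain ⟨p, q, hpq, hp⟩ := Finset.card_eq_two.1 h3
    have h1 : p.Prime := Nat.prime_of_mem_primeFactors (n := Nat.card G) (by simp [hp])
    have h2 : q.Prime := Nat.prime_of_mem_primeFactors (n := Nat.card G) (by simp [hp])
    rw [hp, Finset.prod_pair hpq] at hn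
    exact Cfsg.Agent.S0144.result p q _ _ h1 h2 hn

section L2
variable {F : Type*} [Field F]

/-- coefficients of the powers of a matrix of determinant one -/
def cheb (τ : F) : ℕ → F × F
  | 0 => (0, 1)
  | n + 1 => (τ * (cheb τ n).1 + (cheb τ n).2, -(cheb τ n).1)

theorem pow_eq_cheb (g : SL(2, F)) (n : ℕ) :
    (g ^ n).1 = (cheb g.1.trace n).1 • g.1 + (cheb g.1.trace n).2 • (1 : Matrix (Fin 2) (Fin 2) F) := by
  have hd := g.2
  rw [det_fin_two] at hd
  have h2 : g.1 * g.1 = g.1.trace • g.1 - 1 := by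
    ext i j
    fin_cases i <;> fin_cases j <;> simp [mul_apply, Fin.sum_univ_two, trace_fin_two]
    · linear_combination -hd
    · ring
    · ring
    · linear_combination -hd
  induction n with
  | zero => simp [cheb]
  | succ n ih =>
    rw [pow_succ, Matrix.SpecialLinearGroup.coe_mul, ih, add_mul, smul_mul_assoc, h2, cheb]
    simp only [smul_mul_assoc, one_mul]
    module

theorem mem_center_of_smul {g : SL(2, F)} {c : F} (h : g.1 = c • (1 : Matrix (Fin 2) (Fin 2) F)) :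
    g ∈ Subgroup.center SL(2, F) :=
  Subgroup.mem_center_iff.2 fun x => Subtype.ext (by
    simp only [Matrix.SpecialLinearGroup.coe_mul, h]; simp)

theorem pow_mem_center_of_trace {g h : SL(2, F)} (ht : g.1.trace = h.1.trace)
    (hg : g ∉ Subgroup.center SL(2, F)) {n : ℕ} (hn : g ^ n ∈ Subgroup.center SL(2, F)) :
    h ^ n ∈ Subgroup.center SL(2, F) := by
  obtain ⟨r, -, hr⟩ := Matrix.SpecialLinearGroup.mem_center_iff.1 hn
  have h1 := pow_eq_cheb g n
  have h0 : (cheb g.1.trace n).1 = 0 := by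
    by_contra h0
    refine hg (mem_center_of_smul (c := (cheb g.1.trace n).1⁻¹ * (r - (cheb g.1.trace n).2)) ?_)
    have h2 : (g ^ n).1 = r • (1 : Matrix (Fin 2) (Fin 2) F) := by
      rw [← hr]; simp [Matrix.smul_one_eq_diagonal]
    rw [h2] at h1
    rw [mul_smul, sub_smul, h1, add_sub_cancel_right, smul_smul, inv_mul_cancel₀ h0, one_smul]
  refine mem_center_of_smul (c := (cheb g.1.trace n).2) ?_
  rw [pow_eq_cheb, ← ht, h0, zero_smul, zero_add]

theorem tri_L2 [Finite F] (hs : ¬ Group.IsSolvable PSL(2, F)) : Tri PSL(2, F) := by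
  obtain ⟨p, hc⟩ := CharP.exists F
  have hp : p.Prime := CharP.char_is_prime F p
  have h3 := three_le_primes hs
  have h2 : 1 < ((Nat.card PSL(2, F)).primeFactors.erase p).card := by
    have := Finset.pred_card_le_card_erase (s := (Nat.card PSL(2, F)).primeFactors) (a := p)
    omega
  obtain ⟨r, hr, s, hs', hrs⟩ := Finset.one_lt_card.1 h2
  rw [Finset.mem_erase, Nat.mem_primeFactors] at hr hs'
  have := Fact.mk hr.2.1
  have := Fact.mk hs'.2.1
  obtain ⟨x, hx⟩ := exists_prime_orderOf_dvd_card' r hr.2.2.1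
  obtain ⟨y, hy⟩ := exists_prime_orderOf_dvd_card' s hs'.2.2.1
  obtain ⟨g, rfl⟩ := QuotientGroup.mk_surjective x
  obtain ⟨h, rfl⟩ := QuotientGroup.mk_surjective y
  have nc : ∀ {z : SL(2, F)} {t : ℕ}, t.Prime → orderOf (z : PSL(2, F)) = t →
      z ∉ Subgroup.center SL(2, F) ∧ z ^ t ∈ Subgroup.center SL(2, F) := fun {z t} ht hz => by
    refine ⟨fun h => ?_, ?_⟩
    · rw [(QuotientGroup.eq_one_iff z).2 h, orderOf_one] at hz
      exact ht.one_lt.ne hz
    · rw [← QuotientGroup.eq_one_iff, QuotientGroup.mk_pow, ← hz, pow_orderOf_eq_one]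
  obtain ⟨g1, g2⟩ := nc hr.2.1 hx
  obtain ⟨h1, h2⟩ := nc hs'.2.1 hy
  have crs : r.Coprime s := (Nat.coprime_primes hr.2.1 hs'.2.1).2 hrs
  have hne : h.1.trace - g.1.trace ≠ 0 := fun e => by
    have h3 := pow_mem_center_of_trace (sub_eq_zero.1 e).symm g1 g2
    rw [← QuotientGroup.eq_one_iff, QuotientGroup.mk_pow] at h3 h2
    exact h1 ((QuotientGroup.eq_one_iff h).1 (eq_one_of_pow_coprime crs h3 h2))
  let a : SL(2, F) := ⟨!![1, 1; 0, 1], by simp [det_fin_two]⟩
  let b : SL(2, F) := ⟨!![g.1.trace, -(h.1.trace - g.1.trace)⁻¹; h.1.trace - g.1.trace, 0], by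
    simp [det_fin_two, hne]⟩
  have ha : ∀ n : ℕ, (a ^ n).1 = !![1, (n : F); 0, 1] := fun n => by
    induction n with
    | zero => simp [Matrix.one_fin_two]
    | succ n ih =>
      rw [pow_succ, Matrix.SpecialLinearGroup.coe_mul, ih]
      simp [a, add_comm]
  refine tri_of_rel (a := (a : PSL(2, F))) (b := (b : PSL(2, F))) (l := p) (m := r) (n := s)
    ((Nat.coprime_primes hp hr.2.1).2 (Ne.symm hr.1)) crs
    ((Nat.coprime_primes hp hs'.2.1).2 (Ne.symm hs'.1)) ?_ ?_ ?_ ?_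
  · rw [← QuotientGroup.mk_pow, show a ^ p = 1 from Subtype.ext (by
      rw [ha]; simp [Matrix.one_fin_two])]
    rfl
  · rw [← QuotientGroup.mk_pow, QuotientGroup.eq_one_iff]
    exact pow_mem_center_of_trace (by simp [b, trace_fin_two]) g1 g2
  · rw [← QuotientGroup.mk_mul, ← QuotientGroup.mk_pow, QuotientGroup.eq_one_iff]
    refine pow_mem_center_of_trace ?_ h1 h2
    rw [Matrix.SpecialLinearGroup.coe_mul]
    simp [a, b, trace_fin_two]
  · rw [Ne, QuotientGroup.eq_one_iff, Matrix.SpecialLinearGroup.mem_center_iff]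
    rintro ⟨c, -, hc⟩
    simpa [a] using congrFun (congrFun hc 0) 1

theorem psl2_not_comm [Fintype F] (h : 4 ≤ Fintype.card F) : ¬ IsMulCommutative PSL(2, F) := by
  intro hc
  let a : SL(2, F) := ⟨!![1, 1; 0, 1], by simp [det_fin_two]⟩
  let b : SL(2, F) := ⟨!![1, 0; 1, 1], by simp [det_fin_two]⟩
  have h1 : (a : PSL(2, F)) * (b : PSL(2, F)) = (b : PSL(2, F)) * (a : PSL(2, F)) := hc.1.1 _ _
  rw [← QuotientGroup.mk_mul, ← QuotientGroup.mk_mul, QuotientGroup.eq,
    Matrix.SpecialLinearGroup.mem_center_iff] at h1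
  obtain ⟨c, -, hc⟩ := h1
  have h2 := congrFun (congrFun hc 1) 0
  simp only [Matrix.SpecialLinearGroup.coe_mul, Matrix.SpecialLinearGroup.coe_inv] at h2
  simp [a, b, adjugate_fin_two] at h2

theorem psl2_not_solvable [Fintype F] (h : 4 ≤ Fintype.card F) : ¬ Group.IsSolvable PSL(2, F) :=
  have := Matrix.ProjectiveSpecialLinearGroup.rank_two_simple (F := F)
    (by rw [Nat.card_eq_fintype_card]; omega)
  not_solvable_of_simple (psl2_not_comm h)

end L2

section Sz
variable {F : Type*} [Field F] {m : ℕ}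

theorem coprime_sz {q : ℕ} (hq : Even q) (h0 : 0 < q) : (q ^ 2 + 1).Coprime (q ^ 2 * (q - 1)) := by
  refine Nat.Coprime.mul_right (by rw [Nat.coprime_self_add_left]; simp) ?_
  obtain ⟨k, rfl⟩ : ∃ k, q = k + 1 := ⟨q - 1, by omega⟩
  rw [Nat.add_sub_cancel, show (k + 1) ^ 2 + 1 = 2 + k * (k + 2) by ring,
    Nat.coprime_add_mul_left_left, Nat.coprime_two_left]
  exact Nat.not_even_iff_odd.1 (Nat.even_add_one.1 hq)

theorem tri_Sz [Fintype F] (hm : 1 ≤ m) (hF : Fintype.card F = 2 ^ (2 * m + 1)) :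
    Tri (Lie.Sz F (2 ^ (m + 1))) := by
  obtain ⟨T⟩ := Sz.nonempty_ctx hm hF
  refine Tri.of_equiv ?_ T.lieEquiv.symm
  have hq : Nat.card F ^ 2 = 4 ^ (2 * m + 1) := by
    rw [Nat.card_eq_fintype_card, hF, ← pow_mul, mul_comm, pow_mul]; norm_num
  have hco := coprime_sz T.even_card Nat.card_pos
  rw [← T.card_B] at hco
  obtain ⟨r, hr, hr5, hd⟩ := H16.QT.exists_prime_four_pow (k := 2 * m + 1) (by omega)
  have h5 : 5 ∣ 4 ^ (2 * m + 1) + 1 := by
    simpa using Odd.nat_add_dvd_pow_add_pow 4 1 (odd_two_mul_add_one m)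
  rw [← hq] at hd h5
  have key : ∀ t : ℕ, t.Prime → t ∣ Nat.card F ^ 2 + 1 → ∃ c : Cfsg.Sz F m, c ^ t = 1 ∧
      c • Sz.inf F ≠ Sz.inf F := fun t ht h => by
    have := Fact.mk ht
    obtain ⟨c, hc⟩ := exists_prime_orderOf_dvd_card' (G := Cfsg.Sz F m) t
      (by rw [T.card_Sz]; exact (h.mul_left _).mul_right _)
    refine ⟨c, hc ▸ pow_orderOf_eq_one c, fun e => ht.one_lt.ne' ?_⟩
    exact Nat.eq_one_of_dvd_coprimes hco h (hc ▸ (Sz.B F m).orderOf_dvd_natCard e)
  obtain ⟨c, hc, hc'⟩ := key 5 (by norm_num) h5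
  obtain ⟨d, hd1, hd'⟩ := key r hr hd
  obtain ⟨g1, e1, e1'⟩ := T.exists_smul_pair T.inf_mem (Sz.smul_mem c⁻¹ T.inf_mem)
    fun e => hc' (smul_eq_iff_eq_inv_smul c |>.2 e)
  obtain ⟨g2, e2, e2'⟩ := T.exists_smul_pair T.inf_mem (Sz.smul_mem d T.inf_mem) hd'.symm
  have hB : c * (g1 * g2⁻¹ * d * (g1 * g2⁻¹)⁻¹) ∈ Sz.B F m := by
    show (c * (g1 * g2⁻¹ * d * (g1 * g2⁻¹)⁻¹)) • Sz.inf F = Sz.inf F
    have e3 : g1⁻¹ • Sz.inf F = Sz.inf F := inv_smul_eq_iff.2 e1.symm
    simp only [mul_smul, _root_.mul_inv_rev, inv_inv]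
    rw [e3, e2, ← e2', inv_smul_smul, e1', smul_inv_smul]
  refine tri_of_rel (a := c) (b := g1 * g2⁻¹ * d * (g1 * g2⁻¹)⁻¹) (l := 5) (m := r)
    ((Nat.coprime_primes (by norm_num) hr).2 hr5.symm) (hco.coprime_dvd_left hd)
    (hco.coprime_dvd_left h5) hc (by rw [conj_pow, hd1]; simp) ?_ ?_
  · exact congrArg Subtype.val (pow_card_eq_one' (x := (⟨_, hB⟩ : Sz.B F m)))
  · rintro rfl
    exact hc' (one_smul _ _)

theorem map_mem_Sz {K : Type*} [Field K] (f : K →+* F) {e e' : ℕ} (h : ∀ x, f (x ^ e') = f x ^ e) :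
    (Lie.Sz K e').map (Matrix.GeneralLinearGroup.map f) ≤ Lie.Sz F e := by
  rw [Lie.Sz, MonoidHom.map_closure]
  refine Subgroup.closure_mono ?_
  rintro _ ⟨g, ⟨h1, h2⟩, rfl⟩
  have hg : ((Matrix.GeneralLinearGroup.map f g : GL (Fin 4) F) : Matrix (Fin 4) (Fin 4) F) =
      (g : Matrix (Fin 4) (Fin 4) K).map f := rfl
  have hJ : (suzukiForm K).map f = suzukiForm F := by
    ext i j; fin_cases i <;> fin_cases j <;> simp [suzukiForm]
  constructor
  · rw [Sz.mem_Sp4_iff] at h1 ⊢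
    rw [hg, ← hJ, ← transpose_map, ← Matrix.map_mul, ← Matrix.map_mul, h1]
  · rw [hg]
    ext i j
    have := congrArg f (congrFun (congrFun h2 i) j)
    simpa [Lie.star4, h] using this

theorem card_lie_Sz [Fintype F] (hm : 1 ≤ m) (hF : Fintype.card F = 2 ^ (2 * m + 1)) :
    Nat.card (Lie.Sz F (2 ^ (m + 1))) =
      (2 ^ (2 * m + 1)) ^ 2 * ((2 ^ (2 * m + 1)) ^ 2 + 1) * (2 ^ (2 * m + 1) - 1) := by
  obtain ⟨T⟩ := Sz.nonempty_ctx hm hF
  rw [Nat.card_congr T.lieEquiv.symm.toEquiv, T.card_Sz, Nat.card_eq_fintype_card, hF]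

theorem prime_of_min_Sz [Fintype F] (hm : 1 ≤ m) (hF : Fintype.card F = 2 ^ (2 * m + 1))
    (h : IsMinimalSimple (Lie.Sz F (2 ^ (m + 1)))) : (2 * m + 1).Prime := by
  by_contra hp
  obtain ⟨k, hk⟩ := Nat.minFac_dvd (2 * m + 1)
  have h1 := Nat.minFac_prime (n := 2 * m + 1) (by omega)
  have h2 := (Nat.not_prime_iff_minFac_lt (n := 2 * m + 1) (by omega)).1 hp
  generalize (2 * m + 1).minFac = e at hk h1 h2
  have ho : Odd (e * k) := hk ▸ odd_two_mul_add_one m
  obtain ⟨⟨m', rfl⟩, ⟨j, rfl⟩⟩ := Nat.odd_mul.1 ho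
  have hm' : 1 ≤ m' := by have := h1.two_le; omega
  let K := GaloisField 2 (2 * m' + 1)
  have := Fintype.ofFinite K
  have hK : Fintype.card K = 2 ^ (2 * m' + 1) := by
    rw [← Nat.card_eq_fintype_card, GaloisField.card 2 _ (by omega)]
  obtain ⟨f⟩ := H16.exists_ringHom_of_card_pow (F := F) (K := K) (m := 2 * j + 1)
    (by rw [hK, hF, hk, pow_mul])
  have hle := map_mem_Sz f (e := 2 ^ (m + 1)) (e' := 2 ^ (m' + 1)) fun x => by
    have e1 : m + 1 = (2 * m' + 1) * j + (m' + 1) := by nlinarith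
    rw [← map_pow, e1, pow_add 2 (_ * j), pow_mul x, pow_mul 2, ← hK, FiniteField.pow_card_pow]
  have hinj : Function.Injective (Matrix.GeneralLinearGroup.map (n := Fin 4) f) := fun a b hab =>
    Units.ext (Matrix.map_injective f.injective (congrArg Units.val hab))
  let φ : Lie.Sz K (2 ^ (m' + 1)) →* Lie.Sz F (2 ^ (m + 1)) :=
    (Subgroup.inclusion hle).comp ((Matrix.GeneralLinearGroup.map f).subgroupMap _)
  have hφ : Function.Injective φ := fun a b hab =>
    Subtype.ext (hinj (congrArg Subtype.val hab))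
  have hs := h.2.2 φ.range fun e => by
    have h3 := Nat.card_congr (MonoidHom.ofInjective hφ).toEquiv
    rw [e, Subgroup.card_top, card_lie_Sz hm hF, card_lie_Sz hm' hK] at h3
    have h4 : 2 ^ (2 * m' + 1) < 2 ^ (2 * m + 1) := Nat.pow_lt_pow_right (by norm_num) h2
    have h5 : 1 < 2 ^ (2 * m' + 1) := Nat.one_lt_two_pow (by omega)
    generalize 2 ^ (2 * m' + 1) = a at *
    generalize 2 ^ (2 * m + 1) = b at *
    refine absurd h3 (ne_of_lt (Nat.mul_lt_mul'' (Nat.mul_lt_mul'' ?_ ?_) (by omega)))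
    · exact Nat.pow_lt_pow_left h4 two_ne_zero
    · exact Nat.add_lt_add_right (Nat.pow_lt_pow_left h4 two_ne_zero) 1
  exact (tri_Sz hm' hK).not_solvable (H2.isSolvable_of_mulEquiv (MonoidHom.ofInjective hφ).symm)

end Sz

theorem bigC_quot {K H : Type*} [Group K] [Group H] (φ : K →* H) (hφ : Function.Injective φ)
    (hK : ¬ Group.IsSolvable K) (y : H) (hy : y ∉ Subgroup.center H)
    (hc : ∀ k, φ k * y = y * φ k) : BigC (H ⧸ Subgroup.center H) := by
  refine ⟨y, fun h => hy ((QuotientGroup.eq_one_iff y).1 h), fun hs => hK ?_⟩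
  let ψ : K →* H ⧸ Subgroup.center H := (QuotientGroup.mk' _).comp φ
  have h1 : Group.IsSolvable ψ.ker := Group.isSolvable_of_comm fun a b => by
    refine Subtype.ext (hφ ?_)
    have ha : φ a ∈ Subgroup.center H := (QuotientGroup.eq_one_iff _).1 a.2
    rw [Subgroup.coe_mul, Subgroup.coe_mul, map_mul, map_mul, Subgroup.mem_center_iff.1 ha]
  have h2 := H2.isSolvable_comap ψ h1 hs
  rw [show (Subgroup.centralizer {(y : H ⧸ Subgroup.center H)}).comap ψ = ⊤ from
    eq_top_iff.2 fun k _ => Subgroup.mem_centralizer_singleton_iff.2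
      (congrArg (QuotientGroup.mk' (Subgroup.center H)) (hc k))] at h2
  exact H2.isSolvable_top_iff.1 h2

section U3
variable {F : Type*} [Field F] {q : ℕ}

theorem mem_su_of_mul [Fintype F] (hK : Fintype.card F = q ^ 2)
    {n : ℕ} (g : SL(n, F)) (h : g.1ᵀ * g.1.map (H15.frob hK) = 1) :
    g ∈ SU n F q := fun u v => by
  change (g.1 *ᵥ u) ⬝ᵥ (H15.frob hK ∘ (g.1 *ᵥ v)) = u ⬝ᵥ (H15.frob hK ∘ v)
  have : H15.frob hK ∘ (g.1 *ᵥ v) = g.1.map (H15.frob hK) *ᵥ (H15.frob hK ∘ v) :=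
    funext fun i => RingHom.map_mulVec _ _ _ _
  rw [this, ← vecMul_transpose, ← dotProduct_mulVec, mulVec_mulVec, h, one_mulVec]

/-- block embedding of matrices -/
def blk (A : Matrix (Fin 2) (Fin 2) F) : Matrix (Fin 3) (Fin 3) F :=
  !![A 0 0, A 0 1, 0; A 1 0, A 1 1, 0; 0, 0, 1]

theorem blk_mul (A B : Matrix (Fin 2) (Fin 2) F) : blk (A * B) = blk A * blk B := by
  ext i j
  fin_cases i <;> fin_cases j <;> simp [blk, mul_apply, Fin.sum_univ_three, Fin.sum_univ_two]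

theorem blk_det (A : Matrix (Fin 2) (Fin 2) F) : (blk A).det = A.det := by
  simp [blk, det_fin_three, det_fin_two]

theorem blk_mulVec (A : Matrix (Fin 2) (Fin 2) F) (u : Fin 3 → F) :
    blk A *ᵥ u = ![(A *ᵥ ![u 0, u 1]) 0, (A *ᵥ ![u 0, u 1]) 1, u 2] := by
  ext i
  fin_cases i <;> simp [blk, mulVec, dotProduct, Fin.sum_univ_three, Fin.sum_univ_two]

/-- the block embedding of `SU₂` in `SU₃` -/
def blkSU (F : Type*) [Field F] (q : ℕ) : SU 2 F q →* SU 3 F q where
  toFun g := ⟨⟨blk g.1.1, (blk_det _).trans g.1.2⟩, fun u v => by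
    have := g.2 ![u 0, u 1] ![v 0, v 1]
    change hermForm 2 F q (g.1.1 *ᵥ _) (g.1.1 *ᵥ _) = _ at this
    change hermForm 3 F q (blk g.1.1 *ᵥ u) (blk g.1.1 *ᵥ v) = _
    rw [blk_mulVec, blk_mulVec]
    simp only [hermForm, Fin.sum_univ_three, Fin.sum_univ_two] at this ⊢
    simpa using this⟩
  map_one' := Subtype.ext (Subtype.ext (by
    ext i j; fin_cases i <;> fin_cases j <;> simp [blk]))
  map_mul' a b := Subtype.ext (Subtype.ext (blk_mul _ _))

theorem blkSU_injective : Function.Injective (blkSU F q) := fun a b h => by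
  have h1 : blk a.1.1 = blk b.1.1 := congrArg (fun z : SU 3 F q => z.1.1) h
  refine Subtype.ext (Subtype.ext ?_)
  ext i j
  have := congrFun (congrFun h1 i.castSucc) j.castSucc
  fin_cases i <;> fin_cases j <;> simpa [blk] using this

theorem bigC_U3 [Fintype F] {n : ℕ} (hn : 2 ≤ n) (hF : Fintype.card F = (2 ^ n) ^ 2) :
    BigC (PSU 3 F (2 ^ n)) := by
  let K := GaloisField 2 n
  have := Fintype.ofFinite K
  have hK : Fintype.card K = 2 ^ n := by
    rw [← Nat.card_eq_fintype_card, GaloisField.card 2 _ (by omega)]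
  have h4 : 4 ≤ 2 ^ n := Nat.pow_le_pow_right (n := 2) (by norm_num) hn
  generalize 2 ^ n = q at *
  obtain ⟨e⟩ := Cfsg.Agent.S0281.result hF hK
  have hs : ¬ Group.IsSolvable (SU 2 F q) := fun h => by
    have := H2.isSolvable_of_mulEquiv e
    exact psl2_not_solvable (F := K) (by omega) inferInstance
  obtain ⟨g, hg⟩ := IsCyclic.exists_ofOrder_eq_natCard (α := Fˣ)
  rw [Nat.card_units, Nat.card_eq_fintype_card, hF] at hg
  obtain ⟨k, rfl⟩ : ∃ k, q = k + 1 := ⟨q - 1, by omega⟩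
  have hq : (k + 1) ^ 2 - 1 = k * (k + 2) := by
    rw [show (k + 1) ^ 2 = k * (k + 2) + 1 by ring, Nat.add_sub_cancel]
  have h1 : ((g : F) ^ k) ^ (k + 2) = 1 := by
    rw [← pow_mul, ← hq, ← hg, ← Units.val_pow_eq_pow_val, pow_orderOf_eq_one, Units.val_one]
  have h3 : ((g : F) ^ k) ^ 3 ≠ 1 := fun h => by
    rw [← pow_mul, ← Units.val_pow_eq_pow_val, Units.val_eq_one, ← orderOf_dvd_iff_pow_eq_one,
      hg, hq, Nat.mul_dvd_mul_iff_left (by omega)] at h
    have := Nat.le_of_dvd (by norm_num) h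
    omega
  generalize (g : F) ^ k = c at h1 h3
  have h0 : c ≠ 0 := by rintro rfl; simp at h1
  have h5 : c * H15.frob hF c = 1 := by rw [H15.frob_apply, ← pow_succ', h1]
  have h6 : H15.frob hF c = c⁻¹ := eq_inv_of_mul_eq_one_right h5
  let y : SU 3 F (k + 1) := ⟨⟨diagonal ![c, c, (c ^ 2)⁻¹], by
    simp [Fin.prod_univ_three]; field_simp⟩, mem_su_of_mul hF _ (by
      ext i j
      fin_cases i <;> fin_cases j <;> simp [mul_apply, Fin.sum_univ_three, h6, h0])⟩
  let z : SU 3 F (k + 1) := ⟨⟨!![0, 0, 1; 1, 0, 0; 0, 1, 0], by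
    simp [det_fin_three]⟩, mem_su_of_mul hF _ (by
      ext i j
      fin_cases i <;> fin_cases j <;> simp [mul_apply, Fin.sum_univ_three])⟩
  refine bigC_quot (blkSU F _) blkSU_injective hs y (fun h => h3 ?_) fun a => ?_
  · have : (z.1.1 * y.1.1) 0 2 = (y.1.1 * z.1.1) 0 2 :=
      congrArg (fun w : SU 3 F (k + 1) => w.1.1 0 2) (Subgroup.mem_center_iff.1 h z)
    simp [y, z] at this
    rw [pow_succ]
    exact (congrArg (c ^ 2 * ·) this).symm.trans (mul_inv_cancel₀ (pow_ne_zero 2 h0))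
  · refine Subtype.ext (Subtype.ext ?_)
    show blk a.1.1 * diagonal ![c, c, (c ^ 2)⁻¹] = diagonal ![c, c, (c ^ 2)⁻¹] * blk a.1.1
    ext i j
    fin_cases i <;> fin_cases j <;> simp [blk, mul_comm]

end U3

end H8.NG
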