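import Mathlib
import Cfsg.Agent.H8.NG2
import Cfsg.Agent.H21.Mat11b
import Cfsg.Agent.H20.Tits
import Cfsg.Agent.H16.SymRep
import Cfsg.Agent.H7.SmallIso

/-! Triples in the small groups of the list. -/

set_option autoImplicit false
open Cfsg Matrix
open scoped MatrixGroups

namespace H8.NG

theorem not_min_of_pred {G : Type*} [Group G] [Finite G] {a b g : G} {l m n : ℕ}
    (hlm : l.Coprime m) (hmn : m.Coprime n)
    (hln : l.Coprime n) (ha : a ^ l = 1) (hb : b ^ m = 1) (hab : (a * b) ^ n = 1)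
    (h1 : a ≠ 1) (P : G → Prop) (p1 : P 1) (pm : ∀ x y, P x → P y → P (x * y)) (pa : P a)
    (pb : P b) (pg : ¬ P g) : ¬ IsMinimalSimple G := by
  have pw : ∀ x, P x → ∀ k : ℕ, P (x ^ k) := fun x hx k => by
    induction k with
    | zero => simpa using p1
    | succ k ih => rw [pow_succ]; exact pm _ _ ih hx
  let H : Subgroup G := ⟨⟨⟨{x | P x}, fun hx hy => pm _ _ hx hy⟩, p1⟩, fun {x} hx => by
    have : x⁻¹ = x ^ (orderOf x - 1) := inv_eq_of_mul_eq_one_right (by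
      rw [← pow_succ', Nat.sub_add_cancel (orderOf_pos x), pow_orderOf_eq_one])
    exact this ▸ pw x hx _⟩
  refine not_min_of_rel hlm hmn hln ha hb hab h1 H pa pb fun e => pg ?_
  have : g ∈ H := e ▸ Subgroup.mem_top g
  exact this

theorem not_min_A7 : ¬ IsMinimalSimple (alternatingGroup (Fin 7)) :=
  not_min_of_pred (l := 2) (m := 3) (n := 5)
    (a := ⟨Equiv.swap 0 1 * Equiv.swap 2 3, Equiv.Perm.mem_alternatingGroup.2 (by decide +kernel)⟩)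
    (b := ⟨Equiv.swap 1 4 * Equiv.swap 1 2, Equiv.Perm.mem_alternatingGroup.2 (by decide +kernel)⟩)
    (g := ⟨Equiv.swap 0 1 * Equiv.swap 5 6, Equiv.Perm.mem_alternatingGroup.2 (by decide +kernel)⟩)
    (by norm_num) (by norm_num) (by norm_num) (Subtype.ext (by decide +kernel))
    (Subtype.ext (by decide +kernel)) (Subtype.ext (by decide +kernel))
    (fun h => absurd (congrArg Subtype.val h) (by decide +kernel))
    (fun x => x.1 6 = 6) rfl (fun x y hx hy => by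
      show x.1 (y.1 6) = 6
      rw [hy, hx]) (by decide +kernel) (by decide +kernel) (by decide +kernel)

open H21 in
/-- the generators of the model of the smallest Mathieu group -/
def x11 : X11 := ⟨shP, Subgroup.subset_closure (by simp)⟩
open H21 in
/-- second generator -/
def w11 : X11 := ⟨mlP u3, Subgroup.subset_closure (by simp)⟩
open H21 in
/-- third generator -/
def f11 : X11 := ⟨s11, Subgroup.subset_closure (by simp)⟩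

theorem not_min_X11 : ¬ IsMinimalSimple H21.X11 :=
  not_min_of_pred (l := 2) (m := 3) (n := 5) (a := f11 * f11)
    (b := x11 * x11 * f11 * f11 * x11) (g := f11)
    (by norm_num) (by norm_num) (by norm_num) (Subtype.ext (Equiv.ext (by decide +kernel)))
    (Subtype.ext (Equiv.ext (by decide +kernel))) (Subtype.ext (Equiv.ext (by decide +kernel)))
    (fun h => absurd (congrArg (fun z : H21.X11 => z.1 (some 1)) h) (by decide +kernel))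
    (fun x => x.1 none = none) rfl (fun x y hx hy => by
      show x.1 (y.1 none) = none
      rw [hy, hx]) (by decide +kernel) (by decide +kernel) (by decide +kernel)

theorem not_min_M11 {G : Type*} [Group G] [Finite G] (h : IsM11 G) : ¬ IsMinimalSimple G := by
  have := h.1
  obtain ⟨e⟩ := H21.m11_iso h.2
  exact fun h' => not_min_X11 (IsMinimalSimple.congr h' e)

section Tits
open H20.Tits

theorem tits_app (w : List ℕ) (hw : ∀ i ∈ w, i < 4) (n : ℕ) :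
    mat (w.map e).prod *ᵥ toV n = toV (lapp w n) := by
  induction w with
  | nil => simp [lapp]
  | cons i w ih =>
    rw [List.map_cons, List.prod_cons, map_mul, ← mulVec_mulVec, ih fun j hj => hw j (by simp [hj]),
      coe_e (hw i (by simp)), (rep_gen i (hw i (by simp))).app]
    rfl

theorem tits_pow (w : List ℕ) (n : ℕ) (h : leq (List.replicate n w).flatten [] = true) :
    (w.map e).prod ^ n = 1 := by
  simpa [List.prod_flatten] using rel h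

theorem not_min_tits : ¬ IsMinimalSimple Lie.TitsGroup := by
  have ha := tits_pow [2, 0, 2, 2, 2] 2 (by decide +kernel)
  have hb := tits_pow [1, 0, 3, 3, 1, 3, 3, 1] 3 (by decide +kernel)
  have hab := tits_pow ([2, 0, 2, 2, 2] ++ [1, 0, 3, 3, 1, 3, 3, 1]) 5 (by decide +kernel)
  rw [List.map_append, List.prod_append] at hab
  obtain ⟨ca, cb⟩ := mem_commutator_of_rel (by norm_num) (by norm_num) (by norm_num) ha hb hab
  have h4 := tits_pow [2] 4 (by decide +kernel)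
  have cg : ([0].map e).prod ∈ commutator Γ := by
    have := (inferInstance : (commutator Γ).Normal).conj_mem' _ ca (e 2)
    convert this using 1
    simp only [List.map_cons, List.map_nil, List.prod_cons, List.prod_nil, mul_one] at h4 ⊢
    calc e 0 = e 0 * e 2 ^ 4 := by rw [h4, mul_one]
      _ = _ := by simp only [pow_succ, pow_zero, one_mul, mul_assoc, inv_mul_cancel_left]
  have hne : ∀ w : List ℕ, (∀ i ∈ w, i < 4) → ∀ n, n < 2 ^ 52 → lapp w n < 2 ^ 52 → lapp w n ≠ n →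
      mat (w.map e).prod *ᵥ toV n ≠ toV n := fun w hw n h1 h2 h3 h =>
    h3 (toV_inj h2 h1 ((tits_app w hw n).symm.trans h))
  refine not_min_of_pred (G := commutator Γ) (a := ⟨_, ca⟩) (b := ⟨_, cb⟩) (g := ⟨_, cg⟩)
    (by norm_num) (by norm_num) (by norm_num) (Subtype.ext ha) (Subtype.ext hb) (Subtype.ext hab)
    (fun h => hne [2, 0, 2, 2, 2] (by decide) 1 (by decide) (by decide +kernel) (by decide +kernel)
      (by rw [(Subgroup.mk_eq_one _).1 h, map_one, one_mulVec]))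
    (fun x => mat x.1 *ᵥ toV 10198130 = toV 10198130) (by simp) (fun x y hx hy => by
      rw [Subgroup.coe_mul, map_mul, ← mulVec_mulVec, hy, hx])
    ((tits_app _ (by decide) _).trans (congrArg toV (by decide +kernel)))
    ((tits_app _ (by decide) _).trans (congrArg toV (by decide +kernel)))
    (hne [0] (by decide) _ (by decide) (by decide +kernel) (by decide +kernel))

end Tits

theorem not_min_isoTits {G : Type*} [Group G] (h : Lie.IsoTits G) : ¬ IsMinimalSimple G := by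
  obtain ⟨e⟩ := h
  exact fun h' => not_min_tits (IsMinimalSimple.congr h' e)

theorem card_isoTits {G : Type*} [Group G] (h : Lie.IsoTits G) : Nat.card G = 17971200 := by
  obtain ⟨e⟩ := h
  rw [Nat.card_congr e.toEquiv, H20.Tits.card_comm]; norm_num

section U33
open H7

theorem card_F9' : Fintype.card F9 = 3 ^ 2 := card_F9

/-- an element of `SU₃(3)` from its matrix -/
def su9 (A : Matrix (Fin 3) (Fin 3) F9) (h1 : A.det = 1) (h2 : Aᵀ * A.map (· ^ 3) = 1) :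
    SU 3 F9 3 := ⟨⟨A, h1⟩, mem_su_of_mul card_F9' _ h2⟩

/-- an orbit of 42 vectors -/
def orb9 : List (Fin 3 → F9) := [![⟨0, 0⟩, ⟨0, 0⟩, ⟨0, 1⟩], ![⟨0, 0⟩, ⟨0, 0⟩, ⟨0, 2⟩], ![⟨0, 0⟩, ⟨0, 1⟩, ⟨0, 0⟩],
  ![⟨0, 0⟩, ⟨0, 2⟩, ⟨0, 0⟩], ![⟨0, 0⟩, ⟨1, 2⟩, ⟨1, 2⟩], ![⟨0, 0⟩, ⟨1, 2⟩, ⟨2, 1⟩],
  ![⟨0, 0⟩, ⟨2, 1⟩, ⟨1, 2⟩], ![⟨0, 0⟩, ⟨2, 1⟩, ⟨2, 1⟩], ![⟨1, 0⟩, ⟨0, 0⟩, ⟨0, 0⟩],
  ![⟨1, 0⟩, ⟨0, 1⟩, ⟨1, 1⟩], ![⟨1, 0⟩, ⟨0, 1⟩, ⟨2, 2⟩], ![⟨1, 0⟩, ⟨0, 2⟩, ⟨1, 1⟩],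
  ![⟨1, 0⟩, ⟨0, 2⟩, ⟨2, 2⟩], ![⟨1, 0⟩, ⟨1, 1⟩, ⟨0, 1⟩], ![⟨1, 0⟩, ⟨1, 1⟩, ⟨0, 2⟩],
  ![⟨1, 0⟩, ⟨2, 2⟩, ⟨0, 1⟩], ![⟨1, 0⟩, ⟨2, 2⟩, ⟨0, 2⟩], ![⟨1, 1⟩, ⟨0, 0⟩, ⟨1, 2⟩],
  ![⟨1, 1⟩, ⟨0, 0⟩, ⟨2, 1⟩], ![⟨1, 1⟩, ⟨1, 2⟩, ⟨0, 0⟩], ![⟨1, 1⟩, ⟨2, 1⟩, ⟨0, 0⟩],
  ![⟨1, 2⟩, ⟨0, 1⟩, ⟨0, 1⟩], ![⟨1, 2⟩, ⟨0, 1⟩, ⟨0, 2⟩], ![⟨1, 2⟩, ⟨0, 2⟩, ⟨0, 1⟩],
  ![⟨1, 2⟩, ⟨0, 2⟩, ⟨0, 2⟩], ![⟨2, 0⟩, ⟨0, 0⟩, ⟨0, 0⟩], ![⟨2, 0⟩, ⟨0, 1⟩, ⟨1, 1⟩],
  ![⟨2, 0⟩, ⟨0, 1⟩, ⟨2, 2⟩], ![⟨2, 0⟩, ⟨0, 2⟩, ⟨1, 1⟩], ![⟨2, 0⟩, ⟨0, 2⟩, ⟨2, 2⟩],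
  ![⟨2, 0⟩, ⟨1, 1⟩, ⟨0, 1⟩], ![⟨2, 0⟩, ⟨1, 1⟩, ⟨0, 2⟩], ![⟨2, 0⟩, ⟨2, 2⟩, ⟨0, 1⟩],
  ![⟨2, 0⟩, ⟨2, 2⟩, ⟨0, 2⟩], ![⟨2, 1⟩, ⟨0, 1⟩, ⟨0, 1⟩], ![⟨2, 1⟩, ⟨0, 1⟩, ⟨0, 2⟩],
  ![⟨2, 1⟩, ⟨0, 2⟩, ⟨0, 1⟩], ![⟨2, 1⟩, ⟨0, 2⟩, ⟨0, 2⟩], ![⟨2, 2⟩, ⟨0, 0⟩, ⟨1, 2⟩],
  ![⟨2, 2⟩, ⟨0, 0⟩, ⟨2, 1⟩], ![⟨2, 2⟩, ⟨1, 2⟩, ⟨0, 0⟩], ![⟨2, 2⟩, ⟨2, 1⟩, ⟨0, 0⟩]]

theorem not_min_su33 : ¬ IsMinimalSimple (SU 3 F9 3) :=
  not_min_of_pred (l := 2) (m := 3) (n := 7)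
    (a := su9 !![0, 0, ⟨0, 1⟩; 0, ⟨2, 0⟩, 0; ⟨0, 2⟩, 0, 0]
      (by rw [det_fin_three]; decide +kernel) (by decide +kernel))
    (b := su9 !![0, ⟨1, 1⟩, ⟨1, 1⟩; ⟨1, 2⟩, ⟨2, 0⟩, 1; ⟨2, 1⟩, ⟨2, 0⟩, 1]
      (by rw [det_fin_three]; decide +kernel) (by decide +kernel))
    (g := su9 !![0, 0, ⟨0, 1⟩; 0, ⟨0, 1⟩, 0; 1, 0, 0]
      (by rw [det_fin_three]; decide +kernel) (by decide +kernel))
    (by norm_num) (by norm_num) (by norm_num)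
    (Subtype.ext (Subtype.ext (by decide +kernel))) (Subtype.ext (Subtype.ext (by decide +kernel)))
    (Subtype.ext (Subtype.ext (by decide +kernel)))
    (fun h => absurd (congrArg (fun z : SU 3 F9 3 => z.1.1) h) (by decide +kernel))
    (fun x => ∀ v ∈ orb9, x.1.1 *ᵥ v ∈ orb9) (fun v hv => by simpa using hv)
    (fun x y hx hy v hv => by
      show (x.1.1 * y.1.1) *ᵥ v ∈ orb9
      rw [← mulVec_mulVec]; exact hx _ (hy v hv))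
    (by decide +kernel) (by decide +kernel) (by decide +kernel)

theorem not_min_U33 {F : Type*} [Field F] [Fintype F] (hF : Fintype.card F = 9) :
    ¬ IsMinimalSimple (PSU 3 F 3) := fun h => by
  have hz : Subgroup.center (SU 3 F 3) = ⊥ := by
    rw [← Subgroup.card_eq_one, H7.card_center_su (q := 3) (by rw [hF]; norm_num) 3 (by norm_num)]
    norm_num
  exact not_min_su33 (IsMinimalSimple.congr h ((H7.quotCenterEquivOfBot hz).trans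
    (H16.suCongr (FiniteField.ringEquivOfCardEq (hF.trans card_F9.symm)) 3 3)))

end U33

theorem tri_SL33 : Tri SL(3, ZMod 3) :=
  tri_of_rel (l := 2) (m := 3) (n := 13)
    (a := (⟨!![0, 1, 0; 1, 0, 0; 0, 0, 2], by rw [det_fin_three]; decide +kernel⟩ : SL(3, ZMod 3)))
    (b := ⟨!![0, 0, 1; 0, 1, 0; 2, 2, 2], by rw [det_fin_three]; decide +kernel⟩)
    (by norm_num) (by norm_num) (by norm_num) (Subtype.ext (by decide +kernel))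
    (Subtype.ext (by decide +kernel)) (Subtype.ext (by decide +kernel))
    (fun h => absurd (congrArg Subtype.val h) (by decide +kernel))

theorem tri_L33 {F : Type*} [Field F] [Fintype F] (hF : Fintype.card F = 3) : Tri PSL(3, F) := by
  have : Fact (Nat.Prime 3) := ⟨Nat.prime_three⟩
  obtain ⟨e⟩ := H7.nonempty_ringEquiv_zmod 3 hF
  have hz := H7.center_sl_eq_bot (F := ZMod 3) (q := 3) rfl 3 (by norm_num) (by norm_num)
  exact tri_SL33.of_equiv ((H7.pslCongr e).trans (H7.quotCenterEquivOfBot hz))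

end H8.NG
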