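import Mathlib

/-! Arithmetic for groups with three prime divisors. -/

set_option autoImplicit false

namespace H8.NG

theorem two_pow_add_one_eq {j k : ℕ} (h : 2 ^ j + 1 = 3 ^ k) : j = 1 ∨ j = 3 := by
  have h1 : 3 ^ k % 80 = 3 ^ (k % 4) % 80 := by
    conv_lhs => rw [← Nat.div_add_mod k 4, pow_add, pow_mul, Nat.mul_mod, Nat.pow_mod]
    simp
  by_cases hj : 4 ≤ j
  · exfalso
    obtain ⟨i, rfl⟩ := Nat.exists_eq_add_of_le hj
    have h5 : ¬ 5 ∣ 2 ^ i := fun h => by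
      have := (by norm_num : Nat.Prime 5).dvd_of_dvd_pow h
      omega
    rw [← h, pow_add] at h1
    have h4 : k % 4 < 4 := Nat.mod_lt _ (by norm_num)
    generalize k % 4 = b at h1 h4
    generalize 2 ^ i = x at h1 h5
    interval_cases b <;> omega
  · have h4 : k % 4 < 4 := Nat.mod_lt _ (by norm_num)
    rw [← h] at h1
    generalize k % 4 = b at h1 h4
    push Not at hj
    interval_cases j
    · interval_cases b <;> omega
    · simp
    · interval_cases b <;> omega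
    · simp

theorem two_pow_eq_add_one {j k : ℕ} (h : 2 ^ j = 3 ^ k + 1) : j ≤ 2 := by
  by_contra hj
  obtain ⟨i, rfl⟩ := Nat.exists_eq_add_of_le (show 3 ≤ j by omega)
  have h1 : 3 ^ k % 8 = 3 ^ (k % 2) % 8 := by
    conv_lhs => rw [← Nat.div_add_mod k 2, pow_add, pow_mul, Nat.mul_mod, Nat.pow_mod]
    simp
  rw [pow_add] at h
  have h4 : k % 2 < 2 := Nat.mod_lt _ (by norm_num)
  generalize k % 2 = b at h1 h4
  interval_cases b <;> omega

theorem pow_or_prime {a n : ℕ} (hn : n ≠ 0) :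
    (∃ k, n = a ^ k) ∨ ∃ s : ℕ, s.Prime ∧ s ≠ a ∧ s ∣ n := by
  by_contra h
  push Not at h
  exact h.1 _ (Nat.eq_prime_pow_of_unique_prime_dvd hn fun {d} hd hdn => by
    by_contra e; exact h.2 d hd e hdn)

theorem primeFactors_eq_of_three {n a b c : ℕ} (h : n.primeFactors.card ≤ 3) (hn : n ≠ 0)
    (ha : a.Prime) (hb : b.Prime) (hc : c.Prime) (da : a ∣ n) (db : b ∣ n) (dc : c ∣ n)
    (hab : a ≠ b) (hac : a ≠ c) (hbc : b ≠ c) : n.primeFactors = {a, b, c} := by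
  refine (Finset.eq_of_subset_of_card_le ?_ ?_).symm
  · intro x hx
    simp only [Finset.mem_insert, Finset.mem_singleton] at hx
    rcases hx with rfl | rfl | rfl <;> simp [*]
  · rw [Finset.card_eq_three.2 ⟨a, b, c, hab, hac, hbc, rfl⟩]; exact h

theorem eq_of_three {n a b c d : ℕ} (h : n.primeFactors.card ≤ 3) (hn : n ≠ 0)
    (ha : a.Prime) (hb : b.Prime) (hc : c.Prime) (da : a ∣ n) (db : b ∣ n) (dc : c ∣ n)
    (hab : a ≠ b) (hac : a ≠ c) (hbc : b ≠ c) (hd : d.Prime) (dd : d ∣ n) :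
    d = a ∨ d = b ∨ d = c := by
  have : d ∈ n.primeFactors := by simp [*]
  rw [primeFactors_eq_of_three h hn ha hb hc da db dc hab hac hbc] at this
  simpa using this

theorem prime_dvd_both {s q : ℕ} (hs : s.Prime) (h1 : s ∣ q) (h2 : s ∣ q + 2) : s = 2 :=
  (Nat.prime_dvd_prime_iff_eq hs Nat.prime_two).1 ((Nat.dvd_add_right h1).1 h2)

theorem three_two_pow {n r : ℕ} (h : n.primeFactors.card ≤ 3) (hr : r.Prime)
    (hn : n = 2 ^ r * ((2 ^ r) ^ 2 - 1)) : r = 2 ∨ r = 3 := by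
  by_contra hne
  push Not at hne
  have ho := hr.odd_of_ne_two hne.1
  have h3 : 3 ∣ 2 ^ r + 1 := by simpa using Odd.nat_add_dvd_pow_add_pow 2 1 ho
  have h4 : 4 ≤ 2 ^ r := Nat.pow_le_pow_right (n := 2) (by norm_num) hr.two_le
  have h2 : 2 ∣ 2 ^ r := dvd_pow_self 2 hr.ne_zero
  rcases pow_or_prime (a := 3) (n := 2 ^ r + 1) (by omega) with ⟨k, hk⟩ | ⟨s, hs, hs3, hd⟩
  · rcases two_pow_add_one_eq hk with rfl | rfl
    · exact Nat.not_prime_one hr
    · exact hne.2 rfl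
  obtain ⟨u, hu⟩ : ∃ u, 2 ^ r = u + 1 := ⟨2 ^ r - 1, by omega⟩
  rw [hu] at hn h3 h4 h2 hd
  rw [show (u + 1) ^ 2 = u * (u + 2) + 1 by ring, Nat.add_sub_cancel] at hn
  obtain ⟨t, ht, htu⟩ := Nat.exists_prime_and_dvd (n := u) (by omega)
  have hs2 : s ≠ 2 := by rintro rfl; omega
  have ht2 : t ≠ 2 := by rintro rfl; omega
  rcases eq_of_three h (hn ▸ (Nat.mul_pos (by omega) (Nat.mul_pos (by omega) (by omega))).ne')
    Nat.prime_two Nat.prime_three hs
    (hn ▸ h2.mul_right _) (hn ▸ (h3.mul_left _).mul_left _) (hn ▸ (hd.mul_left _).mul_left _)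
    (by norm_num) hs2.symm hs3.symm ht (hn ▸ (htu.mul_right _).mul_left _) with rfl | rfl | rfl
  · exact ht2 rfl
  · omega
  · exact ht2 (prime_dvd_both ht htu hd)

theorem three_three_pow {n r : ℕ} (h : n.primeFactors.card ≤ 3) (hr : r.Prime) (hr2 : r ≠ 2)
    (hn : 2 * n = 3 ^ r * ((3 ^ r) ^ 2 - 1)) : False := by
  have hr3 : 3 ≤ r := by have := hr.two_le; omega
  have h4 : 27 ≤ 3 ^ r := Nat.pow_le_pow_right (n := 3) (by norm_num) hr3
  have h3 : 3 ∣ 3 ^ r := dvd_pow_self 3 hr.ne_zero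
  have h2 : Odd (3 ^ r) := Odd.pow (by decide)
  obtain ⟨u, hu⟩ : ∃ u, 3 ^ r = u + 1 := ⟨3 ^ r - 1, by omega⟩
  rcases pow_or_prime (a := 2) (n := u) (by omega) with ⟨k, hk⟩ | ⟨s, hs, hs2, hd⟩
  · rw [hk] at hu
    rcases two_pow_add_one_eq hu.symm with rfl | rfl <;> omega
  rcases pow_or_prime (a := 2) (n := 3 ^ r + 1) (by omega) with ⟨k, hk⟩ | ⟨t, ht, ht2, hd'⟩
  · have := Nat.pow_le_pow_right (n := 2) (by norm_num) (two_pow_eq_add_one hk.symm)
    omega
  rw [hu] at hn h3 h4 h2 hd'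
  rw [show (u + 1) ^ 2 = u * (u + 2) + 1 by ring, Nat.add_sub_cancel] at hn
  have hodd : ∀ {x : ℕ}, x.Prime → x ≠ 2 → x ∣ 2 * n → x ∣ n := fun hx hx2 h =>
    ((Nat.coprime_primes hx Nat.prime_two).2 hx2).dvd_of_dvd_mul_left h
  have hn2 : 2 ∣ n := by
    obtain ⟨v, rfl⟩ : ∃ v, u = 2 * v := ⟨u / 2, by rw [Nat.odd_iff] at h2; omega⟩
    exact ⟨(2 * v + 1) * (v * (v + 1)), by linarith⟩
  have hn0 : n ≠ 0 := by
    rintro rfl
    have : 0 < (u + 1) * (u * (u + 2)) := Nat.mul_pos (by omega) (Nat.mul_pos (by omega) (by omega))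
    omega
  rcases eq_of_three h hn0 Nat.prime_two Nat.prime_three hs hn2
    (hodd Nat.prime_three (by norm_num) (hn ▸ h3.mul_right _))
    (hodd hs hs2 (hn ▸ (hd.mul_right _).mul_left _))
    (by norm_num) hs2.symm (by rintro rfl; omega) ht
    (hodd ht ht2 (hn ▸ (hd'.mul_left _).mul_left _)) with rfl | rfl | rfl
  · exact ht2 rfl
  · omega
  · exact ht2 (prime_dvd_both ht hd hd')

theorem three_prime {n p : ℕ} (h : n.primeFactors.card ≤ 3) (hp : p.Prime) (h5 : 5 ≤ p)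
    (hn : 2 * n = p * (p ^ 2 - 1)) : p = 5 ∨ p = 7 ∨ p = 17 := by
  have h2 := hp.eq_two_or_odd.resolve_left (by omega)
  have h3 : ¬ 3 ∣ p := fun h => by
    have := (Nat.prime_dvd_prime_iff_eq Nat.prime_three hp).1 h
    omega
  obtain ⟨v, rfl⟩ : ∃ v, p = 2 * v + 1 := ⟨p / 2, by omega⟩
  rw [show (2 * v + 1) ^ 2 = 2 * (2 * (v * (v + 1))) + 1 by ring, Nat.add_sub_cancel] at hn
  have hn' : n = (2 * v + 1) * (2 * (v * (v + 1))) := by linarith
  have h3' : 3 ∣ v * (v + 1) := by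
    have h0 : v % 3 ≠ 1 := fun e => h3 (by omega)
    have : 3 ∣ v ∨ 3 ∣ v + 1 := by clear h2 h3; omega
    exact this.elim (·.mul_right _) (·.mul_left _)
  have key : ∀ s : ℕ, s.Prime → s ∣ v * (v + 1) → s = 2 ∨ s = 3 := fun s hs hd => by
    rcases eq_of_three h (hn' ▸ (Nat.mul_pos (by omega) (Nat.mul_pos (by omega)
      (Nat.mul_pos (by omega) (by omega)))).ne') Nat.prime_two Nat.prime_three hp
      (hn' ▸ (Dvd.intro _ rfl).mul_left _) (hn' ▸ (h3'.mul_left _).mul_left _)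
      (hn' ▸ Dvd.intro _ rfl) (by norm_num) (by omega) (by omega) hs
      (hn' ▸ (hd.mul_left _).mul_left _) with h | h | rfl
    · exact Or.inl h
    · exact Or.inr h
    · rcases (Nat.Prime.dvd_mul hs).1 hd with h | h <;>
        have := Nat.le_of_dvd (by omega) h <;> omega
  have pw : ∀ a b x : ℕ, x ≠ 0 → x ∣ v * (v + 1) → (∀ s, s = 2 ∨ s = 3 → s = a ∨ s = b) → ¬ b ∣ x →
      ∃ k, x = a ^ k := fun a b x h0 hx hab hb => by
    refine (pow_or_prime h0).resolve_right ?_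
    rintro ⟨s, hs, hsa, hd⟩
    rcases hab s (key s hs (hd.trans hx)) with rfl | rfl
    · exact hsa rfl
    · exact hb hd
  have d1 : v ∣ v * (v + 1) := Dvd.intro _ rfl
  have d2 : v + 1 ∣ v * (v + 1) := Dvd.intro_left _ rfl
  rcases Nat.even_or_odd v with he | ho
  · rw [Nat.even_iff] at he
    obtain ⟨k, hk⟩ := pw 3 2 (v + 1) (by omega) d2 (by omega) (by omega)
    have : 3 ∣ v + 1 := by
      rcases k with _ | k
      · omega
      · exact hk ▸ dvd_pow_self 3 k.succ_ne_zero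
    obtain ⟨j, hj⟩ := pw 2 3 v (by omega) d1 (by omega) (by omega)
    rcases two_pow_add_one_eq (hj ▸ hk) with rfl | rfl <;> omega
  · rw [Nat.odd_iff] at ho
    obtain ⟨k, hk⟩ := pw 3 2 v (by omega) d1 (by omega) (by omega)
    have : 3 ∣ v := by
      rcases k with _ | k
      · omega
      · exact hk ▸ dvd_pow_self 3 k.succ_ne_zero
    obtain ⟨j, hj⟩ := pw 2 3 (v + 1) (by omega) d2 (by omega) (by omega)
    have := Nat.pow_le_pow_right (n := 2) (by norm_num) (two_pow_eq_add_one (hj.symm.trans (congrArg (· + 1) hk)))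
    omega

end H8.NG
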