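import Mathlib
import Cfsg.Agent.H8.NG0
import Cfsg.Agent.H23.Rel
import Cfsg.Agent.H2.Cores
import Cfsg.Agent.S0205

/-! Non-solvable groups with solvable 2-local subgroups: reduction to a simple normal subgroup. -/

set_option autoImplicit false
open Cfsg
open scoped commutatorElement

namespace H8.NG
universe u

section rank
variable {G K X : Type*} [Group G] [Group K] [Group X] {p k : ℕ}

theorem pRank_congr (h : PRankLE p k G) (e : G ≃* X) : PRankLE p k X := fun A hA hp => by
  have h1 := h (A.map e.symm.toMonoidHom) inferInstance (by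
    rintro _ ⟨a, ha, rfl⟩
    rw [← map_pow, hp a ha, map_one])
  rwa [Subgroup.card_map_of_injective e.symm.injective] at h1

theorem pRank_of_sec (h : SectionalPRankLE p k G) (i : K →* G) (hi : Function.Injective i)
    (f : K →* X) (hf : Function.Surjective f) : PRankLE p k X :=
  pRank_congr (h i.range (f.comp (MonoidHom.ofInjective hi).symm.toMonoidHom).ker)
    (QuotientGroup.quotientKerEquivOfSurjective _ (hf.comp (MonoidHom.ofInjective hi).symm.surjective))

theorem sec_of_sec (h : SectionalPRankLE p k G) (i : K →* G) (hi : Function.Injective i)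
    (f : K →* X) (hf : Function.Surjective f) : SectionalPRankLE p k X := fun H N _ =>
  pRank_of_sec h (i.comp (H.comap f).subtype) (hi.comp (Subgroup.subtype_injective _))
    ((QuotientGroup.mk' N).comp (f.subgroupComap H))
    ((QuotientGroup.mk'_surjective N).comp (f.subgroupComap_surjective_of_surjective H hf))

theorem card_le_of_sec {F : Type*} [Field F] [CharP F 2] (h : SectionalPRankLE 2 k G) (i : K →* G)
    (hi : Function.Injective i) (f : K →* Multiplicative F) (hf : Function.Surjective f) :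
    Nat.card F ≤ 2 ^ k := by
  have := pRank_of_sec h i hi f hf ⊤ inferInstance fun a _ => by
    rw [sq]; exact CharTwo.add_self_eq_zero (R := F) a
  rwa [Subgroup.card_top] at this

end rank

theorem sol2_of_surj {G Q : Type u} [Group G] [Finite G] [Group Q] (h : H12.NG.Sol2 G) (f : G →* Q)
    (hf : Function.Surjective f) (hk : (Nat.card f.ker).Coprime 2) : H12.NG.Sol2 Q := by
  rintro _ ⟨T, hT, h1, rfl⟩
  obtain ⟨S', hS'⟩ := hT.exists_le_sylow
  obtain ⟨S, rfl⟩ := Sylow.mapSurjective_surjective hf 2 S'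
  have hP : ((S : Subgroup G) ⊓ T.comap f).map f = T := by
    refine le_antisymm ((Subgroup.map_mono inf_le_right).trans (Subgroup.map_comap_le _ _)) ?_
    intro t ht
    obtain ⟨s, hs, rfl⟩ := hS' ht
    exact ⟨s, ⟨hs, ht⟩, rfl⟩
  have h2 : IsPGroup 2 ↥((S : Subgroup G) ⊓ T.comap f) := S.2.to_le inf_le_left
  rw [← hP, ← H23.map_normalizer_of_cop_ker hf hk h2]
  refine H2.isSolvable_map (h _ ⟨_, h2, fun e => h1 ?_, rfl⟩) f
  rw [← hP, e, Subgroup.map_bot]

theorem sol2_subgroup {G : Type u} [Group G] (h : H12.NG.Sol2 G) (L : Subgroup G) :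
    H12.NG.Sol2 L := by
  rintro _ ⟨T, hT, h1, rfl⟩
  refine H2.isSolvable_of_map_subtype (H2.isSolvable_of_le
    (h _ ⟨T.map L.subtype, hT.map _, fun e => h1 ?_, rfl⟩) (Subgroup.le_normalizer_map _))
  exact (Subgroup.map_eq_bot_iff_of_injective _ L.subtype_injective).1 e

theorem odd_of_comm {G : Type u} [Group G] [Finite G] (h : H12.NG.Sol2 G) {L K : Subgroup G}
    (hL : ¬ Group.IsSolvable L) (hK : K ≤ Subgroup.centralizer (L : Set G)) :
    (Nat.card K).Coprime 2 := by
  by_contra h2
  rw [Nat.coprime_comm, Nat.prime_two.coprime_iff_not_dvd, not_not] at h2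
  obtain ⟨t, ht, ho⟩ := H2.exists_mem_orderOf_eq_prime Nat.prime_two h2
  refine hL (H2.isSolvable_of_le (h _ ⟨Subgroup.zpowers t, IsPGroup.of_card (n := 1) (by simp [ho]),
    ?_, rfl⟩) (le_trans ?_ (Subgroup.centralizer_le_normalizer _)))
  · rw [Ne, Subgroup.zpowers_eq_bot]; rintro rfl; simp at ho
  · rintro g hg _ ⟨j, rfl⟩
    exact (Commute.zpow_left (hK ht g hg).symm j :)

theorem exists_simple_normal {Q : Type u} [Group Q] [Finite Q] (h : H12.NG.Sol2 Q)
    (hO : oddCore Q = ⊥) (hs : ¬ Group.IsSolvable Q) :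
    ∃ L : Subgroup Q, L.Normal ∧ IsSimpleGroup L ∧ ¬ IsMulCommutative L ∧
      Subgroup.centralizer (L : Set Q) = ⊥ := by
  have hnt : (⊤ : Subgroup Q) ≠ ⊥ := by
    intro e
    have : Subsingleton Q := Subgroup.subsingleton_iff.1 (subsingleton_iff_bot_eq_top.1 e.symm)
    exact hs inferInstance
  obtain ⟨L, ⟨hL, hb⟩, hmin⟩ := (wellFounded_lt (α := Subgroup Q)).has_min
    {L : Subgroup Q | L.IsSubnormal ∧ L ≠ ⊥} ⟨⊤, Subgroup.IsSubnormal.top, hnt⟩
  have hsimple : IsSimpleGroup L := by
    have := (Subgroup.nontrivial_iff_ne_bot L).2 hb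
    refine ⟨fun N hN => ?_⟩
    by_contra hne
    push Not at hne
    refine hmin (N.map L.subtype) ⟨hN.isSubnormal.trans' hL, fun e => hne.1 ?_⟩ ?_
    · exact (Subgroup.map_eq_bot_iff_of_injective _ L.subtype_injective).1 e
    · refine lt_of_le_of_ne (Subgroup.map_subtype_le N) fun e => hne.2 ?_
      apply Subgroup.map_injective L.subtype_injective
      rw [e, ← MonoidHom.range_eq_map, Subgroup.range_subtype]
  have hna : ¬ IsMulCommutative L := fun hc => by
    open scoped IsMulCommutative in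
    have hp := IsSimpleGroup.prime_card (α := L)
    have := Fact.mk hp
    have h1 := H2.le_pCore_of_isSubnormal hL (IsPGroup.of_card (p := Nat.card L) (n := 1) (by simp))
    by_cases h2 : Nat.card L = 2
    · rw [h2] at h1
      have h3 := h _ ⟨pCore 2 Q, H2.pCore_isPGroup 2 Q, fun e => hb (le_bot_iff.1 (e ▸ h1)), rfl⟩
      rw [Subgroup.normalizer_eq_top] at h3
      exact hs (H2.isSolvable_top_iff.1 h3)
    · exact hb (le_bot_iff.1 (hO ▸ h1.trans (H2.pCore_le_pPrimeCore h2)))
  have hns := not_solvable_of_simple hna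
  have hc : IsComponent L := ⟨hL, H23.isQuasisimple_of_simple hsimple hna⟩
  have hn : L.Normal := ⟨fun x hx g => by
    rcases H23.IsComponent.eq_or_comm (H23.IsComponent.conj hc g) hc with e | e
    · exact e ▸ ⟨x, hx, rfl⟩
    · have h1 := odd_of_comm h hns (Subgroup.commutator_eq_bot_iff_le_centralizer.1 e)
      rw [Subgroup.card_map_of_injective (MulAut.conj g).injective] at h1
      exact absurd (Cfsg.Agent.S0205.result (Nat.coprime_two_right.1 h1)) hns⟩
  exact ⟨L, hn, hsimple, hna,
    le_bot_iff.1 (hO ▸ H2.le_pPrimeCore inferInstance (odd_of_comm h hns le_rfl))⟩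

/-- the outer automorphism group is abelian -/
def OA (L : Type*) [Group L] : Prop := ∀ α β : MulAut L, ∃ g : L, ⁅α, β⁆ = MulAut.conj g

theorem commutator_eq_of_oa {Q : Type*} [Group Q] {L : Subgroup Q} [L.Normal] [IsSimpleGroup L]
    (hna : ¬ IsMulCommutative L) (hC : Subgroup.centralizer (L : Set Q) = ⊥) (h : OA L) :
    commutator Q = L := by
  refine le_antisymm (Subgroup.commutator_le.2 fun a _ b _ => ?_) ?_
  · obtain ⟨g, hg⟩ := h (MulAut.conjNormal a) (MulAut.conjNormal b)
    rw [← map_commutatorElement] at hg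
    have h1 : (g : Q)⁻¹ * ⁅a, b⁆ ∈ Subgroup.centralizer (L : Set Q) := fun x hx => by
      have : ⁅a, b⁆ * x * ⁅a, b⁆⁻¹ = g * x * (g : Q)⁻¹ :=
        congrArg (fun φ : MulAut L => (φ ⟨x, hx⟩ : Q)) hg
      calc x * ((g : Q)⁻¹ * ⁅a, b⁆) = (g : Q)⁻¹ * (g * x * (g : Q)⁻¹) * ⁅a, b⁆ := by group
        _ = _ := by rw [← this]; group
    rw [hC, Subgroup.mem_bot, inv_mul_eq_one] at h1
    exact h1 ▸ g.2
  · rw [← H23.IsQuasisimple.perfect (H23.isQuasisimple_of_simple inferInstance hna)]
    exact Subgroup.commutator_mono le_top le_top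

/-- the reduction -/
theorem exists_L {G : Type u} [Group G] [Finite G] (hG : ¬ Group.IsSolvable G)
    (h4 : SectionalPRankLE 2 4 G) (h : H12.NG.Sol2 G) :
    ∃ (L : Type u) (_ : Group L) (_ : Finite L), IsSimpleGroup L ∧ ¬ IsMulCommutative L ∧
      H12.NG.Sol2 L ∧ SectionalPRankLE 2 4 L ∧
      (OA L → Nonempty (↥(commutator G) ⧸ oddCore ↥(commutator G) ≃* L)) := by
  have hco := H2.pPrimeCore_coprime 2 G
  have h1 := sol2_of_surj h (QuotientGroup.mk' (oddCore G)) (QuotientGroup.mk'_surjective _)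
    (by rwa [QuotientGroup.ker_mk'])
  obtain ⟨L, hn, hs, hna, hC⟩ := exists_simple_normal h1 (H2.pPrimeCore_quotient_pPrimeCore 2 G)
    fun h' => hG (H2.isSolvable_of_normal_quotient _
      (Cfsg.Agent.S0205.result (Nat.coprime_two_right.1 hco)) h')
  refine ⟨L, inferInstance, inferInstance, hs, hna, sol2_subgroup h1 L,
    sec_of_sec (sec_of_sec h4 (MonoidHom.id G) Function.injective_id _
      (QuotientGroup.mk'_surjective _)) L.subtype L.subtype_injective (MonoidHom.id L)
      Function.surjective_id, fun hoa => ?_⟩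
  let π := (QuotientGroup.mk' (oddCore G)).comp (commutator G).subtype
  have hr : π.range = L := by
    rw [← commutator_eq_of_oa hna hC hoa, MonoidHom.range_comp, Subgroup.range_subtype,
      commutator_def, Subgroup.map_commutator,
      Subgroup.map_top_of_surjective _ (QuotientGroup.mk'_surjective _), commutator_def]
  have hk : oddCore ↥(commutator G) = π.ker := by
    rw [← MonoidHom.comap_ker, QuotientGroup.ker_mk']
    exact (H2.pPrimeCore_subgroupOf_eq 2 (commutator G)).symm
  exact ⟨(QuotientGroup.quotientMulEquivOfEq hk).trans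
    ((QuotientGroup.quotientKerEquivRange π).trans (MulEquiv.subgroupCongr hr))⟩

end H8.NG
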