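import Mathlib
import Cfsg.Agent.H8.NG1
import Cfsg.Agent.H8.NG6
import Cfsg.Agent.H16.PGamma
import Cfsg.Agent.H5.SA1
import Cfsg.Agent.S0813
import Cfsg.Agent.S0815

/-! The outer automorphism groups of the groups of the list are abelian. -/

set_option autoImplicit false
open Cfsg Matrix
open scoped commutatorElement MatrixGroups

namespace H8.NG

section general
variable {L : Type*} [Group L]

theorem OA.congr {L' : Type*} [Group L'] (h : OA L) (e : L' ≃* L) : OA L' := fun α β => by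
  obtain ⟨g, hg⟩ := h (MulAut.congr e α) (MulAut.congr e β)
  refine ⟨e.symm g, (MulAut.congr e).injective ?_⟩
  rw [map_commutatorElement, hg]
  exact MulEquiv.ext fun x => by simp [MulAut.congr]

theorem conj_range_normal : (MulAut.conj : L →* MulAut L).range.Normal :=
  ⟨by
    rintro _ ⟨g, rfl⟩ α
    exact ⟨α g, MulEquiv.ext fun x => by simp⟩⟩

theorem oa_of_quot [h : (MulAut.conj : L →* MulAut L).range.Normal] (hc : ∀ α β : MulAut L,
    Commute (QuotientGroup.mk' (MulAut.conj : L →* MulAut L).range α) (QuotientGroup.mk' _ β)) :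
    OA L := fun α β => by
  have := hc α β
  rw [← commutatorElement_eq_one_iff_commute, ← map_commutatorElement, QuotientGroup.mk'_apply,
    QuotientGroup.eq_one_iff] at this
  exact this.imp fun _ h => h.symm

theorem oa_of_card [Finite L] [IsSimpleGroup L] (hna : ¬ IsMulCommutative L) {k : ℕ}
    (hk : k = 2 ∨ k = 4) (h : Nat.card (MulAut L) = k * Nat.card L) : OA L := by
  have := conj_range_normal (L := L)
  have hinj : Function.Injective (MulAut.conj : L →* MulAut L) := by
    rw [← MonoidHom.ker_eq_bot_iff]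
    refine (inferInstance : (MulAut.conj : L →* MulAut L).ker.Normal).eq_bot_or_eq_top.resolve_right
      fun e => hna ⟨⟨fun a b => ?_⟩⟩
    have h1 : MulAut.conj a = 1 := (e ▸ Subgroup.mem_top a : a ∈ (MulAut.conj : L →* MulAut L).ker)
    exact mul_inv_eq_iff_eq_mul.1 (congrArg (fun φ : MulAut L => φ b) h1)
  have h1 := Subgroup.card_eq_card_quotient_mul_card_subgroup (MulAut.conj : L →* MulAut L).range
  rw [h, ← Nat.card_congr (MonoidHom.ofInjective hinj).toEquiv] at h1
  have h2 := (Nat.eq_of_mul_eq_mul_right Nat.card_pos h1).symm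
  have h3 : IsMulCommutative (MulAut L ⧸ (MulAut.conj : L →* MulAut L).range) := by
    rcases hk with rfl | rfl
    · have := isCyclic_of_prime_card h2
      infer_instance
    · exact IsPGroup.isMulCommutative_of_card_eq_prime_sq (p := 2) h2
  exact oa_of_quot fun α β => h3.1.1 _ _

theorem oa_of_norm (P : MulAut L → Prop) (h1 : ∀ α, ∃ g, P (MulAut.conj g * α))
    (h2 : ∀ α β, P α → P β → ∃ g : L, (β * α)⁻¹ * (α * β) = MulAut.conj g) : OA L := by
  have := conj_range_normal (L := L)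
  refine oa_of_quot fun α β => ?_
  obtain ⟨g, hg⟩ := h1 α
  obtain ⟨g', hg'⟩ := h1 β
  have e : ∀ (x : L) (γ : MulAut L), QuotientGroup.mk' (MulAut.conj : L →* MulAut L).range γ =
      QuotientGroup.mk' _ (MulAut.conj x * γ) := fun x γ => by
    rw [map_mul, show QuotientGroup.mk' (MulAut.conj : L →* MulAut L).range (MulAut.conj x) = 1 from
      (QuotientGroup.eq_one_iff _).2 ⟨x, rfl⟩, one_mul]
  rw [e g α, e g' β, Commute, SemiconjBy, ← map_mul, ← map_mul, eq_comm]
  obtain ⟨x, hx⟩ := h2 _ _ hg hg'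
  exact QuotientGroup.eq.2 ⟨x, hx.symm⟩

theorem fix_of_zpowers {x : L} {α β : MulAut L} (ha : α x ∈ Subgroup.zpowers x)
    (hb : β x ∈ Subgroup.zpowers x) : ((β * α)⁻¹ * (α * β)) x = x := by
  obtain ⟨i, hi⟩ := ha
  obtain ⟨j, hj⟩ := hb
  rw [MulAut.mul_apply, MulAut.inv_apply, MulEquiv.symm_apply_eq, MulAut.mul_apply,
    MulAut.mul_apply, ← hi, ← hj, map_zpow, map_zpow, ← hi, ← hj]
  simp only [← _root_.zpow_mul, mul_comm]

theorem oa_of_rigid [Finite L] {p : ℕ} [Fact p.Prime] {x : L} (hx : orderOf x = p)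
    (hp : (Nat.card L).factorization p = 1) (h : ∀ α : MulAut L, α x = x → ∃ g, α = MulAut.conj g) :
    OA L := by
  refine oa_of_norm (fun α => α x ∈ Subgroup.zpowers x) (fun α => ?_)
    fun α β ha hb => h _ (fix_of_zpowers ha hb)
  obtain ⟨g, hg⟩ := MulAction.exists_smul_eq L
    (Sylow.ofCard (p := p) (Subgroup.zpowers (α x)) (by simp [hx, hp]))
    (Sylow.ofCard (p := p) (Subgroup.zpowers x) (by simp [hx, hp]))
  refine ⟨g, ?_⟩
  have h1 := congrArg (fun S : Sylow p L => (S : Subgroup L)) hg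
  simp only [Sylow.coe_subgroup_smul, Sylow.coe_ofCard] at h1
  rw [← h1]
  exact Subgroup.smul_mem_pointwise_smul _ _ _ (Subgroup.mem_zpowers _)

end general

theorem oa_L2 {F : Type*} [Field F] [Finite F] : OA PSL(2, F) := by
  refine OA.congr (fun α β => ?_) (H16.pslPH F)
  obtain ⟨a, rfl⟩ := H16.conjNormal_bijective.2 α
  obtain ⟨b, rfl⟩ := H16.conjNormal_bijective.2 β
  exact ⟨⟨_, H16.commutator_mem_PH a b⟩, by
    rw [← map_commutatorElement]; exact MulEquiv.ext fun _ => rfl⟩

theorem oa_A7 : OA (alternatingGroup (Fin 7)) := by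
  have := conj_range_normal (L := alternatingGroup (Fin 7))
  have hinj : Function.Injective (MulAut.conj : alternatingGroup (Fin 7) →* _) := by
    rw [injective_iff_map_eq_one]
    intro g hg
    refine Subtype.ext (H5.SA.eq_one_of_comm (by simp) fun τ hτ => ?_)
    exact mul_inv_eq_iff_eq_mul.1 (congrArg
      (fun φ : MulAut (alternatingGroup (Fin 7)) => (φ ⟨τ, H5.SA.ev_iff.1 hτ⟩).1) hg)
  obtain ⟨φ, hφ, -⟩ := H5.SA.fr_of_hom _ hinj
  intro α β
  have hN := fun γ => (Subgroup.normalizer_eq_top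
    (MulAut.conj : alternatingGroup (Fin 7) →* _).range).ge (Subgroup.mem_top γ)
  obtain ⟨ρ, hρ⟩ := hφ.exists_act (by simp) (by simp) (hN α)
  obtain ⟨σ, hσ⟩ := hφ.exists_act (by simp) (by simp) (hN β)
  have h1 := H5.SA.Act.mem_C' hφ (((hρ.mul hσ).mul hρ.inv).mul hσ.inv) (hφ.act (H5.SA.ev_comm ρ σ))
  obtain ⟨g, hg⟩ := hφ.mem (H5.SA.ev_comm ρ σ)
  refine ⟨g, ?_⟩
  rw [← hg] at h1
  rw [commutatorElement_def, ← mul_inv_eq_one]
  generalize α * β * α⁻¹ * β⁻¹ * (MulAut.conj g)⁻¹ = δ at h1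
  refine MulEquiv.ext fun x => hinj (MulEquiv.ext fun y => ?_)
  have := congrArg (fun ψ : MulAut (alternatingGroup (Fin 7)) => ψ (δ⁻¹ y)) (h1 _ ⟨x, rfl⟩)
  simpa using this.symm

section M11
open H21

theorem chk_rigid : ∀ B ∈ [none, some 0], ∀ C ∈ pts11, ∀ D ∈ pts11,
    let σ := cand (mlF (3 * 3)) lg11 rp11 [some 0, B, C, D] (some 0)
    eqF σ^[4] id = true → eqF (shF ∘ σ ∘ σ ∘ σ)^[3] id = true → eqF σ s11 = true := by
  decide +kernel

theorem comm_sh {c : Equiv.Perm Ω11} (h : c * shP = shP * c) : ∃ k : ℕ, c = shP ^ k := by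
  have h1 : ∀ y, c (shF y) = shF (c y) := fun y => congrArg (fun z : Equiv.Perm Ω11 => z y) h
  have h2 : c none = none :=
    (by decide +kernel : ∀ y : Ω11, y = shF y → y = none) _ (h1 none)
  have h3 := eq_cand (lg := fun y : Ω11 => (y.map ZMod.val).getD 0)
    (rp := fun y => if y = none then 0 else 1) (reps := [none, some 0]) (o := none) h1
    (by decide +kernel)
  obtain ⟨k, hk⟩ := (by decide +kernel : ∀ B : Ω11, B ≠ none → ∃ k : Fin 11, ∀ y,
    cand shF (fun y : Ω11 => (y.map ZMod.val).getD 0) (fun y => if y = none then 0 else 1)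
      [none, B] none y = shF^[k] y) (c (some 0)) fun e => by
        simpa using c.injective (e.trans h2.symm)
  refine ⟨k, Equiv.ext fun y => ?_⟩
  rw [h3, Equiv.Perm.coe_pow, coe_shP, ← hk]
  simp [h2]

theorem eq_one_of_gens {β : MulAut X11} (h1 : β x11 = x11) (h2 : β w11 = w11) (h3 : β f11 = f11) :
    β = 1 := by
  refine MulEquiv.ext fun ⟨g, hg⟩ => ?_
  induction hg using Subgroup.closure_induction with
  | mem x hx =>
    rcases hx with rfl | rfl | rfl
    exacts [h1, h2, h3]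
  | one => exact map_one β
  | mul x y hx hy ihx ihy => exact (map_mul β ⟨x, hx⟩ ⟨y, hy⟩).trans (congrArg₂ (· * ·) ihx ihy)
  | inv x hx ih => exact (map_inv β ⟨x, hx⟩).trans (congrArg (·⁻¹) ih)

theorem fix_none {β : MulAut X11} (h1 : β x11 = x11) (h2 : β w11 = w11) :
    (β f11).1 none ≠ none := fun h3 => by
  have key : ∀ g (hg : g ∈ X11), (β ⟨g, hg⟩).1 none = none := by
    intro g hg
    induction hg using Subgroup.closure_induction with
    | mem x hx =>
      rcases hx with rfl | rfl | rfl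
      · exact (congrArg (fun z : X11 => z.1 none) h1).trans rfl
      · exact (congrArg (fun z : X11 => z.1 none) h2).trans rfl
      · exact h3
    | one => exact (congrArg (fun z : X11 => z.1 none) (map_one β)).trans rfl
    | mul x y hx hy ihx ihy =>
      refine (congrArg (fun z : X11 => z.1 none) (map_mul β ⟨x, hx⟩ ⟨y, hy⟩)).trans ?_
      show (β ⟨x, hx⟩).1 ((β ⟨y, hy⟩).1 none) = none
      rw [ihy, ihx]
    | inv x hx ih =>
      refine (congrArg (fun z : X11 => z.1 none) (map_inv β ⟨x, hx⟩)).trans ?_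
      exact Equiv.Perm.inv_eq_iff_eq.2 ih.symm
  have := key (β.symm f11).1 (β.symm f11).2
  simp only [Subtype.coe_eta, MulEquiv.apply_symm_apply] at this
  exact absurd this (by decide +kernel)

theorem rigid_fix {β : MulAut X11} (h1 : β x11 = x11) (h2 : β w11 = w11) : β = 1 := by
  refine eq_one_of_gens h1 h2 ?_
  have r1 : f11 * w11 = w11 * w11 * f11 := Subtype.ext (Equiv.ext (by decide +kernel))
  have r2 : f11 ^ 4 = 1 := Subtype.ext (Equiv.ext (by decide +kernel))
  have r3 : (x11 * f11 * f11 * f11) ^ 3 = 1 := Subtype.ext (Equiv.ext (by decide +kernel))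
  apply_fun β at r1 r2 r3
  simp only [map_mul, map_pow, map_one, h1, h2] at r1 r2 r3
  have h0 := fix_none h1 h2
  generalize β f11 = σ at *
  have h3 : ∀ y, σ.1 (mlF 3 y) = mlF (3 * 3) (σ.1 y) := fun y =>
    (congrArg (fun z : X11 => z.1 y) r1).trans
      ((by decide +kernel : ∀ z : Ω11, mlF 3 (mlF 3 z) = mlF (3 * 3) z) _)
  have h4 := eq_cand (o := none) h3 rep11
  have h5 : σ.1 none = some 0 := by
    simpa [h0] using fix_ml (k := 3 * 3) (by decide) (h3 none).symm
  have h6 := chk_rigid _ (fix_ml (k := 3 * 3) (by decide) (h3 (some 0)).symm) _ (mem_pts11 (σ.1 (some 1)))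
    _ (mem_pts11 (σ.1 (some 2)))
  simp only [List.map_cons, List.map_nil, h5] at h4
  simp only [← h4] at h6
  have e : ∀ f : Ω11 → Ω11, f = id → eqF f id = true := by rintro _ rfl; simp [eqF]
  refine Subtype.ext (Equiv.ext (congrFun (eq_of_eqF (h6 (e _ ?_) (e _ ?_)))))
  · exact congrArg (fun z : X11 => (z.1 : Ω11 → Ω11)) r2
  · exact congrArg (fun z : X11 => (z.1 : Ω11 → Ω11)) r3

theorem rigid_X11 (α : MulAut X11) (h : α x11 = x11) : ∃ g, α = MulAut.conj g := by
  have r1 : w11 * x11 = x11 ^ 3 * w11 := Subtype.ext (Equiv.ext (by decide +kernel))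
  have r2 : x11 ^ 11 = 1 := Subtype.ext (Equiv.ext (by decide +kernel))
  have r3 := congrArg α r1
  simp only [map_mul, map_pow, h] at r3
  have r4 : w11⁻¹ * α w11 * x11 = x11 * (w11⁻¹ * α w11) := by
    rw [mul_assoc, r3, ← mul_inv_eq_iff_eq_mul.2 r1]
    group
  obtain ⟨k, hk⟩ := comm_sh (congrArg Subtype.val r4)
  have hk' : α w11 = w11 * x11 ^ k := by
    rw [← inv_mul_eq_iff_eq_mul]; exact Subtype.ext hk
  have r5 : x11 ^ 7 * w11 * x11 * (x11 ^ 7)⁻¹ = w11 := Subtype.ext (Equiv.ext (by decide +kernel))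
  have r6 : ∀ j : ℕ, (x11 ^ 7) ^ j * (w11 * x11 ^ j) * ((x11 ^ 7) ^ j)⁻¹ = w11 := fun j => by
    induction j with
    | zero => simp
    | succ j ih =>
      calc _ = x11 ^ 7 * ((x11 ^ 7) ^ j * (w11 * x11 ^ j) * ((x11 ^ 7) ^ j)⁻¹) * x11 *
          (x11 ^ 7)⁻¹ := by group
        _ = _ := by rw [ih, r5]
  have := rigid_fix (β := MulAut.conj ((x11 ^ 7) ^ k) * α) (by rw [MulAut.mul_apply, h, MulAut.conj_apply]; group)
    (by rw [MulAut.mul_apply, hk', MulAut.conj_apply, r6])
  exact ⟨_, (eq_inv_of_mul_eq_one_right this).trans (map_inv _ _).symm⟩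

theorem oa_M11 {G : Type*} [Group G] [Finite G] (h : IsM11 G) : OA G := by
  have := h.1
  obtain ⟨e⟩ := m11_iso h.2
  refine OA.congr (oa_of_rigid (p := 11) (x := x11) (orderOf_eq_prime
    (Subtype.ext (Equiv.ext (by decide +kernel)))
    fun h => absurd (congrArg (fun z : X11 => z.1 (some 0)) h) (by decide +kernel)) ?_ rigid_X11) e
  rw [← Nat.card_congr e.toEquiv, h.2]
  decide +kernel

end M11

end H8.NG
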