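import Mathlib
import Cfsg.Agent.H8.NG2
import Cfsg.Agent.H8.NG7
import Cfsg.Agent.H12.U3b

/-! Automorphisms of the Suzuki groups; rank restrictions. -/

set_option autoImplicit false
open Cfsg Matrix
open scoped MatrixGroups

namespace H8.NG

section Sz
variable {F : Type*} [Field F] [Finite F] {m : ℕ} (T : Sz.Ctx F m)

theorem sz_surj (b : F) (hb : b ≠ 0) : ∃ k : Fˣ, T.σ k * k ^ 2 * b = 1 := by
  let φ : Fˣ →* Fˣ := Units.map (T.σ : F →* F) * powMonoidHom 2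
  have hφ : Function.Injective φ := (injective_iff_map_eq_one φ).2 fun a ha =>
    Units.ext (T.eq_one_of_σ_mul_sq (by simpa [φ] using congrArg Units.val ha))
  obtain ⟨k, hk⟩ := Finite.surjective_of_injective hφ (Units.mk0 b hb)⁻¹
  have : T.σ k * k ^ 2 = b⁻¹ := by simpa [φ] using congrArg Units.val hk
  exact ⟨k, by rw [this, inv_mul_cancel₀ hb]⟩

theorem sz_rigid0 {δ : MulAut (Cfsg.Sz F m)} (hH : ∀ k, δ (T.h k) = T.h k)
    (hU : ∀ x ∈ T.U, δ x ∈ T.U) (h1 : δ (T.u 0 1) = T.u 0 1) : δ = 1 := by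
  have two := T.two_eq_zero
  have hz : ∀ b, δ (T.u 0 b) = T.u 0 b := fun b => by
    by_cases hb : b = 0
    · rw [hb, T.u_zero, map_one]
    obtain ⟨k, hk⟩ := sz_surj T b⁻¹ (inv_ne_zero hb)
    have := T.h_conj_u k 0 1
    rw [mul_zero, mul_one, (mul_inv_eq_one₀ hb).1 hk] at this
    rw [← this, map_mul, map_mul, map_inv, hH, h1]
  obtain ⟨k0, hk0⟩ := T.exists_unit_ne_one
  have hw1 : T.w * T.h k0 * T.w⁻¹ = T.h k0⁻¹ := by rw [T.w_mul_h]; group
  have hw2 : δ T.w * T.h k0 * (δ T.w)⁻¹ = T.h k0⁻¹ := by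
    rw [← hH k0, ← map_inv, ← map_mul, ← map_mul, hw1, hH]
  have hne : T.h k0 ≠ 1 := fun e => hk0 (T.h_inj.1 (e.trans T.h_one.symm))
  obtain ⟨l, hl⟩ : ∃ l, δ T.w = T.w * T.h l := by
    rcases T.mem_or_of_conj_mem_H (T.mem_H.2 ⟨k0, rfl⟩) hne (hw2 ▸ T.mem_H.2 ⟨_, rfl⟩) with h | h
    · rw [T.H_comm h (T.mem_H.2 ⟨k0, rfl⟩), mul_inv_cancel_right, T.h_inj] at hw2
      have h3 : (k0 : F) ^ 2 = 1 := by
        rw [sq, ← Units.val_mul, mul_eq_one_iff_eq_inv.2 hw2, Units.val_one]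
      have h4 : ((k0 : F) - 1) ^ 2 = 0 := by linear_combination h3 + (1 - (k0 : F)) * two
      exact absurd (Units.ext (sub_eq_zero.1 (pow_eq_zero_iff two_ne_zero |>.1 h4))) hk0
    · obtain ⟨l, hl⟩ := T.mem_H.1 h
      exact ⟨l, by rw [← hl, ← mul_assoc, T.w_mul_w, one_mul]⟩
  have hf : ∀ y : F, T.f 0 y = T.σ y := fun y => by simp [Sz.Ctx.f]
  have hB : (T.u 1 0 * T.w)⁻¹ * (T.w * T.u 0 1 * T.w) ∈ Sz.B F m := by
    show ((T.u 1 0 * T.w)⁻¹ * (T.w * T.u 0 1 * T.w)) • Sz.inf F = Sz.inf F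
    rw [mul_smul, inv_smul_eq_iff]
    simp only [mul_smul, T.w_inf, T.u_pt_zero]
    rw [T.w_pt (by simp [hf])]
    simp [hf]
  have hB' : ∀ g ∈ Sz.B F m, δ g ∈ Sz.B F m := fun g hg => by
    obtain ⟨a, b, k, rfl⟩ := T.mem_B.1 hg
    rw [map_mul, hH]
    exact mul_mem (T.U_le_B (hU _ (T.u_mem_U a b))) (T.H_le_B (T.mem_H.2 ⟨k, rfl⟩))
  obtain ⟨a, b, hab⟩ := T.mem_U.1 (hU _ (T.u_mem_U 1 0))
  have h2 : (δ ((T.u 1 0 * T.w)⁻¹ * (T.w * T.u 0 1 * T.w))) • Sz.inf F = Sz.inf F := hB' _ hB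
  have hμ : T.σ l * (l : F) ^ 2 * 1 ≠ 0 := by simp [T.σ_eq_zero]
  simp only [map_mul, map_inv, hab, hl, h1] at h2
  rw [mul_smul, inv_smul_eq_iff] at h2
  simp only [mul_smul, T.w_inf, T.h_inf, T.u_pt_zero, T.h_pt, mul_zero] at h2
  rw [T.w_pt (by rw [hf]; exact fun e => hμ (T.σ_eq_zero.1 e)), T.pt_inj, hf, zero_div] at h2
  have h3 := congrArg δ (T.u_sq 1 0)
  rw [map_pow, hab, T.u_sq, hz, T.u_inj, map_one, mul_one] at h3
  have ha : a = 1 := T.eq_one_of_σ_mul h3.2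
  have h10 : δ (T.u 1 0) = T.u 1 0 := by rw [hab, ha, ← h2.2]
  have hl1 : l = 1 := by
    have h4 := h2.1
    rw [ha, div_eq_one_iff_eq fun e => hμ (T.σ_eq_zero.1 e)] at h4
    have h5 := T.sq (T.σ l * (l : F) ^ 2 * 1)
    rw [← h4, ← h4] at h5
    refine Units.ext (T.eq_one_of_σ_mul_sq ?_)
    generalize T.σ l * (l : F) ^ 2 = μ at h5 hμ
    rw [mul_one] at h5 hμ
    exact mul_left_cancel₀ hμ (by rw [← sq, ← h5, mul_one])
  have hw : δ T.w = T.w := by rw [hl, hl1, T.h_one, mul_one]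
  refine MulEquiv.ext (T.induction_on (fun a b => ?_) hH hw fun g g' h h' => ?_)
  · have e : T.u a b = T.u a 0 * T.u 0 b := by simp [T.u_mul]
    show δ _ = T.u a b
    rw [e, map_mul, hz]
    congr 1
    by_cases ha : a = 0
    · rw [ha, hz]
    obtain ⟨c, rfl⟩ := Finite.surjective_of_injective T.σ.injective a
    have := T.h_conj_u (Units.mk0 c fun e => ha (by simp [e])) 1 0
    rw [mul_zero, mul_one, Units.val_mk0] at this
    rw [← this, map_mul, map_mul, map_inv, hH, h10]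
  · show δ _ = g * g'
    rw [map_mul]
    exact congrArg₂ (· * ·) h h'

theorem sz_rigid {δ : MulAut (Cfsg.Sz F m)} (hH : ∀ k, δ (T.h k) = T.h k)
    (hU : ∀ x ∈ T.U, δ x ∈ T.U) : ∃ g, δ = MulAut.conj g := by
  obtain ⟨a, b, hab⟩ := T.mem_U.1 (hU _ (T.u_mem_U 0 1))
  have h1 := congrArg δ (T.u_sq 0 1)
  rw [map_pow, hab, T.u_sq, mul_zero, T.u_zero, map_one, ← T.u_zero, T.u_inj] at h1
  have ha : a = 0 := by simpa [T.σ_eq_zero] using h1.2
  have hb : b ≠ 0 := by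
    rintro rfl
    rw [ha, T.u_zero, map_eq_one_iff δ δ.injective] at hab
    exact T.u_ne_one (by simp) hab
  obtain ⟨k, hk⟩ := sz_surj T b hb
  have := sz_rigid0 T (δ := MulAut.conj (T.h k) * δ) (fun l => by
      rw [MulAut.mul_apply, hH, MulAut.conj_apply, T.h_mul, mul_comm k, ← T.h_mul,
        mul_inv_cancel_right])
    (fun x hx => T.conj_mem_U (T.H_le_B (T.mem_H.2 ⟨k, rfl⟩)) (hU x hx))
    (by rw [MulAut.mul_apply, hab, MulAut.conj_apply, T.h_conj_u, ha, mul_zero, hk])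
  exact ⟨_, (eq_inv_of_mul_eq_one_right this).trans (map_inv _ _).symm⟩

include T in
theorem oa_Sz0 : OA (Cfsg.Sz F m) := by
  obtain ⟨k0, hk0⟩ := IsCyclic.exists_generator (α := Fˣ)
  have hz : ∀ g, g ∈ T.H ↔ g ∈ Subgroup.zpowers (T.h k0) := fun g => by
    refine ⟨fun hg => ?_, fun hg => (Subgroup.zpowers_le (G := Cfsg.Sz F m)).2 (T.mem_H.2 ⟨k0, rfl⟩) hg⟩
    obtain ⟨k, rfl⟩ := T.mem_H.1 hg
    obtain ⟨i, rfl⟩ := hk0 k
    exact ⟨i, (map_zpow T.hHom k0 i).symm⟩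
  have hne : T.h k0 ≠ 1 := fun e => by
    obtain ⟨k, hk⟩ := T.exists_unit_ne_one
    have := (hz _).1 (T.mem_H.2 ⟨k, rfl⟩)
    rw [e, Subgroup.zpowers_one_eq_bot, Subgroup.mem_bot, ← T.h_one, T.h_inj] at this
    exact hk this
  refine oa_of_norm (fun α => α (T.h k0) ∈ Subgroup.zpowers (T.h k0) ∧ ∀ x, x ∈ T.U ↔ α x ∈ T.U)
    (fun α => ?_) fun α β ha hb => sz_rigid T (fun k => ?_) fun x hx => ?_
  · obtain ⟨g, hg⟩ := MulAction.exists_smul_eq (Cfsg.Sz F m) (α • T.sylowU) T.sylowU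
    have h1 : ∀ x, x ∈ T.U ↔ (MulAut.conj g * α) x ∈ T.U := fun x => by
      have h2 := congrArg (fun S : Sylow 2 (Cfsg.Sz F m) => (S : Subgroup (Cfsg.Sz F m))) hg
      simp only [Sylow.coe_subgroup_smul, Sylow.pointwise_smul_def, T.coe_sylowU, ← mul_smul] at h2
      conv_rhs => rw [← h2]
      exact Subgroup.smul_mem_pointwise_smul_iff.symm
    generalize hβ : MulAut.conj g * α = β at h1
    have hB : β (T.h k0) ∈ Sz.B F m := by
      have h3 : T.h k0 ∈ Subgroup.normalizer (T.U : Set (Cfsg.Sz F m)) :=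
        T.normalizer_U ▸ T.H_le_B (T.mem_H.2 ⟨k0, rfl⟩)
      rw [← T.normalizer_U, Subgroup.mem_normalizer_iff]
      intro y
      obtain ⟨y, rfl⟩ := β.surjective y
      rw [← map_inv, ← map_mul, ← map_mul, ← h1, ← h1]
      exact Subgroup.mem_normalizer_iff.1 h3 y
    have hB' : β (T.h k0) • Sz.inf F = Sz.inf F := hB
    have hne' : ∀ y, y * β (T.h k0) * y⁻¹ ≠ 1 := fun y => by simpa using hne
    obtain ⟨y, hy, hyB⟩ : ∃ y, y * β (T.h k0) * y⁻¹ ∈ T.H ∧ y ∈ Sz.B F m := by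
      rcases T.trichotomy (β (T.h k0)) with ⟨y, hy⟩ | ⟨y, hy⟩ | h
      · exfalso
        obtain ⟨a, b, hab⟩ := T.mem_U.1 hy
        have h4 : T.h k0 ^ 4 = 1 := by
          have := T.u_pow_four a b
          rw [← hab, conj_pow, ← map_pow, conj_eq_one_iff] at this
          exact (map_eq_one_iff β β.injective).1 this
        have h5 : T.h k0 ^ (Nat.card F - 1) = 1 := by
          rw [← T.card_H]
          exact congrArg Subtype.val (pow_card_eq_one' (x := (⟨_, T.mem_H.2 ⟨k0, rfl⟩⟩ : T.H)))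
        refine hne (eq_one_of_pow_coprime ?_ h4 h5)
        have h6 := T.even_card
        have h7 := Nat.card_pos (α := F)
        rw [Nat.even_iff] at h6
        exact Nat.Coprime.pow_left 2 (Nat.coprime_two_left.2 (Nat.odd_iff.2 (by omega)))
      · rcases T.eq_of_H hy (hne' y) (Sz.smul_mem y T.inf_mem)
          (by rw [mul_smul, inv_smul_smul, mul_smul, hB']) with h | h
        · exact ⟨y, hy, h⟩
        · obtain ⟨k, hk⟩ := T.mem_H.1 hy
          refine ⟨T.w * y, T.mem_H.2 ⟨k⁻¹, ?_⟩, ?_⟩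
          · rw [← mul_inv_eq_iff_eq_mul.2 (T.w_mul_h k), ← hk]; group
          · show (T.w * y) • Sz.inf F = Sz.inf F
            rw [mul_smul, h, T.w_pt_zero]
      · exact absurd hB' (h _ T.inf_mem)
    refine ⟨y * g, ?_⟩
    rw [map_mul, mul_assoc, hβ]
    refine ⟨(hz _).1 hy, fun x => (h1 x).trans ?_⟩
    exact Subgroup.mem_normalizer_iff.1 (T.normalizer_U ▸ hyB) (β x)
  · obtain ⟨i, hi⟩ := (hz _).1 (T.mem_H.2 ⟨k, rfl⟩)
    rw [← hi, map_zpow, fix_of_zpowers ha.1 hb.1]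
  · rw [ha.2, hb.2]
    simpa using (ha.2 _).1 ((hb.2 _).1 hx)

end Sz

theorem oa_Sz {F : Type*} [Field F] [Fintype F] {m : ℕ} (hm : 1 ≤ m)
    (hF : Fintype.card F = 2 ^ (2 * m + 1)) : OA (Lie.Sz F (2 ^ (m + 1))) := by
  obtain ⟨T⟩ := Sz.nonempty_ctx hm hF
  exact (oa_Sz0 T).congr T.lieEquiv.symm

theorem rank_Sz {F : Type*} [Field F] [Fintype F] {m : ℕ} (hm : 1 ≤ m)
    (hF : Fintype.card F = 2 ^ (2 * m + 1)) (h : SectionalPRankLE 2 4 (Lie.Sz F (2 ^ (m + 1)))) :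
    m = 1 := by
  obtain ⟨T⟩ := Sz.nonempty_ctx hm hF
  have := Sz.charP_two hF
  let i : Multiplicative F →* Cfsg.Sz F m :=
    ⟨⟨fun b => T.u 0 b.toAdd, T.u_zero⟩, fun a b => by simp [T.u_mul]⟩
  have h1 := card_le_of_sec h (T.lieEquiv.toMonoidHom.comp i)
    (T.lieEquiv.injective.comp fun a b e => (T.u_inj.1 e).2) (MonoidHom.id _) Function.surjective_id
  rw [Nat.card_eq_fintype_card, hF, Nat.pow_le_pow_iff_right (by norm_num)] at h1
  omega

theorem rank_L2 {F : Type*} [Field F] [CharP F 2] (h : SectionalPRankLE 2 4 PSL(2, F)) :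
    Nat.card F ≤ 16 := by
  let i : Multiplicative F →* SL(2, F) :=
    ⟨⟨fun b => ⟨!![1, b.toAdd; 0, 1], by simp [det_fin_two]⟩,
      Subtype.ext (by simp [Matrix.one_fin_two])⟩, fun a b => Subtype.ext (by
        rw [Matrix.SpecialLinearGroup.coe_mul]; simp [add_comm])⟩
  refine card_le_of_sec h ((QuotientGroup.mk' _).comp i) ((injective_iff_map_eq_one _).2
    fun a ha => ?_) (MonoidHom.id _) Function.surjective_id
  obtain ⟨c, -, hc⟩ := Matrix.SpecialLinearGroup.mem_center_iff.1 ((QuotientGroup.eq_one_iff _).1 ha)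
  have h1 : scalar (Fin 2) c 0 1 = a.toAdd := congrFun (congrFun hc 0) 1
  simpa using h1.symm

theorem rank_U3 {F : Type*} [Field F] [Fintype F] [CharP F 2] {q : ℕ} (hF : Fintype.card F = q ^ 2)
    (h : SectionalPRankLE 2 4 (PSU 3 F q)) : Nat.card F ≤ 16 := by
  let f : H12.U3.Uq hF →* Multiplicative F := ⟨⟨fun a => Multiplicative.ofAdd a.x, rfl⟩, fun _ _ => rfl⟩
  refine card_le_of_sec h ((QuotientGroup.mk' _).comp H12.U3.toSU) ((injective_iff_map_eq_one _).2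
    fun a ha => H12.U3.eq_one_of_mem_center ((QuotientGroup.eq_one_iff _).1 ha)) f fun x => ?_
  obtain ⟨y, hy⟩ := H12.U3.exists_y (hF := hF) x.toAdd
  exact ⟨⟨_, y, hy⟩, rfl⟩

end H8.NG
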