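import Mathlib
import Cfsg.Agent.H8.NG0

/-! The relations `a² = b³ = (ab)⁵ = 1` define a group of order at most sixty. -/

set_option autoImplicit false
open Cfsg

namespace H8.NG

/-- one rewriting step -/
def kstep (R : List (List ℕ × List ℕ)) : List ℕ → List ℕ
  | [] => []
  | x :: w => match R.find? fun r => r.1.isPrefixOf (x :: w) with
    | some r => r.2 ++ (x :: w).drop r.1.length
    | none => x :: kstep R w

/-- repeated rewriting -/
def kred (R : List (List ℕ × List ℕ)) (w : List ℕ) : List ℕ := (kstep R)^[24] w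

/-- check of derived rules and of a closed list of normal forms -/
def kall (N : List (List ℕ)) : List (List ℕ × List ℕ) → List (List ℕ × List ℕ × List ℕ) → Bool
  | R, [] => N.all fun w => N.contains (kred R (w ++ [0])) && N.contains (kred R (w ++ [1]))
  | R, c :: L => kred R (c.1 ++ c.2.2) == kred R (c.2.1 ++ c.2.2) && kall N ((c.1, c.2.1) :: R) L

variable {G : Type*} [Group G] (e : ℕ → G)

theorem kstep_ev {R : List (List ℕ × List ℕ)} (h : ∀ r ∈ R, (r.1.map e).prod = (r.2.map e).prod)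
    (w : List ℕ) : ((kstep R w).map e).prod = (w.map e).prod := by
  induction w with
  | nil => rfl
  | cons x w ih =>
    rw [kstep]
    split
    · rename_i r hr
      have h0 := List.find?_some hr
      obtain ⟨t, ht⟩ := List.isPrefixOf_iff_prefix.1 h0
      rw [← ht, List.drop_left, List.map_append, List.map_append, List.prod_append,
        List.prod_append, h r (List.mem_of_find?_eq_some hr)]
    · rw [List.map_cons, List.prod_cons, ih, List.map_cons, List.prod_cons]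

theorem kred_ev {R : List (List ℕ × List ℕ)} (h : ∀ r ∈ R, (r.1.map e).prod = (r.2.map e).prod)
    (w : List ℕ) : ((kred R w).map e).prod = (w.map e).prod := by
  rw [kred]
  generalize 24 = n
  induction n with
  | zero => rfl
  | succ n ih => rw [Function.iterate_succ_apply', kstep_ev e h, ih]

theorem kall_ev {N : List (List ℕ)} (L : List (List ℕ × List ℕ × List ℕ)) :
    ∀ R : List (List ℕ × List ℕ), (∀ r ∈ R, (r.1.map e).prod = (r.2.map e).prod) →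
      kall N R L = true → ∀ w ∈ N, (∃ v ∈ N, (v.map e).prod = (w.map e).prod * e 0) ∧
        ∃ v ∈ N, (v.map e).prod = (w.map e).prod * e 1 := by
  induction L with
  | nil =>
    intro R h hk w hw
    simp only [kall, List.all_eq_true, Bool.and_eq_true, List.contains_iff_mem] at hk
    exact ⟨⟨_, (hk w hw).1, by simp [kred_ev e h]⟩, _, (hk w hw).2, by simp [kred_ev e h]⟩
  | cons c L ih =>
    intro R h hk
    simp only [kall, Bool.and_eq_true, beq_iff_eq] at hk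
    refine ih _ (fun r hr => ?_) hk.2
    rcases List.mem_cons.1 hr with rfl | hr
    · have := congrArg (fun w : List ℕ => (w.map e).prod) hk.1
      simpa [kred_ev e h] using this
    · exact h r hr

/-- the sixty normal forms -/
def nf60 : List (List ℕ) := [[], [0], [1],
  [0, 1], [1, 0], [1, 1],
  [0, 1, 0], [0, 1, 1], [1, 0, 1],
  [1, 1, 0], [0, 1, 0, 1], [0, 1, 1, 0],
  [1, 0, 1, 0], [1, 0, 1, 1], [1, 1, 0, 1],
  [0, 1, 0, 1, 0], [0, 1, 0, 1, 1], [0, 1, 1, 0, 1],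
  [1, 0, 1, 0, 1], [1, 0, 1, 1, 0], [1, 1, 0, 1, 0],
  [1, 1, 0, 1, 1], [0, 1, 0, 1, 0, 1], [0, 1, 0, 1, 1, 0],
  [0, 1, 1, 0, 1, 0], [0, 1, 1, 0, 1, 1], [1, 0, 1, 0, 1, 1],
  [1, 0, 1, 1, 0, 1], [1, 1, 0, 1, 0, 1], [0, 1, 0, 1, 0, 1, 1],
  [0, 1, 0, 1, 1, 0, 1], [0, 1, 1, 0, 1, 0, 1], [1, 0, 1, 0, 1, 1, 0],
  [1, 0, 1, 1, 0, 1, 0], [1, 0, 1, 1, 0, 1, 1], [1, 1, 0, 1, 0, 1, 1],
  [0, 1, 0, 1, 0, 1, 1, 0], [0, 1, 0, 1, 1, 0, 1, 0], [0, 1, 0, 1, 1, 0, 1, 1],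
  [0, 1, 1, 0, 1, 0, 1, 1], [1, 0, 1, 0, 1, 1, 0, 1], [1, 0, 1, 1, 0, 1, 0, 1],
  [1, 1, 0, 1, 0, 1, 1, 0], [0, 1, 0, 1, 0, 1, 1, 0, 1], [0, 1, 0, 1, 1, 0, 1, 0, 1],
  [0, 1, 1, 0, 1, 0, 1, 1, 0], [1, 0, 1, 0, 1, 1, 0, 1, 0], [1, 0, 1, 0, 1, 1, 0, 1, 1],
  [1, 0, 1, 1, 0, 1, 0, 1, 1], [1, 1, 0, 1, 0, 1, 1, 0, 1], [0, 1, 0, 1, 0, 1, 1, 0, 1, 0],
  [0, 1, 0, 1, 0, 1, 1, 0, 1, 1], [0, 1, 0, 1, 1, 0, 1, 0, 1, 1], [0, 1, 1, 0, 1, 0, 1, 1, 0, 1],
  [1, 0, 1, 1, 0, 1, 0, 1, 1, 0], [1, 1, 0, 1, 0, 1, 1, 0, 1, 0], [0, 1, 0, 1, 1, 0, 1, 0, 1, 1, 0],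
  [0, 1, 1, 0, 1, 0, 1, 1, 0, 1, 0], [1, 0, 1, 1, 0, 1, 0, 1, 1, 0, 1], [0, 1, 0, 1, 1, 0, 1, 0, 1, 1, 0, 1]]

theorem kall60 : kall nf60 [([0, 0], []), ([1, 1, 1], []), ([0, 1, 0, 1, 0, 1, 0, 1, 0, 1], [])]
  [([0, 1, 0, 1, 0, 1, 0, 1, 0], [1, 1], [1]),
  ([0, 1, 0, 1, 0, 1, 0, 1], [1, 1, 0], [0]),
  ([1, 1, 0, 1, 1, 0], [0, 1, 0, 1, 0, 1], [0, 1]),
  ([0, 1, 0, 1, 0, 1, 0], [1, 1, 0, 1, 1], [0]),
  ([1, 0, 1, 0, 1, 0], [0, 1, 1, 0, 1, 1], [0]),
  ([1, 1, 0, 1, 0, 1, 1, 0, 1, 1], [0, 1, 0, 1, 0, 1, 1, 0, 1, 0], [0]),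
  ([0, 1, 0, 1, 0, 1, 1, 0, 1, 0, 1], [1, 1, 0, 1, 0, 1, 1, 0], [0]),
  ([1, 0, 1, 0, 1, 1, 0, 1, 0, 1], [0, 1, 1, 0, 1, 0, 1, 1, 0], [0]),
  ([1, 0, 1, 1, 0, 1, 0, 1, 1, 0, 1, 0], [0, 1, 0, 1, 1, 0, 1, 0, 1, 1, 0, 1], [1])] = true := by decide +kernel

theorem exists_card_le_sixty [Finite G] {a b : G} (ha : a ^ 2 = 1) (hb : b ^ 3 = 1)
    (hab : (a * b) ^ 5 = 1) : ∃ H : Subgroup G, a ∈ H ∧ b ∈ H ∧ Nat.card H ≤ 60 := by
  let e : ℕ → G := fun i => if i = 0 then a else b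
  have key := kall_ev e _ _ (by
    simp only [List.mem_cons, List.not_mem_nil, or_false, forall_eq_or_imp, forall_eq]
    refine ⟨?_, ?_, ?_⟩
    · simpa [e, pow_succ] using ha
    · simpa [e, pow_succ, mul_assoc] using hb
    · simpa [e, pow_succ, mul_assoc] using hab) kall60
  refine ⟨Subgroup.closure {a, b}, Subgroup.subset_closure (by simp),
    Subgroup.subset_closure (by simp), ?_⟩
  have h1 : ∀ g ∈ Subgroup.closure ({a, b} : Set G), ∃ v ∈ nf60, (v.map e).prod = g := by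
    intro g hg
    rw [← Subgroup.mem_toSubmonoid, Subgroup.closure_toSubmonoid_of_finite] at hg
    induction hg using Submonoid.closure_induction_right with
    | one => exact ⟨[], by decide, rfl⟩
    | mul_right x _ y hy ih =>
      obtain ⟨v, hv, rfl⟩ := ih
      rcases hy with rfl | rfl
      exacts [(key v hv).1, (key v hv).2]
  classical
  calc Nat.card (Subgroup.closure ({a, b} : Set G))
      ≤ (nf60.map fun v => (v.map e).prod).toFinset.card := by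
        rw [← Set.ncard_coe_finset]
        exact Set.ncard_le_ncard (fun g hg => by simpa using h1 g hg)
    _ ≤ 60 := (List.toFinset_card_le _).trans (by rw [List.length_map]; decide)

theorem not_min_of_235 [Finite G] (h : 60 < Nat.card G) {a b : G} (ha : orderOf a = 2)
    (hb : orderOf b = 3) (hab : orderOf (a * b) = 5) : ¬ IsMinimalSimple G := by
  have h1 := ha ▸ pow_orderOf_eq_one a
  have h2 := hb ▸ pow_orderOf_eq_one b
  have h3 := hab ▸ pow_orderOf_eq_one (a * b)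
  obtain ⟨H, haH, hbH, hc⟩ := exists_card_le_sixty h1 h2 h3
  refine not_min_of_rel (by norm_num) (by norm_num) (by norm_num) h1 h2 h3
    (by rintro rfl; simp at ha) H haH hbH ?_
  rintro rfl
  rw [Subgroup.card_top] at hc
  omega

end H8.NG
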