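import Cfsg.Agent.H12.TIB

/-! Auxiliary lemmas on weakly closed TI-subgroups. -/

set_option autoImplicit false
set_option linter.unusedSectionVars false
set_option linter.unusedVariables false

namespace H8.TI

open Cfsg H24 Subgroup H12.TI
open scoped commutatorElement

universe u

variable {G : Type u} [Group G] [Finite G] {Ω : Set (Subgroup G)}
  {A B C D F I K P Q R S T U V W : Subgroup G} {a a' b c d d' g i j j' p r s t w x y : G}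

theorem p2 : Nat.Prime 2 := Nat.prime_two

theorem card_hom (f : G → G) (hf : ∀ x ∈ U, ∀ y ∈ U, f (x * y) = f x * f y) (hW : ∀ x ∈ U, f x ∈ W)
    (hV : V ≤ W) (hK : ∀ x ∈ U, f x ∈ V → x ∈ K) : ♯U * ♯V ≤ ♯K * ♯W := by
  let φ : U →* G := MonoidHom.mk' (fun x => f x) fun x y => hf x x.2 y y.2
  have h1 := (V.comap φ).card_mul_index
  have h2 : (V.comap φ).index ≤ V.relIndex W := index_comap V φ ▸ relIndex_le_of_le_right
    (by rintro _ ⟨x, rfl⟩; exact hW x x.2) (relIndex_ne_zero' V W)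
  have h3 : ♯(V.comap φ) ≤ ♯K := (card_le (B := K.subgroupOf U) fun x hx => hK x x.2 hx).trans
    (card_subgroupOf K U ▸ card_le inf_le_left)
  rw [← h1, ← card_mul_relIndex hV, mul_assoc, mul_comm ♯V]
  exact Nat.mul_le_mul h3 (Nat.mul_le_mul_right _ h2)

theorem card_hom' (f : G → G) (hf : ∀ x ∈ U, ∀ y ∈ U, f (x * y) = f x * f y) (hW : ∀ x ∈ U, f x ∈ W)
    (hK : ∀ x ∈ U, f x = 1 → x ∈ K) : ♯U ≤ ♯K * ♯W := by
  simpa using card_hom f hf hW bot_le fun x hx e => hK x hx (mem_bot.1 e)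

theorem surj_hom (f : G → G) (hf : ∀ x ∈ U, ∀ y ∈ U, f (x * y) = f x * f y) (hW : ∀ x ∈ U, f x ∈ W)
    (hK : ∀ x ∈ U, f x = 1 → x ∈ K) (hc : ♯K * ♯W ≤ ♯U) (hw : w ∈ W) : ∃ x ∈ U, f x = w := by
  let φ : U →* G := MonoidHom.mk' (fun x => f x) fun x y => hf x x.2 y y.2
  have l : φ.range ≤ W := by rintro _ ⟨x, rfl⟩; exact hW x x.2
  obtain ⟨x, e⟩ := (eq_of_card_ge l (Nat.le_of_mul_le_mul_left (hc.trans
    (card_hom' f hf (fun x hx => ⟨⟨x, hx⟩, rfl⟩) hK)) (card_pos K))).ge hw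
  exact ⟨x, x.2, e⟩

theorem cm_one : ⁅x, g⁆ = 1 ↔ x * g = g * x := commutatorElement_eq_one_iff_mul_comm

theorem cm_left (h : ∀ x ∈ U, x * x = 1) (hg : g ∈ N[U]) (hx : x ∈ U) : ⁅x, g⁆ ∈ U := by
  rw [commutatorElement_def, mul_assoc, mul_assoc, ← mul_assoc g]
  exact mul_mem hx (conj_mem hg (inv_mem hx))

theorem cm_mul (h : ∀ x ∈ U, x * x = 1) (hg : g ∈ N[U]) :
    ∀ x ∈ U, ∀ y ∈ U, ⁅x * y, g⁆ = ⁅x, g⁆ * ⁅y, g⁆ := fun x hx y hy => by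
  calc _ = x * ⁅y, g⁆ * x⁻¹ * ⁅x, g⁆ := by simp only [commutatorElement_def]; group
    _ = _ := by rw [commSq h hx (cm_left h hg hy), mul_inv_cancel_right,
      commSq h (cm_left h hg hy) (cm_left h hg hx)]

theorem cm_mul' (h : j * ⁅a, j'⁆ = ⁅a, j'⁆ * j) : ⁅a, j * j'⁆ = ⁅a, j⁆ * ⁅a, j'⁆ :=
  calc _ = ⁅a, j⁆ * (j * ⁅a, j'⁆) * j⁻¹ := by simp only [commutatorElement_def]; group
    _ = _ := by rw [h]; group

theorem cm_conj (y a j : G) : y * ⁅a, j⁆ * y⁻¹ = ⁅y * a * y⁻¹, y * j * y⁻¹⁆ := by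
  simp only [commutatorElement_def]; group

theorem cm_fix (h : ∀ x ∈ U, x * x = 1) (hg : g ∈ N[U]) (g2 : g * g = 1) (hx : x ∈ U) :
    ⁅x, g⁆ ∈ U ⊓ C{g} := by
  refine ⟨cm_left h hg hx, mem_C1_comm.1 (mem_C1_iff_conj.2 ?_)⟩
  calc _ = g * x * g * x⁻¹ * (g * g)⁻¹ := by simp only [commutatorElement_def]; group
    _ = ⁅x, g⁆⁻¹ := by
      rw [g2, inv_one, mul_one, commutatorElement_inv, commutatorElement_def,
        inv_eq_of_mul_eq_one_right g2]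
    _ = _ := inv_eq_of_mul_eq_one_right (h _ (cm_left h hg hx))

/-- an involution acting on an elementary abelian group. -/
theorem card_fix (h : ∀ x ∈ U, x * x = 1) (hg : g ∈ N[U]) (g2 : g * g = 1) :
    ♯U ≤ ♯(U ⊓ C{g}) * ♯(U ⊓ C{g}) :=
  card_hom' (⁅·, g⁆) (cm_mul h hg) (fun _ => cm_fix h hg g2) fun _ hx e => ⟨hx, mem_C1.2 (cm_one.1 e)⟩

theorem sq_closure {E : Set G} (h1 : ∀ x ∈ E, x * x = 1) (h2 : ∀ x ∈ E, ∀ y ∈ E, x * y = y * x) :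
    ∀ x ∈ closure E, x * x = 1 := by
  have k : closure E ≤ C[closure E] := (closure_le _).2 fun x hx => mem_C_iff_le_C1.2
    ((closure_le _).2 fun y hy => mem_C1.2 (h2 y hy x hx))
  intro x hx
  induction hx using closure_induction with
  | mem x h => exact h1 x h
  | one => exact mul_one 1
  | mul x y hx hy e1 e2 =>
    rw [mul_assoc, ← mul_assoc y, ← comm_of_cent k hx hy, mul_assoc, e2, mul_one, e1]
  | inv x _ e => rw [← mul_inv_rev, e, inv_one]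

theorem axL : ax A B ≤ A := inf_le_left
theorem axN : ax A B ≤ N[B] := inf_le_right

variable (h : Sit Ω)
include h

theorem axC (hA : Adj Ω A B) (hj : j ∈ ax B A) : j ∈ C[ax A B] :=
  mem_C.2 fun i hi => h.commAx hA.l hA.r hi hj

theorem axM (hA : Adj Ω A B) : ax B A ≤ N[A] ⊓ N[ax A B] :=
  le_inf axN fun _ hj => C_le_N _ (axC h hA hj)

theorem ptN (hA : A ∈ Ω) (hU : U ≤ A) : A ≤ N[U] := (ablSq (h.sq A hA)).norm le_rfl hU

theorem cj_same (hA : Adj Ω A B) (hg : g ∈ N[A]) (hI : g ∈ N[ax A B]) :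
    Adj Ω A (cj g B) ∧ ax A (cj g B) = ax A B ∧ ax (cj g B) A = cj g (ax B A) := by
  have e := cj_of_mem_N hg
  exact ⟨e ▸ h.adj_cj hA g, by rw [← cj_of_mem_N hI, cj_ax, e], by rw [cj_ax, e]⟩

theorem top_card (hA : Top Ω A B) (hC : Top Ω C D) : ♯(ax C D) = ♯(ax A B) :=
  le_antisymm (hA.max C D hC.toAdj) (hC.max A B hA.toAdj)

theorem top_same (hA : Top Ω A B) (hC : Adj Ω A C) (e : ax A C = ax A B) : Top Ω A C :=
  h.top_of_le hA hC (e ▸ le_rfl)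

theorem ax_of_le (hA : Top Ω A B) (hC : Adj Ω C D) (hU : U ≤ ax C D) (e : ♯(ax A B) ≤ ♯U) :
    ax C D = U := (eq_of_card_ge hU ((hA.max C D hC).trans e)).symm

theorem top_at (hA : Top Ω A B) (hP : P ∈ Ω) (hne : A ≠ P) (hx : x ∈ P) (h1 : x ≠ 1) (hn : x ∈ N[A])
    (hc : x ∈ C[ax A B]) : Adj Ω A P ∧ ax A P = ax A B :=
  have k := h.adj_of_mem hA.l hP hne hx h1 hn
  ⟨k, ax_of_le h hA k (le_inf axL ((mem_C_iff_le_C1.1 hc).trans (h.C1_le hP hx h1))) le_rfl⟩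

theorem inf_C1 (hA : Adj Ω A B) (hj : j ∈ ax B A) (h1 : j ≠ 1) : A ⊓ C{j} = ax A B :=
  Subgroup.ext fun a => and_congr_right fun ha => mem_C1.trans (h.cent_iff hA hj h1 ha)

theorem exists_pb (hA : Adj Ω A B) (ha : a ∈ A) (hn : a ∉ N[B]) (hV : V ≤ ax A B) :
    ∃ U ≤ ax B A, (∀ j ∈ ax B A, j ∈ U ↔ ⁅a, j⁆ ∈ V) ∧ ♯U = ♯V := by
  let φ : ax B A →* G := MonoidHom.mk' (fun j => ⁅a, j.1⁆) fun j j' =>
    cm_mul' (h.commAx hA.l hA.r (h.comm_mem hA ha j'.2) j.2).symm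
  refine ⟨(V.comap φ).map (ax B A).subtype, map_subtype_le _, fun j hj =>
    ⟨by rintro ⟨k, hk, rfl⟩; exact hk, fun e => ⟨⟨j, hj⟩, e, rfl⟩⟩, ?_⟩
  rw [card_map_of_injective (subtype_injective _)]
  refine Nat.card_congr (Equiv.ofBijective (fun j => ⟨φ j.1, j.2⟩) ⟨fun j k e => Subtype.ext
    (Subtype.ext (h.comm_inj hA ha hn j.1.2 k.1.2 (congrArg Subtype.val e))), fun v => ?_⟩)
  obtain ⟨j, hj, e⟩ := h.comm_surj hA ha hn (hV v.2)
  exact ⟨⟨⟨j, hj⟩, show ⁅a, j⁆ ∈ V from e ▸ v.2⟩, Subtype.ext e⟩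

end H8.TI
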