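import Mathlib
import Cfsg.Agent.H20.TB0

/-! Models of BN-pairs from rank one data. -/

set_option autoImplicit false

namespace H8.TM

open Subgroup H20.TB

variable {G : Type*} [Group G]

/-- Rank one data for a simple root. -/
structure Node (B U N : Subgroup G) (s : G) (X : Subgroup G) : Prop where
  le : X ≤ B
  sq : s * s ∈ B
  key : ∀ b ∈ B, ∃ x ∈ X, Fx B (x⁻¹ * b) s
  one : ∀ x ∈ X, ¬ Fx B x s → ∃ y ∈ X, s * x * (s * y * s⁻¹) ∈ B
  dich : ∀ n ∈ N, (∀ x ∈ X, Fx B x n) ∨ ∀ x ∈ X, Fx B (s * x * s⁻¹) n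
  uni : ∀ x ∈ X, ∀ n ∈ N, Fx B x n → n⁻¹ * x * n ∈ U
  int : ∀ y ∈ U, Fx B y s → ∀ b ∈ B, Fx B y (b * s)
  free : ∀ x ∈ X, Fx B x s → x = 1

variable {B U N : Subgroup G} {s : G} {X : Subgroup G}

theorem Node.mono (h : Node B U N s X) {N' : Subgroup G} (hN : N' ≤ N) : Node B U N' s X :=
  ⟨h.le, h.sq, h.key, h.one, fun n hn => h.dich n (hN hn), fun x hx n hn => h.uni x hx n (hN hn),
    h.int, h.free⟩

theorem Node.conj (h : Node B U N s X) {r : G} (hr : r ∈ N) (hB : ∀ b, b ∈ B ↔ r * b * r⁻¹ ∈ B)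
    (hU : ∀ y ∈ U, r⁻¹ * y * r ∈ U) :
    Node B U N (r * s * r⁻¹) (X.map (MulAut.conj r).toMonoidHom) := by
  have hB' : ∀ b ∈ B, r⁻¹ * b * r ∈ B := fun b hb => (hB _).2 (by simpa [mul_assoc] using hb)
  have hF : ∀ x, Fx B (r * x * r⁻¹) (r * s * r⁻¹) ↔ Fx B x s := fun x => by
    rw [Fx, Fx, hB (s⁻¹ * x * s)]; congr! 1; group
  refine ⟨?_, ?_, fun b hb => ?_, ?_, fun n hn => ?_, ?_, fun y hy h1 b hb => ?_, ?_⟩
  · rintro _ ⟨x, hx, rfl⟩; exact (hB x).1 (h.le hx)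
  · simpa [mul_assoc] using (hB _).1 h.sq
  · obtain ⟨x, hx, h1⟩ := h.key _ (hB' b hb)
    exact ⟨_, ⟨x, hx, rfl⟩, by simpa [mul_assoc] using (hF _).2 h1⟩
  · rintro _ ⟨x, hx, rfl⟩ h1
    obtain ⟨y, hy, h2⟩ := h.one x hx fun e => h1 ((hF x).2 e)
    exact ⟨_, ⟨y, hy, rfl⟩, by simpa [mul_assoc] using (hB _).1 h2⟩
  · refine (h.dich _ (mul_mem (inv_mem hr) hn)).imp (fun e => ?_) (fun e => ?_) <;>
    · rintro _ ⟨x, hx, rfl⟩
      simpa [Fx, mul_assoc] using e x hx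
  · rintro _ ⟨x, hx, rfl⟩ n hn h1
    simpa [mul_assoc] using h.uni x hx _ (mul_mem (inv_mem hr) hn) (by simpa [Fx, mul_assoc] using h1)
  · have := h.int _ (hU y hy) ((hF _).1 (by simpa [mul_assoc] using h1)) _ (hB' b hb)
    simpa [Fx, mul_assoc] using (hB _).1 this
  · rintro _ ⟨x, hx, rfl⟩ h1
    rw [h.free x hx ((hF x).1 h1)]; simp

theorem Node.sub (h : Node B U N s X) {Γ : Subgroup G} (hB : B ≤ Γ) (hs : s ∈ Γ) :
    Node (B.subgroupOf Γ) (U.subgroupOf Γ) (N.subgroupOf Γ) ⟨s, hs⟩ (X.subgroupOf Γ) := by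
  refine ⟨fun x hx => h.le hx, h.sq, fun b hb => ?_, fun x hx h1 => ?_, fun n hn => ?_,
    fun x hx n hn => h.uni x hx n hn, fun y hy h1 b hb => h.int y hy h1 b hb,
    fun x hx h1 => Subtype.ext (h.free x hx h1)⟩
  · obtain ⟨x, hx, h1⟩ := h.key b hb
    exact ⟨⟨x, hB (h.le hx)⟩, hx, h1⟩
  · obtain ⟨y, hy, h2⟩ := h.one x hx h1
    exact ⟨⟨y, hB (h.le hy)⟩, hy, h2⟩
  · exact (h.dich n hn).imp (fun e x hx => e x hx) (fun e x hx => e x hx)

theorem Node.relIndex (h : Node B U N s X) :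
    (B.map (MulAut.conj s).toMonoidHom).relIndex B = Nat.card X := by
  have hK : ∀ g, g ∈ B.map (MulAut.conj s).toMonoidHom ↔ Fx B g s := fun g =>
    ⟨by rintro ⟨b, hb, rfl⟩; simpa [Fx, mul_assoc] using hb, fun e => ⟨_, e, by simp [mul_assoc]⟩⟩
  refine (Nat.card_eq_of_bijective (fun x : X => ((⟨x, h.le x.2⟩ : B) :
    B ⧸ (B.map (MulAut.conj s).toMonoidHom).subgroupOf B)) ⟨fun x y e => ?_, fun c => ?_⟩).symm
  · have e' := QuotientGroup.eq.1 e
    have := h.free _ (mul_mem (inv_mem x.2) y.2) ((hK _).1 e')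
    exact Subtype.ext (inv_mul_eq_one.1 this)
  · obtain ⟨b, rfl⟩ := QuotientGroup.mk_surjective c
    obtain ⟨x, hx, h1⟩ := h.key b b.2
    exact ⟨⟨x, hx⟩, QuotientGroup.eq.2 ((hK _).2 h1)⟩

theorem cm_self (T : Ty) (i : ℕ) : T.cm i i = 1 := by simp [Ty.cm]

theorem eq_of_cm {T : Ty} {i j : ℕ} (h : T.cm i j ∣ 1) : i = j := by
  by_contra e
  rw [Ty.cm, if_neg e] at h
  split_ifs at h
  · cases T <;> simp [Ty.m0] at h
  · omega
  · omega

theorem real_of {G : Type} [Group G] [Finite G] (T : Ty) (B U N E : Subgroup G) [hE : E.Normal]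
    (s : Fin T.rk → G) (X : Fin T.rk → Subgroup G) (p : ℕ) [hp : Fact p.Prime]
    (conj : ∀ n ∈ N, ∀ t ∈ B ⊓ N, n * t * n⁻¹ ∈ B) (sN : ∀ i, s i ∈ N)
    (gen : closure (Set.range s) ⊔ (B ⊓ N) = N)
    (ord : ∀ i j : Fin T.rk, ∀ k : ℕ, (s i * s j) ^ k ∈ B ↔ T.cm i j ∣ k)
    (node : ∀ i, Node B U N (s i) (X i)) (ne : ∀ i, X i ≠ ⊥) (hX : ∀ i, IsPGroup p (X i))
    (XE : ∀ i, X i ≤ E) (EΓ : E ≤ B ⊔ N) (i0 : Fin T.rk)
    (qs : ∀ K : Subgroup E, K.Normal → K ≤ center E ∨ K = ⊤) (Z : G → Prop)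
    (core : ∀ g, (∀ γ ∈ B ⊔ N, γ * g * γ⁻¹ ∈ B) ↔ Z g) (cen : ∀ g : E, g ∈ center E ↔ Z g)
    (tor : ∀ g ∈ E, (∀ n ∈ N, Fx B g n) → Z (g ^ p) → Z g) (q : ℕ → ℕ)
    (hq : ∀ i, Nat.card (X i) = q i) : Real T q (E ⧸ center E) := by
  set Γ := B ⊔ N with hΓ
  have sΓ : ∀ i, s i ∈ Γ := fun i => mem_sup_right (sN i)
  have nd := fun i => (node i).sub (Γ := Γ) le_sup_left (sΓ i)
  have hc : ∀ g : Γ, g ∈ (B.subgroupOf Γ).normalCore ↔ Z g := fun g => by
    rw [← core]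
    exact ⟨fun h γ hγ => h ⟨γ, hγ⟩, fun h γ => h γ γ.2⟩
  have cX : ∀ i, Nat.card ((X i).subgroupOf Γ) = Nat.card (X i) := fun i =>
    Nat.card_congr (subgroupOfEquivOfLe ((node i).le.trans le_sup_left)).toEquiv
  have nx : ∀ i, ∃ x ∈ X i, ¬ Fx B x (s i) := fun i => by
    by_contra hc
    push Not at hc
    exact ne i (eq_bot_iff.2 fun x hx => (node i).free x hx (hc x hx))
  have hEE : normalClosure (⋃ i, ((X i).subgroupOf Γ : Set Γ)) = E.subgroupOf Γ := by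
    refine le_antisymm (normalClosure_le_normal ?_) ?_
    · exact Set.iUnion_subset fun i x hx => XE i hx
    · rcases qs ((normalClosure (⋃ i, ((X i).subgroupOf Γ : Set Γ))).comap (inclusion EΓ))
        inferInstance with h | h
      · obtain ⟨x, hx, h1⟩ := nx i0
        have h2 := (cen ⟨x, XE i0 hx⟩).1 (h (subset_normalClosure (Set.mem_iUnion.2 ⟨i0, hx⟩)))
        exact absurd (by simpa [Fx] using (core x).2 h2 _ (inv_mem (sΓ i0))) h1
      · intro g hg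
        exact (h.ge (mem_top (⟨g, hg⟩ : E)) :)
  let M : Mod Γ T :=
    { P := mkBN (B.subgroupOf Γ) (N.subgroupOf Γ) (fun i => ⟨s i, sΓ i⟩)
        (fun i => (X i).subgroupOf Γ)
        (by rw [← subgroupOf_sup le_sup_left le_sup_right, subgroupOf_self])
        (fun n hn t ht => conj n hn t ht) sN (fun i => (node i).sq)
        (fun i j h => by
          have h1 : s i * s j ∈ B := by
            simpa [mul_assoc] using mul_mem (node i).sq (show (s i)⁻¹ * s j ∈ B from h)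
          rw [Fin.ext (eq_of_cm ((ord i j 1).1 (by rwa [pow_one])))])
        (by
          apply map_injective Γ.subtype_injective
          rw [Subgroup.map_sup, MonoidHom.map_closure, ← Set.range_comp,
            show B.subgroupOf Γ ⊓ N.subgroupOf Γ = (B ⊓ N).subgroupOf Γ from rfl,
            map_subgroupOf_eq_of_le (inf_le_left.trans le_sup_left),
            map_subgroupOf_eq_of_le le_sup_right]
          exact gen)
        (fun i => (nd i).key) (fun i => (nd i).le) (fun i => (nd i).one) (fun i => (nd i).dich)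
        (fun i => by
          obtain ⟨x, hx, h1⟩ := nx i
          exact ⟨⟨x, mem_sup_left ((node i).le hx)⟩, hx, h1⟩)
      s := fun i => ⟨s i, sΓ i⟩
      hS := rfl
      ord := fun i j k => ord i j k
      X := fun i => (X i).subgroupOf Γ
      X_le := fun i => (nd i).le
      trans := fun i => (nd i).key
      dich := fun i => (nd i).dich
      int := fun i x hx n hn j h1 h2 b hb => by
        change Fx (B.subgroupOf Γ) _ _ at h2 ⊢
        have := (nd j).int _ ((nd i).uni x hx n hn h1) (by simpa [Fx, mul_assoc] using h2) b hb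
        simpa [Fx, mul_assoc] using this
      p := p
      hp := hp.out
      hq := fun i => by
        obtain ⟨k, hk⟩ := (hX i).exists_card_eq
        exact ⟨k, (nd i).relIndex.trans ((cX i).trans hk)⟩
      tor := fun g hg h1 h2 => (hc g).2 (tor g (hEE.le hg) (fun n hn => h1 ⟨n, mem_sup_right hn⟩ hn)
        ((hc _).1 h2)) }
  refine ⟨Γ, inferInstance, inferInstance, M, fun i => (nd i).relIndex.trans ((cX i).trans (hq i)),
    ⟨QuotientGroup.congr _ _ ((MulEquiv.subgroupCongr hEE).trans (subgroupOfEquivOfLe EΓ)) ?_⟩⟩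
  ext g
  rw [cen]
  constructor
  · rintro ⟨x, hx, rfl⟩; exact (hc _).1 hx
  · intro h
    exact ⟨⟨⟨g, EΓ g.2⟩, hEE.ge g.2⟩, (hc _).2 h, rfl⟩

end H8.TM
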