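import Mathlib
import Cfsg.Agent.H8.TM0

/-! Triangular and monomial elements with respect to a grading of a vector space. -/

set_option autoImplicit false

namespace H8.TM

open Subgroup H20.TB

/-- A submonoid of a finite group is a subgroup. -/
def mkSub {G : Type*} [Group G] [Finite G] (P : G → Prop) (h1 : P 1)
    (hm : ∀ a b, P a → P b → P (a * b)) : Subgroup G where
  carrier := {g | P g}
  one_mem' := h1
  mul_mem' := hm _ _
  inv_mem' := fun {g} hg => by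
    have h : ∀ n : ℕ, P (g ^ n) := fun n => by
      induction n with
      | zero => simpa using h1
      | succ n ih => rw [pow_succ]; exact hm _ _ ih hg
    have e : g⁻¹ = g ^ (orderOf g - 1) := by
      rw [inv_eq_iff_mul_eq_one, ← pow_succ', Nat.sub_add_cancel (orderOf_pos g), pow_orderOf_eq_one]
    exact e ▸ h _

/-- A grading by integers. -/
structure Gr (F V : Type*) [Field F] [AddCommGroup V] [Module F V] where
  p : ℤ → V →ₗ[F] V
  S : Finset ℤ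
  sum : ∀ v, ∑ a ∈ S, p a v = v
  idem : ∀ a v, p a (p a v) = p a v
  orth : ∀ a b v, a ≠ b → p a (p b v) = 0

/-- Inversions. -/
def Iv (τ : Equiv.Perm ℤ) (a b : ℤ) : Prop := a < b ∧ τ b < τ a

theorem Iv_trans (τ : Equiv.Perm ℤ) (a b c : ℤ) (h : Iv τ a b) (k : Iv τ b c) : Iv τ a c :=
  ⟨h.1.trans k.1, k.2.trans h.2⟩

/-- Convexity of the inversion set. -/
def Cvx (τ : Equiv.Perm ℤ) : Prop :=
  ∀ a a' c' c, a ≤ a' → a' < c' → c' ≤ c → Iv τ a c → Iv τ a' c'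

/-- The pattern of a minimal parabolic subgroup. -/
def Pa (τ : Equiv.Perm ℤ) (a b : ℤ) : Prop := a ≤ b ∨ Iv τ b a

theorem Pa_trans {τ : Equiv.Perm ℤ} (h : Cvx τ) (a b c : ℤ) (h1 : Pa τ a b) (h2 : Pa τ b c) :
    Pa τ a c := by
  by_cases e : a ≤ c
  · exact Or.inl e
  rcases h1 with h1 | h1 <;> rcases h2 with h2 | h2
  · exact Or.inl (h1.trans h2)
  · exact Or.inr (h c c a b le_rfl (by omega) h1 h2)
  · exact Or.inr (h b c a a h2 (by omega) le_rfl h1)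
  · exact Or.inr (Iv_trans _ _ _ _ h2 h1)

variable {F V : Type*} [Field F] [AddCommGroup V] [Module F V]

namespace Gr

variable (Γ : Gr F V)

/-- The `(a, b)` entry vanishes. -/
def Z (f : Module.End F V) (a b : ℤ) : Prop := ∀ v, Γ.p a (f (Γ.p b v)) = 0

variable {Γ}

theorem Z_mul {f g : Module.End F V} {a b : ℤ} (h : ∀ c, Γ.Z f a c ∨ Γ.Z g c b) :
    Γ.Z (f * g) a b := fun v => by
  rw [Module.End.mul_apply, ← Γ.sum (g _), map_sum, map_sum]
  refine Finset.sum_eq_zero fun c _ => ?_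
  rcases h c with e | e
  · exact e _
  · rw [e, map_zero, map_zero]

theorem Z_one {a b : ℤ} (h : a ≠ b) : Γ.Z 1 a b := fun v => Γ.orth a b v h

theorem Z_add {f g : Module.End F V} {a b : ℤ} (h : Γ.Z f a b) (k : Γ.Z g a b) :
    Γ.Z (f + g) a b := fun v => by rw [LinearMap.add_apply, map_add, h, k, add_zero]

theorem Z_sub_one {f : Module.End F V} {a b : ℤ} (h : a ≠ b) : Γ.Z (f - 1) a b ↔ Γ.Z f a b :=
  forall_congr' fun v => by
    rw [LinearMap.sub_apply, map_sub, Module.End.one_apply, Γ.orth a b v h, sub_zero]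

theorem eq_zero_of_Z {f : Module.End F V} (h : ∀ a b, Γ.Z f a b) : f = 0 := by
  ext v
  rw [← Γ.sum v, map_sum, LinearMap.zero_apply]
  refine Finset.sum_eq_zero fun b _ => ?_
  rw [← Γ.sum (f _)]
  exact Finset.sum_eq_zero fun a _ => h a b v

variable {G : Subgroup (V ≃ₗ[F] V)}

/-- The underlying endomorphism. -/
def L (g : G) : Module.End F V := (g.1 : V →ₗ[F] V)

theorem L_apply (g : G) (v : V) : L g v = g.1 v := rfl
theorem L_mul (g h : G) : L (g * h) = L g * L h := rfl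
theorem L_one : L (1 : G) = 1 := rfl
theorem eq_one_of_L {g : G} (h : L g - 1 = 0) : g = 1 :=
  Subtype.ext (LinearEquiv.ext fun v => LinearMap.congr_fun (sub_eq_zero.1 h) v)

variable (Γ) in
/-- Monomial elements. -/
def Mon (g : G) (w : Equiv.Perm ℤ) : Prop := ∀ a v, Γ.p (w a) (g.1 v) = g.1 (Γ.p a v)

theorem Mon.one : Γ.Mon (1 : G) 1 := fun _ _ => rfl
theorem Mon.mul {g h : G} {w u : Equiv.Perm ℤ} (a : Γ.Mon g w) (b : Γ.Mon h u) :
    Γ.Mon (g * h) (w * u) := fun c v => by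
  change Γ.p (w (u c)) (g.1 (h.1 v)) = g.1 (h.1 _)
  rw [a, b]
theorem Mon.inv {g : G} {w : Equiv.Perm ℤ} (a : Γ.Mon g w) : Γ.Mon g⁻¹ w⁻¹ := fun c v => by
  apply g.1.injective
  rw [← a]
  simp
theorem Mon.pow {g : G} {w : Equiv.Perm ℤ} (a : Γ.Mon g w) (k : ℕ) : Γ.Mon (g ^ k) (w ^ k) := by
  induction k with
  | zero => simpa using Mon.one
  | succ k ih => rw [pow_succ, pow_succ]; exact ih.mul a

theorem mon_of_maps {g : G} {w : Equiv.Perm ℤ}
    (h : ∀ a v, Γ.p (w a) (g.1 (Γ.p a v)) = g.1 (Γ.p a v)) : Γ.Mon g w := fun a v => by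
  have key : ∀ b, Γ.p (w a) (g.1 (Γ.p b v)) = g.1 (Γ.p a (Γ.p b v)) := fun b => by
    by_cases e : a = b
    · rw [← e, Γ.idem, h]
    · rw [← h b, Γ.orth _ _ _ (w.injective.ne e), Γ.orth _ _ _ e, map_zero]
  conv_lhs => rw [← Γ.sum v]
  conv_rhs => rw [← Γ.sum v]
  simp only [map_sum, key]

theorem Mon.Z {g : G} {w : Equiv.Perm ℤ} (h : Γ.Mon g w) {a b : ℤ} (e : a ≠ w b) :
    Γ.Z (L g) a b := fun v => by rw [L_apply, ← h, Γ.orth _ _ _ e]

theorem mon_of_Z {g : G} (h : ∀ a b, a ≠ b → Γ.Z (L g) a b) : Γ.Mon g 1 :=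
  mon_of_maps fun a v => by
    conv_rhs => rw [← Γ.sum (g.1 _)]
    by_cases e : a ∈ Γ.S
    · exact (Finset.sum_eq_single_of_mem a e fun b _ hb => h b a hb v).symm
    · have : ∀ u, Γ.p a u = 0 := fun u => by
        rw [← Γ.sum u, map_sum]
        exact Finset.sum_eq_zero fun b hb => Γ.orth _ _ _ fun e' => e (e' ▸ hb)
      simp [this]

theorem Mon.conj {n : G} {w : Equiv.Perm ℤ} (h : Γ.Mon n w) (f : Module.End F V) (a b : ℤ) :
    Γ.Z (L n⁻¹ * f * L n) a b ↔ Γ.Z f (w a) (w b) := by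
  have e : ∀ v, Γ.p a ((L n⁻¹ * f * L n) (Γ.p b v)) =
      (n⁻¹).1 (Γ.p (w a) (f (Γ.p (w b) (n.1 v)))) := fun v => by
    rw [← h.inv, h]; simp [L_apply]
  constructor
  · intro k v
    have := k (n.1.symm v)
    rw [e] at this
    simpa using this
  · intro k v
    rw [e, k, map_zero]

theorem conj_sub (n x : G) : L (n⁻¹ * x * n) - 1 = L n⁻¹ * (L x - 1) * L n := by
  rw [mul_sub, sub_mul, mul_one, ← L_mul n⁻¹ n, inv_mul_cancel]; rfl

variable (Γ G) in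
/-- The monomial group. -/
def NN (W : Subgroup (Equiv.Perm ℤ)) : Subgroup G where
  carrier := {g | ∃ w ∈ W, Γ.Mon g w}
  one_mem' := ⟨1, W.one_mem, Mon.one⟩
  mul_mem' := fun ⟨_, h1, h2⟩ ⟨_, h3, h4⟩ => ⟨_, W.mul_mem h1 h3, h2.mul h4⟩
  inv_mem' := fun ⟨_, h1, h2⟩ => ⟨_, W.inv_mem h1, h2.inv⟩

variable [Finite G]

variable (Γ G) in
/-- Pattern groups. -/
def TT (R : ℤ → ℤ → Prop) (hr : ∀ a, R a a) (ht : ∀ a b c, R a b → R b c → R a c) : Subgroup G :=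
  mkSub (fun g => ∀ a b, ¬ R a b → Γ.Z (L g) a b)
    (fun a b h => Z_one fun e => h (e ▸ hr a))
    (fun g k hg hk a b h => Z_mul fun c => by
      by_cases e : R a c
      · exact Or.inr (hk c b fun e' => h (ht _ _ _ e e'))
      · exact Or.inl (hg a c e))

variable (Γ G) in
/-- Unipotent pattern groups. -/
def UU (R : ℤ → ℤ → Prop) (ht : ∀ a b c, R a b → R b c → R a c) : Subgroup G :=
  mkSub (fun g => ∀ a b, ¬ R a b → Γ.Z (L g - 1) a b)
    (fun a b _ v => by simp [L_one])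
    (fun g k hg hk a b h => by
      rw [show L (g * k) - 1 = (L g - 1) * (L k - 1) + ((L g - 1) + (L k - 1)) by
        rw [L_mul]; noncomm_ring]
      refine Z_add (Z_mul fun c => ?_) (Z_add (hg a b h) (hk a b h))
      by_cases e : R a c
      · exact Or.inr (hk c b fun e' => h (ht _ _ _ e e'))
      · exact Or.inl (hg a c e))

variable (Γ G) in
/-- The Borel subgroup. -/
def BB : Subgroup G := Γ.TT G (· ≤ ·) le_refl fun _ _ _ => le_trans

variable (Γ G) in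
/-- The unipotent radical. -/
def U0 : Subgroup G := Γ.UU G (· < ·) fun _ _ _ => lt_trans

variable (Γ G) in
/-- The root subgroup. -/
def XX (τ : Equiv.Perm ℤ) : Subgroup G := Γ.UU G (Iv τ) (Iv_trans τ)

theorem mem_TT {R : ℤ → ℤ → Prop} {hr : ∀ a, R a a} {ht : ∀ a b c, R a b → R b c → R a c} {g : G} :
    g ∈ Γ.TT G R hr ht ↔ ∀ a b, ¬ R a b → Γ.Z (L g) a b := Iff.rfl
theorem mem_BB {g : G} : g ∈ Γ.BB G ↔ ∀ a b, b < a → Γ.Z (L g) a b := by
  simp only [BB, mem_TT, not_le]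
theorem mem_U0 {g : G} : g ∈ Γ.U0 G ↔ ∀ a b, ¬ a < b → Γ.Z (L g - 1) a b := Iff.rfl
theorem mem_XX {τ : Equiv.Perm ℤ} {g : G} :
    g ∈ Γ.XX G τ ↔ ∀ a b, ¬ Iv τ a b → Γ.Z (L g - 1) a b := Iff.rfl

theorem U0_le : Γ.U0 G ≤ Γ.BB G := fun _ hg => mem_BB.2 fun a b h =>
  (Z_sub_one h.ne').1 (hg a b h.not_gt)
theorem XX_le (τ : Equiv.Perm ℤ) : Γ.XX G τ ≤ Γ.U0 G := fun _ hg a b h => hg a b fun e => h e.1

theorem Mon.fx {n : G} {w : Equiv.Perm ℤ} (h : Γ.Mon n w) (x : G) :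
    Fx (Γ.BB G) x n ↔ ∀ a b, b < a → Γ.Z (L x) (w a) (w b) := by
  simp only [Fx, mem_BB, L_mul, h.conj]

theorem Mon.mem_BB {g : G} (h : Γ.Mon g 1) : g ∈ Γ.BB G := Gr.mem_BB.2 fun _ _ e => h.Z e.ne'

theorem Mon.eq_one {g : G} {w : Equiv.Perm ℤ} (h : Γ.Mon g w) (hw : ∀ a, Γ.p a = 0 → w a = a)
    (hg : g ∈ Γ.BB G) : w = 1 := by
  have key : ∀ {g : G} {w : Equiv.Perm ℤ}, Γ.Mon g w → g ∈ Γ.BB G → ∀ a, Γ.p a ≠ 0 → w a ≤ a :=
    fun {g w} h hg a ha => by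
      by_contra e
      refine ha (LinearMap.ext fun v => ?_)
      have := Gr.mem_BB.1 hg (w a) a (by omega) v
      rw [L_apply, h, Γ.idem] at this
      simpa using this
  ext a
  by_cases e : Γ.p a = 0
  · exact hw a e
  by_cases e' : Γ.p (w a) = 0
  · exact w.injective (hw _ e')
  have h1 := key h hg a e
  have h2 := key h.inv (inv_mem hg) (w a) e'
  simp only [Equiv.Perm.coe_inv, Equiv.symm_apply_apply] at h2
  exact le_antisymm h1 h2

theorem node {τ : Equiv.Perm ℤ} (hτ : τ * τ = 1) {s : G} (hs : Γ.Mon s τ) (sB : s ∉ Γ.BB G)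
    {W : Subgroup (Equiv.Perm ℤ)}
    (hd : ∀ w ∈ W, (∀ a b, Iv τ a b → w a < w b) ∨ ∀ a b, Iv τ a b → w b < w a) (cv : Cvx τ)
    (key : ∀ g : G, (∀ a b, ¬ Pa τ a b → Γ.Z (L g) a b) → g ∈ Γ.BB G ∨
      ∃ x ∈ Γ.XX G τ, s⁻¹ * x⁻¹ * g ∈ Γ.BB G) :
    Node (Γ.BB G) (Γ.U0 G) (Γ.NN G W) s (Γ.XX G τ) := by
  have ττ : ∀ a, τ (τ a) = a := fun a => congrArg (· a) hτ
  have τi : τ⁻¹ = τ := inv_eq_of_mul_eq_one_right hτ
  set P := Γ.TT G (Pa τ) (fun _ => Or.inl le_rfl) (Pa_trans cv)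
  have BP : Γ.BB G ≤ P := fun g hg a b h => hg a b fun e => h (Or.inl e)
  have sP : s ∈ P := fun a b h => hs.Z fun e => h (by
    rw [e]; by_cases e' : τ b ≤ b
    · exact Or.inl e'
    · exact Or.inr ⟨by omega, by rw [ττ]; omega⟩)
  have XB := (XX_le (Γ := Γ) (G := G) τ).trans U0_le
  have sq : s * s ∈ Γ.BB G := Mon.mem_BB (hτ ▸ hs.mul hs)
  have hx : ∀ x ∈ Γ.XX G τ, ∀ a b, a ≠ b → ¬ Iv τ a b → Γ.Z (L x) a b := fun x hx a b e h =>
    (Z_sub_one e).1 (hx a b h)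
  refine ⟨XB, sq, fun b hb => ?_, fun x hx h => ?_, ?_, ?_, fun y hy h b hb => ?_,
    fun x hx h => ?_⟩
  · rcases key (b * s) (P.mul_mem (BP hb) sP) with e | ⟨x, hx, e⟩
    · exact absurd ((mul_mem_cancel_left hb).1 e) sB
    · exact ⟨x, hx, by simpa [Fx, mul_assoc] using e⟩
  · rcases key (s * x * s)⁻¹ (P.inv_mem (P.mul_mem (P.mul_mem sP (BP (XB hx))) sP)) with e | ⟨y, hy, e⟩
    · exact absurd (by simpa [Fx, mul_assoc] using mul_mem (inv_mem sq) (inv_mem e)) h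
    · exact ⟨y, hy, by simpa [mul_assoc] using mul_mem (inv_mem e) (inv_mem sq)⟩
  · rintro n ⟨w, hw, hn⟩
    refine (hd _ (W.inv_mem hw)).imp (fun h x hx' => (hn.fx x).2 fun a b e =>
      hx x hx' _ _ (w.injective.ne e.ne') fun k => ?_) (fun h x hx' => ?_)
    · have := h _ _ k; simp at this; omega
    · have := ((hs.inv.mul hn).fx x).2 fun a b e =>
        hx x hx' _ _ ((τ⁻¹ * w).injective.ne e.ne') fun k => by
          rw [τi] at k
          have := h (w b) (w a) ⟨by simpa [ττ] using k.2, k.1⟩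
          simp at this; omega
      simpa [Fx, mul_assoc] using this
  · rintro x hx' n ⟨w, -, hn⟩ h a b e
    by_cases e' : a = b
    · rw [conj_sub, hn.conj, e']; exact hx' _ _ fun k => k.1.false
    · exact (Z_sub_one e').2 (mem_BB.1 h a b (by omega))
  · rw [show Fx (Γ.BB G) y (b * s) ↔ Fx (Γ.BB G) (b⁻¹ * y * b) s by simp [Fx, mul_assoc], hs.fx]
    rw [hs.fx] at h
    intro a c e
    by_cases e' : τ c < τ a
    · exact mem_BB.1 (mul_mem (mul_mem (inv_mem hb) (U0_le hy)) hb) _ _ e'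
    have e1 : τ a ≠ τ c := τ.injective.ne e.ne'
    rw [← Z_sub_one e1, conj_sub]
    refine Z_mul fun c' => ?_
    by_cases e2 : τ c < c'
    · exact Or.inr (mem_BB.1 hb _ _ e2)
    refine Or.inl (Z_mul fun a' => ?_)
    by_cases e3 : a' < τ a
    · exact Or.inl (mem_BB.1 (inv_mem hb) _ _ e3)
    right
    by_cases e4 : a' < c'
    · have := cv (τ a) a' c' (τ c) (by omega) e4 (by omega) ⟨by omega, by rwa [ττ, ττ]⟩
      have h5 := h _ _ this.2
      rw [ττ, ττ] at h5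
      exact (Z_sub_one e4.ne).2 h5
    · exact hy _ _ e4
  · refine eq_one_of_L (eq_zero_of_Z (Γ := Γ) fun a b => ?_)
    by_cases e : Iv τ a b
    · have := (hs.fx x).1 h _ _ e.2
      rw [ττ, ττ] at this
      exact (Z_sub_one e.1.ne).2 this
    · exact hx a b e

section N

variable {ι : Type*} {τ : ι → Equiv.Perm ℤ} {s : ι → G}

omit [Finite G] in
theorem exists_mon (hs : ∀ i, Γ.Mon (s i) (τ i)) {w : Equiv.Perm ℤ}
    (hw : w ∈ closure (Set.range τ)) : ∃ n ∈ closure (Set.range s), Γ.Mon n w := by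
  induction hw using closure_induction with
  | mem x hx => obtain ⟨i, rfl⟩ := hx; exact ⟨s i, subset_closure ⟨i, rfl⟩, hs i⟩
  | one => exact ⟨1, one_mem _, Mon.one⟩
  | mul x y _ _ hx hy =>
    obtain ⟨a, h1, h2⟩ := hx
    obtain ⟨b, h3, h4⟩ := hy
    exact ⟨a * b, mul_mem h1 h3, h2.mul h4⟩
  | inv x _ hx => obtain ⟨a, h1, h2⟩ := hx; exact ⟨a⁻¹, inv_mem h1, h2.inv⟩

theorem N_gen (hs : ∀ i, Γ.Mon (s i) (τ i)) :
    closure (Set.range s) ⊔ (Γ.BB G ⊓ Γ.NN G (closure (Set.range τ))) =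
      Γ.NN G (closure (Set.range τ)) := by
  refine le_antisymm (sup_le ((closure_le _).2 ?_) inf_le_right) ?_
  · rintro _ ⟨i, rfl⟩; exact ⟨_, subset_closure ⟨i, rfl⟩, hs i⟩
  · rintro g ⟨w, hw, hg⟩
    obtain ⟨n, h1, h2⟩ := exists_mon hs hw
    have h3 : Γ.Mon (n⁻¹ * g) 1 := by simpa using h2.inv.mul hg
    rw [show g = n * (n⁻¹ * g) by group]
    exact mul_mem (mem_sup_left h1) (mem_sup_right ⟨h3.mem_BB, 1, one_mem _, h3⟩)

end N

theorem N_conj {W : Subgroup (Equiv.Perm ℤ)} (hW : ∀ w ∈ W, ∀ a, Γ.p a = 0 → w a = a) :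
    ∀ n ∈ Γ.NN G W, ∀ t ∈ Γ.BB G ⊓ Γ.NN G W, n * t * n⁻¹ ∈ Γ.BB G := by
  rintro n ⟨w, -, hn⟩ t ⟨h1, u, hu, ht⟩
  rw [ht.eq_one (hW u hu) h1] at ht
  exact Mon.mem_BB (by simpa using (hn.mul ht).mul hn.inv)

theorem Mon.pow_mem {g : G} {w : Equiv.Perm ℤ} (h : Γ.Mon g w) (hw : ∀ a, Γ.p a = 0 → w a = a)
    (k : ℕ) : g ^ k ∈ Γ.BB G ↔ orderOf w ∣ k := by
  rw [orderOf_dvd_iff_pow_eq_one]
  exact ⟨(h.pow k).eq_one fun a ha => Equiv.Perm.pow_apply_eq_self_of_apply_eq_self (hw a ha) k,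
    fun e => (e ▸ h.pow k).mem_BB⟩

theorem mon_of_fx {W : Subgroup (Equiv.Perm ℤ)} (hM : ∀ w ∈ W, ∃ n : G, Γ.Mon n w)
    (hW : ∀ a b, a < b → Γ.p a = 0 ∨ Γ.p b = 0 ∨ ∃ w ∈ W, w b < w a) {g : G}
    (h : ∀ n ∈ Γ.NN G W, Fx (Γ.BB G) g n) : Γ.Mon g 1 := by
  refine mon_of_Z fun a b e => ?_
  rcases lt_or_gt_of_ne e with e | e
  · rcases hW a b e with k | k | ⟨w, hw, k⟩
    · intro v; simp [k]
    · intro v; simp [k]
    · obtain ⟨n, hn⟩ := hM w hw
      simpa using (hn.inv.fx g).1 (h _ ⟨_, W.inv_mem hw, hn.inv⟩) _ _ k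
  · simpa using (Mon.one.fx g).1 (h 1 (one_mem _)) _ _ e

theorem U0_pgroup (p : ℕ) [Fact p.Prime] [CharP F p] : IsPGroup p (Γ.U0 G) := by
  rintro ⟨g, hg⟩
  have h1 : ∀ k : ℕ, ∀ a b : ℤ, b < a + k → Γ.Z ((L g - 1) ^ k) a b := by
    intro k
    induction k with
    | zero => intro a b h; exact Z_one (by omega)
    | succ k ih =>
      intro a b h
      rw [pow_succ]
      refine Z_mul fun c => ?_
      by_cases e : c < b
      · exact Or.inl (ih a c (by push_cast at h; omega))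
      · exact Or.inr (hg c b e)
  obtain ⟨m, hm⟩ : ∃ m : ℕ, ∀ a ∈ Γ.S, |a| < m := by
    obtain ⟨m, hm⟩ := (Γ.S.image fun a => a.natAbs).exists_nat_subset_range
    exact ⟨m, fun a ha => by
      have := Finset.mem_range.1 (hm (Finset.mem_image_of_mem _ ha))
      rw [abs_lt]; omega⟩
  have hp : ∀ a, a ∉ Γ.S → ∀ u, Γ.p a u = 0 := fun a e u => by
    rw [← Γ.sum u, map_sum]
    exact Finset.sum_eq_zero fun b hb => Γ.orth _ _ _ fun e' => e (e' ▸ hb)
  have h2 : (L g - 1) ^ p ^ (2 * m) = 0 := eq_zero_of_Z (Γ := Γ) fun a b => by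
    by_cases ea : a ∈ Γ.S
    · by_cases eb : b ∈ Γ.S
      · have := Nat.lt_pow_self (n := 2 * m) (Fact.out : p.Prime).one_lt
        have h3 := abs_lt.1 (hm a ea)
        have h4 := abs_lt.1 (hm b eb)
        exact h1 _ a b (by omega)
      · intro v; simp [hp b eb]
    · intro v; exact hp a ea _
  rcases subsingleton_or_nontrivial V with hV | hV
  · exact ⟨0, Subtype.ext (eq_one_of_L (Subsingleton.elim _ _))⟩
  haveI : CharP (Module.End F V) p := charP_of_injective_algebraMap (algebraMap F _).injective p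
  rw [sub_pow_char_pow_of_commute _ _ (Commute.one_right _), one_pow] at h2
  refine ⟨2 * m, Subtype.ext (eq_one_of_L ?_)⟩
  rw [← h2]
  congr 1
  exact map_pow (⟨⟨L, L_one⟩, L_mul⟩ : G →* Module.End F V) g _

end Gr

end H8.TM
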