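import Mathlib
import Cfsg.Agent.H8.TM1

/-! Weyl groups of classical type as permutation groups of the integers. -/

set_option autoImplicit false

namespace H8.TM

open Subgroup H20.TB Equiv

theorem ord2 {w : Perm ℤ} (h : ∀ x, w (w x) = x) (x : ℤ) (k : w x ≠ x) : orderOf w = 2 :=
  orderOf_eq_prime (by ext x; simpa [pow_succ] using h x) fun e => k (by rw [e]; rfl)

theorem ord3 {w : Perm ℤ} (h : ∀ x, w (w (w x)) = x) (x : ℤ) (k : w x ≠ x) : orderOf w = 3 :=
  orderOf_eq_prime (by ext x; simpa [pow_succ] using h x) fun e => k (by rw [e]; rfl)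

theorem ord4 {w : Perm ℤ} (h : ∀ x, w (w (w (w x))) = x) (x : ℤ) (k : w (w x) ≠ x) :
    orderOf w = 4 :=
  orderOf_eq_prime_pow (p := 2) (n := 1) (fun e => k (by simpa [pow_succ] using congrArg (· x) e))
    (by ext x; simpa [pow_succ] using h x)

theorem sw_spec (a b x : ℤ) : (x = a ∧ swap a b x = b) ∨ (x = b ∧ swap a b x = a) ∨
    (x ≠ a ∧ x ≠ b ∧ swap a b x = x) := by
  rw [swap_apply_def]; split_ifs <;> omega

theorem cm1 {T : Ty} {i j : ℕ} (h : i + j = 1) : T.cm i j = T.m0 := by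
  rw [Ty.cm, if_neg (by omega), if_pos h]

theorem cm3 {T : Ty} {i j : ℕ} (e : i ≠ j) (h : i + j ≠ 1)
    (k : (2 ≤ i ∧ j = T.par i) ∨ (2 ≤ j ∧ i = T.par j)) : T.cm i j = 3 := by
  rw [Ty.cm, if_neg e, if_neg h, if_pos k]

theorem cm2 {T : Ty} {i j : ℕ} (e : i ≠ j) (h : i + j ≠ 1)
    (k : ¬ ((2 ≤ i ∧ j = T.par i) ∨ (2 ≤ j ∧ i = T.par j))) : T.cm i j = 2 := by
  rw [Ty.cm, if_neg e, if_neg h, if_neg k]

/-- simple reflections of type `A`. -/
def tA (i : ℕ) : Perm ℤ := swap (i : ℤ) (i + 1)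

theorem tA_spec (i : ℕ) (x : ℤ) : (x = i ∧ tA i x = i + 1) ∨ (x = i + 1 ∧ tA i x = i) ∨
    ((x < i ∨ i + 1 < x) ∧ tA i x = x) := by
  have := sw_spec i (i + 1) x; unfold tA; omega

theorem tA_sq (i : ℕ) : tA i * tA i = 1 := swap_mul_self _ _

theorem ord_A3 {i j : ℕ} (h : i = j + 1 ∨ j = i + 1) : orderOf (tA i * tA j) = 3 := by
  refine ord3 (fun x => ?_) (j + 1) ?_
  · simp only [Perm.mul_apply]
    have := tA_spec j x
    have := tA_spec i (tA j x)
    have := tA_spec j (tA i (tA j x))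
    have := tA_spec i (tA j (tA i (tA j x)))
    have := tA_spec j (tA i (tA j (tA i (tA j x))))
    have := tA_spec i (tA j (tA i (tA j (tA i (tA j x)))))
    omega
  · simp only [Perm.mul_apply]
    have := tA_spec j (j + 1)
    have := tA_spec i (tA j (j + 1))
    omega

theorem ord_A (n i j : ℕ) : orderOf (tA i * tA j) = (Ty.A n).cm i j := by
  by_cases h1 : i = j
  · rw [h1, tA_sq, orderOf_one, cm_self]
  by_cases h2 : i + j = 1
  · rw [cm1 h2]; exact ord_A3 (by omega)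
  by_cases h3 : i = j + 1 ∨ j = i + 1
  · rw [cm3 h1 h2 (by simp only [Ty.par]; omega)]; exact ord_A3 h3
  rw [cm2 h1 h2 (by simp only [Ty.par]; omega)]
  refine ord2 (fun x => ?_) j ?_
  · simp only [Perm.mul_apply]
    have := tA_spec j x
    have := tA_spec i (tA j x)
    have := tA_spec j (tA i (tA j x))
    have := tA_spec i (tA j (tA i (tA j x)))
    omega
  · simp only [Perm.mul_apply]
    have := tA_spec j j
    have := tA_spec i (tA j j)
    omega

theorem Iv_tA (i : ℕ) (a b : ℤ) : Iv (tA i) a b ↔ a = i ∧ b = i + 1 := by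
  have := tA_spec i a
  have := tA_spec i b
  unfold Iv; omega

theorem cvx_tA (i : ℕ) : Cvx (tA i) := fun a a' c' c h1 h2 h3 h4 => by
  rw [Iv_tA] at *; omega

/-- The Weyl group of type `A`. -/
def WA (n : ℕ) : Subgroup (Perm ℤ) := closure (Set.range fun i : Fin n => tA i)

theorem tA_mem {n i : ℕ} (h : i < n) : tA i ∈ WA n := subset_closure ⟨⟨i, h⟩, rfl⟩

theorem WA_fix {n : ℕ} {w : Perm ℤ} (hw : w ∈ WA n) {a : ℤ} (ha : a < 0 ∨ n < a) : w a = a := by
  induction hw using closure_induction with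
  | mem x hx => obtain ⟨i, rfl⟩ := hx; have := tA_spec i a; have := i.2; simp only; omega
  | one => rfl
  | mul x y _ _ hx hy => rw [Perm.mul_apply, hy, hx]
  | inv x _ hx => rw [Perm.inv_eq_iff_eq, hx]

theorem swap_mem_WA {n : ℕ} (a : ℕ) (k : ℕ) (h : a + k ≤ n) : swap (a : ℤ) (a + k) ∈ WA n := by
  induction k with
  | zero => rw [Nat.cast_zero, add_zero, swap_self]; exact one_mem (WA n)
  | succ k ih =>
    rcases Nat.eq_zero_or_pos k with rfl | hk
    · exact tA_mem (by omega)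
    have : swap (a : ℤ) (a + (k + 1 : ℕ)) = tA (a + k) * swap (a : ℤ) (a + k) * (tA (a + k))⁻¹ := by
      rw [← swap_apply_apply]
      have := tA_spec (a + k) a
      have := tA_spec (a + k) (a + k)
      congr 1 <;> omega
    rw [this]
    exact mul_mem (mul_mem (tA_mem (by omega)) (ih (by omega))) (inv_mem (tA_mem (by omega)))

theorem swap_mem_WA' {n : ℕ} {a b : ℤ} (h0 : 0 ≤ a) (h1 : a ≤ b) (h2 : b ≤ n) : swap a b ∈ WA n := by
  have := swap_mem_WA (n := n) a.toNat (b - a).toNat (by omega)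
  convert this using 2 <;> omega

/-- simple reflections of type `B`. -/
def tB (i : ℕ) : Perm ℤ :=
  if i = 0 then swap (-1) 1 else swap (i : ℤ) (i + 1) * swap (-(i : ℤ)) (-(i + 1))

theorem t0_spec (x : ℤ) : (x = -1 ∧ tB 0 x = 1) ∨ (x = 1 ∧ tB 0 x = -1) ∨
    ((x < -1 ∨ x = 0 ∨ 1 < x) ∧ tB 0 x = x) := by
  have := sw_spec (-1) 1 x
  rw [tB, if_pos rfl]; omega

theorem tB_spec {i : ℕ} (hi : i ≠ 0) (x : ℤ) : (x = i ∧ tB i x = i + 1) ∨ (x = i + 1 ∧ tB i x = i) ∨
    (x = -i ∧ tB i x = -i - 1) ∨ (x = -i - 1 ∧ tB i x = -i) ∨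
    ((x < -i - 1 ∨ (-i < x ∧ x < i) ∨ i + 1 < x) ∧ tB i x = x) := by
  have := sw_spec (-(i : ℤ)) (-(i + 1)) x
  have := sw_spec i (i + 1) (swap (-(i : ℤ)) (-(i + 1)) x)
  rw [tB, if_neg hi, Perm.mul_apply]; omega

theorem tB_sq (i : ℕ) : tB i * tB i = 1 := by
  ext x
  simp only [Perm.mul_apply, Perm.one_apply]
  by_cases hi : i = 0
  · subst hi
    have := t0_spec x
    have := t0_spec (tB 0 x)
    omega
  · have := tB_spec hi x
    have := tB_spec hi (tB i x)
    omega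

theorem ord_B3 {i j : ℕ} (hi : i ≠ 0) (hj : j ≠ 0) (h : i = j + 1 ∨ j = i + 1) :
    orderOf (tB i * tB j) = 3 := by
  refine ord3 (fun x => ?_) (j + 1) ?_
  · simp only [Perm.mul_apply]
    have := tB_spec hj x
    have := tB_spec hi (tB j x)
    have := tB_spec hj (tB i (tB j x))
    have := tB_spec hi (tB j (tB i (tB j x)))
    have := tB_spec hj (tB i (tB j (tB i (tB j x))))
    have := tB_spec hi (tB j (tB i (tB j (tB i (tB j x)))))
    omega
  · simp only [Perm.mul_apply]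
    have := tB_spec hj (j + 1)
    have := tB_spec hi (tB j (j + 1))
    omega

theorem ord_B2 {i j : ℕ} (hi : i ≠ 0) (hj : j ≠ 0) (h : i + 1 < j ∨ j + 1 < i) :
    orderOf (tB i * tB j) = 2 := by
  refine ord2 (fun x => ?_) j ?_
  · simp only [Perm.mul_apply]
    have := tB_spec hj x
    have := tB_spec hi (tB j x)
    have := tB_spec hj (tB i (tB j x))
    have := tB_spec hi (tB j (tB i (tB j x)))
    omega
  · simp only [Perm.mul_apply]
    have := tB_spec hj j
    have := tB_spec hi (tB j j)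
    omega

theorem comm_B0 {j : ℕ} (h : 1 < j) : tB 0 * tB j = tB j * tB 0 := by
  ext x
  have hj : j ≠ 0 := by omega
  simp only [Perm.mul_apply]
  have := tB_spec hj x
  have := t0_spec x
  have := t0_spec (tB j x)
  have := tB_spec hj (tB 0 x)
  omega

theorem ord_B0 {j : ℕ} (h : 1 < j) : orderOf (tB 0 * tB j) = 2 :=
  orderOf_eq_prime (by rw [(show Commute _ _ from comm_B0 h).mul_pow, sq, sq, tB_sq, tB_sq, one_mul])
    fun e => by
      have h1 := congrArg (· 1) e
      simp only [Perm.mul_apply, Perm.one_apply] at h1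
      have := tB_spec (i := j) (by omega) 1
      have := t0_spec (tB j 1)
      omega

theorem ord_B4 : orderOf (tB 0 * tB 1) = 4 := by
  refine ord4 (fun x => ?_) 1 (by decide)
  simp only [Perm.mul_apply]
  have := tB_spec one_ne_zero x
  have := t0_spec (tB 1 x)
  have := tB_spec one_ne_zero (tB 0 (tB 1 x))
  have := t0_spec (tB 1 (tB 0 (tB 1 x)))
  have := tB_spec one_ne_zero (tB 0 (tB 1 (tB 0 (tB 1 x))))
  have := t0_spec (tB 1 (tB 0 (tB 1 (tB 0 (tB 1 x)))))
  have := tB_spec one_ne_zero (tB 0 (tB 1 (tB 0 (tB 1 (tB 0 (tB 1 x))))))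
  have := t0_spec (tB 1 (tB 0 (tB 1 (tB 0 (tB 1 (tB 0 (tB 1 x)))))))
  omega

theorem ord_comm {G : Type*} [Group G] (a b : G) : orderOf (a * b) = orderOf (b * a) :=
  SemiconjBy.orderOf_eq b (by simp [SemiconjBy, mul_assoc])

theorem ord_B (n i j : ℕ) : orderOf (tB i * tB j) = (Ty.B n).cm i j := by
  by_cases h1 : i = j
  · rw [h1, tB_sq, orderOf_one, cm_self]
  by_cases h2 : i + j = 1
  · rw [cm1 h2]
    obtain ⟨rfl, rfl⟩ | ⟨rfl, rfl⟩ : (i = 0 ∧ j = 1) ∨ (i = 1 ∧ j = 0) := by omega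
    · exact ord_B4
    · rw [ord_comm]; exact ord_B4
  by_cases h3 : i = j + 1 ∨ j = i + 1
  · rw [cm3 h1 h2 (by simp only [Ty.par]; omega)]; exact ord_B3 (by omega) (by omega) h3
  rw [cm2 h1 h2 (by simp only [Ty.par]; omega)]
  by_cases hi : i = 0
  · subst hi; exact ord_B0 (by omega)
  by_cases hj : j = 0
  · subst hj; rw [ord_comm]; exact ord_B0 (by omega)
  exact ord_B2 hi hj (by omega)

theorem Iv_t0 (a b : ℤ) : Iv (tB 0) a b ↔ (a = -1 ∧ b = 0) ∨ (a = 0 ∧ b = 1) ∨ (a = -1 ∧ b = 1) := by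
  have := t0_spec a
  have := t0_spec b
  unfold Iv; omega

theorem Iv_tB {i : ℕ} (hi : i ≠ 0) (a b : ℤ) :
    Iv (tB i) a b ↔ (a = i ∧ b = i + 1) ∨ (a = -i - 1 ∧ b = -i) := by
  have := tB_spec hi a
  have := tB_spec hi b
  unfold Iv; omega

theorem cvx_tB (i : ℕ) : Cvx (tB i) := fun a a' c' c h1 h2 h3 h4 => by
  by_cases hi : i = 0
  · subst hi; rw [Iv_t0] at *; omega
  · rw [Iv_tB hi] at *; omega

/-- The Weyl group of type `B`. -/
def WB (n : ℕ) : Subgroup (Perm ℤ) := closure (Set.range fun i : Fin n => tB i)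

theorem tB_mem {n i : ℕ} (h : i < n) : tB i ∈ WB n := subset_closure ⟨⟨i, h⟩, rfl⟩

theorem WB_odd {n : ℕ} {w : Perm ℤ} (hw : w ∈ WB n) :
    (∀ a : ℤ, w (-a) = -w a) ∧ ∀ a : ℤ, (a < -(n : ℤ) ∨ n < a) → w a = a := by
  induction hw using closure_induction with
  | mem x hx =>
    obtain ⟨⟨i, hi⟩, rfl⟩ := hx
    simp only
    by_cases h : i = 0
    · subst h
      exact ⟨fun a => by have := t0_spec a; have := t0_spec (-a); omega,
        fun a ha => by have := t0_spec a; omega⟩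
    · exact ⟨fun a => by have := tB_spec h a; have := tB_spec h (-a); omega,
        fun a ha => by have := tB_spec h a; omega⟩
  | one => exact ⟨fun _ => rfl, fun _ _ => rfl⟩
  | mul x y _ _ hx hy =>
    exact ⟨fun a => by simp only [Perm.mul_apply, hx.1, hy.1],
      fun a ha => by rw [Perm.mul_apply, hy.2 a ha, hx.2 a ha]⟩
  | inv x _ hx =>
    exact ⟨fun a => by rw [Perm.inv_eq_iff_eq, hx.1]; simp,
      fun a ha => by rw [Perm.inv_eq_iff_eq, hx.2 a ha]⟩

theorem WB_zero {n : ℕ} {w : Perm ℤ} (hw : w ∈ WB n) : w 0 = 0 := by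
  have := (WB_odd hw).1 0
  rw [neg_zero] at this; omega

theorem WB_dich {n : ℕ} (i : ℕ) {w : Perm ℤ} (hw : w ∈ WB n) :
    (∀ a b, Iv (tB i) a b → w a < w b) ∨ ∀ a b, Iv (tB i) a b → w b < w a := by
  have ho := (WB_odd hw).1
  by_cases hi : i = 0
  · subst hi
    have h0 := WB_zero hw
    have h1 := ho 1
    have h2 : w 1 ≠ w 0 := w.injective.ne (by norm_num)
    simp only [Iv_t0]
    rcases lt_or_gt_of_ne h2 with e | e
    · right; rintro a b (⟨rfl, rfl⟩ | ⟨rfl, rfl⟩ | ⟨rfl, rfl⟩) <;> omega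
    · left; rintro a b (⟨rfl, rfl⟩ | ⟨rfl, rfl⟩ | ⟨rfl, rfl⟩) <;> omega
  · have h1 := ho i
    have h2 := ho (i + 1)
    rw [show -((i : ℤ) + 1) = -i - 1 by ring] at h2
    have h3 : w i ≠ w (i + 1) := w.injective.ne (by omega)
    simp only [Iv_tB hi]
    rcases lt_or_gt_of_ne h3 with e | e
    · left; rintro a b (⟨rfl, rfl⟩ | ⟨rfl, rfl⟩) <;> omega
    · right; rintro a b (⟨rfl, rfl⟩ | ⟨rfl, rfl⟩) <;> omega

theorem sign_mem {n : ℕ} (k : ℕ) (h : k + 1 ≤ n) : swap (-((k : ℤ) + 1)) (k + 1) ∈ WB n := by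
  induction k with
  | zero => exact tB_mem (i := 0) (by omega)
  | succ k ih =>
    have : swap (-(((k + 1 : ℕ) : ℤ) + 1)) ((k + 1 : ℕ) + 1) =
        tB (k + 1) * swap (-((k : ℤ) + 1)) (k + 1) * (tB (k + 1))⁻¹ := by
      rw [← swap_apply_apply]
      have := tB_spec (i := k + 1) (by omega) (-((k : ℤ) + 1))
      have := tB_spec (i := k + 1) (by omega) (k + 1)
      congr 1 <;> omega
    rw [this]
    exact mul_mem (mul_mem (tB_mem (by omega)) (ih (by omega))) (inv_mem (tB_mem (by omega)))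

theorem sign_mem' {n : ℕ} {a : ℤ} (h1 : -(n : ℤ) ≤ a) (h2 : a ≤ n) : swap (-a) a ∈ WB n := by
  rcases lt_trichotomy a 0 with h | rfl | h
  · have := sign_mem (n := n) (-a - 1).toNat (by omega)
    rw [swap_comm]; convert this using 2 <;> omega
  · rw [neg_zero, swap_self]; exact one_mem (WB n)
  · have := sign_mem (n := n) (a - 1).toNat (by omega)
    convert this using 2 <;> omega

theorem WB_rev {n : ℕ} {a b : ℤ} (h : a < b) (h1 : -(n : ℤ) ≤ a) (h2 : b ≤ n) :
    ∃ w ∈ WB n, w b < w a := by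
  by_cases e : a = -b
  · exact ⟨_, sign_mem' (a := b) (by omega) h2, by
      have := sw_spec (-b) b a; have := sw_spec (-b) b b; omega⟩
  · refine ⟨_, mul_mem (sign_mem' h1 (by omega)) (sign_mem' (a := b) (by omega) h2), ?_⟩
    simp only [Perm.mul_apply]
    have := sw_spec (-b) b a
    have := sw_spec (-b) b b
    have := sw_spec (-a) a (swap (-b) b a)
    have := sw_spec (-a) a (swap (-b) b b)
    omega

theorem WB_top {n : ℕ} {b : ℤ} (h0 : b ≠ 0) (h1 : -(n : ℤ) ≤ b) (h2 : b ≤ n) : ∃ w ∈ WB n, w b = n := by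
  have key : ∀ k : ℕ, ∀ b : ℤ, 0 < b → b + k = n → ∃ w ∈ WB n, w b = n := by
    intro k
    induction k with
    | zero => intro b _ h; exact ⟨1, one_mem _, by simpa using h⟩
    | succ k ih =>
      intro b hb h
      obtain ⟨w, hw, e⟩ := ih (b + 1) (by omega) (by omega)
      refine ⟨w * tB b.toNat, mul_mem hw (tB_mem (by omega)), ?_⟩
      have := tB_spec (i := b.toNat) (by omega) b
      rw [Perm.mul_apply, ← e]; congr 1; omega
  rcases lt_or_gt_of_ne h0 with h | h
  · obtain ⟨w, hw, e⟩ := key (n + b).toNat (-b) (by omega) (by omega)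
    exact ⟨_, mul_mem hw (sign_mem' h1 h2), by rw [Perm.mul_apply, swap_apply_right, e]⟩
  · exact key (n - b).toNat b h (by omega)

/-- simple reflections of type `D`. -/
def tD (n i : ℕ) : Perm ℤ := if i + 1 = n then tB 0 * tB 1 * (tB 0)⁻¹ else tB (i + 1)

theorem t0_inv : (tB 0)⁻¹ = tB 0 := inv_eq_of_mul_eq_one_right (tB_sq 0)

theorem conj_t0 {j : ℕ} (h : 1 < j) : tB 0 * tB j * (tB 0)⁻¹ = tB j := by
  rw [comm_B0 h]; group

theorem ord_D {n i j : ℕ} (hn : 4 ≤ n) (hi : i < n) (hj : j < n) :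
    orderOf (tD n i * tD n j) = (Ty.D n).cm i j := by
  have fork : ∀ j, 1 < j → orderOf (tB 0 * tB 1 * (tB 0)⁻¹ * tB j) = orderOf (tB 1 * tB j) :=
    fun j hj => by
      conv_lhs => rw [← conj_t0 hj]
      rw [conj_mul]
      exact (MulAut.conj (tB 0)).orderOf_eq _
  have f1 : orderOf (tB 0 * tB 1 * (tB 0)⁻¹ * tB 1) = 2 := by
    rw [t0_inv, mul_assoc, ← sq, orderOf_pow' _ two_ne_zero, ord_B4]; rfl
  have key : ∀ j, j + 1 < n → orderOf (tB 0 * tB 1 * (tB 0)⁻¹ * tB (j + 1)) =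
      if j = 1 then 3 else 2 := fun j hj => by
    rcases Nat.eq_zero_or_pos j with rfl | h
    · exact f1
    · rw [fork _ (by omega)]
      split_ifs with e
      · exact ord_B3 (by omega) (by omega) (by omega)
      · exact ord_B2 (by omega) (by omega) (by omega)
  by_cases e : i = j
  · rw [e, cm_self, tD]
    split_ifs
    · rw [conj_mul, tB_sq]; simp
    · rw [tB_sq, orderOf_one]
  have hc : (Ty.D n).cm i j = if (i + 1 = n ∧ j = 1) ∨ (j + 1 = n ∧ i = 1) ∨
      (i + 1 ≠ n ∧ j + 1 ≠ n ∧ (i = j + 1 ∨ j = i + 1)) then 3 else 2 := by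
    by_cases h2 : i + j = 1
    · rw [cm1 h2, if_pos (by omega)]; rfl
    split_ifs with h3
    · exact cm3 e h2 (by simp only [Ty.par]; split_ifs <;> omega)
    · exact cm2 e h2 (by simp only [Ty.par]; split_ifs <;> omega)
  rw [hc, tD, tD]
  by_cases h1 : i + 1 = n
  · rw [if_pos h1, if_neg (by omega), key j (by omega)]
    split_ifs <;> omega
  by_cases h2 : j + 1 = n
  · rw [if_neg h1, if_pos h2, ord_comm, key i (by omega)]
    split_ifs <;> omega
  rw [if_neg h1, if_neg h2]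
  split_ifs
  · exact ord_B3 (by omega) (by omega) (by omega)
  · exact ord_B2 (by omega) (by omega) (by omega)

/-- The Weyl group of type `D`. -/
def WD (n : ℕ) : Subgroup (Perm ℤ) := closure (Set.range fun i : Fin n => tD n i)

theorem WD_le {n : ℕ} (hn : 2 ≤ n) : WD n ≤ WB n := (closure_le _).2 (by
  rintro _ ⟨⟨i, hi⟩, rfl⟩
  simp only [tD]
  split_ifs
  · exact mul_mem (mul_mem (tB_mem (by omega)) (tB_mem (by omega))) (inv_mem (tB_mem (by omega)))
  · exact tB_mem (by omega))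

theorem WB_cov {n : ℕ} (hn : 2 ≤ n) {w : Perm ℤ} (hw : w ∈ WB n) : w ∈ WD n ∨ w * tB 0 ∈ WD n := by
  have m1 : ∀ i, i + 1 < n → tB (i + 1) ∈ WD n := fun i hi =>
    subset_closure ⟨⟨i, by omega⟩, if_neg (by simp only; omega)⟩
  have m2 : tB 0 * tB 1 * (tB 0)⁻¹ ∈ WD n :=
    subset_closure ⟨⟨n - 1, by omega⟩, if_pos (by simp only; omega)⟩
  have nm : ∀ w ∈ WD n, tB 0 * w * (tB 0)⁻¹ ∈ WD n := fun w hw => by
    induction hw using closure_induction with
    | mem x hx =>
      obtain ⟨⟨i, hi⟩, rfl⟩ := hx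
      simp only [tD]
      split_ifs
      · rw [show tB 0 * (tB 0 * tB 1 * (tB 0)⁻¹) * (tB 0)⁻¹ =
          (tB 0 * tB 0) * tB 1 * (tB 0 * tB 0)⁻¹ by group, tB_sq]
        simpa using m1 0 (by omega)
      · rcases Nat.eq_zero_or_pos i with rfl | h
        · exact m2
        · rw [conj_t0 (by omega)]; exact m1 i (by omega)
    | one => simpa using one_mem _
    | mul x y _ _ hx hy => rw [← conj_mul]; exact mul_mem hx hy
    | inv x _ hx => rw [← conj_inv]; exact inv_mem hx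
  induction hw using closure_induction with
  | mem x hx =>
    obtain ⟨⟨i, hi⟩, rfl⟩ := hx
    rcases i with _ | i
    · right; simp only; rw [tB_sq]; exact one_mem _
    · exact Or.inl (m1 i hi)
  | one => exact Or.inl (one_mem _)
  | mul x y _ _ hx hy =>
    rcases hx with hx | hx <;> rcases hy with hy | hy
    · exact Or.inl (mul_mem hx hy)
    · exact Or.inr (by simpa [mul_assoc] using mul_mem hx hy)
    · refine Or.inr ?_
      have := mul_mem hx (nm _ hy)
      rwa [mul_assoc, ← mul_assoc (tB 0), ← mul_assoc (tB 0), tB_sq, one_mul, t0_inv,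
        ← mul_assoc] at this
    · refine Or.inl ?_
      have := mul_mem hx (nm _ hy)
      rwa [mul_assoc, ← mul_assoc (tB 0), ← mul_assoc (tB 0), tB_sq, one_mul,
        mul_inv_cancel_right] at this
  | inv x _ hx =>
    refine hx.imp (fun h => inv_mem h) fun h => ?_
    have := nm _ (inv_mem h)
    rw [mul_inv_rev, mul_inv_cancel_left, t0_inv] at this
    exact this

end H8.TM
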