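import Mathlib
import Cfsg.Agent.H8.TM2
import Cfsg.Agent.H16.Polar2

/-! Assembly of a model from a graded space with a form. -/

set_option autoImplicit false

namespace H8.TM

open Subgroup H20.TB H15 H7 H16

section Gen

variable {F V : Type*} [Field F] [AddCommGroup V] [Module F V]

namespace Gr

variable {Γ : Gr F V} {G : Subgroup (V ≃ₗ[F] V)}

theorem Z_of_line {f : Module.End F V} {a b : ℤ} {e : V} (h : ∀ v, ∃ t : F, Γ.p b v = t • e)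
    (k : Γ.p a (f e) = 0) : Γ.Z f a b := fun v => by
  obtain ⟨t, ht⟩ := h v
  rw [ht, map_smul, map_smul, k, smul_zero]

theorem eq_of_p {v : V} {c : ℤ} (h : ∀ a, a ≠ c → Γ.p a v = 0) : Γ.p c v = v := by
  have : ∀ a, Γ.p a (Γ.p c v - v) = 0 := fun a => by
    by_cases e : a = c
    · rw [e, map_sub, Γ.idem, sub_self]
    · rw [map_sub, Γ.orth _ _ _ e, h a e, sub_self]
  rw [← sub_eq_zero, ← Γ.sum (_ - _)]
  exact Finset.sum_eq_zero fun a _ => this a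

theorem NN_mono {W W' : Subgroup (Equiv.Perm ℤ)} (h : W ≤ W') : Γ.NN G W ≤ Γ.NN G W' :=
  fun _ ⟨w, h1, h2⟩ => ⟨w, h h1, h2⟩

variable [Finite G]

theorem low {g : G} (hg : g ∈ Γ.BB G) {c : ℤ} {v : V} (h : ∀ a, c ≤ a → Γ.p a v = 0) {a : ℤ}
    (ha : c ≤ a) : Γ.p a (g.1 v) = 0 := by
  rw [← Γ.sum v, map_sum, map_sum]
  refine Finset.sum_eq_zero fun b _ => ?_
  by_cases e : b < a
  · exact mem_BB.1 hg a b e v
  · rw [h b (by omega), map_zero, map_zero]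

theorem key_of {τ : Equiv.Perm ℤ} {s x g : G} (hs : Γ.Mon s τ) (hx : x ∈ Γ.BB G) {c : ℤ}
    (hτ : ∀ a, c < a → c ≤ τ a) {e f : V} (he : ∀ v, ∃ t : F, Γ.p c v = t • e)
    (hf : Γ.p (τ c) f = f) {β : F} (h : ∀ a, c ≤ a → Γ.p a (g.1 e - β • x.1 f) = 0) {a : ℤ}
    (ha : c < a) : Γ.Z (L (s⁻¹ * x⁻¹ * g)) a c := by
  refine Z_of_line he ?_
  have h1 := hs.inv (τ a) ((x⁻¹).1 (g.1 e))
  have h2 := low (inv_mem hx) h (hτ a ha)
  rw [map_sub, map_smul, map_sub, map_smul, show (x⁻¹).1 (x.1 f) = f by simp, ← hf,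
    Γ.orth _ _ _ (τ.injective.ne ha.ne'), smul_zero, sub_zero] at h2
  rw [h2, map_zero] at h1
  simpa [L_apply] using h1

theorem Mon.uni {n y : G} {w : Equiv.Perm ℤ} (hn : Γ.Mon n w) (hy : y ∈ Γ.U0 G)
    (h : Fx (Γ.BB G) y n) : n⁻¹ * y * n ∈ Γ.U0 G := fun a b e => by
  by_cases e' : a = b
  · rw [conj_sub, hn.conj, e']; exact hy _ _ (lt_irrefl _)
  · exact (Z_sub_one e').2 (Gr.mem_BB.1 h a b (by omega))

theorem scalar_mem {g : G} {c : F} (h : ∀ v, g.1 v = c • v) : g ∈ Γ.BB G :=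
  Mon.mem_BB fun a v => by rw [h, h, map_smul]; rfl

theorem line_of_BB {g : G} (hg : g ∈ Γ.BB G) {c : ℤ} {z : V} (hz : Γ.p c z = z)
    (h0 : ∀ a, a < c → Γ.p a = 0) : Γ.p c (g.1 z) = g.1 z := eq_of_p fun a e => by
  rcases lt_or_gt_of_ne e with e | e
  · simp [h0 a e]
  · rw [← hz]; exact mem_BB.1 hg a c e z

end Gr

variable {σ : F →+* F} {Φ : Form σ V}

theorem EG_le {Λ : Subgroup Φ.Isom} {z : V} (hz : Rad Φ z ≤ Λ)
    (ht : ∀ e, e ≠ 0 → Sing Φ e → ∃ γ ∈ Λ, ∃ c : F, c ≠ 0 ∧ γ.1 e = c • z) (h0 : z ≠ 0)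
    (hs : Sing Φ z) : EG Φ ≤ Λ := (closure_le _).2 (by
  rintro g ⟨e, he, hg⟩
  by_cases e0 : e = 0
  · obtain rfl : g = 1 := Form.Isom.ext fun x => by
      obtain ⟨t, ht⟩ := (mem_Rad.1 hg).2 x (by simp [e0])
      simpa [e0] using ht
    exact one_mem _
  obtain ⟨γ, h1, c, hc, h2⟩ := ht e e0 he
  have := conj_mem_Rad hg γ
  rw [h2, Rad_smul hc] at this
  simpa [mul_assoc] using mul_mem (mul_mem (inv_mem h1) (hz this)) h1)

theorem eq_of_pow (p : ℕ) [Fact p.Prime] [CharP F p] {g : Φ.Isom} {c l : F}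
    (h : ∀ v, (g ^ p).1 v = c • v) {u : V} (hu : u ≠ 0) (k : g.1 u = l • u) : l ^ p = c := by
  have : ∀ m : ℕ, (g ^ m).1 u = l ^ m • u := fun m => by
    induction m with
    | zero => simp
    | succ m ih => rw [pow_succ, Form.Isom.mul_apply, k, map_smul, ih, smul_smul, pow_succ']
  exact smul_left_injective F hu ((this p).symm.trans (h u))

end Gen

variable {F V : Type} [Field F] [AddCommGroup V] [Module F V] {σ : F →+* F} {Φ : Form σ V}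
  [Finite Φ.Isom]

theorem real_gr (Γ : Gr F V) (T : Ty) (τ : Fin T.rk → Equiv.Perm ℤ)
    (hW : ∀ w ∈ closure (Set.range τ), ∀ a, Γ.p a = 0 → w a = a)
    (ord : ∀ i j, orderOf (τ i * τ j) = T.cm i j) (s : Fin T.rk → Φ.Isom)
    (hs : ∀ i, Γ.Mon (s i) (τ i)) (X : Fin T.rk → Subgroup Φ.Isom) (p : ℕ) [Fact p.Prime]
    (node : ∀ i, Node (Γ.BB _) (Γ.U0 _) (Γ.NN _ (closure (Set.range τ))) (s i) (X i))
    (hX : ∀ i, IsPGroup p (X i)) (XE : ∀ i, X i ≤ EG Φ) (i0 : Fin T.rk)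
    (qs : ∀ K : Subgroup (EG Φ), K.Normal → K ≤ center (EG Φ) ∨ K = ⊤)
    {c : ℤ} {z : V} (hz : Γ.p c z = z) (h0 : ∀ a, a < c → Γ.p a = 0)
    (h1 : ∀ v, ∃ t : F, Γ.p c v = t • z) (z0 : z ≠ 0) (zs : Sing Φ z) (hR : Rad Φ z ≤ Γ.BB _)
    (ht : ∀ e, e ≠ 0 → Sing Φ e → ∃ γ ∈ Γ.BB Φ.Isom ⊔ Γ.NN _ (closure (Set.range τ)),
      ∃ c : F, c ≠ 0 ∧ γ.1 e = c • z)
    (sc : ∀ g : Φ.Isom, (∀ v, Sing Φ v → ∃ c : F, g.1 v = c • v) → ∃ c : F, ∀ v, g.1 v = c • v)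
    (cen : ∀ g : EG Φ, g ∈ center (EG Φ) ↔ ∃ c : F, ∀ v, g.1.1 v = c • v)
    (rev : ∀ a b, a < b → Γ.p a = 0 ∨ Γ.p b = 0 ∨ ∃ w ∈ closure (Set.range τ), w b < w a)
    (tor : ∀ g ∈ EG Φ, Γ.Mon g 1 → ∀ c : F, (∀ v, (g ^ p).1 v = c • v) → ∃ c : F, ∀ v, g.1 v = c • v)
    (q : ℕ → ℕ) (hq : ∀ i, Nat.card (X i) = q i) (q1 : ∀ i, 1 < q i) :
    Real T q (EG Φ ⧸ center (EG Φ)) := by
  have hτ : ∀ i, τ i ∈ closure (Set.range τ) := fun i => subset_closure ⟨i, rfl⟩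
  refine real_of T (Γ.BB _) (Γ.U0 _) (Γ.NN _ (closure (Set.range τ))) (EG Φ) s X p
    (Gr.N_conj hW) (fun i => ⟨_, hτ i, hs i⟩) (Gr.N_gen hs) (fun i j k => ?_) node
    (fun i e => ?_) hX XE (EG_le (hR.trans le_sup_left) ht z0 zs) i0 qs
    (fun g => ∃ c : F, ∀ v, g.1 v = c • v) (fun g => ⟨fun h => sc g fun e he => ?_, ?_⟩) cen
    (fun g hg h ⟨c, hc⟩ => tor g hg (Gr.mon_of_fx (fun w hw => ?_) rev h) c hc) q hq
  · rw [((hs i).mul (hs j)).pow_mem (hW _ (mul_mem (hτ i) (hτ j))), ord]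
  · have := hq i
    rw [e, card_bot] at this
    exact (q1 i).ne this
  · by_cases e0 : e = 0
    · exact ⟨0, by simp [e0]⟩
    obtain ⟨γ, h2, d, hd, h3⟩ := ht e e0 he
    obtain ⟨t, h4⟩ := h1 ((γ * g * γ⁻¹).1 z)
    rw [Gr.line_of_BB (h γ h2) hz h0] at h4
    refine ⟨t, γ.1.injective ?_⟩
    have h5 : (γ⁻¹).1 (d • z) = e := (Form.Isom.inv_apply_eq _).2 h3
    rw [map_smul, h3, smul_comm, ← h4, ← map_smul, Form.Isom.mul_apply, Form.Isom.mul_apply, h5]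
  · rintro ⟨c, hc⟩ γ -
    exact Gr.scalar_mem (c := c) fun v => by simp [hc]
  · obtain ⟨n, -, hn⟩ := Gr.exists_mon hs hw
    exact ⟨n, hn⟩

theorem Real.congr {T : Ty} {q : ℕ → ℕ} {L L' : Type*} [Group L] [Group L'] (h : Real T q L)
    (e : L ≃* L') : Real T q L' := by
  obtain ⟨Γ, a, b, M, h1, ⟨h2⟩⟩ := h
  exact ⟨Γ, a, b, M, h1, ⟨h2.trans e⟩⟩

end H8.TM
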