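import Mathlib
import Cfsg.Agent.H8.TM3
import Cfsg.Agent.H16.AutSL2
import Cfsg.Agent.H7.SL
import Cfsg.Agent.H7.SmallTools

/-! The model of type `A`. -/

set_option autoImplicit false

namespace H8.TM

open Subgroup H20.TB H15 H7 H16 Module
open scoped commutatorElement

theorem qs_of {E : Type*} [Group E] (hp : commutator E = ⊤) (hs : IsSimpleGroup (E ⧸ center E))
    (K : Subgroup E) (hK : K.Normal) : K ≤ center E ∨ K = ⊤ := by
  refine (hs.eq_bot_or_eq_top_of_normal (K.map (QuotientGroup.mk' _))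
    (hK.map _ (QuotientGroup.mk'_surjective _))).imp (fun h => ?_) fun h => ?_
  · rwa [Subgroup.map_eq_bot_iff, QuotientGroup.ker_mk'] at h
  · refine eq_top_iff.2 (hp.ge.trans (commutator_le.2 fun a _ b _ => ?_))
    obtain ⟨k, hk, e⟩ := h.ge (mem_top (QuotientGroup.mk' (center E) a))
    have e' := mem_center_iff.1 (QuotientGroup.eq.1 e) b
    rw [show ⁅a, b⁆ = k * ((k⁻¹ * a) * b) * a⁻¹ * b⁻¹ by simp [commutatorElement_def, mul_assoc],
      ← e', show k * (b * (k⁻¹ * a)) * a⁻¹ * b⁻¹ = k * (b * k⁻¹ * b⁻¹) by group]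
    exact mul_mem hk (hK.conj_mem _ (inv_mem hk) b)

variable (F : Type) [Field F] (n : ℕ)

/-- The grading by coordinates. -/
noncomputable def grA : Gr F (Fin (n + 1) → F) where
  p a := LinearMap.pi fun i => if (i : ℤ) = a then LinearMap.proj i else 0
  S := Finset.Icc 0 n
  sum v := funext fun i => by
    have := i.2
    simp only [Finset.sum_apply, LinearMap.pi_apply, apply_ite (fun f : (Fin (n + 1) → F) →ₗ[F] F => f v),
      LinearMap.zero_apply]
    rw [Finset.sum_ite_eq, if_pos (Finset.mem_Icc.2 (by omega))]; rfl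
  idem a v := funext fun i => by by_cases h : (i : ℤ) = a <;> simp [h]
  orth a b v e := funext fun i => by
    by_cases h : (i : ℤ) = a
    · simp [h, e]
    · simp [h]

variable {F n}

theorem pA (a : ℤ) (v : Fin (n + 1) → F) (i : Fin (n + 1)) :
    (grA F n).p a v i = if (i : ℤ) = a then v i else 0 := by
  by_cases h : (i : ℤ) = a <;> simp [grA, h]

theorem pA_out {a : ℤ} (h : a < 0 ∨ n < a) : (grA F n).p a = 0 := by
  ext v i
  have := i.2
  simp only [LinearMap.comp_apply, pA]
  rw [if_neg (by omega)]; rfl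

theorem pA_ne {a : ℤ} (h : (grA F n).p a = 0) : a < 0 ∨ n < a := by
  by_contra e
  have := pA a (fun _ => (1 : F)) (⟨a.toNat, by omega⟩ : Fin (n + 1))
  rw [h, if_pos (by simp only; omega)] at this
  simp at this

theorem pA_line (j : Fin (n + 1)) (v : Fin (n + 1) → F) :
    (grA F n).p j v = v j • Pi.single j (1 : F) := funext fun i => by
  rw [pA]
  by_cases h : i = j
  · simp [h]
  · rw [if_neg fun e => h (Fin.ext (by omega))]; simp [h]

theorem pA_eq_zero {a : ℤ} {v : Fin (n + 1) → F} (h : ∀ i : Fin (n + 1), (i : ℤ) = a → v i = 0) :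
    (grA F n).p a v = 0 := funext fun i => by
  rw [pA]; split_ifs with e
  · exact h i e
  · rfl

theorem ZA {f : Module.End F (Fin (n + 1) → F)} (i j : Fin (n + 1)) :
    (grA F n).Z f i j ↔ f (Pi.single j 1) i = 0 := by
  refine ⟨fun h => ?_, fun h => Gr.Z_of_line (fun v => ⟨_, pA_line j v⟩) (by rw [pA_line, h, zero_smul])⟩
  have := congrFun (h (Pi.single j 1)) i
  simpa [pA_line] using this

/-- Permutation matrices. -/
noncomputable def sA (i : Fin n) : (zf F (Fin (n + 1) → F)).Isom :=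
  zI (LinearEquiv.funCongrLeft F F (Equiv.swap i.castSucc i.succ))

theorem sA_mon (i : Fin n) : (grA F n).Mon (sA (F := F) i) (tA i) := fun a v => funext fun k => by
  have h : ((Equiv.swap i.castSucc i.succ k : Fin (n + 1)) : ℤ) = tA i k := by
    have := tA_spec i k
    rw [Equiv.swap_apply_def]
    split_ifs with h1 h2
    · rw [h1] at this ⊢; simp only [Fin.val_castSucc, Fin.val_succ] at this ⊢; omega
    · rw [h2] at this ⊢; simp only [Fin.val_castSucc, Fin.val_succ] at this ⊢; omega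
    · rw [Fin.ext_iff] at h1 h2; simp only [Fin.val_castSucc, Fin.val_succ] at h1 h2; omega
  change _ = (grA F n).p a v (Equiv.swap i.castSucc i.succ k)
  rw [pA, pA, h]
  have := tA_spec i a
  have := tA_spec i k
  exact if_congr (by omega) rfl rfl

/-- Elementary matrices. -/
noncomputable def xA (i : Fin n) (t : F) : EG (zf F (Fin (n + 1) → F)) :=
  tv (LinearMap.proj i.succ) (t • Pi.single i.castSucc 1) (by simp [i.castSucc_lt_succ.ne'])

variable [Finite (zf F (Fin (n + 1) → F)).Isom]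

theorem xA_mem (i : Fin n) (t : F) : (xA i t).1 ∈ (grA F n).XX _ (tA i) := fun a b h v =>
  pA_eq_zero fun k hk => by
    change (_ + _ • _ - _ : Fin (n + 1) → F) k = 0
    rw [Iv_tA] at h
    by_cases e : k = i.castSucc
    · subst e
      simp only [Fin.val_castSucc] at hk
      simp [pA, show ¬ (i : ℤ) + 1 = b by omega]
    · simp [e]

theorem xA_bij (i : Fin n) :
    Function.Bijective fun t : F => (⟨_, xA_mem i t⟩ : (grA F n).XX _ (tA i)) := by
  have ap : ∀ t : F, (xA i t).1.1 (Pi.single i.succ 1) i.castSucc = t := fun t => by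
    simp [xA, tv_apply, i.castSucc_lt_succ.ne]
  refine ⟨fun t t' h => ?_, fun x => ⟨x.1.1 (Pi.single i.succ 1) i.castSucc, Subtype.ext ?_⟩⟩
  · rw [← ap t, ← ap t']
    exact congrArg (fun g : (grA F n).XX _ (tA i) => g.1.1 (Pi.single i.succ 1) i.castSucc) h
  · have := Gr.eq_zero_of_Z (Γ := grA F n)
      (f := Gr.L (xA i (x.1.1 (Pi.single i.succ 1) i.castSucc)).1 - Gr.L x.1) fun a b => by
      by_cases e : Iv (tA i) a b
      · obtain ⟨rfl, rfl⟩ := (Iv_tA _ _ _).1 e
        exact (ZA i.castSucc i.succ).2 (sub_eq_zero.2 (ap _))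
      · intro v
        have h1 := xA_mem i (x.1.1 (Pi.single i.succ 1) i.castSucc) a b e v
        have h2 := x.2 a b e v
        simp only [LinearMap.sub_apply, map_sub] at h1 h2 ⊢
        rw [sub_eq_zero] at h1 h2 ⊢
        rw [h1, h2]
    exact Form.Isom.ext fun v => LinearMap.congr_fun (sub_eq_zero.1 this) v

theorem fixA {w : Equiv.Perm ℤ} (hw : w ∈ WA n) (a : ℤ) (h : (grA F n).p a = 0) : w a = a :=
  WA_fix hw (pA_ne h)

theorem nodeA (i : Fin n) : Node ((grA F n).BB _) ((grA F n).U0 _) ((grA F n).NN _ (WA n))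
    (sA (F := F) i) ((grA F n).XX _ (tA i)) := by
  have hB : ∀ g : (zf F (Fin (n + 1) → F)).Isom, (∀ a b, ¬ Pa (tA i) a b → (grA F n).Z (Gr.L g) a b) →
      (grA F n).Z (Gr.L g) (i + 1) i → g ∈ (grA F n).BB _ := fun g h k =>
    Gr.mem_BB.2 fun a b e => by
      by_cases e' : b = i ∧ a = i + 1
      · rw [e'.1, e'.2]; exact k
      · exact h a b (by rw [Pa, Iv_tA]; omega)
  refine Gr.node (tA_sq i) (sA_mon i) (fun h => ?_) (fun w _ => ?_) (cvx_tA i) fun g hg => ?_
  · have := congrArg (· (i : ℤ)) ((sA_mon i).eq_one (fixA (tA_mem i.2)) h)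
    have := tA_spec i i
    simp only [Equiv.Perm.one_apply] at *
    omega
  · have : w i ≠ w (i + 1) := w.injective.ne (by omega)
    simp only [Iv_tA]
    rcases lt_or_gt_of_ne this with e | e
    · left; rintro a b ⟨rfl, rfl⟩; exact e
    · right; rintro a b ⟨rfl, rfl⟩; exact e
  by_cases hβ : g.1 (Pi.single i.castSucc 1) i.succ = 0
  · exact Or.inl (hB g hg ((ZA i.succ i.castSucc).2 hβ))
  set v := g.1 (Pi.single i.castSucc 1) with hv
  have xB := Gr.U0_le (Gr.XX_le _ (xA_mem i (v i.castSucc / v i.succ)))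
  set P := (grA F n).TT (zf F (Fin (n + 1) → F)).Isom (Pa (tA i)) (fun _ => Or.inl le_rfl)
    (Pa_trans (cvx_tA i))
  have t1 : tA i i = i + 1 := by have := tA_spec i i; omega
  refine Or.inr ⟨_, xA_mem i (v i.castSucc / v i.succ), hB _ (show _ ∈ P from mul_mem (mul_mem
    (inv_mem fun a b h => (sA_mon i).Z fun e => h ?_) (inv_mem fun a b h => xB a b fun e => h (Or.inl e))) hg)
    (Gr.key_of (sA_mon i) xB (fun a h => by have := tA_spec i a; omega)
      (fun v => ⟨_, pA_line i.castSucc v⟩) (f := Pi.single i.succ 1) (β := v i.succ)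
      (t1 ▸ (pA_line i.succ _).trans (by simp)) (fun a ha => pA_eq_zero fun k hk => ?_)
      (lt_add_one (i : ℤ)))⟩
  · have := tA_spec i b
    rw [Pa, Iv_tA]; omega
  · by_cases e : k = i.castSucc
    · simp [e, xA, tv_apply, i.castSucc_lt_succ.ne, ← hv, mul_div_cancel₀ _ hβ]
    by_cases e' : k = i.succ
    · simp [e', xA, tv_apply, i.castSucc_lt_succ.ne', ← hv]
    have := (ZA k i.castSucc).1 (hg _ _ (by
      rw [Pa, Iv_tA]
      rw [Fin.ext_iff] at e e'
      simp only [Fin.val_castSucc, Fin.val_succ] at *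
      omega))
    simpa [xA, tv_apply, e, e', Gr.L_apply] using this

theorem realA [Fintype F] (hn : 2 ≤ n) : Real (.A n) (fun _ => Fintype.card F)
    (EG (zf F (Fin (n + 1) → F)) ⧸ center (EG (zf F (Fin (n + 1) → F)))) := by
  obtain ⟨p, hp⟩ := CharP.exists F
  haveI : Fact p.Prime := ⟨CharP.char_is_prime F p⟩
  have h2 : 2 ≤ finrank F (Fin (n + 1) → F) := by simp; omega
  have h3 : 3 ≤ Fintype.card (Fin (n + 1)) := by simp; omega
  have sw : ∀ a b : Fin (n + 1), ∃ m ∈ (grA F n).BB (zf F (Fin (n + 1) → F)).Isom ⊔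
      (grA F n).NN _ (WA n), (grA F n).Mon m (Equiv.swap (a : ℤ) b) := fun a b => by
    have := a.2
    have := b.2
    have hw : Equiv.swap (a : ℤ) b ∈ WA n := by
      rcases le_total (a : ℤ) b with h | h
      · exact swap_mem_WA' (by omega) h (by omega)
      · rw [Equiv.swap_comm]; exact swap_mem_WA' (by omega) h (by omega)
    obtain ⟨m, -, hm⟩ := Gr.exists_mon (sA_mon (F := F)) hw
    exact ⟨m, mem_sup_right ⟨_, hw, hm⟩, hm⟩
  refine real_gr (grA F n) (.A n) (fun i => tA i) (fun w hw => fixA hw) (fun i j => ord_A n i j)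
    (fun i : Fin n => sA i) (fun i : Fin n => sA_mon i) (fun i => (grA F n).XX _ (tA i)) p
    (fun i : Fin n => nodeA i)
    (fun i => (Gr.U0_pgroup p).to_le (Gr.XX_le _)) (fun (i : Fin n) x hx => ?_) ⟨0, by change 0 < n; omega⟩
    (qs_of (commutator_eq_top_of_equiv (slEG _ F).symm (sl_commutator_eq_top h3))
      (haveI := psl_simple (F := F) h3; (quotCenterCongr (slEG _ F)).symm.isSimpleGroup))
    (c := (0 : Fin (n + 1))) (z := Pi.single 0 1) ((pA_line 0 _).trans (by simp))
    (fun a h => pA_out (Or.inl h)) (fun v => ⟨_, pA_line 0 v⟩) (by simp) ⟨rfl, rfl⟩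
    (fun r hr => Gr.mem_BB.2 fun a b e v => pA_eq_zero fun k hk => ?_) (fun e e0 _ => ?_)
    (fun g h => exists_scalar_add h2 g.1.toAddEquiv fun x =>
      Submodule.mem_span_singleton.2 ((h x ⟨rfl, rfl⟩).imp fun _ => Eq.symm))
    (fun _ => zf_center h2) (fun a b e => ?_) (fun g _ hg c hc => ?_) _
    (fun i : Fin n => (Nat.card_eq_of_bijective _ (xA_bij i)).symm.trans Nat.card_eq_fintype_card)
    fun _ => Fintype.one_lt_card
  · obtain ⟨t, ht⟩ := (xA_bij i).2 ⟨x, hx⟩
    exact (show (xA i t).1 = x from congrArg Subtype.val ht) ▸ (xA i t).2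
  · by_cases eb : b < 0
    · simp [pA_out (Or.inl eb)]
    obtain ⟨t, ht⟩ := (mem_Rad.1 hr).2 ((grA F n).p b v) rfl
    have : k ≠ 0 := by rintro rfl; simp at hk; omega
    rw [Gr.L_apply, ht]
    simp [pA, this, show ¬ (k : ℤ) = b by omega]
  · obtain ⟨b, hb⟩ := Function.ne_iff.1 e0
    obtain ⟨m, h4, h5⟩ := sw b (Fin.last n)
    obtain ⟨m', h6, h7⟩ := sw (Fin.last n) 0
    have h8 : m.1 e (Fin.last n) ≠ 0 := fun h => by
      have := h5 b e
      rw [Equiv.swap_apply_left, pA_line, pA_line, h, zero_smul, eq_comm,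
        LinearEquiv.map_eq_zero_iff] at this
      exact hb (by simpa using this)
    set y := m.1 e
    let r := tv (LinearMap.proj (Fin.last n)) (Pi.single (Fin.last n) 1 - (y (Fin.last n))⁻¹ • y :
      Fin (n + 1) → F) (by simp [h8])
    have h9 : r.1.1 y = y (Fin.last n) • Pi.single (Fin.last n) 1 := by
      simp [r, tv_apply, smul_sub, smul_smul, h8]
    have h10 : r.1 ∈ (grA F n).BB _ := Gr.mem_BB.2 fun a b e v => pA_eq_zero fun k hk => by
      have := k.2
      simp [r, Gr.L_apply, tv_apply, pA, show ¬ (k : ℤ) = b by omega, show ¬ (n : ℤ) = b by omega]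
    have h11 := h7 (Fin.last n) (r.1.1 y)
    rw [Equiv.swap_apply_left, pA_line, pA_line] at h11
    have h12 : m'.1 (r.1.1 y) = m'.1 (r.1.1 y) 0 • Pi.single 0 1 := by
      rw [h11, h9]; simp
    refine ⟨m' * r.1 * m, mul_mem (mul_mem h6 (mem_sup_left h10)) h4, _, fun h => ?_, h12⟩
    rw [h, zero_smul, LinearEquiv.map_eq_zero_iff, LinearEquiv.map_eq_zero_iff] at h12
    exact h8 (by simp [h12])
  · by_cases h4 : a < 0
    · exact Or.inl (pA_out (Or.inl h4))
    by_cases h5 : n < b
    · exact Or.inr (Or.inl (pA_out (Or.inr h5)))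
    exact Or.inr (Or.inr ⟨_, swap_mem_WA' (n := n) (by omega) e.le (by omega), by simpa using e⟩)
  · have h4 : ∀ j : Fin (n + 1), g.1 (Pi.single j 1) = g.1 (Pi.single j 1) j • Pi.single j 1 :=
      fun j => by
        have := hg j (Pi.single j 1)
        rw [Equiv.Perm.one_apply, pA_line, pA_line] at this
        simpa using this.symm
    have h5 : ∀ j : Fin (n + 1), g.1 (Pi.single j 1) j = g.1 (Pi.single 0 1) 0 := fun j =>
      frobenius_inj F p ((eq_of_pow p hc (by simp) (h4 j)).trans (eq_of_pow p hc (by simp) (h4 0)).symm)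
    refine ⟨g.1 (Pi.single 0 1) 0, fun v => ?_⟩
    conv_lhs => rw [pi_eq_sum_univ' v, map_sum]
    conv_rhs => rw [pi_eq_sum_univ' v, Finset.smul_sum]
    exact Finset.sum_congr rfl fun j _ => by rw [map_smul, h4, h5, smul_comm]

end H8.TM
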