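import Mathlib
import Cfsg.Agent.H8.TM3

/-! Polar frames. -/

set_option autoImplicit false

namespace H8.TM

open Subgroup H20.TB H15 H7 H16 Module

variable {F V : Type*} [Field F] [AddCommGroup V] [Module F V] {σ : F →+* F}

/-- The grading given by a hyperbolic frame with anisotropic complement. -/
structure PF (Φ : Form σ V) (n : ℕ) extends Gr F V where
  u : ℤ → V
  V0 : Submodule F V
  mem0 : ∀ v, v ∈ V0 ↔ p 0 v = v
  dual : ∀ a x y, Φ.B (p a x) y = Φ.B x (p (-a) y)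
  line : ∀ a, a ≠ 0 → ∀ v, ∃ t : F, p a v = t • u a
  pu : ∀ a, p a (u a) = u a
  Qu : ∀ a, Φ.Q (u a) = 0
  hyp : ∀ a : ℤ, 0 < a → a ≤ n → Φ.B (u (-a)) (u a) = 1
  out : ∀ a : ℤ, a < -(n : ℤ) ∨ n < a → p a = 0
  aniso : ∀ v ∈ V0, Sing Φ v → v = 0

theorem exists_PF {Φ : Form σ V} {n : ℕ} {e f : Fin n → V} (H : Φ.Hyp e f)
    (ha : ∀ x ∈ Φ.perp (Submodule.span F (Set.range (Sum.elim e f))), Sing Φ x → x = 0) :
    ∃ P : PF Φ n, P.V0 = Φ.perp (Submodule.span F (Set.range (Sum.elim e f))) := by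
  let u : ℤ → V := fun a => if h : 0 < a ∧ a ≤ n then f ⟨(a - 1).toNat, by omega⟩
    else if h : -(n : ℤ) ≤ a ∧ a < 0 then e ⟨(-a - 1).toNat, by omega⟩ else 0
  have u1 : ∀ (a : ℤ) (h : 0 < a ∧ a ≤ n), u a = f ⟨(a - 1).toNat, by omega⟩ := fun a h => dif_pos h
  have u2 : ∀ a (h : -(n : ℤ) ≤ a ∧ a < 0), u a = e ⟨(-a - 1).toNat, by omega⟩ := fun a h => by
    simp only [u]; rw [dif_neg (by omega), dif_pos h]
  have u3 : ∀ a : ℤ, a < -(n : ℤ) ∨ a = 0 ∨ n < a → u a = 0 := fun a h => by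
    simp only [u]; rw [dif_neg (by omega), dif_neg (by omega)]
  have hyp : ∀ a : ℤ, 0 < a → a ≤ n → Φ.B (u (-a)) (u a) = 1 := fun a h1 h2 => by
    rw [u1 a ⟨h1, h2⟩, u2 (-a) (by omega), H.ef, if_pos (by simp)]
  have hβ : ∀ a, u a ≠ 0 → Φ.B (u (-a)) (u a) ≠ 0 := fun a h => by
    have : ¬ (a < -(n : ℤ) ∨ a = 0 ∨ n < a) := fun k => h (u3 a k)
    rcases lt_or_gt_of_ne (show a ≠ 0 by omega) with k | k
    · have := hyp (-a) (by omega) (by omega)
      rw [neg_neg] at this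
      rw [Φ.B_symm_one this]; exact Φ.eps_ne_zero
    · rw [hyp a k (by omega)]; exact one_ne_zero
  have ho : ∀ a b, a + b ≠ 0 → Φ.B (u a) (u b) = 0 := fun a b h => by
    by_cases h1 : a < -(n : ℤ) ∨ a = 0 ∨ n < a
    · simp [u3 a h1]
    by_cases h2 : b < -(n : ℤ) ∨ b = 0 ∨ n < b
    · simp [u3 b h2]
    by_cases h3 : 0 < a <;> by_cases h4 : 0 < b
    · rw [u1 a (by omega), u1 b (by omega), H.ff]
    · rw [u1 a (by omega), u2 b (by omega), H.fe, if_neg (by simp only [Fin.ext_iff]; omega)]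
    · rw [u2 a (by omega), u1 b (by omega), H.ef, if_neg (by simp only [Fin.ext_iff]; omega)]
    · rw [u2 a (by omega), u2 b (by omega), H.ee]
  let q : ℤ → V →ₗ[F] V := fun a => ((Φ.B (u (-a)) (u a))⁻¹ • Φ.B (u (-a))).smulRight (u a)
  have q1 : ∀ a v, q a v = ((Φ.B (u (-a)) (u a))⁻¹ * Φ.B (u (-a)) v) • u a := fun _ _ => rfl
  have q2 : ∀ a, q a (u a) = u a := fun a => by
    by_cases h : u a = 0
    · simp [h]
    · rw [q1, inv_mul_cancel₀ (hβ a h), one_smul]
  have q3 : ∀ a b v, a ≠ b → q a (q b v) = 0 := fun a b v h => by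
    rw [q1 b, map_smul, q1, ho (-a) b (by omega)]; simp
  have q4 : ∀ a v, q a (q a v) = q a v := fun a v => by rw [q1 a v, map_smul, q2]
  have q5 : ∀ a v, ∑ b ∈ Finset.Icc (-(n : ℤ)) n, q b (q a v) = q a v := fun a v => by
    by_cases h : a ∈ Finset.Icc (-(n : ℤ)) n
    · rw [Finset.sum_eq_single_of_mem a h fun b _ hb => q3 b a v hb, q4]
    · rw [Finset.mem_Icc] at h
      simp [q1 a, u3 a (by omega)]
  have q6 : ∀ a v, ∑ b ∈ Finset.Icc (-(n : ℤ)) n, q a (q b v) = q a v := fun a v => by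
    by_cases h : a ∈ Finset.Icc (-(n : ℤ)) n
    · rw [Finset.sum_eq_single_of_mem a h fun b _ hb => q3 a b v hb.symm, q4]
    · rw [Finset.mem_Icc] at h
      simp [q1 a, u3 a (by omega)]
  have q7 : ∀ a x y, Φ.B (q a x) y = Φ.B x (q (-a) y) := fun a x y => by
    rw [q1, q1, neg_neg, map_smulₛₗ, map_smul, Φ.symm (u (-a)) x, Φ.symm (u (-a)) (u a)]
    simp only [LinearMap.smul_apply, smul_eq_mul, map_mul, map_inv₀, mul_inv]
    have := Φ.eps_ne_zero
    field_simp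
  let r : V →ₗ[F] V := LinearMap.id - ∑ b ∈ Finset.Icc (-(n : ℤ)) n, q b
  have r1 : ∀ v, r v = v - ∑ b ∈ Finset.Icc (-(n : ℤ)) n, q b v := fun v => by
    simp [r, LinearMap.sum_apply]
  have r2 : ∀ a v, q a (r v) = 0 := fun a v => by rw [r1, map_sub, map_sum, q6, sub_self]
  have r3 : ∀ a v, r (q a v) = 0 := fun a v => by rw [r1, q5, sub_self]
  have q0 : ∀ v, q 0 v = 0 := fun v => by simp [q1, u3 0]
  refine ⟨{ p := fun a => if a = 0 then r else q a
            S := Finset.Icc (-(n : ℤ)) n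
            sum := fun v => ?_
            idem := fun a v => ?_
            orth := fun a b v h => ?_
            u := u
            V0 := Φ.perp (Submodule.span F (Set.range (Sum.elim e f)))
            mem0 := fun v => ?_
            dual := fun a x y => ?_
            line := fun a h v => ⟨_, by rw [if_neg h, q1]⟩
            pu := fun a => ?_
            Qu := fun a => ?_
            hyp := hyp
            out := fun a h => ?_
            aniso := ha }, rfl⟩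
  · have : ∀ a, (if a = 0 then r else q a) v = (if a = 0 then r v else 0) + q a v := fun a => by
      split_ifs with h
      · rw [h, q0, add_zero]
      · rw [zero_add]
    simp only [this, Finset.sum_add_distrib, Finset.sum_ite_eq']
    rw [if_pos (by simp), r1, sub_add_cancel]
  · split_ifs
    · rw [r1 (r v)]; simp [r2]
    · exact q4 a v
  · split_ifs
    · omega
    · exact r3 b v
    · exact r2 a v
    · exact q3 a b v h
  · rw [if_pos rfl, Form.Hyp.mem_perp]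
    constructor
    · intro h
      have : ∀ a, Φ.B (u a) v = 0 := fun a => by
        by_cases h1 : a < -(n : ℤ) ∨ a = 0 ∨ n < a
        · simp [u3 a h1]
        by_cases h3 : 0 < a
        · rw [u1 a (by omega), h.2]
        · rw [u2 a (by omega), h.1]
      simp [r1, q1, this]
    · intro h
      have : ∀ a, Φ.B (u a) v = 0 := fun a => by rw [← q2 a, q7, ← h, r2, map_zero]
      exact ⟨fun i => by simpa [u2 (-i - 1) (by have := i.2; omega)] using this (-i - 1),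
        fun i => by simpa [u1 (i + 1) (by have := i.2; omega)] using this (i + 1)⟩
  · by_cases h : a = 0
    · rw [if_pos h, if_pos (by omega), r1, r1, map_sub, map_sub, map_sum, map_sum,
        LinearMap.sub_apply, LinearMap.sum_apply]
      congr 1
      exact Finset.sum_equiv (Equiv.neg ℤ) (fun a => by simp; omega) fun a _ => q7 a x y
    · rw [if_neg h, if_neg (by omega), q7]
  · split_ifs with h
    · simp [u3 a (by omega)]
    · exact q2 a
  · by_cases h1 : a < -(n : ℤ) ∨ a = 0 ∨ n < a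
    · rw [u3 a h1, Φ.Q_zero]
    by_cases h3 : 0 < a
    · rw [u1 a (by omega), H.Qf]
    · rw [u2 a (by omega), H.Qe]
  · rw [if_neg (by omega)]
    ext v
    simp [q1, u3 a (by omega)]

namespace PF

variable {Φ : Form σ V} {n : ℕ} (P : PF Φ n)

theorem p_u {a b : ℤ} (h : a ≠ b) : P.p a (P.u b) = 0 := by rw [← P.pu b, P.orth _ _ _ h]

theorem B_u (a : ℤ) (v : V) : Φ.B (P.u a) v = Φ.B (P.u a) (P.p (-a) v) := by
  rw [← P.dual, P.pu]

theorem B_eq_zero {x y : V} (h : ∀ a, P.p a x = 0 ∨ P.p (-a) y = 0) : Φ.B x y = 0 := by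
  rw [← P.sum x, map_sum, LinearMap.sum_apply]
  refine Finset.sum_eq_zero fun a _ => ?_
  rcases h a with e | e
  · simp [e]
  · rw [P.dual, e, map_zero]

theorem B_uu {a b : ℤ} (h : a + b ≠ 0) : Φ.B (P.u a) (P.u b) = 0 := by
  rw [P.B_u, P.p_u (by omega), map_zero]

theorem sing_u {a : ℤ} (h : a ≠ 0) : Sing Φ (P.u a) := ⟨P.B_uu (by omega), P.Qu a⟩

theorem beta {a : ℤ} (h0 : a ≠ 0) (h1 : -(n : ℤ) ≤ a) (h2 : a ≤ n) :
    Φ.B (P.u (-a)) (P.u a) ≠ 0 := by
  rcases lt_or_gt_of_ne h0 with k | k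
  · have := P.hyp (-a) (by omega) (by omega)
    rw [neg_neg] at this
    rw [Φ.B_symm_one this]; exact Φ.eps_ne_zero
  · rw [P.hyp a k h2]; exact one_ne_zero

theorem u_ne {a : ℤ} (h0 : a ≠ 0) (h1 : -(n : ℤ) ≤ a) (h2 : a ≤ n) : P.u a ≠ 0 := fun h =>
  P.beta h0 h1 h2 (by simp [h])

theorem fix {w : Equiv.Perm ℤ} (hw : w ∈ WB n) (a : ℤ) (h : P.p a = 0) : w a = a := by
  by_cases h0 : a = 0
  · rw [h0, WB_zero hw]
  refine (WB_odd hw).2 a (by_contra fun k => P.u_ne h0 (by omega) (by omega) ?_)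
  rw [← P.pu a, h]; rfl

theorem hypPair {a : ℤ} (h1 : 0 < a) (h2 : a ≤ n) : HypPair Φ (P.u (-a)) (P.u a) :=
  ⟨P.B_uu (by omega), P.B_uu (by omega), P.hyp a h1 h2, P.Qu _, P.Qu _⟩

theorem p_eq_zero {a : ℤ} (h0 : a ≠ 0) {v : V} (h : Φ.B (P.u (-a)) v = 0) : P.p a v = 0 := by
  by_cases k : a < -(n : ℤ) ∨ n < a
  · simp [P.out a k]
  obtain ⟨t, ht⟩ := P.line a h0 v
  rw [P.B_u, neg_neg, ht, map_smul, smul_eq_zero] at h
  rw [ht, h.resolve_right (P.beta h0 (by omega) (by omega)), zero_smul]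

theorem Q_low {l : V} (h : ∀ a, 0 ≤ a → P.p a l = 0) : Φ.Q l = 0 := by
  rw [← P.sum l]
  refine (Finset.sum_induction _ (fun x => Φ.Q x = 0 ∧ ∀ a, 0 ≤ a → P.p a x = 0)
    (fun x y hx hy => ⟨?_, fun a ha => by rw [map_add, hx.2 a ha, hy.2 a ha, add_zero]⟩)
    ⟨Φ.Q_zero, fun _ _ => map_zero _⟩ fun a _ => ?_).1
  · rw [Φ.Q_add, hx.1, hy.1, P.B_eq_zero fun a => (le_total 0 a).imp (hx.2 a) fun e =>
      hy.2 _ (by omega)]
    simp
  · by_cases e : 0 ≤ a
    · rw [h a e]; exact ⟨Φ.Q_zero, fun _ _ => map_zero _⟩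
    · obtain ⟨t, ht⟩ := P.line a (by omega) l
      exact ⟨by rw [ht, Φ.Q_smul, P.Qu, mul_zero], fun b hb => P.orth _ _ _ (by omega)⟩

theorem Z_dual (h : Φ.Nondeg) {g : Φ.Isom} {a b : ℤ} (k : P.Z (Gr.L g⁻¹) (-b) (-a)) :
    P.Z (Gr.L g) a b := fun v => h _ fun y => by
  rw [P.dual, Gr.L_apply, Form.Isom.B_left, P.dual, ← Gr.L_apply, k, map_zero]

theorem exists_mon [FiniteDimensional F V] (h : Φ.Nondeg) {w : Equiv.Perm ℤ} (hw : w ∈ WB n) :
    ∃ g : Φ.Isom, P.Mon g w := by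
  obtain ⟨h1, h2⟩ := WB_odd hw
  have h0 := WB_zero hw
  have rg : ∀ a, a ≠ 0 ∧ -(n : ℤ) ≤ a ∧ a ≤ n → w a ≠ 0 ∧ -(n : ℤ) ≤ w a ∧ w a ≤ n := fun a ha => by
    have := w.injective.ne ha.1
    by_contra k
    have := w.injective (h2 (w a) (by omega))
    omega
  let c : ℤ → F := fun a => if a < 0 then 1 else (Φ.B (P.u (-w a)) (P.u (w a)))⁻¹
  have hc : ∀ a, a ≠ 0 ∧ -(n : ℤ) ≤ a ∧ a ≤ n → c a ≠ 0 := fun a ha => by
    simp only [c]; split_ifs
    · exact one_ne_zero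
    · exact inv_ne_zero (P.beta (rg a ha).1 (rg a ha).2.1 (rg a ha).2.2)
  have key : ∀ a : ℤ, 0 < a → a ≤ n → Φ.B (c (-a) • P.u (w (-a))) (c a • P.u (w a)) =
      Φ.B (P.u (-a)) (P.u a) := fun a k1 k2 => by
    have := rg a (by omega)
    simp only [c]
    rw [if_pos (by omega), if_neg (by omega), one_smul, map_smul, h1, smul_eq_mul,
      inv_mul_cancel₀ (P.beta this.1 this.2.1 this.2.2), P.hyp a k1 k2]
  obtain ⟨g, hg⟩ := h.witt_family (ι := {a : ℤ // a ≠ 0 ∧ -(n : ℤ) ≤ a ∧ a ≤ n})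
    (fun a => P.u a) (fun a => c a • P.u (w a))
    (Φ.linearIndependent_of_dual _ (fun a => P.u (-a)) (fun a => P.beta a.2.1 a.2.2.1 a.2.2.2)
      fun a b e => P.B_uu fun k => e (Subtype.ext (by omega)))
    (Φ.linearIndependent_of_dual _ (fun a => P.u (-w a)) (fun a => by
      have := rg a a.2
      simpa [hc a a.2] using P.beta this.1 this.2.1 this.2.2)
      fun a b e => by
        rw [map_smul, P.B_uu fun k => e (Subtype.ext (w.injective (by omega))), smul_zero])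
    (fun a b => by
      by_cases e : a.1 + b.1 = 0
      · rcases lt_or_gt_of_ne b.2.1 with k | k
        · refine Φ.B_congr_symm ?_
          simpa [show -a.1 = b.1 by omega] using key a (by omega) a.2.2.2
        · simpa [show -b.1 = a.1 by omega] using key b k b.2.2.2
      · have := h1 b
        have := w.injective.ne (show a.1 ≠ -b.1 by omega)
        simp [P.B_uu e, P.B_uu (show w a + w b ≠ 0 by omega)])
    (fun a => by rw [Φ.Q_smul, P.Qu, P.Qu, mul_zero])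
  refine ⟨g, Gr.mon_of_maps fun a v => ?_⟩
  by_cases e : a < -(n : ℤ) ∨ n < a
  · simp [P.out a e]
  by_cases e0 : a = 0
  · rw [e0, h0]
    refine Gr.eq_of_p fun b hb => ?_
    by_cases e1 : b < -(n : ℤ) ∨ n < b
    · simp [P.out b e1]
    obtain ⟨d, hd⟩ := w.surjective (-b)
    have hd' : d ≠ 0 ∧ -(n : ℤ) ≤ d ∧ d ≤ n := by
      refine ⟨by rintro rfl; omega, by_contra fun k => ?_⟩
      have := h2 d (by omega)
      omega
    have := Form.Isom.map_B g (P.u d) (P.p 0 v)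
    rw [hg ⟨d, hd'⟩, P.B_u d, P.orth _ _ _ (by omega), map_zero, hd] at this
    exact P.p_eq_zero hb (by simpa [hc d hd'] using this)
  · obtain ⟨t, ht⟩ := P.line a e0 v
    rw [ht, map_smul, hg ⟨a, by omega⟩, map_smul, map_smul, P.pu]

end PF

end H8.TM
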