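import Mathlib
import Cfsg.Agent.H8.TM5

/-! Root subgroups and models for polar frames. -/

set_option autoImplicit false

namespace H8.TM

open Subgroup H20.TB H15 H7 H16 Module

theorem Iv_neg {i : ℕ} {a b : ℤ} (h : Iv (tB i) a b) : Iv (tB i) (-b) (-a) := by
  by_cases hi : i = 0
  · subst hi; rw [Iv_t0] at *; omega
  · rw [Iv_tB hi] at *; omega

theorem Iv_cases {i : ℕ} {a b : ℤ} (h : Iv (tB i) a b) : b = i + 1 ∨ a = -(i + 1) := by
  by_cases hi : i = 0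
  · subst hi; rw [Iv_t0] at *; omega
  · rw [Iv_tB hi] at *; omega

theorem exists_sq_zero {F V : Type*} [Field F] [AddCommGroup V] [Module F V] {N : Module.End F V}
    {k : ℕ} (h : N ^ k = 0) (h0 : N ≠ 0) : ∃ w, N w ≠ 0 ∧ N (N w) = 0 := by
  by_contra hc
  push Not at hc
  have : ∀ k : ℕ, ∀ w, (N ^ k) (N w) = 0 → N w = 0 := fun k => by
    induction k with
    | zero => exact fun w e => e
    | succ k ih => exact fun w e => by_contra fun e' => hc w e' (ih (N w) (by rwa [pow_succ] at e))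
  exact h0 (LinearMap.ext fun w => this k w (by rw [h]; rfl))

namespace PF

section Gen

variable {F V : Type*} [Field F] [AddCommGroup V] [Module F V] {σ : F →+* F} {Φ : Form σ V} {n : ℕ}
  (P : PF Φ n)

/-- The possible images of a frame vector under a root subgroup. -/
def Y (i : ℕ) (y : V) : Prop :=
  Sing Φ y ∧ ∀ a, ¬ Iv (tB i) a (i + 1) → P.p a (y - P.u (i + 1)) = 0

theorem Y_add {i : ℕ} (hi : i ≠ 0) (t : F) : P.Y i (P.u (i + 1) + t • P.u i) := by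
  have h1 := P.B_uu (a := i + 1) (b := i) (by omega)
  refine ⟨⟨?_, ?_⟩, fun a ha => ?_⟩
  · simp [h1, P.B_uu (a := i) (b := i + 1) (by omega), P.B_uu (a := i) (b := i) (by omega),
      P.B_uu (a := i + 1) (b := i + 1) (by omega)]
  · simp [Φ.Q_add_smul, P.Qu, h1]
  · rw [Iv_tB hi] at ha
    simp [P.p_u (show a ≠ i by omega)]

theorem card_Y [Fintype F] {i : ℕ} (hi : i ≠ 0) (hn : i < n) :
    Nat.card {y // P.Y i y} = Fintype.card F := by
  refine (Nat.card_eq_of_bijective (fun t : F => (⟨_, P.Y_add hi t⟩ : {y // P.Y i y}))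
    ⟨fun t t' h => ?_, fun y => ?_⟩).symm.trans Nat.card_eq_fintype_card
  · exact smul_left_injective F (P.u_ne (a := i) (by omega) (by omega) (by omega))
      (add_left_cancel (congrArg Subtype.val h))
  · obtain ⟨t, ht⟩ := P.line i (by omega) (y.1 - P.u (i + 1))
    rw [Gr.eq_of_p fun a ha => y.2.2 a (by rw [Iv_tB hi]; omega)] at ht
    exact ⟨t, Subtype.ext (by simp [← ht])⟩

theorem perp0 {w : V} (hw : w ∈ P.V0) {a : ℤ} (h : a ≠ 0) : Φ.B (P.u a) w = 0 := by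
  rw [P.B_u, ← (P.mem0 w).1 hw, P.orth _ _ _ (by omega), map_zero]

theorem card_Y0 [Finite V] (hn : 0 < n) {N : ℕ} (hN : ∀ w : V, Nat.card {c : F //
    σ c + c * Φ.ε + Φ.B w w = 0 ∧ Φ.τ * σ c + Φ.Q w = 0} = N) :
    Nat.card {y // P.Y 0 y} = Nat.card P.V0 * N := by
  have H := P.hypPair (a := 1) one_pos (by omega)
  have hs : ∀ (c : F) (w : P.V0), Sing Φ (c • P.u (-1) + (1 : F) • P.u 1 + w) ↔
      σ c + c * Φ.ε + Φ.B w w = 0 ∧ Φ.τ * σ c + Φ.Q w = 0 := fun c w => by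
    have hw : w.1 ∈ hypPerp Φ (P.u (-1)) (P.u 1) :=
      mem_hypPerp.2 ⟨P.perp0 w.2 (by omega), P.perp0 w.2 (by omega)⟩
    rw [Sing, hyp_B H _ _ _ _ hw hw, H.Q_eq _ _ hw]
    simp
  haveI := Fintype.ofFinite P.V0
  haveI : Finite F := Finite.of_injective (fun c : F => c • P.u 1)
    (smul_left_injective F H.f_ne_zero)
  refine (Nat.card_eq_of_bijective (fun x : Σ w : P.V0, {c : F //
    σ c + c * Φ.ε + Φ.B w w = 0 ∧ Φ.τ * σ c + Φ.Q w = 0} =>
      (⟨x.2.1 • P.u (-1) + (1 : F) • P.u 1 + x.1, (hs _ _).2 x.2.2, fun a ha => ?_⟩ : {y // P.Y 0 y}))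
    ⟨?_, fun y => ?_⟩).symm.trans (by simp [Nat.card_sigma, hN])
  · rw [Iv_t0] at ha
    have : P.p a x.1 = 0 := by rw [← (P.mem0 _).1 x.1.2, P.orth a 0 _ (by omega)]
    simp [P.p_u (show a ≠ -1 by omega), this]
  · rintro ⟨⟨w, hw⟩, c, hc⟩ ⟨⟨w', hw'⟩, c', hc'⟩ e
    obtain ⟨rfl, -, rfl⟩ := H.eq_of_eq (mem_hypPerp.2 ⟨P.perp0 hw (by omega), P.perp0 hw (by omega)⟩)
      (mem_hypPerp.2 ⟨P.perp0 hw' (by omega), P.perp0 hw' (by omega)⟩) (congrArg Subtype.val e)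
    rfl
  · obtain ⟨y, h1, h2⟩ := y
    simp only [Iv_t0, Nat.cast_zero, zero_add] at h2
    obtain ⟨t, ht⟩ := P.line (-1) (by omega) (y - P.u 1)
    have h3 : P.p 0 (y - P.u 1 - t • P.u (-1)) = y - P.u 1 - t • P.u (-1) :=
      Gr.eq_of_p fun a ha => by
        by_cases e : a = -1
        · rw [e, map_sub, ht, map_smul, P.pu, sub_self]
        · rw [map_sub, h2 a (by omega), map_smul, P.p_u e, smul_zero, sub_zero]
    have h4 : t • P.u (-1) + (1 : F) • P.u 1 + (y - P.u 1 - t • P.u (-1)) = y := by module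
    exact ⟨⟨⟨_, (P.mem0 _).2 h3⟩, t, (hs t ⟨_, (P.mem0 _).2 h3⟩).1 (h4.symm ▸ h1)⟩, Subtype.ext h4⟩

theorem sing_sub {v l : V} (hv : Sing Φ v) (c : ℤ) (hc : c ≤ 0) (h1 : ∀ a, c ≤ a → P.p a l = 0)
    (h2 : ∀ a, -c < a → P.p a v = 0) : Sing Φ (v - l) := by
  have h3 : Φ.B l v = 0 := P.B_eq_zero fun a => (le_or_gt c a).imp (h1 a) fun e => h2 _ (by omega)
  have h4 : Φ.B l l = 0 := P.B_eq_zero fun a => (le_or_gt c a).imp (h1 a) fun e => h1 _ (by omega)
  have h5 := Φ.B_eq_zero_comm.1 h3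
  exact ⟨by simp [hv.1, h3, h4, h5],
    by simp [Φ.Q_sub, hv.2, h5, P.Q_low fun a ha => h1 a (by omega)]⟩

theorem column {i : ℕ} (hn : i < n) {g : Φ.Isom} (hg : ∀ a b, ¬ Pa (tB i) a b → P.Z (Gr.L g) a b)
    {c : ℤ} (hc : c = tB i (i + 1)) : (∀ a, c < a → P.p a (g.1 (P.u c)) = 0) ∨
      ∃ (β : F) (y : V), P.Y i y ∧ ∀ a, c ≤ a → P.p a (g.1 (P.u c) - β • y) = 0 := by
  have h1 : ∀ a, ¬ Pa (tB i) a c → P.p a (g.1 (P.u c)) = 0 := fun a h => P.pu c ▸ hg a c h _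
  set v := g.1 (P.u c) with hv
  obtain ⟨β, hβ⟩ := P.line (i + 1) (by omega) v
  by_cases hi : i = 0
  · subst hi
    obtain rfl : c = -1 := by have := t0_spec 1; simp only [Nat.cast_zero, zero_add] at hc; omega
    simp only [Pa, Iv_t0, Nat.cast_zero, zero_add] at h1 hβ
    have hs : Sing Φ v := (P.sing_u (by omega)).map g
    by_cases h0 : β = 0
    · rw [h0, zero_smul] at hβ
      have h2 : ∀ a, -0 < a → P.p a v = 0 := fun a ha => by
        by_cases e : a = 1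
        · rw [e, hβ]
        · exact h1 a (by omega)
      have h3 := P.sing_sub (l := v - P.p 0 v) hs 0 le_rfl (fun a ha => by
        by_cases e : a = 0
        · rw [e, map_sub, P.idem, sub_self]
        · rw [map_sub, h2 a (by omega), P.orth _ _ _ e, sub_self]) h2
      rw [sub_sub_cancel] at h3
      have h4 := P.aniso _ ((P.mem0 _).2 (P.idem 0 v)) h3
      refine Or.inl fun a ha => ?_
      by_cases e : a = 0
      · rw [e, h4]
      · exact h2 a (by omega)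
    have h2 : ∀ a, -1 ≤ a → P.p a (v - (P.p 1 v + P.p 0 v + P.p (-1) v)) = 0 := fun a ha => by
      obtain rfl | rfl | rfl | e : a = -1 ∨ a = 0 ∨ a = 1 ∨ 1 < a := by omega
      · simp [P.idem, P.orth]
      · simp [P.idem, P.orth]
      · simp [P.idem, P.orth]
      · simp [h1 a (by omega), P.orth a 1 _ (by omega), P.orth a 0 _ (by omega),
          P.orth a (-1) _ (by omega)]
    have h3 := P.sing_sub hs (-1) (by omega) h2 fun a ha => h1 a (by omega)
    rw [sub_sub_cancel] at h3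
    refine Or.inr ⟨β, _, ⟨h3.smul β⁻¹, fun a ha => ?_⟩, by simpa [smul_smul, h0] using h2⟩
    rw [Iv_t0] at ha
    simp only [Nat.cast_zero, zero_add]
    rw [hβ, smul_add, smul_add, smul_smul, inv_mul_cancel₀ h0]
    simp [P.orth a 0 _ (by omega), P.orth a (-1) _ (by omega)]
  obtain rfl : c = i := by have := tB_spec hi (i + 1); omega
  simp only [Pa, Iv_tB hi] at h1
  by_cases h0 : β = 0
  · refine Or.inl fun a ha => ?_
    by_cases e : a = i + 1
    · rw [e, hβ, h0, zero_smul]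
    · exact h1 a (by omega)
  obtain ⟨α, hα⟩ := P.line i (by omega) v
  refine Or.inr ⟨β, _, P.Y_add hi (β⁻¹ * α), fun a ha => ?_⟩
  obtain rfl | rfl | e : a = i ∨ a = i + 1 ∨ i + 1 < a := by omega
  · simp [hα, P.pu, P.p_u, smul_smul, h0]
  · simp [hβ, P.pu, P.p_u]
  · simp [h1 a (by omega), P.p_u (show a ≠ i by omega), P.p_u e.ne']

variable [Finite Φ.Isom] (h : Φ.Nondeg)
include h

theorem X_ext {i : ℕ} {x : Φ.Isom} (hx : x ∈ P.XX _ (tB i)) (e : x.1 (P.u (i + 1)) = P.u (i + 1)) :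
    x = 1 := by
  refine Gr.eq_one_of_L (Gr.eq_zero_of_Z (Γ := P.toGr) fun a b => ?_)
  by_cases k : Iv (tB i) a b
  · rcases Iv_cases k with rfl | rfl
    · exact Gr.Z_of_line (P.line _ (by omega)) (by simp [Gr.L_apply, e])
    · refine (Gr.Z_sub_one k.1.ne).2 (P.Z_dual h ?_)
      rw [neg_neg]
      refine Gr.Z_of_line (P.line _ (by omega)) ?_
      rw [Gr.L_apply, (Form.Isom.inv_apply_eq _).2 e, P.p_u (by have := k.1; omega)]
  · exact hx a b k

theorem mem_BB_of {g : Φ.Isom} (d : ℤ)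
    (k : ∀ a b, b < a → ¬ (a = d ∧ b = d - 1) → P.Z (Gr.L g) a b) : g ∈ P.BB _ := by
  have : g ∈ P.TT Φ.Isom (fun a b => a ≤ b ∨ (a = d ∧ b = d - 1)) (fun _ => Or.inl le_rfl)
    (fun _ _ _ _ _ => by omega) := fun a b e => k a b (by omega) (by omega)
  refine Gr.mem_BB.2 fun a b e => ?_
  by_cases e' : a = d ∧ b = d - 1
  · exact P.Z_dual h (inv_mem this _ _ (by omega))
  · exact k a b e e'

variable [FiniteDimensional F V]

theorem exists_X {i : ℕ} (hn : i < n) {y : V} (hy : P.Y i y) :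
    ∃ x ∈ P.XX Φ.Isom (tB i), x ∈ EG Φ ∧ x.1 (P.u (i + 1)) = y := by
  have H := P.hypPair (a := i + 1) (by omega) (by omega)
  obtain ⟨x, h1, h2⟩ := exists_Rad h H hy.1 (by
    have := P.B_u (-(i + 1)) (y - P.u (i + 1))
    rw [neg_neg, hy.2 _ fun k => k.1.false, map_zero, map_sub, H.ef, sub_eq_zero] at this
    exact this)
  refine ⟨x, fun a b k => ?_, Rad_le_EG H.sing_e h1, h2⟩
  by_cases e : b = i + 1
  · subst e
    exact Gr.Z_of_line (P.line _ (by omega)) (h2 ▸ hy.2 a k :)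
  intro v
  rw [LinearMap.sub_apply, Gr.L_apply, Rad_apply h1 H.ef (by
    rw [P.B_u, neg_neg, P.orth _ _ _ (Ne.symm e), map_zero]), h2, Module.End.one_apply,
    sub_sub_cancel_left, map_neg, map_smul]
  by_cases e' : a = -(i + 1)
  · rw [← neg_neg b, ← P.dual, hy.2 _ fun k' => k (by simpa [e'] using Iv_neg k')]
    simp
  · rw [P.p_u e']; simp

theorem X_le {i : ℕ} (hn : i < n) : P.XX Φ.Isom (tB i) ≤ EG Φ := fun x hx => by
  obtain ⟨x', h1, h2, h3⟩ := P.exists_X h hn (y := x.1 (P.u (i + 1)))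
    ⟨(P.sing_u (by omega)).map x, fun a ha => by simpa [P.pu, Gr.L_apply] using hx a _ ha (P.u (i + 1))⟩
  have := P.X_ext h (mul_mem (inv_mem h1) hx) ((Form.Isom.inv_apply_eq _).2 h3)
  rwa [← inv_mul_eq_one.1 this]

theorem card_X {i : ℕ} (hn : i < n) : Nat.card (P.XX Φ.Isom (tB i)) = Nat.card {y // P.Y i y} := by
  refine Nat.card_eq_of_bijective (fun x => ⟨x.1.1 (P.u (i + 1)), (P.sing_u (by omega)).map x.1,
    fun a ha => by simpa [P.pu, Gr.L_apply] using x.2 a _ ha (P.u (i + 1))⟩) ⟨fun x x' e => ?_, fun y => ?_⟩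
  · exact Subtype.ext (inv_mul_eq_one.1 (P.X_ext h (mul_mem (inv_mem x.2) x'.2)
      ((Form.Isom.inv_apply_eq _).2 (congrArg Subtype.val e))))
  · obtain ⟨x, h1, -, h2⟩ := P.exists_X h hn y.2
    exact ⟨⟨x, h1⟩, Subtype.ext h2⟩

theorem node {i : ℕ} (hn : i < n) {s : Φ.Isom} (hs : P.Mon s (tB i)) :
    Node (P.BB _) (P.U0 _) (P.NN _ (WB n)) s (P.XX _ (tB i)) := by
  obtain ⟨c, hc⟩ : ∃ c, c = tB i (i + 1) := ⟨_, rfl⟩
  have hc' : (i = 0 ∧ c = -1) ∨ (i ≠ 0 ∧ c = i) := by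
    by_cases hi : i = 0
    · subst hi; have := t0_spec 1; simp only [Nat.cast_zero, zero_add] at hc; omega
    · have := tB_spec hi (i + 1); omega
  have hB : ∀ g : Φ.Isom, (∀ a b, ¬ Pa (tB i) a b → P.Z (Gr.L g) a b) →
      (∀ a, c < a → P.Z (Gr.L g) a c) → g ∈ P.BB _ := fun g k1 k2 =>
    P.mem_BB_of h (if i = 0 then 1 else -i) fun a b e e' => by
      by_cases e1 : b = c
      · exact e1 ▸ k2 a (e1 ▸ e)
      refine k1 a b ?_
      rcases hc' with ⟨rfl, rfl⟩ | ⟨hi, rfl⟩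
      · rw [Pa, Iv_t0]; simp only [if_true] at e'; omega
      · rw [Pa, Iv_tB hi]; rw [if_neg hi] at e'; omega
  have ττ : ∀ a, tB i (tB i a) = a := fun a => congrArg (· a) (tB_sq i)
  refine Gr.node (tB_sq i) hs (fun k => ?_) (fun w hw => WB_dich i hw) (cvx_tB i) fun g hg => ?_
  · rw [hs.eq_one (P.fix (tB_mem hn)) k, Equiv.Perm.one_apply] at hc
    omega
  refine (P.column hn hg hc).imp
    (fun k => hB g hg fun a ha => Gr.Z_of_line (P.line c (by omega)) (k a ha)) ?_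
  rintro ⟨β, y, hy, k⟩
  obtain ⟨x, h1, -, rfl⟩ := P.exists_X h hn hy
  have xB := Gr.U0_le (Gr.XX_le _ h1)
  set Q := P.TT Φ.Isom (Pa (tB i)) (fun _ => Or.inl le_rfl) (Pa_trans (cvx_tB i))
  refine ⟨x, h1, hB _ (show _ ∈ Q from mul_mem (mul_mem (inv_mem fun a b k => hs.Z fun e => k ?_)
    (inv_mem fun a b k => xB a b fun e => k (Or.inl e))) hg) fun a ha =>
      Gr.key_of hs xB (fun a ha => ?_) (P.line c (by omega)) (by rw [hc, ττ, P.pu]) k ha⟩
  · rw [e]; by_cases e' : tB i b ≤ b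
    · exact Or.inl e'
    · exact Or.inr ⟨by omega, by rw [ττ]; omega⟩
  · rcases hc' with ⟨rfl, rfl⟩ | ⟨hi, rfl⟩
    · have := t0_spec a; omega
    · have := tB_spec hi a; omega

end Gen

end PF

end H8.TM
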