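import Mathlib
import Cfsg.Agent.H8.TM6
import Cfsg.Agent.H15.Spinor

/-! The models of type `B` and `D`. -/

set_option autoImplicit false

namespace H8.TM

open Subgroup H20.TB H15 H7 H16 Module

namespace PF

section Gen

variable {F V : Type*} [Field F] [AddCommGroup V] [Module F V]

/-- The torus condition on the anisotropic kernel. -/
def Tq {σ : F →+* F} {Φ : Form σ V} {n : ℕ} (P : PF Φ n) : Prop :=
  ∀ g ∈ EG Φ, ∀ (l : F) (w v : V), (∀ a, a ≠ 0 → g.1 (P.u a) = l • P.u a) → w ∈ P.V0 → v ∈ P.V0 →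
    g.1 w = l • w + v → g.1 v = l • v → σ l * l = 1 → Φ.B v v = 0 → Φ.Q v = 0

theorem tor {σ : F →+* F} {Φ : Form σ V} {n : ℕ} (P : PF Φ n) (hn : 0 < n) (hT : P.Tq) (p : ℕ)
    [Fact p.Prime] [CharP F p] {g : Φ.Isom} (hE : g ∈ EG Φ) (hg : P.Mon g 1) {c : F}
    (hc : ∀ v, (g ^ p).1 v = c • v) : ∃ c : F, ∀ v, g.1 v = c • v := by
  have h1 : ∀ a, a ≠ 0 → ∃ t : F, g.1 (P.u a) = t • P.u a := fun a ha => by
    have := hg a (P.u a)
    rw [P.pu, Equiv.Perm.one_apply] at this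
    rw [← this]; exact P.line a ha _
  have H := P.hypPair (a := 1) one_pos (by omega)
  obtain ⟨l, hl⟩ := h1 1 one_ne_zero
  have h2 := eq_of_pow p hc H.f_ne_zero hl
  have h3 : ∀ a, a ≠ 0 → g.1 (P.u a) = l • P.u a := fun a ha => by
    by_cases e : P.u a = 0
    · simp [e]
    obtain ⟨t, ht⟩ := h1 a ha
    rw [ht, frobenius_inj F p ((eq_of_pow p hc e ht).trans h2.symm)]
  have h4 : σ l * l = 1 := by
    have := Form.Isom.map_B g (P.u (-1)) (P.u 1)
    rw [h3 _ (by omega), hl] at this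
    simpa [H.ef, mul_comm] using this
  haveI : Nontrivial V := ⟨_, _, H.f_ne_zero⟩
  haveI : CharP (Module.End F V) p := charP_of_injective_algebraMap (algebraMap F _).injective p
  set N : Module.End F V := Gr.L g - algebraMap F _ l with hN
  have N1 : ∀ v, N v = g.1 v - l • v := fun v => rfl
  have h5 : N ^ p = 0 := by
    rw [hN, sub_pow_char_of_commute _ (Algebra.commutes l _).symm, ← map_pow, h2, sub_eq_zero]
    exact (map_pow (⟨⟨Gr.L, Gr.L_one⟩, Gr.L_mul⟩ : Φ.Isom →* Module.End F V) g _).symm.trans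
      (LinearMap.ext hc)
  by_cases h0 : N = 0
  · exact ⟨l, fun v => sub_eq_zero.1 ((N1 v).symm.trans (by rw [h0]; rfl))⟩
  obtain ⟨w, h6, h7⟩ := exists_sq_zero h5 h0
  have h8 : N (P.p 0 w) = N w := by
    rw [← sub_eq_zero, ← map_sub, ← P.sum (_ - w), map_sum]
    refine Finset.sum_eq_zero fun a _ => ?_
    by_cases e : a = 0
    · rw [e, map_sub, P.idem, sub_self, map_zero]
    · obtain ⟨t, ht⟩ := P.line a e (P.p 0 w - w)
      rw [ht, map_smul, N1, h3 a e, sub_self, smul_zero]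
  have h9 : N w ∈ P.V0 := by
    rw [P.mem0, ← h8, N1, map_sub, map_smul, P.idem]
    exact congrArg (· - _) ((hg 0 _).trans (by rw [P.idem]))
  have h10 : g.1 (P.p 0 w) = l • P.p 0 w + N w := by rw [← h8, N1]; abel
  have h11 : g.1 (N w) = l • N w := sub_eq_zero.1 ((N1 _).symm.trans h7)
  have h12 : Φ.B (N w) (N w) = 0 := by
    have := Form.Isom.map_B g (P.p 0 w) (N w)
    rw [h10, h11] at this
    simp only [map_add, map_smul, map_smulₛₗ, LinearMap.add_apply, LinearMap.smul_apply,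
      smul_eq_mul, RingHom.id_apply] at this
    exact (mul_eq_zero.1 (show l * Φ.B (N w) (N w) = 0 by
      linear_combination this - Φ.B (P.p 0 w) (N w) * h4)).resolve_left
        (right_ne_zero_of_mul_eq_one h4)
  exact absurd (P.aniso _ h9 ⟨h12, hT g hE l _ _ h3 ((P.mem0 _).2 (P.idem 0 w)) h9 h10 h11 h4 h12⟩) h6

theorem tq_quad [Finite F] [FiniteDimensional F V] {Q : QuadraticForm F V} {n : ℕ}
    (P : PF (ofQuad Q) n) (h : (ofQuad Q).Nondeg) (h5 : 5 ≤ finrank F V)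
    (hE : EG (ofQuad Q) ≤ commutator (ofQuad Q).Isom) : P.Tq := by
  intro g hg l w v h1 hw hv h2 h3 h4 h6
  by_contra h7
  change Q v ≠ 0 at h7
  have two : (2 : F) = 0 := by
    rw [pol_self] at h6
    exact (mul_eq_zero.1 h6).resolve_right h7
  obtain rfl : l = 1 := by
    have : (l - 1) ^ 2 = 0 := by
      simp only [RingHom.id_apply] at h4
      linear_combination h4 + (1 - l) * two
    exact sub_eq_zero.1 (pow_eq_zero_iff two_ne_zero |>.1 this)
  simp only [one_smul] at h1 h2 h3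
  have h8 : pol Q v w = -Q v := by
    have := Form.Isom.map_Q g w
    rw [h2, (ofQuad Q).Q_add] at this
    simp only [ofQuad_Q, ofQuad_tau] at this
    rw [pol_comm]
    linear_combination this
  have h9 : finrank F P.V0 ≤ 2 := by
    by_contra k
    obtain ⟨x, k1, k2, k3⟩ := exists_singular Q (U := P.V0) (by omega)
    exact k2 (P.aniso x k1 (sing_ofQuad.2 k3))
  have h10 : LinearIndependent F ![w, v] := LinearIndependent.pair_iff.2 fun s t e => by
    have k := congrArg (pol Q v) e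
    simp only [map_add, map_smul, h8, h6, map_zero, smul_eq_mul] at k
    obtain rfl : s = 0 := by simpa [h7] using k
    exact ⟨rfl, by simpa [show v ≠ 0 by rintro rfl; simp at h7] using e⟩
  have h11 : Submodule.span F (Set.range ![w, v]) = P.V0 :=
    Submodule.eq_of_le_of_finrank_le (Submodule.span_le.2 (by
      rintro _ ⟨i, rfl⟩; fin_cases i; exacts [hw, hv])) (by rw [finrank_span_eq_card h10]; simpa)
  have h12 : g = refl Q v := Form.Isom.ext fun x => by
    rw [← P.sum x, map_sum, map_sum]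
    refine Finset.sum_congr rfl fun a _ => ?_
    by_cases e : a = 0
    · have := h11.ge ((P.mem0 _).2 (P.idem 0 x))
      rw [Matrix.range_cons_cons_empty, Submodule.mem_span_pair] at this
      obtain ⟨s, t, k⟩ := this
      rw [e, ← k, map_add, map_add, map_smul, map_smul, map_smul, map_smul, h2, h3, refl_of_perp Q h6,
        refl_apply, h8]
      simp [h7]
    · obtain ⟨t, ht⟩ := P.line a e x
      rw [ht, map_smul, map_smul, h1 a e, refl_of_perp Q (by rw [pol_comm]; exact P.perp0 hv e)]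
  obtain ⟨φ, hφ⟩ := exists_dickson h (Or.inr (by omega))
  have := Abelianization.commutator_subset_ker φ (hE hg)
  rw [h12, MonoidHom.mem_ker, hφ v h7] at this
  exact absurd this (by decide)

end Gen

variable {F V : Type} [Field F] [Fintype F] [AddCommGroup V] [Module F V] [FiniteDimensional F V]
  {σ : F →+* F} {Φ : Form σ V} {n : ℕ} (P : PF Φ n) [Finite Φ.Isom]

theorem real (hΦ : Good Φ) (hn : 2 ≤ n) (hT : P.Tq) (T : Ty) (τ : Fin T.rk → Equiv.Perm ℤ)
    (hW : closure (Set.range τ) ≤ WB n)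
    (top : ∀ b : ℤ, b ≠ 0 → -(n : ℤ) ≤ b → b ≤ n → ∃ w ∈ closure (Set.range τ), w b = n)
    (ord : ∀ i j, orderOf (τ i * τ j) = T.cm i j) (s : Fin T.rk → Φ.Isom)
    (hs : ∀ i, P.Mon (s i) (τ i)) (X : Fin T.rk → Subgroup Φ.Isom) (p : ℕ) [Fact p.Prime] [CharP F p]
    (node : ∀ i, Node (P.BB _) (P.U0 _) (P.NN _ (WB n)) (s i) (X i))
    (hX : ∀ i, IsPGroup p (X i)) (XE : ∀ i, X i ≤ EG Φ) (i0 : Fin T.rk)
    (qs : ∀ K : Subgroup (EG Φ), K.Normal → K ≤ center (EG Φ) ∨ K = ⊤)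
    (q : ℕ → ℕ) (hq : ∀ i, Nat.card (X i) = q i) (q1 : ∀ i, 1 < q i) :
    Real T q (EG Φ ⧸ center (EG Φ)) := by
  have H := P.hypPair (a := n) (by omega) le_rfl
  have hR : Rad Φ (P.u (-n)) ≤ P.BB _ := fun r hr => Gr.mem_BB.2 fun a b e v => by
    by_cases e1 : n < a
    · simp [P.out a (Or.inr e1)]
    by_cases e2 : b < -(n : ℤ)
    · simp [P.out b (Or.inl e2)]
    obtain ⟨t, ht⟩ := (mem_Rad.1 hr).2 (P.p b v)
      (by rw [P.B_u, P.orth _ _ _ (by omega), map_zero])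
    rw [Gr.L_apply, ht, map_add, P.orth _ _ _ e.ne', map_smul, P.p_u (by omega), smul_zero, add_zero]
  have top' : ∀ b : ℤ, b ≠ 0 → -(n : ℤ) ≤ b → b ≤ n → ∃ m ∈ P.BB Φ.Isom ⊔ P.NN _ (closure (Set.range τ)),
      ∀ v, P.p n (m.1 v) = m.1 (P.p b v) := fun b h0 h1 h2 => by
    obtain ⟨w, h3, h4⟩ := top b h0 h1 h2
    obtain ⟨m, -, hm⟩ := Gr.exists_mon hs h3
    exact ⟨m, mem_sup_right ⟨w, h3, hm⟩, h4 ▸ hm b⟩
  refine real_gr P.toGr T τ (fun w hw => P.fix (hW hw)) ord s hs X p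
    (fun i => (node i).mono (Gr.NN_mono hW)) hX XE i0 qs (P.pu (-n)) (fun a h => P.out a (Or.inl h))
    (P.line _ (by omega)) H.e_ne_zero H.sing_e hR (fun e e0 he => ?_)
    (H.exists_scalar (Or.inl (Submodule.ne_bot_iff _ |>.2 ⟨P.u 1, mem_hypPerp.2
      ⟨P.B_uu (by omega), P.B_uu (by omega)⟩, P.u_ne (by omega) (by omega) (by omega)⟩)))
    (fun _ => hΦ.mem_center_iff) (fun a b e => ?_)
    (fun g h1 h2 c h3 => P.tor (by omega) hT p h1 h2 h3) q hq q1
  · obtain ⟨b, b0, hb⟩ : ∃ b, b ≠ 0 ∧ P.p b e ≠ 0 := by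
      by_contra k
      push Not at k
      exact e0 (P.aniso e ((P.mem0 e).2 (Gr.eq_of_p k)) he)
    have : ¬ (b < -(n : ℤ) ∨ n < b) := fun k => hb (by simp [P.out b k])
    obtain ⟨m, h1, h2⟩ := top' b b0 (by omega) (by omega)
    obtain ⟨m', h3, h4⟩ := top' (-n) (by omega) le_rfl (by omega)
    obtain ⟨r, h5, ⟨c, c0, h6⟩, -⟩ := exists_Rad' hΦ.nd H.sing_e (he.map m) H.sing_f
      (fun k => hb (by simpa [h2] using P.p_eq_zero (by omega) k)) (by simp [H.ef])
    obtain ⟨t, ht⟩ := P.line n (by omega) (m'.1 (P.u (-n)))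
    rw [h4, P.pu] at ht
    have t0 := smul_ne_zero_of H.e_ne_zero ht
    refine ⟨m'⁻¹ * r * m, mul_mem (mul_mem (inv_mem h3) (mem_sup_left (hR h5))) h1, c * t⁻¹,
      mul_ne_zero c0 (inv_ne_zero t0), ?_⟩
    rw [Form.Isom.mul_apply, Form.Isom.mul_apply, h6, Form.Isom.inv_apply_eq, map_smul, ht, smul_smul,
      inv_mul_cancel_right₀ t0]
  · by_cases h1 : a < -(n : ℤ)
    · exact Or.inl (P.out a (Or.inl h1))
    by_cases h2 : n < b
    · exact Or.inr (Or.inl (P.out b (Or.inr h2)))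
    by_cases h3 : a = 0
    · obtain ⟨w, h4, h5⟩ := top (-b) (by omega) (by omega) (by omega)
      rw [(WB_odd (hW h4)).1] at h5
      exact Or.inr (Or.inr ⟨w, h4, by rw [h3, WB_zero (hW h4)]; omega⟩)
    obtain ⟨w, h4, h5⟩ := top a h3 (by omega) (by omega)
    refine Or.inr (Or.inr ⟨w, h4, by_contra fun k => ?_⟩)
    have := w.injective.ne e.ne
    have := w.injective ((WB_odd (hW h4)).2 (w b) (by omega))
    omega

theorem real_B (hΦ : Good Φ) (hn : 2 ≤ n) (hT : P.Tq)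
    (qs : ∀ K : Subgroup (EG Φ), K.Normal → K ≤ center (EG Φ) ∨ K = ⊤) {N : ℕ}
    (hN : ∀ w : V, Nat.card {c : F // σ c + c * Φ.ε + Φ.B w w = 0 ∧ Φ.τ * σ c + Φ.Q w = 0} = N)
    (q : ℕ → ℕ) (q0 : q 0 = Fintype.card F ^ finrank F P.V0 * N) (q1 : 1 < q 0)
    (hq : ∀ i, i ≠ 0 → q i = Fintype.card F) : Real (.B n) q (EG Φ ⧸ center (EG Φ)) := by
  obtain ⟨p, hp⟩ := CharP.exists F
  haveI : Fact p.Prime := ⟨CharP.char_is_prime F p⟩
  haveI : Finite V := Module.finite_of_finite F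
  choose s hs using fun i : Fin n => P.exists_mon hΦ.nd (tB_mem i.2)
  refine P.real hΦ hn hT (.B n) (fun i => tB i) le_rfl (fun b => WB_top) (fun i j => ord_B n i j)
    s hs (fun i => P.XX _ (tB i)) p (fun i => P.node hΦ.nd i.2 (hs i))
    (fun i => (Gr.U0_pgroup p).to_le (Gr.XX_le _)) (fun i => P.X_le hΦ.nd i.2)
    ⟨0, by change 0 < n; omega⟩ qs q (fun i => ?_) fun i => ?_
  · rw [P.card_X hΦ.nd i.2]
    by_cases e : (i : ℕ) = 0
    · rw [e, P.card_Y0 (by omega) hN, q0, card_eq_pow (F := F) rfl]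
    · rw [P.card_Y e i.2, hq i e]
  · by_cases e : (i : ℕ) = 0
    · rwa [e]
    · rw [hq i e]; exact Fintype.one_lt_card

theorem real_D (hΦ : Good Φ) (hn : 4 ≤ n) (hT : P.Tq)
    (qs : ∀ K : Subgroup (EG Φ), K.Normal → K ≤ center (EG Φ) ∨ K = ⊤)
    (hN : ∀ w : V, Nat.card {c : F // σ c + c * Φ.ε + Φ.B w w = 0 ∧ Φ.τ * σ c + Φ.Q w = 0} = 1)
    (h0 : finrank F P.V0 = 0) :
    Real (.D n) (fun _ => Fintype.card F) (EG Φ ⧸ center (EG Φ)) := by
  obtain ⟨p, hp⟩ := CharP.exists F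
  haveI : Fact p.Prime := ⟨CharP.char_is_prime F p⟩
  haveI : Finite V := Module.finite_of_finite F
  have hm : ∀ i, ∃ g : Φ.Isom, i < n → P.Mon g (tB i) := fun i => by
    by_cases e : i < n
    · exact (P.exists_mon hΦ.nd (tB_mem e)).imp fun _ h _ => h
    · exact ⟨1, fun h => absurd h e⟩
  choose s hs using hm
  have r0 := hs 0 (by omega)
  have nd := P.node hΦ.nd (show 0 < n by omega) r0
  have X0 : P.XX Φ.Isom (tB 0) = ⊥ := card_eq_one.1 (by
    rw [P.card_X hΦ.nd (by omega), P.card_Y0 (by omega) hN, card_eq_pow h0]; simp)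
  have h1 : ∀ b ∈ P.BB Φ.Isom, (s 0)⁻¹ * b * s 0 ∈ P.BB Φ.Isom := fun b hb => by
    obtain ⟨x, hx, k⟩ := nd.key b hb
    rw [X0, mem_bot] at hx
    simpa [hx, Fx] using k
  have nd1 := (P.node hΦ.nd (show 1 < n by omega) (hs 1 (by omega))).conj (r := s 0)
    ⟨_, tB_mem (by omega), r0⟩
    (fun b => ⟨fun hb => by simpa [mul_assoc] using mul_mem (mul_mem nd.sq (h1 b hb)) (inv_mem nd.sq),
      fun hb => by simpa [mul_assoc] using h1 _ hb⟩) fun y hy => r0.uni hy (h1 y (Gr.U0_le hy))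
  have pX : ∀ i, IsPGroup p (P.XX Φ.Isom (tB i)) := fun i => (Gr.U0_pgroup p).to_le (Gr.XX_le _)
  refine P.real hΦ (by omega) hT (.D n) (fun i => tD n i) (WD_le (n := n) (by omega)) (fun b b0 b1 b2 => ?_)
    (fun i j => ord_D hn i.2 j.2) (fun i => if i + 1 = n then s 0 * s 1 * (s 0)⁻¹ else s (i + 1))
    (fun i => ?_) (fun i => if i + 1 = n then (P.XX _ (tB 1)).map (MulAut.conj (s 0)).toMonoidHom
      else P.XX _ (tB (i + 1))) p (fun i => ?_) (fun i => ?_) (fun i => ?_)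
    ⟨0, by change 0 < n; omega⟩ qs _ (fun i => ?_) fun _ => Fintype.one_lt_card
  · obtain ⟨w, h2, h3⟩ := WB_top b0 b1 b2
    rcases WB_cov (by omega) (inv_mem h2) with k | k
    · exact ⟨w, (inv_mem_iff (H := WD n)).1 k, h3⟩
    · refine ⟨_, inv_mem k, ?_⟩
      have := t0_spec n
      rw [mul_inv_rev, inv_inv, t0_inv, Equiv.Perm.mul_apply, h3]; omega
  all_goals have : (i : ℕ) < n := i.2
  · simp only [tD]
    split_ifs
    · exact (r0.mul (hs 1 (by omega))).mul r0.inv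
    · exact hs _ (by omega)
  · split_ifs
    · exact nd1
    · exact P.node hΦ.nd (by omega) (hs _ (by omega))
  · split_ifs with e
    · rw [if_pos e]; exact (pX 1).map _
    · rw [if_neg e]; exact pX _
  · split_ifs
    · rintro _ ⟨x, hx, rfl⟩
      exact instNormalEG.conj_mem x (P.X_le hΦ.nd (by omega) hx) _
    · exact P.X_le hΦ.nd (by omega)
  · split_ifs
    · rw [card_map_of_injective (MulAut.conj (s 0)).injective, P.card_X hΦ.nd (by omega),
        P.card_Y one_ne_zero (by omega)]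
    · rw [P.card_X hΦ.nd (by omega), P.card_Y (by omega) (by omega)]

end PF

end H8.TM
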