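import Mathlib
import Cfsg.Agent.H8.TM7
import Cfsg.Agent.H8.TM4
import Cfsg.Agent.H16.AutSp
import Cfsg.Agent.H16.AutSU
import Cfsg.Agent.H16.AutO
import Cfsg.Agent.H15.StdQuad

/-! Frames for the classical forms. -/

set_option autoImplicit false

namespace H8.TM

open Subgroup H20.TB H15 H16 Module

theorem qs_congr {G : Type*} [Group G] {A B : Subgroup G} (e : A = B)
    (h : ∀ K : Subgroup B, K.Normal → K ≤ center B ∨ K = ⊤) :
    ∀ K : Subgroup A, K.Normal → K ≤ center A ∨ K = ⊤ := by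
  subst e; exact h

variable {F V : Type} [Field F] [Fintype F] [AddCommGroup V] [Module F V] [FiniteDimensional F V]

theorem finite_isom {σ : F →+* F} (Φ : Form σ V) : Finite Φ.Isom :=
  haveI : Finite V := Module.finite_of_finite F
  Finite.of_injective (fun g v => g.1 v) fun _ _ h => Form.Isom.ext (congrFun h)

theorem exists_PF_dim {σ : F →+* F} {Φ : Form σ V} (h : Φ.Nondeg) {n : ℕ} {e f : Fin n → V}
    (H : Φ.Hyp e f) (ha : ∀ x, (∀ i, Φ.B (e i) x = 0) → (∀ i, Φ.B (f i) x = 0) → H7.Sing Φ x → x = 0) :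
    ∃ P : PF Φ n, finrank F P.V0 + 2 * n = finrank F V := by
  obtain ⟨P, hP⟩ := exists_PF H fun x hx => ha x ((Form.Hyp.mem_perp e f).1 hx).1
    ((Form.Hyp.mem_perp e f).1 hx).2
  have := h.finrank_perp (Submodule.span F (Set.range (Sum.elim e f)))
  rw [H.finrank_span, Fintype.card_fin, ← hP] at this
  exact ⟨P, by omega⟩

theorem exists_PF_good {σ : F →+* F} {Φ : Form σ V} (h : Good Φ) :
    ∃ (n : ℕ) (P : PF Φ n), finrank F P.V0 + 2 * n = finrank F V ∧ finrank F P.V0 ≤ 2 ∧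
      (Tr Φ → finrank F P.V0 ≤ 1) := by
  obtain ⟨k, e, f, H, ha⟩ := h.nd.exists_witt_decomp
  obtain ⟨P, hP⟩ := exists_PF_dim h.nd H fun x h1 h2 h3 =>
    ha x ((Form.Hyp.mem_perp e f).2 ⟨h1, h2⟩) h3.1 h3.2
  refine ⟨k, P, hP, by_contra fun c => ?_, fun hT => by_contra fun c => ?_⟩
  · obtain ⟨v, h1, h2, h3⟩ := h.sing P.V0 (Or.inl (by omega))
    exact h2 (P.aniso v h1 h3)
  · obtain ⟨v, h1, h2, h3⟩ := h.sing P.V0 (Or.inr ⟨hT, by omega⟩)
    exact h2 (P.aniso v h1 h3)

omit [FiniteDimensional F V] in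
theorem quad_N (Q : QuadraticForm F V) (w : V) :
    Nat.card {c : F // RingHom.id F c + c * (ofQuad Q).ε + (ofQuad Q).B w w = 0 ∧
      (ofQuad Q).τ * RingHom.id F c + (ofQuad Q).Q w = 0} = 1 :=
  Nat.card_eq_one_iff_exists.2 ⟨⟨-Q w, by simp [pol_self, two_mul], by simp⟩,
    fun c => Subtype.ext (by simpa [add_eq_zero_iff_eq_neg] using c.2.2)⟩

theorem quad_B {ι : Type} [Fintype ι] [DecidableEq ι] {Q : QuadraticForm F (ι → F)}
    (h : (ofQuad Q).Nondeg) {n : ℕ} (hn : 3 ≤ n) (P : PF (ofQuad Q) n) {d : ℕ}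
    (hd : finrank F P.V0 = d) (d0 : d ≠ 0) (h5 : 5 ≤ finrank F (ι → F)) :
    Real (.B n) (fun i => if i = 0 then Fintype.card F ^ d else Fintype.card F) (Cfsg.POmega F Q) :=
  haveI := finite_isom (ofQuad Q)
  Real.congr (P.real_B (quad_good h h5) (by omega) (P.tq_quad h h5 (quad_EG h h5).le)
    (qs_congr (quad_EG h h5) (H7.omega_normal_le_center_or_top h h5)) (quad_N Q) _ (by simp [hd])
    (by simpa using Nat.one_lt_pow d0 Fintype.one_lt_card) fun _ hi => if_neg hi)
    (H7.quotCenterCongr ((H7.omegaEquiv Q).trans (MulEquiv.subgroupCongr (quad_EG h h5).symm))).symm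

theorem herm_B {r : ℕ} (hF : Fintype.card F = r ^ 2) {n d m : ℕ} (hn : 3 ≤ n) (hd : d ≤ 1)
    (hm : m = 2 * n + d) :
    Real (.B n) (fun i => if i = 0 then r ^ (2 * d + 1) else r ^ 2) (Cfsg.PSU m F r) := by
  have h := unForm_nondeg hF m
  have hH := unForm_isHerm hF m
  have h1 : finrank F (Fin m → F) = m := by simp
  have hΦ := herm_good hF h hH (by omega)
  have h2 := H7.notSU32 hF m (by omega) (by omega)
  have h3 := two_le_of_card_sq hF
  obtain ⟨k, P, h4, -, h5⟩ := exists_PF_good hΦ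
  have := h5 (herm_tr hF h hH (by omega))
  obtain rfl : k = n := by omega
  haveI := finite_isom (unForm hF m)
  refine Real.congr (P.real_B hΦ (by omega) (fun _ _ _ _ _ _ _ _ _ _ _ _ => rfl)
    (qs_congr (herm_EG hF h hH h2) (H7.herm_normal_le_center_or_top h hH h2)) (N := r) (fun w => ?_) _
    (by rw [show finrank F P.V0 = d by omega, hF, ← pow_mul, if_pos rfl, pow_succ])
    (by rw [if_pos rfl]; exact Nat.one_lt_pow (by omega) h3) fun _ hi => (if_neg hi).trans hF.symm)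
    (H7.quotCenterCongr ((suEquiv hF m).trans (MulEquiv.subgroupCongr (herm_EG hF h hH h2).symm))).symm
  refine Eq.trans (Nat.card_congr (Equiv.subtypeEquivRight fun c => ?_))
    (card_trace_eq hF (-(unForm hF m).B w w) (by rw [← frob_apply hF, map_neg, hH.symm]))
  rw [hH.2.1, hH.2.2, show (unForm hF m).τ = 0 from rfl, frob_apply]
  simp only [mul_one, zero_mul, add_zero, and_true, add_eq_zero_iff_eq_neg, add_comm c]

end H8.TM
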