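import Mathlib
import Cfsg.Agent.H13.K3L0
import Cfsg.Agent.H10.K3L2

/-!
# Coordinates on an elementary group of order eight with full automizer
-/

set_option autoImplicit false
set_option linter.unusedSectionVars false
set_option linter.unusedVariables false

open Cfsg H24 Subgroup H13.K3 H19.K3

namespace H8.K3L

universe u

variable {G : Type u} [Group G] {V : Subgroup G} {y z u w g : G}

/-- `g ^ c` for an involution `g` -/
def ex (g : G) (c : ZMod 2) : G := if c = 0 then 1 else g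

@[simp] theorem ex_zero : ex g 0 = 1 := if_pos rfl
@[simp] theorem ex_one : ex g 1 = g := if_neg (by decide)

theorem two_cases (c : ZMod 2) : c = 0 ∨ c = 1 := by revert c; decide

theorem ex_add (h : g * g = 1) (c d : ZMod 2) : ex g (c + d) = ex g c * ex g d := by
  rcases two_cases c with rfl | rfl <;> rcases two_cases d with rfl | rfl
  · simp
  · simp
  · simp
  · rw [show (1 + 1 : ZMod 2) = 0 by decide]; simp [h]

theorem ex_mem (h : g ∈ V) (c : ZMod 2) : ex g c ∈ V := by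
  rcases two_cases c with rfl | rfl
  · simp
  · simpa using h

/-- coordinates with respect to a basis -/
def io (z u w : G) (a : W) : G := ex z (a 0) * ex u (a 1) * ex w (a 2)

theorem io_mem (hz : z ∈ V) (hu : u ∈ V) (hw : w ∈ V) (a : W) : io z u w a ∈ V :=
  mul_mem (mul_mem (ex_mem hz _) (ex_mem hu _)) (ex_mem hw _)

theorem io_add (hV : IsElementaryAbelian 2 V) (hz : z ∈ V) (hu : u ∈ V) (hw : w ∈ V) (h : Ind z u w)
    (a b : W) : io z u w (a + b) = io z u w a * io z u w b := by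
  have c : ∀ {x y : G}, x ∈ V → y ∈ V → x * y = y * x := fun hx hy => Abl.comm hV.1 hx hy
  simp only [io, Pi.add_apply, ex_add h.zz, ex_add h.uu, ex_add h.vv]
  have c1 := c (ex_mem hz (b 0)) (ex_mem hu (a 1))
  have c2 := c (mul_mem (ex_mem hz (b 0)) (ex_mem hu (b 1))) (ex_mem hw (a 2))
  calc _ = ex z (a 0) * (ex z (b 0) * ex u (a 1)) * ex u (b 1) * ex w (a 2) * ex w (b 2) := by group
    _ = ex z (a 0) * ex u (a 1) * (ex z (b 0) * ex u (b 1) * ex w (a 2)) * ex w (b 2) := by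
      rw [c1]; group
    _ = _ := by rw [c2]; group

theorem io_eq_one (h : Ind z u w) {a : W} (e : io z u w a = 1) : a = 0 := by
  have i : ∀ {x y : G}, y * y = 1 → x * y = 1 → y = x := fun {x y} h1 h2 => by
    rw [← one_mul y, ← h2, mul_assoc, h1, mul_one]
  rcases two_cases (a 0) with h0 | h0 <;> rcases two_cases (a 1) with h1 | h1 <;>
    rcases two_cases (a 2) with h2 | h2 <;>
    simp only [io, h0, h1, h2, ex_zero, ex_one, one_mul, mul_one] at e
  · ext i; fin_cases i <;> assumption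
  · exact (h.v1 e).elim
  · exact (h.u1 e).elim
  · exact (h.vu (i h.vv e)).elim
  · exact (h.z1 e).elim
  · exact (h.vz (i h.vv e)).elim
  · exact (h.uz (i h.uu e)).elim
  · exact (h.vzu (i h.vv e)).elim

theorem coord [Finite G] (hV : IsElementaryAbelian 2 V) (cV : ♯V = 8) (cN : ♯N[V] = ♯C[V] * 168)
    (hz : z ∈ V) (hu : u ∈ V) (hw : w ∈ V) (h : Ind z u w) : ∃ ψ, Co V (io z u w) ψ := by
  set ι := io z u w with hι
  have add : ∀ a b, ι (a + b) = ι a * ι b := io_add hV hz hu hw h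
  have mem : ∀ a, ι a ∈ V := io_mem hz hu hw
  have sq : ∀ a, ι a * ι a = 1 := fun a => by rw [← pow_two]; exact hV.2 _ (mem a)
  have i0 : ι 0 = 1 := by simp [hι, io]
  have inj : Function.Injective ι := fun a b e => by
    have : a + b = 0 := io_eq_one h (by rw [← hι, add, e, sq])
    ext i
    have := congrFun this i
    revert this
    simp only [Pi.add_apply, Pi.zero_apply]
    generalize a i = x; generalize b i = y
    revert x y; decide
  have sur : ∀ g ∈ V, ∃ a, ι a = g := fun g hg => by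
    obtain ⟨a, ha⟩ := ((show Function.Injective (fun a => (⟨ι a, mem a⟩ : V)) from
      fun a b e => inj (congrArg Subtype.val e)).bijective_of_nat_card_le (by rw [cV]; simp)).2 ⟨g, hg⟩
    exact ⟨a, congrArg Subtype.val ha⟩
  have hf : ∀ (m : N[V]) (a : W), ∃ b, ι b = (m : G) * ι a * (m : G)⁻¹ := fun m a =>
    sur _ ((mem_N.1 m.2 _).1 (mem a))
  choose f hf using hf
  let l : N[V] → (W →ₗ[ZMod 2] W) := fun m => (AddMonoidHom.mk' (f m) fun a b => inj (by
    rw [add, hf, hf, hf, add]; group)).toZModLinearMap 2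
  have hl : ∀ m a, (LinearMap.toMatrix' (l m)).mulVec a = f m a := fun m a =>
    LinearMap.toMatrix'_mulVec _ _
  have mext : ∀ {A B : En}, (∀ j, A.mulVec (Pi.single j 1) = B.mulVec (Pi.single j 1)) → A = B :=
    fun {A B} hh => by
      ext i j
      simpa using congrFun (hh j) i
  let ψ : N[V] →* En :=
    { toFun := fun m => LinearMap.toMatrix' (l m)
      map_one' := mext fun j => inj (by rw [hl, hf, Matrix.one_mulVec]; simp)
      map_mul' := fun m n => mext fun j => inj (by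
        rw [← Matrix.mulVec_mulVec, hl, hl, hl, hf, hf, hf, coe_mul]; group) }
  have act : ∀ (m : N[V]) (a : W), ι ((ψ m).mulVec a) = (m : G) * ι a * (m : G)⁻¹ := fun m a =>
    (congrArg ι (hl m a)).trans (hf m a)
  refine ⟨ψ, add, inj, fun g => ⟨sur g, by rintro ⟨a, rfl⟩; exact mem a⟩, act, fun A B hAB => ?_⟩
  have hBA : B * A = 1 := mul_eq_one_comm.1 hAB
  have ia : ∀ {a b : W}, a ≠ b → ι (A.mulVec a) ≠ ι (A.mulVec b) := fun {a b} hab e => hab (by
    have := congrArg B.mulVec (inj e)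
    rwa [Matrix.mulVec_mulVec, Matrix.mulVec_mulVec, hBA, Matrix.one_mulVec, Matrix.one_mulVec] at this)
  have i1 : ∀ {a : W}, a ≠ 0 → ι (A.mulVec a) ≠ 1 := fun {a} ha => by
    have := ia ha
    rwa [Matrix.mulVec_zero, i0] at this
  have cm : ∀ a b, ι a * ι b = ι b * ι a := fun a b => Abl.comm hV.1 (mem a) (mem b)
  obtain ⟨m, hm, e0, e1, e2⟩ := H10.K3L.aut hV cV cN hz hu hw (mem (A.mulVec (Pi.single 0 1)))
    (mem (A.mulVec (Pi.single 1 1))) (mem (A.mulVec (Pi.single 2 1))) h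
    ⟨sq _, sq _, sq _, cm _ _, cm _ _, cm _ _, i1 (by decide), i1 (by decide), ia (by decide),
      i1 (by decide), ia (by decide), ia (by decide), by
        rw [← add, ← Matrix.mulVec_add]; exact ia (by decide)⟩
  refine ⟨⟨m, hm⟩, mext fun j => inj ?_⟩
  rw [act]
  fin_cases j
  · simpa [hι, io] using e0
  · simpa [hι, io] using e1
  · simpa [hι, io] using e2

theorem co [Finite G] (hV : IsElementaryAbelian 2 V) (cV : ♯V = 8) (cN : ♯N[V] = ♯C[V] * 168) {y : G}
    (hy : y ∈ N[V]) (y3 : orderOf y = 3) (yC : y ∉ C[V]) :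
    ∃ ι ψ, Co V ι ψ ∧ ψ ⟨y, hy⟩ = Y3 := by
  have cj : ∀ {x : G}, x ∈ V → y * x * y⁻¹ ∈ V := fun hx => (mem_N.1 hy _).1 hx
  have cm : ∀ {a b : G}, a ∈ V → b ∈ V → a * b = b * a := fun ha hb => Abl.comm hV.1 ha hb
  have sq : ∀ {a : G}, a ∈ V → a * a = 1 := fun ha => by rw [← pow_two]; exact hV.2 _ ha
  have h3 : y * y * y = 1 := by rw [← pow_three', ← y3, pow_orderOf_eq_one]
  have c3 : ∀ x : G, y * (y * (y * x * y⁻¹) * y⁻¹) * y⁻¹ = x := fun x => by
    calc _ = (y * y * y) * x * (y * y * y)⁻¹ := by group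
      _ = x := by rw [h3]; group
  obtain ⟨v, hv, hvy⟩ : ∃ v ∈ V, y * v * y⁻¹ ≠ v := by
    by_contra hc
    push Not at hc
    exact yC (mem_C'.2 fun v hv => by rw [← mul_inv_eq_iff_eq_mul]; exact hc v hv)
  obtain ⟨u, hu, u1, hw⟩ : ∃ u ∈ V, u ≠ 1 ∧ y * (y * u * y⁻¹) * y⁻¹ = u * (y * u * y⁻¹) := by
    refine ⟨v * (y * v * y⁻¹), mul_mem hv (cj hv), fun e => hvy ?_, ?_⟩
    · rw [← one_mul (y * v * y⁻¹), ← sq hv, mul_assoc v, e, mul_one]
    · have e : ∀ a b : G, y * (a * b) * y⁻¹ = y * a * y⁻¹ * (y * b * y⁻¹) := fun a b => by group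
      rw [e v, e (y * v * y⁻¹), c3, cm (cj (cj hv)) hv, mul_assoc v, ← mul_assoc (y * v * y⁻¹), sq (cj hv), one_mul]
  set w := y * u * y⁻¹ with hwd
  have wV : w ∈ V := cj hu
  have w1 : w ≠ 1 := by simpa [hwd] using u1
  have wu : w ≠ u := fun e => by
    rw [e, ← hwd, e, sq hu] at hw
    exact u1 hw
  obtain ⟨x, hx, x4⟩ : ∃ x ∈ V, x ≠ 1 ∧ x ≠ u ∧ x ≠ w ∧ x ≠ u * w := by
    classical
    by_contra hc
    push Not at hc
    have : (V : Set G) ⊆ ({1, u, w, u * w} : Finset G) := fun x hx => by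
      simp only [Finset.coe_insert, Finset.coe_singleton, Set.mem_insert_iff, Set.mem_singleton_iff]
      by_contra h'
      push Not at h'
      exact h'.2.2.2 (hc x hx h'.1 h'.2.1 h'.2.2.1)
    have h1 := Set.ncard_le_ncard this
    rw [Set.ncard_coe_finset, H10.K3L.card_four (sq hu) u1 w1 wu] at h1
    have h2 : (V : Set G).ncard = 8 := cV
    omega
  have hI : Ind u w x := ⟨sq hu, sq wV, sq hx, cm hu wV, cm hu hx, cm wV hx, u1, w1, wu, x4.1, x4.2.1,
    x4.2.2.1, x4.2.2.2⟩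
  obtain ⟨z, hz, z1, zy⟩ : ∃ z ∈ V, z ≠ 1 ∧ y * z * y⁻¹ = z := by
    obtain ⟨ψ, h⟩ := coord hV cV cN hu wV hx hI
    obtain ⟨a, a0, ha⟩ : ∃ a : W, a ≠ 0 ∧ (ψ ⟨y, hy⟩).mulVec a = a := by
      have e0 : (ψ ⟨y, hy⟩).mulVec (Pi.single 0 1) = Pi.single 1 1 :=
        h.inj (by rw [h.act]; simp [io, hwd])
      have e1 : (ψ ⟨y, hy⟩).mulVec (Pi.single 1 1) = Pi.single 0 1 + Pi.single 1 1 :=
        h.inj (by rw [h.act, h.add]; simpa [io] using hw)
      have e2 : ∀ a, (ψ ⟨y, hy⟩).mulVec a = 0 → a = 0 := fun a e => h.inj (by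
        have := h.act ⟨y, hy⟩ a
        rw [e] at this
        simpa [io] using this.symm)
      generalize ψ ⟨y, hy⟩ = A at e0 e1 e2
      have e3 : ∀ a : W, A.mulVec a = a 0 • Pi.single 1 1 + a 1 • (Pi.single 0 1 + Pi.single 1 1) +
          a 2 • A.mulVec (Pi.single 2 1) := fun a => by
        have ea : a = a 0 • Pi.single 0 1 + a 1 • Pi.single 1 1 + a 2 • Pi.single 2 1 := by
          ext i
          fin_cases i <;> simp
        conv_lhs => rw [ea]
        rw [Matrix.mulVec_add, Matrix.mulVec_add, Matrix.mulVec_smul, Matrix.mulVec_smul,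
          Matrix.mulVec_smul, e0, e1]
      generalize A.mulVec (Pi.single 2 1) = b at e3
      simp only [e3] at e2 ⊢
      revert e2
      clear e3
      revert b
      decide
    refine ⟨_, (h.mem _).2 ⟨a, rfl⟩, fun e => a0 (io_eq_one hI e), ?_⟩
    rw [← h.act ⟨y, hy⟩, ha]
  have uz : u ≠ z := fun e => wu (by rw [hwd, e, zy])
  have hJ : Ind z u w := ⟨sq hz, sq hu, sq wV, cm hz hu, cm hz wV, cm hu wV, z1, u1, uz, w1,
    fun e => u1 (by rw [e, zy] at hw; simpa using hw), wu, fun e => uz (by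
      have : y * w * y⁻¹ = z * w := by
        conv_lhs => rw [e]
        rw [hwd]
        conv_rhs => rw [← zy]
        group
      rw [this] at hw
      exact (mul_right_cancel hw).symm)⟩
  obtain ⟨ψ, h⟩ := coord hV cV cN hz hu wV hJ
  refine ⟨_, ψ, h, ?_⟩
  have e0 : (ψ ⟨y, hy⟩).mulVec (Pi.single 0 1) = Pi.single 0 1 :=
    h.inj (by rw [h.act]; simpa [io] using zy)
  have e1 : (ψ ⟨y, hy⟩).mulVec (Pi.single 1 1) = Pi.single 2 1 :=
    h.inj (by rw [h.act]; simp [io, hwd])
  have e2 : (ψ ⟨y, hy⟩).mulVec (Pi.single 2 1) = Pi.single 1 1 + Pi.single 2 1 :=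
    h.inj (by rw [h.act, h.add]; simpa [io] using hw)
  ext i j
  fin_cases j
  · have := congrFun e0 i
    fin_cases i <;> simpa [Y3] using this
  · have := congrFun e1 i
    fin_cases i <;> simpa [Y3] using this
  · have := congrFun e2 i
    fin_cases i <;> simpa [Y3] using this

end H8.K3L
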