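import Mathlib

/-! A lattice argument with vectors of small norm. -/

set_option autoImplicit false

namespace H8.QL

/-- a positive definite integral lattice in which short vectors are sums of unit vectors -/
structure Lat (Λ : Type*) [AddCommGroup Λ] where
  B : Λ →ₗ[ℤ] Λ →ₗ[ℤ] ℤ
  symm : ∀ u v, B u v = B v u
  pos : ∀ v, 0 ≤ B v v
  zero : ∀ v, B v v = 0 → v = 0
  ex : ∀ v, 0 < B v v → B v v ≤ 3 → ∃ e, B e e = 1 ∧ B v e = 1

namespace Lat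

variable {Λ : Type*} [AddCommGroup Λ] (L : Lat Λ) {a b c d e u v W X : Λ}

/-- orthonormal lists -/
def ON : List Λ → Prop
  | [] => True
  | e :: l => L.B e e = 1 ∧ (∀ x ∈ l, L.B e x = 0) ∧ ON l

variable {L}

theorem norm_res {l : List Λ} (h : L.ON l) (v : Λ) :
    L.B (v - (l.map fun e => L.B v e • e).sum) (v - (l.map fun e => L.B v e • e).sum) =
      L.B v v - (l.map fun e => L.B v e ^ 2).sum := by
  induction l generalizing v with
  | nil => simp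
  | cons e l ih =>
    obtain ⟨h1, h2, h3⟩ := h
    have e1 : ∀ x ∈ l, L.B (v - L.B v e • e) x = L.B v x := fun x hx => by simp [h2 x hx]
    have := ih h3 (v - L.B v e • e)
    rw [List.map_congr_left (g := fun x => L.B v x • x) fun x hx => by rw [e1 x hx],
      List.map_congr_left (g := fun x => L.B v x ^ 2) fun x hx => by rw [e1 x hx]] at this
    rw [List.map_cons, List.sum_cons, ← sub_sub, this]
    simp [h1, L.symm e v]; ring

theorem bessel {l : List Λ} (h : L.ON l) (v : Λ) : (l.map fun e => L.B v e ^ 2).sum ≤ L.B v v :=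
  sub_nonneg.1 (norm_res h v ▸ L.pos _)

theorem eq_sum {l : List Λ} (h : L.ON l) (v : Λ) (e : (l.map fun e => L.B v e ^ 2).sum = L.B v v) :
    v = (l.map fun e => L.B v e • e).sum :=
  sub_eq_zero.1 (L.zero _ (by rw [norm_res h, e, sub_self]))

theorem split2 (h : L.B v v = 2) : ∃ a b, L.ON [a, b] ∧ v = a + b := by
  obtain ⟨a, h1, h2⟩ := L.ex v (by omega) (by omega)
  exact ⟨a, v - a, by simp [ON, h, h1, h2, L.symm a v], by abel⟩

theorem split3 (h : L.B v v = 3) : ∃ a b c, L.ON [a, b, c] ∧ v = a + b + c := by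
  obtain ⟨a, h1, h2⟩ := L.ex v (by omega) (by omega)
  obtain ⟨b, c, h3, e⟩ := split2 (L := L) (v := v - a) (by simp [h, h1, h2, L.symm a v])
  have h4 : L.B a b + L.B a c = 0 := by rw [← map_add, ← e]; simp [h1, h2, L.symm a v]
  have h5 := bessel h3 a
  simp [h1] at h5
  have h6 : L.B a b = 0 := by nlinarith
  exact ⟨a, b, c, ⟨h1, by simp; omega, h3⟩, by rw [add_assoc, ← e]; abel⟩

theorem pair (hu : L.B u u = 3) (hv : L.B v v = 3) (h : L.B v u = 2) :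
    ∃ a b, L.ON [a, b] ∧ L.B u a = 1 ∧ L.B u b = 1 ∧ L.B v a = 1 ∧ L.B v b = 1 := by
  obtain ⟨a, b, c, h1, rfl⟩ := split3 hu
  have h2 := bessel h1 v
  simp [hv] at h h2
  simp only [ON, List.mem_cons, List.not_mem_nil, or_false, forall_eq_or_imp, forall_eq] at h1
  obtain ⟨ha, ⟨hab, hac⟩, hb, hbc, hc, -⟩ := h1
  have h3 : ∀ x y z : ℤ, x + y + z = 2 → x ^ 2 + (y ^ 2 + z ^ 2) ≤ 3 → 0 ≤ x ∧ x ≤ 1 :=
    fun x y z h h' => ⟨by nlinarith [sq_nonneg (y - z)], by nlinarith⟩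
  have := h3 _ _ _ h h2
  have := h3 (L.B v b) (L.B v a) (L.B v c) (by omega) (by omega)
  have := h3 (L.B v c) (L.B v a) (L.B v b) (by omega) (by omega)
  have hba := L.symm b a
  have hca := L.symm c a
  have hcb := L.symm c b
  by_cases e1 : L.B v a = 0
  · exact ⟨b, c, by simp [ON, *], by simp [*], by simp [*], by omega, by omega⟩
  by_cases e2 : L.B v b = 0
  · exact ⟨a, c, by simp [ON, *], by simp [*], by simp [*], by omega, by omega⟩
  · exact ⟨a, b, by simp [ON, *], by simp [*], by simp [*], by omega, by omega⟩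

theorem notri (h : L.ON [a, b, c, d]) (w1 : L.B W (a + b + c) = 2) (w2 : L.B W (a + b + d) = 2)
    (w3 : L.B W (a + c + d) = 2) (x1 : L.B X (a + b + c) = -1) (x2 : L.B X (a + b + d) = -1)
    (x3 : L.B X (a + c + d) = -1) (WW : L.B W W = 4) (XW : L.B X W = -2) (XX : L.B X X = 3)
    (hW : ∀ e, L.B e e = 1 → W ≠ 2 • e) : False := by
  simp only [map_add] at w1 w2 w3 x1 x2 x3
  obtain ⟨β, hβ⟩ : ∃ β, L.B W b = β := ⟨_, rfl⟩
  obtain ⟨γ, hγ⟩ : ∃ γ, L.B X b = γ := ⟨_, rfl⟩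
  have wa : L.B W a = 2 - 2 * β := by omega
  have wc : L.B W c = β := by omega
  have wd : L.B W d = β := by omega
  have xa : L.B X a = -1 - 2 * γ := by omega
  have xc : L.B X c = γ := by omega
  have xd : L.B X d = γ := by omega
  have h1 := bessel h W
  simp [wa, wc, wd, hβ, WW] at h1
  obtain rfl | rfl : β = 0 ∨ β = 1 := by
    have : 0 ≤ β := by nlinarith
    have : β ≤ 1 := by nlinarith
    omega
  · exact hW a h.1 (by simpa [wa, wc, wd, hβ, two_smul] using eq_sum h W (by simp [wa, wc, wd, hβ, WW]))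
  simp only [ON, List.mem_cons, List.not_mem_nil, or_false, forall_eq_or_imp, forall_eq] at h
  obtain ⟨ha, ⟨hab, hac, had⟩, hb, ⟨hbc, hbd⟩, hc, hcd, hd, -⟩ := h
  have h2 := bessel (L := L) (l := [W - b - c - d, a, b, c, d]) (by
    simp [ON, L.symm b a, L.symm c a, L.symm d a, L.symm c b, L.symm d b, L.symm d c, L.symm b W,
      L.symm c W, L.symm d W, *]) X
  simp [xa, xc, xd, hγ, XX, XW] at h2
  rcases le_or_gt 0 γ with h | h <;> nlinarith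

theorem tri {V₁ V₂ V₃ : Λ} (h : L.ON [a, b, V₁ - a - b, V₂ - a - b]) (h3 : L.B V₃ V₃ = 3)
    (h1 : L.B V₃ V₁ = 2) (h2 : L.B V₃ V₂ = 2) (w1 : L.B W V₁ = 2) (w2 : L.B W V₂ = 2)
    (w3 : L.B W V₃ = 2) (x1 : L.B X V₁ = -1) (x2 : L.B X V₂ = -1) (x3 : L.B X V₃ = -1)
    (WW : L.B W W = 4) (XW : L.B X W = -2) (XX : L.B X X = 3)
    (hW : ∀ e, L.B e e = 1 → W ≠ 2 • e) : L.B V₃ a = 1 ∧ L.B V₃ b = 1 := by
  obtain ⟨c, rfl⟩ : ∃ c, V₁ = a + b + c := ⟨V₁ - a - b, by abel⟩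
  obtain ⟨d, rfl⟩ : ∃ d, V₂ = a + b + d := ⟨V₂ - a - b, by abel⟩
  rw [show a + b + c - a - b = c by abel, show a + b + d - a - b = d by abel] at h
  have h4 := bessel h V₃
  have h5 := eq_sum h V₃
  simp only [map_add] at h1 h2
  obtain ⟨α, hα⟩ : ∃ α, L.B V₃ a = α := ⟨_, rfl⟩
  obtain ⟨β, hβ⟩ : ∃ β, L.B V₃ b = β := ⟨_, rfl⟩
  have hc : L.B V₃ c = 2 - α - β := by omega
  have hd : L.B V₃ d = 2 - α - β := by omega
  simp [hα, hβ, hc, hd, h3] at h4 h5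
  have : 0 ≤ α ∧ α ≤ 1 := ⟨by nlinarith [sq_nonneg (3 * β - 4)], by nlinarith⟩
  have : 0 ≤ β ∧ β ≤ 1 := ⟨by nlinarith [sq_nonneg (3 * α - 4)], by nlinarith⟩
  obtain ⟨rfl, rfl⟩ | ⟨rfl, rfl⟩ | ⟨rfl, rfl⟩ | ⟨rfl, rfl⟩ :
    α = 0 ∧ β = 0 ∨ α = 0 ∧ β = 1 ∨ α = 1 ∧ β = 0 ∨ α = 1 ∧ β = 1 := by omega
  · norm_num at h4
  · obtain rfl : V₃ = b + c + d := by simpa [add_assoc] using h5
    refine (notri (a := b) (b := a) ?_ (add_comm a b ▸ w1) (add_comm a b ▸ w2) w3 (add_comm a b ▸ x1)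
      (add_comm a b ▸ x2) x3 WW XW XX hW).elim
    simp only [ON, List.mem_cons, List.not_mem_nil, or_false, forall_eq_or_imp, forall_eq] at h ⊢
    simp [L.symm b a, h]
  · obtain rfl : V₃ = a + c + d := by simpa [add_assoc] using h5
    exact (notri h w1 w2 w3 x1 x2 x3 WW XW XX hW).elim
  · exact ⟨hα, hβ⟩

theorem wx (h : L.ON [a, b, c, d, e]) (w1 : L.B W (a + b + c) = 2) (w2 : L.B W (a + b + d) = 2)
    (w3 : L.B W (a + b + e) = 2) (x1 : L.B X (a + b + c) = -1) (x2 : L.B X (a + b + d) = -1)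
    (x3 : L.B X (a + b + e) = -1) (WW : L.B W W = 4) (XW : L.B X W = -2) (XX : L.B X X = 3)
    (hW : ∀ e, L.B e e = 1 → W ≠ 2 • e) : L.B W a = 1 ∧ L.B W b = 1 ∧
      (L.B X a = 0 ∧ L.B X b = -1 ∨ L.B X a = -1 ∧ L.B X b = 0) := by
  simp only [map_add] at w1 w2 w3 x1 x2 x3
  obtain ⟨α, hα⟩ : ∃ α, L.B W a = α := ⟨_, rfl⟩
  obtain ⟨β, hβ⟩ : ∃ β, L.B W b = β := ⟨_, rfl⟩
  obtain ⟨γ, hγ⟩ : ∃ γ, L.B X a = γ := ⟨_, rfl⟩
  obtain ⟨δ, hδ⟩ : ∃ δ, L.B X b = δ := ⟨_, rfl⟩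
  have wc : L.B W c = 2 - α - β := by omega
  have wd : L.B W d = 2 - α - β := by omega
  have we : L.B W e = 2 - α - β := by omega
  have xc : L.B X c = -1 - γ - δ := by omega
  have xd : L.B X d = -1 - γ - δ := by omega
  have xe : L.B X e = -1 - γ - δ := by omega
  have h1 := bessel h W
  have h2 := eq_sum h W
  have h3 := bessel h X
  have h4 := eq_sum h X
  simp [hα, hβ, hγ, hδ, wc, wd, we, xc, xd, xe, WW, XX] at h1 h2 h3 h4
  have hx : γ = 0 ∧ δ = 0 ∨ γ = 0 ∧ δ = -1 ∨ γ = -1 ∧ δ = 0 := by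
    have : -1 ≤ γ ∧ γ ≤ 1 := ⟨by nlinarith, by nlinarith⟩
    have : -1 ≤ δ ∧ δ ≤ 1 := ⟨by nlinarith, by nlinarith⟩
    obtain rfl | rfl | rfl : γ = -1 ∨ γ = 0 ∨ γ = 1 := by omega
    all_goals obtain rfl | rfl | rfl : δ = -1 ∨ δ = 0 ∨ δ = 1 := by omega
    all_goals omega
  have hw : α = 1 ∧ β = 1 ∨ α = 2 ∧ β = 0 ∨ α = 0 ∧ β = 2 ∨ α = 1 ∧ β = 0 ∨ α = 0 ∧ β = 1 := by
    have : 0 ≤ α ∧ α ≤ 2 := ⟨by nlinarith [sq_nonneg (2 * β - 3)], by nlinarith⟩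
    have : 0 ≤ β ∧ β ≤ 2 := ⟨by nlinarith [sq_nonneg (2 * α - 3)], by nlinarith⟩
    obtain rfl | rfl | rfl : α = 0 ∨ α = 1 ∨ α = 2 := by omega
    all_goals obtain rfl | rfl | rfl : β = 0 ∨ β = 1 ∨ β = 2 := by omega
    all_goals omega
  rcases hw with ⟨rfl, rfl⟩ | ⟨rfl, rfl⟩ | ⟨rfl, rfl⟩ | ⟨rfl, rfl⟩ | ⟨rfl, rfl⟩
  · refine ⟨hα, hβ, ?_⟩
    rcases hx with ⟨rfl, rfl⟩ | ⟨rfl, rfl⟩ | ⟨rfl, rfl⟩
    · rw [L.symm, h4 (by norm_num)] at XW
      simp [wc, wd, we] at XW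
    exacts [Or.inl ⟨hγ, hδ⟩, Or.inr ⟨hγ, hδ⟩]
  · exact (hW a h.1 (by simpa [two_smul] using h2)).elim
  · exact (hW b h.2.2.1 (by simpa [two_smul] using h2)).elim
  all_goals
    rw [h2 (by norm_num)] at XW
    simp [hγ, hδ, xc, xd, xe] at XW
    omega

theorem fin (h : L.ON [a, b]) (wa : L.B W a = 1) (wb : L.B W b = 1) (xa : L.B X a = 0)
    (xb : L.B X b = -1) (WW : L.B W W = 4) (XW : L.B X W = -2) (XX : L.B X X = 3) :
    ∃ f g e, L.ON [a, b, f, g, e] ∧ W = a + b + f + g ∧ X = e - b - f := by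
  simp only [ON, List.mem_cons, List.not_mem_nil, or_false, forall_eq] at h
  obtain ⟨ha, hab, hb, -⟩ := h
  have hba := L.symm b a
  suffices ∀ f g, L.ON [f, g] → W - a - b = f + g → L.B X g = 0 →
      ∃ f g e, L.ON [a, b, f, g, e] ∧ W = a + b + f + g ∧ X = e - b - f by
    obtain ⟨f, g, h1, e⟩ := split2 (L := L) (v := W - a - b) (by simp [L.symm a W, L.symm b W, *])
    have h2 := bessel h1 X
    have h3 : L.B X f + L.B X g = -1 := by rw [← map_add, ← e]; simp [XW, xa, xb]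
    simp [XX] at h2
    have h5 : -1 ≤ L.B X g ∧ L.B X g ≤ 0 := ⟨by nlinarith, by nlinarith⟩
    by_cases h4 : L.B X g = 0
    · exact this f g h1 e h4
    · exact this g f (by simp_all [ON, L.symm g f]) (e.trans (add_comm _ _)) (by omega)
  intro f g h1 e xg
  have xf : L.B X f = -1 := by
    have : L.B X f + L.B X g = -1 := by rw [← map_add, ← e]; simp [XW, xa, xb]
    omega
  have key : ∀ u, L.B u u = 1 → L.B u (W - a - b) = 0 → L.B u f = 0 ∧ L.B u g = 0 := fun u hu h => by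
    have h5 := bessel h1 u
    simp [e, hu] at h h5
    constructor <;> nlinarith
  obtain ⟨af, ag⟩ := key a ha (by simp [L.symm a W, wa, ha, hab])
  obtain ⟨bf, bg⟩ := key b hb (by simp [L.symm b W, wb, hb, hab, hba])
  simp only [ON, List.mem_cons, List.not_mem_nil, or_false, forall_eq] at h1
  obtain ⟨hf, hfg, hg, -⟩ := h1
  refine ⟨f, g, X + b + f, ?_, by rw [add_assoc, ← e]; abel, by abel⟩
  simp [ON, L.symm a X, L.symm b X, L.symm f X, L.symm g X, L.symm f b, L.symm g b, L.symm g f, *]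

open Classical in
theorem main {K : Type} (P : K → Prop) (r : K → K → Prop) {k₁ k₂ k₃ : K}
    (h₁ : P k₁) (h₂ : P k₂) (h₃ : P k₃) (r₁ : ¬ r k₁ k₂) (r₂ : ¬ r k₁ k₃) (r₃ : ¬ r k₂ k₃)
    (hr : Equivalence r) {V : K → Λ} (hW : ∀ e, L.B e e = 1 → W ≠ 2 • e)
    (VV : ∀ k l, P k → P l → L.B (V k) (V l) = if r k l then 3 else 2)
    (WV : ∀ k, P k → L.B W (V k) = 2) (XV : ∀ k, P k → L.B X (V k) = -1)
    (WW : L.B W W = 4) (XW : L.B X W = -2) (XX : L.B X X = 3) :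
    ∃ a b f g e, L.ON [a, b, f, g, e] ∧ W = a + b + f + g ∧ X = e - b - f ∧ ∀ k, P k →
      L.B (V k) a = 1 ∧ L.B (V k) b = 1 ∧ L.B (V k) f = 0 ∧ L.B (V k) g = 0 ∧ L.B (V k) e = 0 := by
  have V3 : ∀ k, P k → L.B (V k) (V k) = 3 := fun k hk => by rw [VV k k hk hk, if_pos (hr.refl k)]
  have V2 : ∀ k l, P k → P l → ¬ r l k → L.B (V k) (V l) = 2 := fun k l hk hl h => by
    rw [VV k l hk hl, if_neg fun e => h (hr.symm e)]
  have Veq : ∀ k l, P k → P l → r k l → V k = V l := fun k l hk hl h =>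
    sub_eq_zero.1 (L.zero _ (by simp [VV, hk, hl, h, hr.symm h, hr.refl]))
  suffices ∀ a b, L.ON [a, b] → (∀ k, P k → L.B (V k) a = 1 ∧ L.B (V k) b = 1) → L.B W a = 1 →
      L.B W b = 1 → L.B X a = 0 → L.B X b = -1 → ∃ a b f g e, L.ON [a, b, f, g, e] ∧
      W = a + b + f + g ∧ X = e - b - f ∧ ∀ k, P k → L.B (V k) a = 1 ∧ L.B (V k) b = 1 ∧
      L.B (V k) f = 0 ∧ L.B (V k) g = 0 ∧ L.B (V k) e = 0 by
    obtain ⟨a, b, h, a1, b1, a2, b2⟩ := pair (V3 _ h₁) (V3 _ h₂) (V2 _ _ h₂ h₁ r₁)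
    obtain ⟨ha, hab, hb, -⟩ := id h
    simp only [List.mem_cons, List.not_mem_nil, or_false, forall_eq] at hab
    have hba := L.symm b a
    have key : ∀ k, P k → L.B (V k) a = 1 ∧ L.B (V k) b = 1 := fun k hk => by
      by_cases e1 : r k₁ k
      · exact Veq _ _ h₁ hk e1 ▸ ⟨a1, b1⟩
      by_cases e2 : r k₂ k
      · exact Veq _ _ h₂ hk e2 ▸ ⟨a2, b2⟩
      exact tri (by simp [ON, L.symm a (V _), L.symm b (V _), L.symm (V k₁) (V k₂), V3 _ h₁, V3 _ h₂,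
          V2 _ _ h₂ h₁ r₁, ha, hb, hab, hba, a1, a2, b1, b2]) (V3 _ hk)
        (V2 _ _ hk h₁ e1) (V2 _ _ hk h₂ e2) (WV _ h₁) (WV _ h₂) (WV _ hk) (XV _ h₁) (XV _ h₂) (XV _ hk)
        WW XW XX hW
    have e : ∀ k, a + b + (V k - a - b) = V k := fun k => by abel
    obtain ⟨wa, wb, ⟨xa, xb⟩ | ⟨xa, xb⟩⟩ := wx (L := L) (a := a) (b := b) (c := V k₁ - a - b)
      (d := V k₂ - a - b) (e := V k₃ - a - b) (by
        simp [ON, L.symm a (V _), L.symm b (V _), L.symm (V k₁) (V k₂), L.symm (V k₁) (V k₃),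
          L.symm (V k₂) (V k₃), V3 _ h₁, V3 _ h₂, V3 _ h₃, V2 _ _ h₂ h₁ r₁, V2 _ _ h₃ h₁ r₂,
          V2 _ _ h₃ h₂ r₃, ha, hb, hab, hba, key _ h₁, key _ h₂, key _ h₃])
      (by rw [e, WV _ h₁]) (by rw [e, WV _ h₂]) (by rw [e, WV _ h₃]) (by rw [e, XV _ h₁])
      (by rw [e, XV _ h₂]) (by rw [e, XV _ h₃]) WW XW XX hW
    · exact this a b h key wa wb xa xb
    · exact this b a (by simp [ON, ha, hb, hab, hba]) (fun k hk => (key k hk).symm) wb wa xb xa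
  intro a b h key wa wb xa xb
  obtain ⟨f, g, e, h1, eW, eX⟩ := fin h wa wb xa xb WW XW XX
  refine ⟨a, b, f, g, e, h1, eW, eX, fun k hk => ?_⟩
  obtain ⟨h2, h3⟩ := key k hk
  have h4 := bessel h1 (V k)
  have h5 := WV k hk
  have h6 := XV k hk
  rw [L.symm, eW] at h5
  rw [L.symm, eX] at h6
  simp [h2, h3, V3 k hk] at h4 h5 h6
  have h7 : L.B (V k) f = 0 := by nlinarith
  exact ⟨h2, h3, h7, by omega, by omega⟩

end Lat

end H8.QL
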