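import Mathlib
import Cfsg.Agent.H2.QCoord
import Cfsg.Agent.H2.QMod
import Cfsg.Agent.H2.QB1
import Cfsg.Agent.H2.QReg
import Cfsg.Agent.H13.WType
import Cfsg.Agent.H17.ZStar

/-! Fusion patterns of groups with quasi-dihedral Sylow 2-subgroups. -/

set_option autoImplicit false
set_option linter.unusedSectionVars false

namespace H8.QC

open H24 H26 Cfsg Subgroup H13.Dih
open H13.W (core_map conj_of_coset comm_sup_le comm_le_of_cent odd_sup odd_map_subtype)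
open H22 (HasOdd hh)
open H2.QD
open scoped commutatorElement

universe u

variable {G : Type u} [Group G] [Finite G] {L X Y P : Subgroup G} {t s v w x : G}

theorem kleinFour (hf : Four t s) : IsKleinFour (V4 t s) :=
  H22.isKleinFour_of hf.V_card fun _ hx => hf.V_sq hx

theorem tri0 (P : Sylow 2 G) (hP : IsQuasiDihedral (P : Subgroup G)) (hf : Four t s)
    (hT : V4 t s ≤ P) :
    (∃ z ∈ (P : Subgroup G) ⊓ C[(P : Subgroup G)], orderOf z = 2 ∧
      ∀ g : G, g * z * g⁻¹ ∈ P → g * z * g⁻¹ = z) ∨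
    ((∃ g ∈ N[V4 t s], Odd (orderOf g) ∧ g ∉ C[V4 t s]) ∧
      ((∃ K : Subgroup G, K.Normal ∧ K.index = 2 ∧ CD K ∧
        ∀ x, orderOf x = 2 ∨ Odd (orderOf x) → x ∈ K) ∨ ∀ K : Subgroup G, K.index ≠ 2)) := by
  obtain ⟨T', Q, ⟨D'⟩⟩ := H22.SD.exists_data hP
  obtain ⟨f⟩ := D'.equivQ
  obtain ⟨D⟩ := H22.SD.nonempty_data hP (kleinFour hf) hT D'.hQ.le f
  by_cases hU : HasOdd (V4 t s)
  · right
    refine ⟨?_, ?_⟩
    · obtain ⟨g, hg, ho, hn⟩ := hU
      exact ⟨g, hg, Nat.coprime_two_right.1 ho, hn⟩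
    by_cases hQ : HasOdd Q
    · exact Or.inr (H22.no_index_two_of_sylow_le_commutator P (D.le_commutator hU hQ))
    · left
      obtain ⟨K, hK, hi, hR, -⟩ := D.dih_case hU hQ
      obtain ⟨R⟩ : Nonempty (Sylow 2 K) := inferInstance
      obtain ⟨m, ⟨e⟩⟩ := hR R
      refine ⟨K, hK, hi, cd_of_dihedral R e, fun x hx => ?_⟩
      have hsq : ∀ y : G, y * y ∈ K := fun y => K.mul_self_mem_of_index_two hi y
      rcases hx with hx | hx
      · have h4 := H22.SD.orderOf_r_qq D.E D.hn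
        have h2 : orderOf (D.E.r (H22.qq D.n) * D.E.r (H22.qq D.n)) = 2 := by
          rw [← sq, orderOf_pow' _ two_ne_zero, h4]; rfl
        exact H22.mem_of_isConj_of_normal K
          ((D.isConj_all hU h2).trans (D.isConj_all hU hx).symm) (hsq _)
      · exact zpowers_le.2 (hsq x) (mem_zpowers_sq hx)
  · left
    refine ⟨_, D.z_mem, H22.SD.orderOf_r_hh D.E D.hn, fun g hg => ?_⟩
    rcases H22.SD.involution_cases D.E D.hn hg (two_conj (H22.SD.orderOf_r_hh D.E D.hn) g) with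
      e | ⟨a, ha, e⟩
    · exact e
    · exact absurd ((H22.isConj_of_conj_eq e).trans (H22.SD.isConj_s_even D.E D.hn ha))
        (D.not_isConj_two hU)

theorem odd_core : Odd ♯(oddCore G) := by
  rw [show oddCore G = 𝒪[⊤] from (pcore_compl_singleton_top Nat.prime_two).symm]
  exact odd_pcore _

theorem kq (hI : ∀ (X : Type u) [Group X] [Finite X], Nat.card X ≤ Nat.card G → IsSimpleGroup X →
      Nonempty (QC X) → Concl X) (P : Sylow 2 G) (hP : IsQuasiDihedral (P : Subgroup G))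
    (h2 : ∀ K : Subgroup G, K.index ≠ 2) (hf : Four v w) {y : G} (hy : y ∈ 𝒪[C{v}]) :
    ⁅y, w⁆ ∈ oddCore G := by
  let π := QuotientGroup.mk' (oddCore G)
  have hO : Odd ♯(oddCore G) := odd_core
  obtain ⟨e⟩ := H22.sylow_equiv_mapSurjective P (oddCore G) (H2.pPrimeCore_coprime 2 G)
  obtain ⟨c⟩ := exists_QC _ (H22.isQuasiDihedral_of_equiv e hP) (H22.no_index_two_quotient _ h2)
  obtain ⟨M⟩ := exists_Mod c
  have two : ∀ a : G, orderOf a = 2 → orderOf (π a) = 2 := fun a ha =>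
    two_of (by rw [← map_mul, sq_of ha, map_one]) fun h =>
      not_mem_of_odd hO ha ((QuotientGroup.eq_one_iff a).1 h)
  have hf' : Four (π v) (π w) := by
    refine ⟨two _ hf.ht, two _ hf.hs, fun h => ?_, by rw [← map_mul, ← map_mul, hf.comm]⟩
    have := two _ hf.hts
    rw [map_mul, h, sq_of (two _ hf.ht), orderOf_one] at this
    exact absurd this (by decide)
  obtain ⟨g, h3, h4⟩ := c.exists_four hf'
  have h5 := (reg (M.cj g) (by
    rw [pcore_compl_singleton_top Nat.prime_two]; exact H2.pPrimeCore_quotient_pPrimeCore 2 G)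
    fun X _ _ hX => hI X (hX.trans (Nat.card_le_card_of_surjective _
      (QuotientGroup.mk'_surjective _)))).1
  rw [QC.U, c.cj_t, c.cj_s, h3, h4] at h5
  have h6 : C{v}.map π = C{π v} := by
    refine le_antisymm ?_ fun z hz => ?_
    · rintro _ ⟨a, ha, rfl⟩
      exact mem_C1.2 (by rw [← map_mul, ← map_mul, mem_C1.1 ha])
    · obtain ⟨g1, rfl⟩ := QuotientGroup.mk'_surjective (oddCore G) z
      have h7 : π (g1 * v * g1⁻¹ * v⁻¹) = 1 := by
        simp only [map_mul, map_inv]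
        rw [mem_C1_iff_conj.1 hz, mul_inv_cancel]
      obtain ⟨o, ho, e2⟩ := conj_of_coset hO (sq_of hf.ht) (sq_of (two_conj hf.ht g1))
        ((QuotientGroup.eq_one_iff _).1 h7)
      refine ⟨o * g1, mem_C1_iff_conj.2 (by
        rw [mul_inv_rev, ← mul_assoc, mul_assoc o, mul_assoc o, e2]), ?_⟩
      rw [map_mul, show π o = 1 from (QuotientGroup.eq_one_iff _).2 ho, one_mul]
  have h8 : π y ∈ C{π w} := h5 (h6 ▸ map_pcore_le _ _ π ⟨y, hy, rfl⟩)
  rw [← QuotientGroup.eq_one_iff]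
  show π ⁅y, w⁆ = 1
  rw [map_commutatorElement, commutatorElement_eq_one_iff_mul_comm, mem_C1.1 h8]

theorem cd_of_syl' (hS : Syl 2 L P) (h : CD P) : CD L := by
  intro R hR
  have h1 : IsPi {2} (R.map L.subtype) := (isPi_of_isPGroup Nat.prime_two hR).map _
  obtain ⟨g, hg, h2⟩ := Sylow_Jsub Nat.prime_two hS h1 (map_subtype_le' R)
  let f : R →* P := ((MulAut.conj g).toMonoidHom.comp (L.subtype.comp R.subtype)).codRestrict P
    fun x => h2 (conj_mem_cj g ⟨x, x.2, rfl⟩)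
  have hf : Function.Injective f := fun a b e => by
    have : g * a * g⁻¹ = g * b * g⁻¹ := congrArg Subtype.val e
    exact Subtype.ext (Subtype.ext (by simpa using this))
  obtain ⟨a, -, H⟩ := h.of_injective f hf ⊤ (hR.of_equiv topEquiv.symm)
  have key : ∀ y : R, (y : L) ∈ zpowers (a : L) ↔ y ∈ zpowers a := fun y => by
    rw [← mem_map_iff_mem R.subtype_injective, MonoidHom.map_zpowers]; rfl
  refine ⟨a, a.2, fun y hy hya => ?_⟩
  obtain ⟨h3, h4, h5⟩ := H ⟨y, hy⟩ (mem_top _) fun e => hya ((key ⟨y, hy⟩).2 e)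
  exact ⟨congrArg Subtype.val h3, congrArg Subtype.val h4, fun z hz hza =>
    (key (⟨y, hy⟩ * ⟨z, hz⟩)).2 (h5 ⟨z, hz⟩ (mem_top _) fun e => hza ((key ⟨z, hz⟩).2 e))⟩

theorem CD.mono (h : CD L) (hX : X ≤ L) : CD X :=
  h.of_injective (inclusion hX) (inclusion_injective hX)

theorem isol_iff : L ≤ 𝒪[L] ⊔ (L ⊓ C{v}) ↔ ∀ x ∈ L, ∃ o ∈ 𝒪[L], o * x ∈ C{v} := by
  have hK := pcore_nml ({2} : Set ℕ)ᶜ L
  refine ⟨fun h x hx => ?_, fun h x hx => ?_⟩
  · obtain ⟨o, ho, y, hy, rfl⟩ := (mem_sup_of_norm (inf_le_left.trans hK.norm)).1 (h hx)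
    exact ⟨o⁻¹, inv_mem ho, by simpa using hy.2⟩
  · obtain ⟨o, ho, e⟩ := h x hx
    simpa using mul_mem (mem_sup_left (inv_mem ho) : _ ∈ 𝒪[L] ⊔ (L ⊓ C{v}))
      (mem_sup_right (mem_inf.2 ⟨mul_mem (hK.le ho) hx, e⟩))

theorem le_core (h : L ≤ 𝒪[L] ⊔ (L ⊓ C{v})) (hX : Odd ♯X) (hXL : X ≤ L)
    (hN : L ⊓ C{v} ≤ N[X]) : X ≤ 𝒪[L] :=
  H13.W.WC.le_core_of_isol (isol_iff.1 h) hX hXL hN

theorem comm_core (h : L ≤ 𝒪[L] ⊔ (L ⊓ C{v})) (hv : v ∈ L) : ⁅L, zpowers v⁆ ≤ 𝒪[L] :=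
  H13.W.WC.comm_isol (isol_iff.1 h) hv

theorem zstar_comm (ht : orderOf t = 2) (htL : t ∈ L)
    (h : ∀ x ∈ L, x ∈ C{t} → orderOf x = 2 → x = t) : ⁅L, zpowers t⁆ ≤ 𝒪[L] := by
  refine (comm_zp_le (sq_of ht)).2 fun y hy => ?_
  rw [← core_map]
  have := H17.zstar (G := L) (z := ⟨t, htL⟩) ⟨by simpa using ht, fun g hg => Subtype.ext
    (h _ (g * ⟨t, htL⟩ * g⁻¹).2 (mem_C1.2 (congrArg Subtype.val hg.eq).symm) (two_conj ht g))⟩
    ⟨y, hy⟩
  exact ⟨_, inv_mem this, by simp; group⟩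

theorem rot_of_fpf (c : QC G) {g : G} (hg : g ∈ N[c.T]) (ho : Odd (orderOf g))
    (hn : g ∉ C[c.T]) : c.Rot g ∨ c.Rot g⁻¹ := by
  have hf := c.four
  have key : ∀ a b : G, Four a b → V4 a b = c.T → g * a * g⁻¹ ≠ a := fun a b h e h1 => by
    have h2 := mem_C1_iff_conj.2 h1
    refine hn ?_
    rw [← e, Four.C_V]
    exact ⟨h2, h.odd_fix (e ▸ hg) ho h2⟩
  have h1 := key _ _ hf rfl
  have h2 := key _ _ hf.symm Four.V_symm
  have h3 := key _ _ hf.mul.symm (Four.V_symm.trans hf.V_mul)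
  have e3 : g * (c.t * c.s) * g⁻¹ = g * c.t * g⁻¹ * (g * c.s * g⁻¹) := by group
  have hg' := (hf.conj g).ne
  rcases hf.mem_V.1 (conj_mem hg Four.t_mem) with a | a | a | a
  · exact absurd (conj_eq_one_iff'.1 a) (ne_one_of hf.ht)
  · exact absurd a h1
  · rcases hf.mem_V.1 (conj_mem hg Four.s_mem) with b | b | b | b
    · exact absurd (conj_eq_one_iff'.1 b) (ne_one_of hf.hs)
    · exact absurd (by rw [e3, a, b, hf.comm]) h3
    · exact absurd b h2
    · exact Or.inl ⟨a, b⟩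
  · rcases hf.mem_V.1 (conj_mem hg Four.s_mem) with b | b | b | b
    · exact absurd (conj_eq_one_iff'.1 b) (ne_one_of hf.hs)
    · refine Or.inr ⟨by rw [← b]; group, ?_⟩
      rw [a, b, hf.ts_t] at e3
      conv_lhs => rw [← e3]
      group
    · exact absurd b h2
    · exact absurd (b.trans a.symm) hg'

/-- the possibilities for a subgroup containing a conjugate of `S` -/
theorem tri (c : QC G) (hI : IH G) (hL : L ≠ ⊤) (hT : c.T ≤ P) (hP : Syl 2 L P)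
    (hQ : IsQuasiDihedral P) :
    (∃ v ∈ c.T, v ≠ 1 ∧ L ≤ 𝒪[L] ⊔ (L ⊓ C{v})) ∨
    (∃ L₀, L₀ ⊴ L ∧ L₀.relIndex L ≤ 2 ∧ CD L₀ ∧
      ∀ x ∈ L, orderOf x = 2 ∨ Odd (orderOf x) → x ∈ L₀) ∨
    ((∃ g ∈ L, c.Rot g) ∧ (∀ K : Subgroup L, K.index ≠ 2) ∧
      ∀ v ∈ c.T, v ≠ 1 → ⁅𝒪[L ⊓ C{v}], c.T⁆ ≤ 𝒪[L]) := by
  have hf := c.four
  have hTL := hT.trans hP.le
  obtain ⟨R, rfl⟩ := hP.exists_sylow Nat.prime_two
  have hR : IsQuasiDihedral (R : Subgroup L) :=
    H22.isQuasiDihedral_of_equiv (equivMapOfInjective _ _ L.subtype_injective).symm hQ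
  have four : ∀ a b : L, Four (a : G) b → Four a b := fun a b h =>
    ⟨by simpa using h.ht, by simpa using h.hs, fun e => h.ne (congrArg Subtype.val e),
      Subtype.ext h.comm⟩
  let t' : L := ⟨c.t, hTL Four.t_mem⟩
  let s' : L := ⟨c.s, hTL Four.s_mem⟩
  have hf' : Four t' s' := four _ _ hf
  have hV : (V4 t' s').map L.subtype = c.T := by
    rw [V4, Subgroup.map_sup, MonoidHom.map_zpowers, MonoidHom.map_zpowers]; rfl
  have hV' : V4 t' s' ≤ R := by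
    rw [← map_le_map_iff_of_injective L.subtype_injective, hV]; exact hT
  rcases tri0 R hR hf' hV' with ⟨z, hz, h2, H⟩ | ⟨⟨g, hg, ho, hn⟩, H⟩
  · left
    have hz2 : orderOf (z : G) = 2 := by simpa using h2
    refine ⟨z, c.le_T (isPi_zp hz2) (zpowers_le.2 ⟨?_, ?_⟩) (mem_zpowers _), ne_one_of hz2,
      isol_iff.2 fun x hx => H13.W.zstar hP hz2 ⟨z, hz.1, rfl⟩ (fun g hg h => ?_) hx⟩
    · exact mem_C1.2 (congrArg Subtype.val (mem_C'.1 hz.2 _ (hV' Four.t_mem)))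
    · exact mem_C1.2 (congrArg Subtype.val (mem_C'.1 hz.2 _ (hV' Four.s_mem)))
    · obtain ⟨y, hy, e⟩ := h
      exact congrArg Subtype.val (H ⟨g, hg⟩ (by
        rwa [show (⟨g, hg⟩ : L) * z * ⟨g, hg⟩⁻¹ = y from Subtype.ext e.symm]))
  right
  rcases H with ⟨K, hK, hi, hc, H⟩ | H
  · refine Or.inl ⟨K.map L.subtype, nml_map_subtype K, ?_,
      hc.of_injective (equivMapOfInjective _ _ L.subtype_injective).symm.toMonoidHom
        (MulEquiv.injective _), fun x hx h => ⟨⟨x, hx⟩, H _ (by simpa using h), rfl⟩⟩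
    rw [relIndex, subgroupOf_map_subtype', hi]
  refine Or.inr ⟨?_, H, fun v hv h1 => commutator_le.2 fun y hy x hx => ?_⟩
  · have h1 : (g : G) ∈ N[c.T] := by
      rw [← hV]; exact norm_map (zpowers_le.2 hg) _ ⟨g, mem_zpowers g, rfl⟩
    have h2 : (g : G) ∉ C[c.T] := fun h => hn (mem_C.2 fun a ha =>
      Subtype.ext (mem_C.1 h a (hV ▸ ⟨a, ha, rfl⟩)))
    rcases rot_of_fpf c h1 (by simpa using ho) h2 with h | h
    · exact ⟨_, g.2, h⟩
    · exact ⟨_, inv_mem g.2, h⟩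
  have hy' := pcore_le _ _ hy
  by_cases hx1 : x = 1
  · simp [hx1]
  by_cases hxv : x = v
  · rw [hxv, commutatorElement_eq_one_iff_mul_comm.2 (mem_C1.1 hy'.2)]; exact one_mem _
  have h3 : (L ⊓ C{v}).subgroupOf L = C{(⟨v, hTL hv⟩ : L)} := by
    ext a
    rw [mem_subgroupOf, mem_inf, mem_C1, mem_C1, Subtype.ext_iff]
    simp
  have h4 := kq (G := L) (fun Y _ _ hY => hI Y (by
      have := card_lt (lt_top_iff_ne_top.2 hL)
      rw [card_top] at this
      omega)) R hR H (four ⟨v, hTL hv⟩ ⟨x, hTL hx⟩ (hf.four_of_mem hv hx h1 hx1 hxv))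
    (y := ⟨y, hy'.1⟩) (by rw [← h3, pcore_subgroupOf _ inf_le_left]; exact hy)
  rw [← core_map]
  exact ⟨_, h4, rfl⟩

end H8.QC
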