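import Mathlib
import Cfsg.Agent.S0243
import Cfsg.Agent.S0280
import Cfsg.Agent.S0293
import Cfsg.Agent.S0294
import Cfsg.Agent.S0252
import Cfsg.Agent.S0253
import Cfsg.Agent.S0254
import Cfsg.Agent.S0255
import Cfsg.Agent.S0822
import Cfsg.Agent.S1059
import Cfsg.Agent.H7.SpSuSimple
import Cfsg.Prelude.Def_Exceptional

/-!
# Simple groups of order `p 3^a 2^b`: which known groups have such an order
-/

set_option autoImplicit false
set_option linter.unusedVariables false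

namespace H8.K3

open Cfsg Matrix

/-- the list of the eight groups -/
def Concl (G : Type*) [Group G] : Prop :=
  Nonempty (G ≃* alternatingGroup (Fin 5)) ∨ Nonempty (G ≃* alternatingGroup (Fin 6)) ∨ (∃ (F : Type) (_ : Field F) (_ : Fintype F), Fintype.card F = 3 ∧ Nonempty (G ≃* Cfsg.PSp 2 F)) ∨ (∃ (F : Type) (_ : Field F) (_ : Fintype F), (Fintype.card F = 7 ∨ Fintype.card F = 8 ∨ Fintype.card F = 17) ∧ Nonempty (G ≃* Matrix.ProjectiveSpecialLinearGroup (Fin 2) F)) ∨ (∃ (F : Type) (_ : Field F) (_ : Fintype F), Fintype.card F = 9 ∧ Nonempty (G ≃* Cfsg.PSU 3 F 3)) ∨ (∃ (F : Type) (_ : Field F) (_ : Fintype F), Fintype.card F = 3 ∧ Nonempty (G ≃* Matrix.ProjectiveSpecialLinearGroup (Fin 3) F))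

/-- numbers of the form `p 3^a 2^b` -/
def K3N (n : ℕ) : Prop := ∃ p a b : ℕ, p.Prime ∧ n = p * 3 ^ a * 2 ^ b

/-- only the primes `2`, `3` divide `x` -/
def Sm (x : ℕ) : Prop := ∀ r : ℕ, r.Prime → r ∣ x → r = 2 ∨ r = 3

variable {n x y c q : ℕ}

theorem K3N.sm (h : K3N n) (hc : Sm c) (hd : x * y ∣ c * n) (c0 : c ≠ 0) : Sm x ∨ Sm y := by
  by_contra hn
  simp only [Sm, not_or, not_forall] at hn
  obtain ⟨⟨r, hr, rx, r2, r3⟩, s, hs, sy, s2, s3⟩ := hn
  obtain ⟨p, a, b, hp, rfl⟩ := h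
  have cop : ∀ r : ℕ, r.Prime → r ≠ 2 → r ≠ 3 → r.Coprime (c * (3 ^ a * 2 ^ b)) := fun r hr r2 r3 =>
    Nat.Coprime.mul_right ((Nat.Prime.coprime_iff_not_dvd hr).2 fun h => (hc r hr h).elim r2 r3)
      (Nat.Coprime.mul_right (((Nat.coprime_primes hr Nat.prime_three).2 r3).pow_right _)
        (((Nat.coprime_primes hr Nat.prime_two).2 r2).pow_right _))
  have h1 : r * s ∣ p * (c * (3 ^ a * 2 ^ b)) := by
    have := (mul_dvd_mul rx sy).trans hd
    rwa [show c * (p * 3 ^ a * 2 ^ b) = p * (c * (3 ^ a * 2 ^ b)) by ring] at this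
  have h2 : r * s ∣ p := (Nat.Coprime.mul_left (cop r hr r2 r3) (cop s hs s2 s3)).dvd_of_dvd_mul_right h1
  rcases (Nat.dvd_prime hp).1 h2 with e | e
  · exact hr.ne_one (Nat.eq_one_of_mul_eq_one_right e)
  · exact Nat.not_prime_mul hr.ne_one hs.ne_one (e ▸ hp)

theorem sm_one : Sm 1 := fun r hr h => (hr.ne_one (Nat.dvd_one.1 h)).elim

theorem Sm.of_dvd (h : Sm y) (hd : x ∣ y) : Sm x := fun r hr h' => h r hr (h'.trans hd)

theorem sm_six : Sm 12 := fun r hr h => by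
  have h1 : r ∣ 2 ^ 2 * 3 := h
  rcases (Nat.Prime.dvd_mul hr).1 h1 with h | h
  · exact .inl ((Nat.prime_dvd_prime_iff_eq hr Nat.prime_two).1 (hr.dvd_of_dvd_pow h))
  · exact .inr ((Nat.prime_dvd_prime_iff_eq hr Nat.prime_three).1 h)

theorem not_sm (r : ℕ) (hr : r.Prime) (h5 : 5 ≤ r) (hd : r ∣ x) : ¬ Sm x := fun h => by
  rcases h r hr hd with rfl | rfl <;> omega

theorem not_sm' (h2 : ¬ 2 ∣ x) (h3 : ¬ 3 ∣ x) (h1 : x ≠ 1) : ¬ Sm x := fun h => by
  rcases h _ (Nat.minFac_prime h1) (Nat.minFac_dvd x) with e | e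
  · exact h2 (e ▸ Nat.minFac_dvd x)
  · exact h3 (e ▸ Nat.minFac_dvd x)

/-- two primes `≥ 5` cannot divide -/
theorem K3N.two (h : K3N n) (r s : ℕ) (hd : r * s ∣ n) (hr : r.Prime := by norm_num)
    (hs : s.Prime := by norm_num) (r5 : 5 ≤ r := by norm_num) (s5 : 5 ≤ s := by norm_num) : False :=
  (h.sm sm_one (by simpa using hd) one_ne_zero).elim (not_sm r hr r5 dvd_rfl) (not_sm s hs s5 dvd_rfl)

theorem pow_of (hx : x ≠ 0) (h : ∀ r : ℕ, r.Prime → r ∣ x → r = q) : ∃ i, x = q ^ i :=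
  ⟨_, Nat.eq_prime_pow_of_unique_prime_dvd hx fun hr hd => h _ hr hd⟩

theorem gers1 {i j : ℕ} (h : 3 ^ j + 1 = 2 ^ i) : 3 ^ j ≤ 3 := by
  have h8 : 3 ^ j % 8 = 1 ∨ 3 ^ j % 8 = 3 := by
    clear h
    induction j with
    | zero => simp
    | succ j ih => rw [pow_succ]; omega
  by_cases hi : 3 ≤ i
  · obtain ⟨k, rfl⟩ := Nat.exists_eq_add_of_le hi
    rw [pow_add] at h
    omega
  · have : 2 ^ i ≤ 2 ^ 2 := Nat.pow_le_pow_right two_pos (by omega)
    omega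

theorem gers2 {i j : ℕ} (h : 2 ^ i + 1 = 3 ^ j) : 2 ^ i ≤ 8 := by
  rcases Nat.even_or_odd' j with ⟨k, rfl | rfl⟩
  · have h1 : 1 ≤ 3 ^ k := Nat.one_le_pow _ _ three_pos
    obtain ⟨m, hm⟩ := Nat.exists_eq_add_of_le h1
    have e : 3 ^ (2 * k) = 3 ^ k * 3 ^ k := by rw [two_mul, pow_add]
    have hd : 3 ^ k + 1 ∣ 2 ^ i := ⟨m, by rw [e, hm] at h; rw [hm]; nlinarith⟩
    obtain ⟨l, -, hl⟩ := (Nat.dvd_prime_pow Nat.prime_two).1 hd
    have := gers1 hl
    rw [e] at h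
    nlinarith
  · have h4 : 3 ^ (2 * k) % 4 = 1 := by
      rw [pow_mul, Nat.pow_mod]; simp
    rw [pow_succ] at h
    by_cases hi : 2 ≤ i
    · obtain ⟨l, rfl⟩ := Nat.exists_eq_add_of_le hi
      rw [pow_add] at h
      omega
    · have : 2 ^ i ≤ 2 ^ 2 := Nat.pow_le_pow_right two_pos (by omega)
      omega

theorem consec (h0 : x ≠ 0) (h1 : Sm x) (h2 : Sm (x + 1)) : x = 1 ∨ x = 2 ∨ x = 3 ∨ x = 8 := by
  have h8 : x ≤ 8 := by
    by_cases e2 : 2 ∣ x
    · obtain ⟨j, hj⟩ := pow_of (q := 3) (x := x + 1) (by omega) fun r hr hd =>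
        (h2 r hr hd).resolve_left (by rintro rfl; omega)
      have h3 : 3 ∣ x + 1 := hj ▸ dvd_pow_self 3 (by rintro rfl; simp at hj; omega)
      obtain ⟨i, hi⟩ := pow_of (q := 2) h0 fun r hr hd =>
        (h1 r hr hd).resolve_right (by rintro rfl; omega)
      exact hi ▸ gers2 (hi ▸ hj)
    · obtain ⟨j, hj⟩ := pow_of (q := 3) h0 fun r hr hd =>
        (h1 r hr hd).resolve_left (by rintro rfl; omega)
      by_cases j0 : j = 0
      · subst j0; omega
      have h3 : 3 ∣ x := hj ▸ dvd_pow_self 3 j0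
      obtain ⟨i, hi⟩ := pow_of (q := 2) (x := x + 1) (by omega) fun r hr hd =>
        (h2 r hr hd).resolve_right (by rintro rfl; omega)
      have := gers1 (hj ▸ hi)
      omega
  have n5 : ¬ Sm 5 := not_sm 5 (by norm_num) le_rfl dvd_rfl
  have n7 : ¬ Sm 7 := not_sm 7 (by norm_num) (by norm_num) dvd_rfl
  interval_cases x <;> simp_all

theorem consec2 (h0 : x ≠ 0) (h1 : Sm x) (h2 : Sm (x + 2)) :
    x = 1 ∨ x = 2 ∨ x = 4 ∨ x = 6 ∨ x = 16 := by
  by_cases e2 : 2 ∣ x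
  · obtain ⟨y, rfl⟩ := e2
    have := consec (x := y) (by omega) (h1.of_dvd (Dvd.intro_left 2 rfl)) (h2.of_dvd ⟨2, by ring⟩)
    omega
  · by_cases h3 : 3 ∣ x
    · exact (not_sm' (by omega) (by omega) (by omega) h2).elim
    · by_contra hn
      exact not_sm' e2 h3 (by omega) h1

variable {G L : Type*} [Group G] [Group L] {F : Type} [Field F] [Fintype F]

theorem Concl.equiv (h : Concl L) (e : G ≃* L) : Concl G := by
  rcases h with ⟨⟨f⟩⟩ | ⟨⟨f⟩⟩ | ⟨F, _, _, h, ⟨f⟩⟩ | ⟨F, _, _, h, ⟨f⟩⟩ | ⟨F, _, _, h, ⟨f⟩⟩ | ⟨F, _, _, h, ⟨f⟩⟩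
  · exact .inl ⟨e.trans f⟩
  · exact .inr (.inl ⟨e.trans f⟩)
  · exact .inr (.inr (.inl ⟨F, _, _, h, ⟨e.trans f⟩⟩))
  · exact .inr (.inr (.inr (.inl ⟨F, _, _, h, ⟨e.trans f⟩⟩)))
  · exact .inr (.inr (.inr (.inr (.inl ⟨F, _, _, h, ⟨e.trans f⟩⟩))))
  · exact .inr (.inr (.inr (.inr (.inr ⟨F, _, _, h, ⟨e.trans f⟩⟩))))

theorem K3N.equiv (h : K3N (Nat.card G)) (e : G ≃* L) : K3N (Nat.card L) :=
  Nat.card_congr e.toEquiv ▸ h

theorem sm_gcd (m k : ℕ) (hm : m ∣ 12) : Sm (Nat.gcd m k) := sm_six.of_dvd ((Nat.gcd_dvd_left m k).trans hm)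

theorem card_l2 (hF : Fintype.card F = x + 1) :
    Nat.gcd 2 x * Nat.card (ProjectiveSpecialLinearGroup (Fin 2) F) = x * (x + 1) * (x + 2) := by
  have h := Cfsg.Agent.S0243.result hF 2 le_rfl
  have h1 : 1 < Fintype.card F := Fintype.one_lt_card
  have e1 : (x + 1) ^ 2 - (x + 1) ^ 0 = x * (x + 2) := Nat.sub_eq_of_eq_add (by ring)
  have e2 : (x + 1) ^ 2 - (x + 1) ^ 1 = x * (x + 1) := Nat.sub_eq_of_eq_add (by ring)
  simp only [Fin.prod_univ_two, Fin.val_zero, Fin.val_one, e1, e2, Nat.add_sub_cancel] at h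
  refine Nat.eq_of_mul_eq_mul_left (show 0 < x by omega) ?_
  linarith

theorem l2 (h : K3N (Nat.card G)) (h4 : 4 ≤ Fintype.card F)
    (e : G ≃* ProjectiveSpecialLinearGroup (Fin 2) F) : Concl G := by
  obtain ⟨x, hx⟩ : ∃ x, Fintype.card F = x + 1 := ⟨Fintype.card F - 1, by omega⟩
  have hc := card_l2 hx
  have k := h.equiv e
  have g0 : Nat.gcd 2 x ≠ 0 := Nat.gcd_ne_zero_left two_ne_zero
  have gs := sm_gcd 2 x (by norm_num)
  have a1 := k.sm (x := x) (y := x + 1) gs ⟨x + 2, hc⟩ g0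
  have a2 := k.sm (x := x) (y := x + 2) gs ⟨x + 1, by rw [hc]; ring⟩ g0
  have a3 := k.sm (x := x + 1) (y := x + 2) gs ⟨x, by rw [hc]; ring⟩ g0
  have hq : x = 3 ∨ x = 4 ∨ x = 6 ∨ x = 7 ∨ x = 8 ∨ x = 16 := by
    have b1 := consec (x := x) (by omega)
    have b2 := consec2 (x := x) (by omega)
    have b3 := consec (x := x + 1) (by omega)
    rcases a1 with a1 | a1
    · rcases a3 with a3 | a3
      · have := b1 a1 a3; omega
      · have := b2 a1 a3; omega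
    · rcases a2 with a2 | a2
      · have := b1 a2 a1; omega
      · have := b3 a1 a2; omega
  rcases hq with rfl | rfl | rfl | rfl | rfl | rfl
  · exact .inl ⟨e.trans (Cfsg.Agent.S0252.result hx).some⟩
  · exact .inl ⟨e.trans (Cfsg.Agent.S0253.result hx).some⟩
  · exact .inr (.inr (.inr (.inl ⟨F, _, _, .inl hx, ⟨e⟩⟩)))
  · exact .inr (.inr (.inr (.inl ⟨F, _, _, .inr (.inl hx), ⟨e⟩⟩)))
  · exact .inr (.inl ⟨e.trans (Cfsg.Agent.S0254.result hx).some⟩)
  · exact .inr (.inr (.inr (.inl ⟨F, _, _, .inr (.inr hx), ⟨e⟩⟩)))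

theorem card_l3 (hF : Fintype.card F = x + 1) :
    Nat.gcd 3 x * Nat.card (ProjectiveSpecialLinearGroup (Fin 3) F) =
      x * x * ((x + 1) * (x + 1)) * ((x + 1) * (x + 2) * (x * x + 3 * x + 3)) := by
  have h := Cfsg.Agent.S0243.result hF 3 (by norm_num)
  have h1 : 1 < Fintype.card F := Fintype.one_lt_card
  have e1 : (x + 1) ^ 3 - (x + 1) ^ 0 = x * (x * x + 3 * x + 3) := Nat.sub_eq_of_eq_add (by ring)
  have e2 : (x + 1) ^ 3 - (x + 1) ^ 1 = x * (x + 1) * (x + 2) := Nat.sub_eq_of_eq_add (by ring)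
  have e3 : (x + 1) ^ 3 - (x + 1) ^ 2 = x * (x + 1) * (x + 1) := Nat.sub_eq_of_eq_add (by ring)
  simp only [Fin.prod_univ_three, Fin.val_zero, Fin.val_one, Fin.val_two, e1, e2, e3,
    Nat.add_sub_cancel] at h
  refine Nat.eq_of_mul_eq_mul_left (show 0 < x by omega) ?_
  linarith

theorem l3 (h : K3N (Nat.card G)) (e : G ≃* ProjectiveSpecialLinearGroup (Fin 3) F) : Concl G := by
  have h1 : 1 < Fintype.card F := Fintype.one_lt_card
  obtain ⟨x, hx⟩ : ∃ x, Fintype.card F = x + 1 := ⟨Fintype.card F - 1, by omega⟩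
  have hc := card_l3 hx
  have k := h.equiv e
  have g0 : Nat.gcd 3 x ≠ 0 := Nat.gcd_ne_zero_left three_ne_zero
  have gs := sm_gcd 3 x (by norm_num)
  have a1 := (k.sm (x := x) (y := x) gs ⟨_, by rw [hc, mul_assoc]⟩ g0).elim id id
  have a2 := (k.sm (x := x + 1) (y := x + 1) gs ⟨_, by rw [hc, mul_comm (x * x), mul_assoc]⟩ g0).elim id id
  rcases consec (by omega) a1 a2 with rfl | rfl | rfl | rfl
  · haveI : Fact (Nat.Prime 7) := ⟨by norm_num⟩
    exact .inr (.inr (.inr (.inl ⟨ZMod 7, _, _, .inl (ZMod.card 7),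
      ⟨e.trans (Cfsg.Agent.S0255.result (ZMod.card 7) hx).some.symm⟩⟩)))
  · exact .inr (.inr (.inr (.inr (.inr ⟨F, _, _, hx, ⟨e⟩⟩))))
  · norm_num at hc
    exact (k.two 5 7 (by omega)).elim
  · norm_num at hc
    exact (k.two 5 7 (by omega)).elim

theorem card_u3 (hF : Fintype.card F = (x + 1) ^ 2) :
    Nat.gcd 3 (x + 2) * Nat.card (PSU 3 F (x + 1)) =
      (x + 1) * (x + 1) * ((x + 2) * (x + 2)) * ((x + 1) * x * (x * x + x + 1)) := by
  have h := Cfsg.Agent.S0280.result hF 3 (by norm_num)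
  have e1 : (x + 1) ^ 2 - 1 = x * (x + 2) := Nat.sub_eq_of_eq_add (by ring)
  simp +decide only [Finset.prod_range_succ, Finset.prod_range_zero, if_true, if_false, e1] at h
  refine Nat.eq_of_mul_eq_mul_left (show 0 < x + 2 by omega) ?_
  norm_num [e1] at h
  linarith

theorem u3 (h : K3N (Nat.card G)) (hF : Fintype.card F = q ^ 2) (h2 : q ≠ 2) (e : G ≃* PSU 3 F q) :
    Concl G := by
  have h1 : 1 < Fintype.card F := Fintype.one_lt_card
  obtain ⟨x, rfl⟩ : ∃ x, q = x + 1 := ⟨q - 1, by rcases q with _ | q <;> simp_all⟩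
  have hc := card_u3 hF
  have k := h.equiv e
  have g0 : Nat.gcd 3 (x + 2) ≠ 0 := Nat.gcd_ne_zero_left three_ne_zero
  have gs := sm_gcd 3 (x + 2) (by norm_num)
  have a1 := (k.sm (x := x + 1) (y := x + 1) gs ⟨_, by rw [hc, mul_assoc]⟩ g0).elim id id
  have a2 := (k.sm (x := x + 2) (y := x + 2) gs
    ⟨_, by rw [hc, mul_comm ((x + 1) * (x + 1)), mul_assoc]⟩ g0).elim id id
  have : x = 0 ∨ x = 2 ∨ x = 7 := by have := consec (by omega) a1 a2; omega
  rcases this with rfl | rfl | rfl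
  · omega
  · exact .inr (.inr (.inr (.inr (.inl ⟨F, _, _, hF, ⟨e⟩⟩))))
  · rw [show Nat.gcd 3 (7 + 2) = 3 by norm_num] at hc
    exact (k.two 7 19 (by omega)).elim

theorem sp4 (h : K3N (Nat.card G)) (h3 : 3 ≤ Fintype.card F) (e : G ≃* PSp 2 F) : Concl G := by
  obtain ⟨x, hx⟩ : ∃ x, Fintype.card F = x + 1 := ⟨Fintype.card F - 1, by omega⟩
  have hc := H7.card_psp (F := F) 2 (by norm_num)
  have e1 : (x + 1) ^ 2 - 1 = x * (x + 2) := Nat.sub_eq_of_eq_add (by ring)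
  have e2 : (x + 1) ^ 4 - 1 = x * (x + 2) * (x * x + 2 * x + 2) := Nat.sub_eq_of_eq_add (by ring)
  simp only [Finset.prod_range_succ, Finset.prod_range_zero, hx, Nat.add_sub_cancel] at hc
  norm_num [e1, e2] at hc
  have k := h.equiv e
  have g0 : Nat.gcd 2 x ≠ 0 := Nat.gcd_ne_zero_left two_ne_zero
  have gs := sm_gcd 2 x (by norm_num)
  have a1 := (k.sm (x := x) (y := x) gs
    ⟨(x + 1) ^ 4 * (x + 2) ^ 2 * (x * x + 2 * x + 2), by rw [hc]; ring⟩ g0).elim id id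
  have a2 := (k.sm (x := x + 1) (y := x + 1) gs
    ⟨(x + 1) ^ 2 * x ^ 2 * (x + 2) ^ 2 * (x * x + 2 * x + 2), by rw [hc]; ring⟩ g0).elim id id
  have a3 := (k.sm (x := x + 2) (y := x + 2) gs
    ⟨(x + 1) ^ 4 * x ^ 2 * (x * x + 2 * x + 2), by rw [hc]; ring⟩ g0).elim id id
  have : x = 2 := by
    have := consec (by omega) a1 a2
    have := consec (by omega) a2 a3
    omega
  subst this
  exact .inr (.inr (.inl ⟨F, _, _, hx, ⟨e⟩⟩))

theorem u42 (hF : Fintype.card F = 4) (e : G ≃* PSU 4 F 2) : Concl G :=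
  .inr (.inr (.inl ⟨ZMod 3, _, _, ZMod.card 3,
    ⟨e.trans (Cfsg.Agent.S0822.result hF (ZMod.card 3)).some⟩⟩))

theorem not_sz (h : K3N (Nat.card G)) : ¬ IsSuzuki G := by
  rintro ⟨-, m, hm, hc⟩
  have h3 : 2 ^ (2 * m) % 3 = 1 := by rw [pow_mul, Nat.pow_mod]; simp
  have h4 : 2 ^ 2 ≤ 2 ^ (2 * m) := Nat.pow_le_pow_right two_pos (by omega)
  rw [pow_succ 2 (2 * m)] at hc
  generalize 2 ^ (2 * m) = r at *
  have h9 : (r * 2) ^ 2 % 3 = 1 := by rw [Nat.pow_mod, Nat.mul_mod, h3]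
  have h10 : (r * 2) ^ 2 % 2 = 0 := by rw [Nat.pow_mod]; simp
  have h11 : 0 < (r * 2) ^ 2 := by positivity
  refine (h.sm (x := (r * 2) ^ 2 + 1) (y := r * 2 - 1) sm_one ⟨(r * 2) ^ 2, by rw [hc]; ring⟩
    one_ne_zero).elim (not_sm' ?_ ?_ ?_) (not_sm' ?_ ?_ ?_) <;> omega

theorem not_ree (h : K3N (Nat.card G)) : ¬ IsRee G := by
  rintro ⟨-, m, hm, hc⟩
  have h4 : 3 ^ (2 * m) % 4 = 1 := by rw [pow_mul, Nat.pow_mod]; simp
  have h9 : 3 ^ 2 ≤ 3 ^ (2 * m) := Nat.pow_le_pow_right three_pos (by omega)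
  rw [pow_succ 3 (2 * m)] at hc
  generalize 3 ^ (2 * m) = r at *
  obtain ⟨k, rfl⟩ : ∃ k, r = 4 * k + 1 := ⟨r / 4, by omega⟩
  have e : (4 * k + 1) * 3 - 1 = 2 * (6 * k + 1) := by omega
  refine (h.sm (x := 6 * (24 * k * k + 10 * k + 1) + 1) (y := 6 * k + 1) sm_one
    ⟨((4 * k + 1) * 3) ^ 3 * (12 * k + 4) * 2, by rw [hc, e]; ring⟩
    one_ne_zero).elim (not_sm' ?_ ?_ ?_) (not_sm' ?_ ?_ ?_) <;> omega

theorem not_card (h : K3N (Nat.card G)) (e : Nonempty (G ≃* L)) (r s : ℕ) (hd : r * s ∣ Nat.card L)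
    (hr : r.Prime := by norm_num) (hs : s.Prime := by norm_num) (r5 : 5 ≤ r := by norm_num)
    (s5 : 5 ≤ s := by norm_num) : False :=
  (h.equiv e.some).two r s hd hr hs r5 s5

theorem not_alt (h : K3N (Nat.card G)) {m : ℕ} (hm : 7 ≤ m) :
    ¬ Nonempty (G ≃* alternatingGroup (Fin m)) := fun e => by
  haveI : Nontrivial (Fin m) := Fin.nontrivial_iff_two_le.2 (by omega)
  have hc := two_mul_nat_card_alternatingGroup (α := Fin m)
  rw [Nat.card_perm, Nat.card_fin] at hc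
  refine not_card h e 5 7 ((by norm_num : Nat.Coprime (5 * 7) 2).dvd_of_dvd_mul_left ?_)
  rw [hc]
  exact (by decide : 5 * 7 ∣ Nat.factorial 7).trans (Nat.factorial_dvd_factorial hm)

theorem not_l43 (h : K3N (Nat.card G)) (hF : Fintype.card F = 3) :
    ¬ Nonempty (G ≃* ProjectiveSpecialLinearGroup (Fin 4) F) := fun e => by
  have hc := Cfsg.Agent.S0243.result hF 4 (by norm_num)
  simp only [Fin.prod_univ_four] at hc
  norm_num at hc
  exact not_card h e 5 13 (by omega)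

theorem not_l52 (h : K3N (Nat.card G)) (hF : Fintype.card F = 2) :
    ¬ Nonempty (G ≃* ProjectiveSpecialLinearGroup (Fin 5) F) := fun e => by
  have hc := Cfsg.Agent.S0243.result hF 5 (by norm_num)
  simp only [Fin.prod_univ_five] at hc
  norm_num at hc
  exact not_card h e 5 7 (by omega)

theorem not_l62 (h : K3N (Nat.card G)) (hF : Fintype.card F = 2) :
    ¬ Nonempty (G ≃* ProjectiveSpecialLinearGroup (Fin 6) F) := fun e => by
  have hc := Cfsg.Agent.S0243.result hF 6 (by norm_num)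
  simp only [Fin.prod_univ_six] at hc
  norm_num at hc
  exact not_card h e 5 7 (by omega)

theorem not_u43 (h : K3N (Nat.card G)) (hF : Fintype.card F = 9) :
    ¬ Nonempty (G ≃* PSU 4 F 3) := fun e => by
  have hc := Cfsg.Agent.S0280.result (q := 3) hF 4 (by norm_num)
  simp +decide only [Finset.prod_range_succ, Finset.prod_range_zero, if_true, if_false] at hc
  norm_num at hc
  exact not_card h e 5 7 (by omega)

theorem not_u52 (h : K3N (Nat.card G)) (hF : Fintype.card F = 4) :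
    ¬ Nonempty (G ≃* PSU 5 F 2) := fun e => by
  have hc := Cfsg.Agent.S0280.result (q := 2) hF 5 (by norm_num)
  simp +decide only [Finset.prod_range_succ, Finset.prod_range_zero, if_true, if_false] at hc
  norm_num at hc
  exact not_card h e 5 11 (by omega)

theorem not_u62 (h : K3N (Nat.card G)) (hF : Fintype.card F = 4) :
    ¬ Nonempty (G ≃* PSU 6 F 2) := fun e => by
  have hc := Cfsg.Agent.S0280.result (q := 2) hF 6 (by norm_num)
  simp +decide only [Finset.prod_range_succ, Finset.prod_range_zero, if_true, if_false] at hc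
  norm_num at hc
  exact not_card h e 5 7 (by omega)

theorem not_g23 (h : K3N (Nat.card G)) (hF : Fintype.card F = 3) :
    ¬ Nonempty (G ≃* ↥(Cfsg.Lie.chevG2.group F)) := fun e =>
  not_card h e 7 13 (by rw [Cfsg.Agent.S1059.result hF]; norm_num)

theorem not_o8p (h : K3N (Nat.card G)) (hF : Fintype.card F = 2 ∨ Fintype.card F = 3) :
    ¬ Nonempty (G ≃* POmega F (quadFormPlus 4 F)) := fun e => by
  rcases hF with hF | hF
  all_goals
    have hc := Cfsg.Agent.S0293.result hF 4 le_rfl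
    simp only [Finset.prod_range_succ, Finset.prod_range_zero] at hc
    norm_num [Finset.prod_range_succ] at hc
    exact not_card h e 5 7 (by omega)

theorem not_o8m (h : K3N (Nat.card G)) (hF : Fintype.card F = 2) (a b : F)
    (hab : ∀ z₁ z₂ : F, z₁ ^ 2 + a * z₁ * z₂ + b * z₂ ^ 2 = 0 → z₁ = 0 ∧ z₂ = 0) :
    ¬ Nonempty (G ≃* POmega F (quadFormMinus 3 F a b)) := fun e => by
  have hc : Nat.gcd 4 (2 ^ 4 + 1) * Nat.card (POmega F (quadFormMinus 3 F a b)) = _ :=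
    Cfsg.Agent.S0294.result hF 4 le_rfl a b hab
  generalize hN : Nat.card (POmega F (quadFormMinus 3 F a b)) = N at hc
  norm_num [Finset.prod_range_succ] at hc
  exact not_card h e 5 7 (by omega)

end H8.K3
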