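import Mathlib

/-! Quadratic modules for `SL₂(F)` are direct sums of natural modules. -/

set_option autoImplicit false

namespace H8.QN

open Matrix
open scoped MatrixGroups

universe u

variable {F : Type} [Field F]

/-- upper transvection -/
def xx (a : F) : SL(2, F) := ⟨!![1, a; 0, 1], by simp [det_fin_two]⟩
/-- lower transvection -/
def yy (a : F) : SL(2, F) := ⟨!![1, 0; a, 1], by simp [det_fin_two]⟩
/-- monomial element -/
def ww (a : F) : SL(2, F) := xx a * yy (-a⁻¹) * xx a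

theorem sl_ext {g h : SL(2, F)} (h0 : g 0 0 = h 0 0) (h1 : g 0 1 = h 0 1) (h2 : g 1 0 = h 1 0)
    (h3 : g 1 1 = h 1 1) : g = h := by
  ext i j; fin_cases i <;> fin_cases j <;> assumption

theorem mul_app (g h : SL(2, F)) (i j : Fin 2) : (g * h) i j = g i 0 * h 0 j + g i 1 * h 1 j := by
  simp [Matrix.mul_apply, Fin.sum_univ_two]

theorem xx_add (a b : F) : xx (a + b) = xx a * xx b := by
  apply sl_ext <;> simp only [mul_app] <;> simp [xx, add_comm]

theorem yy_add (a b : F) : yy (a + b) = yy a * yy b := by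
  apply sl_ext <;> simp only [mul_app] <;> simp [yy]

theorem xx_zero : xx (0 : F) = 1 := by apply sl_ext <;> simp [xx]
theorem yy_zero : yy (0 : F) = 1 := by apply sl_ext <;> simp [yy]

theorem xx_pow (a : F) (n : ℕ) : xx a ^ n = xx (n * a) := by
  induction n with
  | zero => simp [xx_zero]
  | succ n ih => rw [pow_succ, ih, ← xx_add]; congr 1; push_cast; ring

theorem yy_pow (a : F) (n : ℕ) : yy a ^ n = yy (n * a) := by
  induction n with
  | zero => simp [yy_zero]
  | succ n ih => rw [pow_succ, ih, ← yy_add]; congr 1; push_cast; ring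

theorem ww_app {a : F} (ha : a ≠ 0) : ww a 0 0 = 0 ∧ ww a 0 1 = a ∧ ww a 1 0 = -a⁻¹ ∧ ww a 1 1 = 0 := by
  refine ⟨?_, ?_, ?_, ?_⟩ <;> simp only [ww, mul_app] <;> simp [xx, yy, ha]

theorem ww_eq {a : F} (ha : a ≠ 0) : ww a = yy (-a⁻¹) * xx a * yy (-a⁻¹) := by
  obtain ⟨h0, h1, h2, h3⟩ := ww_app ha
  apply sl_ext <;> simp only [h0, h1, h2, h3, mul_app] <;> simp [xx, yy, ha]

theorem ww_sq {a : F} (ha : a ≠ 0) : ww a * ww a = -1 := by
  obtain ⟨h0, h1, h2, h3⟩ := ww_app ha
  apply sl_ext <;> simp [h0, h1, h2, h3, mul_app, ha]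

theorem ww_mul {a b : F} (ha : a ≠ 0) (hb : b ≠ 0) : ww a * ww (-1) * ww b = ww (a * b) := by
  obtain ⟨h0, h1, h2, h3⟩ := ww_app ha
  obtain ⟨k0, k1, k2, k3⟩ := ww_app hb
  obtain ⟨l0, l1, l2, l3⟩ := ww_app (mul_ne_zero ha hb)
  obtain ⟨m0, m1, m2, m3⟩ := ww_app (neg_ne_zero.2 (one_ne_zero (α := F)))
  apply sl_ext <;> simp only [mul_app, *] <;> field_simp <;> ring

theorem ww_yy (a : F) : ww 1 * yy a = xx (-a) * ww 1 := by
  obtain ⟨h0, h1, h2, h3⟩ := ww_app (one_ne_zero (α := F))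
  apply sl_ext <;> simp only [mul_app, *] <;> simp [xx, yy]

theorem gen {P : SL(2, F) → Prop} (hm : ∀ g h, P g → P h → P (g * h)) (hx : ∀ a, P (xx a))
    (hy : ∀ a, P (yy a)) (g : SL(2, F)) : P g := by
  have key : ∀ g : SL(2, F), g 1 0 ≠ 0 → P g := fun g h => by
    have hd : g 0 0 * g 1 1 - g 0 1 * g 1 0 = 1 := by rw [← det_fin_two]; exact g.2
    have : g = xx ((g 0 0 - 1) / g 1 0) * yy (g 1 0) * xx ((g 1 1 - 1) / g 1 0) := by
      apply sl_ext <;> simp only [mul_app] <;> simp [xx, yy] <;> field_simp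
      · ring
      · linear_combination -hd
      · ring
    rw [this]
    exact hm _ _ (hm _ _ (hx _) (hy _)) (hx _)
  by_cases h : g 1 0 = 0
  · have hd : g 0 0 * g 1 1 - g 0 1 * g 1 0 = 1 := by rw [← det_fin_two]; exact g.2
    have : g = yy (-1) * (yy 1 * g) := by rw [← mul_assoc, ← yy_add, neg_add_cancel, yy_zero, one_mul]
    rw [this]
    refine hm _ _ (hy _) (key _ fun e => ?_)
    rw [mul_app] at e
    simp [yy, h] at e
    simp [e, h] at hd
  · exact key g h

section Ring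

variable {R : Type u} [Ring R]

theorem braid (h2 : ∀ r : R, r + r = 0 → r = 0) {A B : R} (hA : A * A = 0) (hB : B * B = 0)
    (h : (1 + A) * (1 + B) * (1 + A) = (1 + B) * (1 + A) * (1 + B))
    (hs : (1 + A) * (1 + B) * (1 + A) * ((1 + A) * (1 + B) * (1 + A)) = -1) :
    A * B + B * A = -1 ∧ (1 + A) * (1 + B) * (1 + A) = A + B := by
  have fix : ∀ C : R, A * C = 0 → B * C = 0 → C = 0 := fun C h1 h3 => by
    have e : (1 + A) * (1 + B) * (1 + A) * C = C := by
      rw [mul_assoc, add_mul 1 A C, h1, one_mul, add_zero, mul_assoc, add_mul 1 B, h3, one_mul,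
        add_zero, add_mul, h1, one_mul, add_zero]
    have : _ * C = -1 * C := congrArg (· * C) hs
    rw [mul_assoc, e, e, neg_one_mul] at this
    exact h2 C (eq_neg_iff_add_eq_zero.1 this)
  have e1 : A + A * B * A = B + B * A * B := by
    have : (1 + A) * (1 + B) * (1 + A) - (1 + B) * (1 + A) * (1 + B) =
        A + A * B * A - (B + B * A * B) + A * A - B * B := by noncomm_ring
    rw [h, sub_self, hA, hB, add_zero, sub_zero] at this
    exact sub_eq_zero.1 this.symm
  have e2 : A + A * B * A = 0 := fix _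
    (by rw [mul_add, ← mul_assoc, ← mul_assoc, hA, zero_mul, zero_mul, add_zero])
    (by rw [e1, mul_add, ← mul_assoc, ← mul_assoc, hB, zero_mul, zero_mul, add_zero])
  have e3 : 1 + A * B + B * A = 0 := fix _
    (by rw [mul_add, mul_add, ← mul_assoc, hA, zero_mul, add_zero, mul_one, ← mul_assoc, e2])
    (by rw [mul_add, mul_add, ← mul_assoc, ← mul_assoc, hB, zero_mul, add_zero, mul_one, ← e1, e2])
  refine ⟨eq_neg_of_add_eq_zero_right (by rw [← add_assoc, e3]), ?_⟩
  have : (1 + A) * (1 + B) * (1 + A) =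
      A + B + (1 + A * B + B * A) + (A + A * B * A) + A * A := by noncomm_ring
  rw [this, e2, e3, hA, add_zero, add_zero, add_zero]

theorem quad_add (h2 : ∀ r : R, r + r = 0 → r = 0) {α : F → R} (hq : ∀ a, α a * α a = 0)
    (h : ∀ a b, 1 + α (a + b) = (1 + α a) * (1 + α b)) (a b : F) :
    α a * α b = 0 ∧ α (a + b) = α a + α b := by
  have e : ∀ a b, α (a + b) = α a + α b + α a * α b := fun a b => by
    have := h a b
    rw [show (1 + α a) * (1 + α b) = 1 + (α a + α b + α a * α b) by noncomm_ring] at this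
    exact add_left_cancel this
  have c : α b * α a = α a * α b := by
    have := (e a b).symm.trans ((congrArg α (add_comm a b)).trans (e b a))
    rw [add_comm (α b)] at this
    exact (add_left_cancel this).symm
  have e1 : α a * α b = 0 := by
    have := hq (a + b)
    rw [e, show (α a + α b + α a * α b) * (α a + α b + α a * α b) = α a * α a + α b * α b +
      (α a * α b + α b * α a) + α a * α a * α b + α a * (α b * α b) +
      α a * (α b * α a) * (1 + α b) + α b * α a * α b by noncomm_ring, c, hq, hq, ← mul_assoc, hq,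
      mul_assoc (α a) (α b), hq] at this
    exact h2 _ (by simpa using this)
  exact ⟨e1, by rw [e, e1, add_zero]⟩

/-- the relations satisfied by a quadratic representation -/
structure Rel (α β : F → R) : Prop where
  αα : ∀ a b, α a * α b = 0
  ββ : ∀ a b, β a * β b = 0
  α_add : ∀ a b, α (a + b) = α a + α b
  one : α 1 * β 1 + β 1 * α 1 = 1
  mul : ∀ a b, α a * β 1 * α b * β 1 = α (a * b) * β 1
  sw : ∀ a, α 1 * β a = α a * β 1

theorem rel (h2 : ∀ r : R, r + r = 0 → r = 0) (ρ : SL(2, F) →* R) (hn : ρ (-1) = -1)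
    (hx : ∀ a, (ρ (xx a) - 1) * (ρ (xx a) - 1) = 0) (hy : ∀ a, (ρ (yy a) - 1) * (ρ (yy a) - 1) = 0) :
    Rel (fun a => ρ (xx a) - 1) (fun a => ρ (yy a) - 1) := by
  obtain ⟨α, hα⟩ : ∃ α : F → R, α = fun a => ρ (xx a) - 1 := ⟨_, rfl⟩
  obtain ⟨β, hβ⟩ : ∃ β : F → R, β = fun a => ρ (yy a) - 1 := ⟨_, rfl⟩
  rw [← hα, ← hβ]
  have ex : ∀ a, ρ (xx a) = 1 + α a := fun a => by simp [hα]
  have ey : ∀ a, ρ (yy a) = 1 + β a := fun a => by simp [hβ]
  have h1 := quad_add h2 (α := α) (by simpa only [hα] using hx) fun a b => by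
    rw [← ex, ← ex, ← ex, xx_add, map_mul]
  have h3 := quad_add h2 (α := β) (by simpa only [hβ] using hy) fun a b => by
    rw [← ey, ← ey, ← ey, yy_add, map_mul]
  have α0 : α 0 = 0 := by simp [hα, xx_zero]
  have β0 : β 0 = 0 := by simp [hβ, yy_zero]
  have αn : ∀ a, α (-a) = -α a := fun a =>
    eq_neg_of_add_eq_zero_left (by rw [← (h1 _ _).2, neg_add_cancel, α0])
  have βn : ∀ a, β (-a) = -β a := fun a =>
    eq_neg_of_add_eq_zero_left (by rw [← (h3 _ _).2, neg_add_cancel, β0])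
  have hw : ∀ a, a ≠ 0 → α a * β (-a⁻¹) + β (-a⁻¹) * α a = -1 ∧ ρ (ww a) = α a + β (-a⁻¹) := by
    intro a ha
    have e : ρ (ww a) = (1 + α a) * (1 + β (-a⁻¹)) * (1 + α a) := by
      rw [ww, map_mul, map_mul, ex, ey]
    rw [e]
    refine braid h2 (h1 _ _).1 (h3 _ _).1 ?_ (by rw [← e, ← map_mul, ww_sq ha, hn])
    rw [← e, ww_eq ha, map_mul, map_mul, ex, ey]
  have w1 := hw 1 one_ne_zero
  rw [inv_one, βn] at w1
  refine ⟨fun a b => (h1 a b).1, fun a b => (h3 a b).1, fun a b => (h1 a b).2, ?_, fun a b => ?_,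
    fun a => ?_⟩
  · have := w1.1
    rw [mul_neg, neg_mul, ← neg_add, neg_inj] at this
    exact this
  · by_cases ha : a = 0
    · simp [ha, α0]
    by_cases hb : b = 0
    · simp [hb, α0]
    have e := congrArg (fun g => ρ g * β 1) (ww_mul ha hb)
    simp only [map_mul] at e
    rw [(hw a ha).2, (hw b hb).2, (hw _ (mul_ne_zero ha hb)).2,
      (hw _ (neg_ne_zero.2 one_ne_zero)).2, inv_neg, inv_one, neg_neg, add_mul _ _ (β 1),
      (h3 _ _).1, add_zero, mul_assoc, add_mul _ _ (β 1), (h3 _ _).1, add_zero, mul_assoc,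
      add_mul (α (-1)), ← mul_assoc (α (-1)), (h1 _ _).1, zero_mul, zero_add, add_mul,
      ← mul_assoc (β _) (β 1), (h3 _ _).1, zero_mul, add_zero] at e
    rw [← e, mul_assoc, mul_assoc]
  · have e := congrArg ρ (ww_yy a)
    rw [map_mul, map_mul, w1.2, ex, ey, αn, mul_add, mul_one, add_mul 1, one_mul, add_right_inj,
      add_mul, neg_mul, (h3 _ _).1, neg_zero, add_zero, neg_mul, mul_add, (h1 _ _).1, zero_add,
      mul_neg, neg_neg] at e
    exact e

end Ring

variable {V : Type u} [AddCommGroup V]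

theorem natural (h2 : ∀ v : V, v + v = 0 → v = 0) (ρ : SL(2, F) →* Module.End ℤ V)
    (hn : ρ (-1) = -1) (hx : ∀ a, (ρ (xx a) - 1) * (ρ (xx a) - 1) = 0)
    (hy : ∀ a, (ρ (yy a) - 1) * (ρ (yy a) - 1) = 0) :
    ∃ (W : Type u) (_ : AddCommGroup W) (_ : Module F W) (φ : V →+ (Fin 2 → W)),
      Function.Bijective φ ∧ ∀ g v k, φ (ρ g v) k = ∑ l, g k l • φ v l := by
  have h := rel (fun r hr => LinearMap.ext fun v => h2 _ (congrArg (· v) hr)) ρ hn hx hy
  obtain ⟨α, hα⟩ : ∃ α : F → Module.End ℤ V, α = fun a => ρ (xx a) - 1 := ⟨_, rfl⟩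
  obtain ⟨β, hβ⟩ : ∃ β : F → Module.End ℤ V, β = fun a => ρ (yy a) - 1 := ⟨_, rfl⟩
  rw [← hα, ← hβ] at h
  have ex : ∀ a v, ρ (xx a) v = v + α a v := fun a v => by simp [hα]
  have ey : ∀ a v, ρ (yy a) v = v + β a v := fun a v => by simp [hβ]
  have αα : ∀ a b v, α a (α b v) = 0 := fun a b v => congrArg (· v) (h.αα a b)
  have ββ : ∀ a b v, β a (β b v) = 0 := fun a b v => congrArg (· v) (h.ββ a b)
  have one : ∀ v, α 1 (β 1 v) + β 1 (α 1 v) = v := fun v => congrArg (· v) h.one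
  have mul : ∀ a b v, α a (β 1 (α b (β 1 v))) = α (a * b) (β 1 v) :=
    fun a b v => congrArg (· v) (h.mul a b)
  have sw : ∀ a v, α 1 (β a v) = α a (β 1 v) := fun a v => congrArg (· v) (h.sw a)
  have α0 : α 0 = 0 := by simp [hα, xx_zero]
  let W := LinearMap.ker (α 1)
  have one' : ∀ v, α 1 v = 0 → α 1 (β 1 v) = v := fun v hv => by
    have := one v
    rwa [hv, map_zero, add_zero] at this
  letI : SMul F W := ⟨fun a w => ⟨α a (β 1 w), αα _ _ _⟩⟩
  have sm : ∀ (a : F) (w : W), ((a • w : W) : V) = α a (β 1 w) := fun _ _ => rfl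
  letI : Module F W := Module.ofMinimalAxioms
    (fun a v w => Subtype.ext (by simp [sm]))
    (fun a b w => Subtype.ext (by simp [sm, h.α_add]))
    (fun a b w => Subtype.ext (by simp [sm, mul]))
    (fun w => Subtype.ext (one' _ w.2))
  let φ : V →+ (Fin 2 → W) :=
    { toFun := fun v => ![⟨α 1 (β 1 v), αα _ _ _⟩, ⟨α 1 v, αα _ _ _⟩]
      map_zero' := by ext k; fin_cases k <;> simp
      map_add' := fun v w => by ext k; fin_cases k <;> simp }
  have φ0 : ∀ v, (φ v 0 : V) = α 1 (β 1 v) := fun _ => rfl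
  have φ1 : ∀ v, (φ v 1 : V) = α 1 v := fun _ => rfl
  refine ⟨W, inferInstance, inferInstance, φ, ⟨(injective_iff_map_eq_zero φ).2 fun v hv => ?_,
    fun u => ⟨u 0 + β 1 (u 1), ?_⟩⟩, gen (P := fun g => ∀ v k, φ (ρ g v) k = ∑ l, g k l • φ v l)
      (fun g g' h1 h3 v k => ?_) (fun a v k => ?_) fun a v k => ?_⟩
  · rw [← one v, ← φ0, ← φ1, hv]; simp
  · ext k
    fin_cases k
    · show (φ _ 0 : V) = u 0
      rw [φ0, map_add, ββ, add_zero, one' _ (u 0).2]
    · show (φ _ 1 : V) = u 1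
      rw [φ1, map_add, (u 0).2, zero_add, one' _ (u 1).2]
  · rw [map_mul, Module.End.mul_apply, h1]
    simp only [h3, Fin.sum_univ_two, mul_app, smul_add, add_smul, mul_smul]
    abel
  · rw [Fin.sum_univ_two, ex]
    refine Subtype.ext ?_
    fin_cases k
    · show (φ _ 0 : V) = ((1 : F) • φ v 0 : W) + (a • φ v 1 : W)
      rw [one_smul, sm, φ0, φ0, φ1, map_add, map_add, one' _ (αα _ _ _)]
      conv_lhs => rw [← one v, map_add (α a), αα, zero_add, one]
    · show (φ _ 1 : V) = ((0 : F) • φ v 0 : W) + ((1 : F) • φ v 1 : W)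
      rw [one_smul, zero_smul, φ1, φ1, map_add, αα]; simp
  · rw [Fin.sum_univ_two, ey]
    refine Subtype.ext ?_
    fin_cases k
    · show (φ _ 0 : V) = ((1 : F) • φ v 0 : W) + ((0 : F) • φ v 1 : W)
      rw [one_smul, zero_smul, φ0, φ0, map_add, ββ]; simp
    · show (φ _ 1 : V) = (a • φ v 0 : W) + ((1 : F) • φ v 1 : W)
      rw [one_smul, sm, φ0, φ1, φ1, map_add, sw, mul, mul_one, add_comm]

end H8.QN
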