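import Mathlib
import Cfsg.Agent.H8.QN1
import Cfsg.Agent.H7.SL
import Cfsg.Agent.H4.Misc

/-! Degrees of characters of `SL₂(F)` vanishing on elements of even order. -/

set_option autoImplicit false
set_option linter.unusedSectionVars false

namespace H8.QP

open Cfsg H4 H8.QN Finset Matrix
open scoped MatrixGroups ComplexConjugate

variable {F : Type} [Field F]

theorem det_eq (g : SL(2, F)) : g 0 0 * g 1 1 - g 0 1 * g 1 0 = 1 := by
  have := g.det_coe; rwa [det_fin_two] at this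

theorem inv_app (g : SL(2, F)) :
    g⁻¹ 0 0 = g 1 1 ∧ g⁻¹ 0 1 = -g 0 1 ∧ g⁻¹ 1 0 = -g 1 0 ∧ g⁻¹ 1 1 = g 0 0 := by
  rw [SpecialLinearGroup.SL2_inv_expl]; simp

theorem xx_app (a : F) : xx a 0 0 = 1 ∧ xx a 0 1 = a ∧ xx a 1 0 = 0 ∧ xx a 1 1 = 1 := by simp [xx]

theorem neg_app (g : SL(2, F)) (i j : Fin 2) : (-g) i j = -g i j := by simp

theorem xx_inv (a : F) : (xx a)⁻¹ = xx (-a) := by
  rw [inv_eq_iff_mul_eq_one, ← xx_add, add_neg_cancel, xx_zero]

/-- diagonal matrices -/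
def h₀ (u : Fˣ) : SL(2, F) := ⟨!![(u : F), 0; 0, (u : F)⁻¹], by simp [det_fin_two]⟩

/-- the diagonal torus -/
def hh : Fˣ →* SL(2, F) where
  toFun := h₀
  map_one' := by apply sl_ext <;> simp [h₀]
  map_mul' u v := by apply sl_ext <;> simp only [mul_app] <;> simp [h₀, mul_comm]

theorem hh_app (u : Fˣ) : hh u 0 0 = u ∧ hh u 0 1 = 0 ∧ hh u 1 0 = 0 ∧ hh u 1 1 = (u : F)⁻¹ := by
  change h₀ u 0 0 = u ∧ h₀ u 0 1 = 0 ∧ h₀ u 1 0 = 0 ∧ h₀ u 1 1 = (u : F)⁻¹
  simp [h₀]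

/-- the root group -/
def xH : Multiplicative F →* SL(2, F) where
  toFun a := xx a.toAdd
  map_one' := xx_zero
  map_mul' _ _ := xx_add _ _

/-- the Borel subgroup -/
def BB (F : Type) [Field F] : Subgroup SL(2, F) where
  carrier := {g | g 1 0 = 0}
  mul_mem' {g h} hg hh := by
    simp only [Set.mem_setOf_eq] at *; rw [mul_app, hg, hh]; simp
  one_mem' := by simp
  inv_mem' {g} hg := by simp only [Set.mem_setOf_eq] at *; rw [(inv_app g).2.2.1, hg, neg_zero]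

theorem mem_BB {g : SL(2, F)} : g ∈ BB F ↔ g 1 0 = 0 := Iff.rfl

/-- coordinates on the Borel subgroup -/
def bb (p : Fˣ × F) : BB F := ⟨hh p.1 * xx p.2, by
  rw [mem_BB, mul_app]; simp [hh_app, xx_app]⟩

theorem bb_bij : Function.Bijective (bb (F := F)) := by
  constructor
  · rintro ⟨u, a⟩ ⟨v, b⟩ e
    have e' : hh u * xx a = hh v * xx b := congrArg Subtype.val e
    have h0 := congrArg (fun g : SL(2, F) => g 0 0) e'
    have h1 := congrArg (fun g : SL(2, F) => g 0 1) e'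
    simp only [mul_app, hh_app, xx_app, mul_one, mul_zero, add_zero, zero_mul] at h0 h1
    obtain rfl : u = v := Units.ext h0
    exact Prod.ext rfl (mul_left_cancel₀ u.ne_zero h1)
  · rintro ⟨g, hg⟩
    have hd := det_eq g
    rw [mem_BB.1 hg, mul_zero, sub_zero] at hd
    have h0 : g 0 0 ≠ 0 := left_ne_zero_of_mul_eq_one hd
    refine ⟨(Units.mk0 _ h0, g 0 1 / g 0 0), Subtype.ext ?_⟩
    apply sl_ext <;> simp only [bb, mul_app, hh_app, xx_app, Units.val_mk0]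
    · simp
    · field_simp; simp
    · simp [mem_BB.1 hg]
    · simp [eq_inv_of_mul_eq_one_right hd]

theorem conj_of_tr {A B : SL(2, F)} (hc : A 1 0 ≠ 0) (h1 : A 1 0 = B 1 0)
    (h2 : A 0 0 + A 1 1 = B 0 0 + B 1 1) : ∃ x : SL(2, F), x * A * x⁻¹ = B := by
  obtain ⟨u, hu⟩ : ∃ u, u * A 1 0 = B 0 0 - A 0 0 := ⟨_, div_mul_cancel₀ _ hc⟩
  refine ⟨xx u, ?_⟩
  have dA := det_eq A
  have dB := det_eq B
  rw [xx_inv]
  apply sl_ext <;> simp only [mul_app, xx_app]
  · linear_combination hu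
  · apply mul_right_cancel₀ hc
    linear_combination -dA + dB - B 0 1 * h1 + (A 1 1 - A 0 0 - u * A 1 0 - (B 0 0 - A 0 0)) * hu +
      B 0 0 * h2
  · linear_combination h1
  · linear_combination h2 - hu

theorem conj_xx_app (g : SL(2, F)) (a : F) : (g * xx a * g⁻¹) 0 0 = 1 - g 1 0 * g 0 0 * a ∧
    (g * xx a * g⁻¹) 1 0 = -(g 1 0 ^ 2 * a) ∧ (g * xx a * g⁻¹) 1 1 = 1 + g 1 0 * g 0 0 * a := by
  have d := det_eq g
  refine ⟨?_, ?_, ?_⟩ <;> simp only [mul_app, xx_app, inv_app]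
  · linear_combination d
  · ring
  · linear_combination d

theorem conj_xx_BB {g : SL(2, F)} (hg : g 1 0 = 0) (a : F) : ∃ b, g * xx a * g⁻¹ = xx b := by
  obtain ⟨h0, h1, h2⟩ := conj_xx_app g a
  refine ⟨(g * xx a * g⁻¹) 0 1, ?_⟩
  apply sl_ext <;> simp only [h0, h1, h2, xx_app, hg] <;> simp

theorem even_neg_xx (h2 : (2 : F) ≠ 0) (a : F) : ¬ Odd (orderOf (-xx a)) := fun h => by
  have e := pow_orderOf_eq_one (-xx a)
  rw [h.neg_pow, xx_pow] at e
  have := congrArg (fun g : SL(2, F) => g 0 0) e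
  simp only [neg_app, xx_app] at this
  exact h2 (by simp at this; linear_combination -this)

variable [Fintype F] [DecidableEq F]

theorem sum_BB [Fintype (BB F)] (f : SL(2, F) → ℂ) :
    ∑ b : BB F, f b = ∑ u : Fˣ, ∑ a : F, f (hh u * xx a) := by
  rw [← bb_bij.sum_comp fun b : BB F => f b, Fintype.sum_prod_type]; rfl

theorem card_BB : Nat.card (BB F) = (Fintype.card F - 1) * Fintype.card F := by
  rw [← Nat.card_congr (Equiv.ofBijective _ (bb_bij (F := F))), Nat.card_prod, Nat.card_units,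
    Nat.card_eq_fintype_card]

theorem card_G : Nat.card SL(2, F) = (Fintype.card F + 1) * Nat.card (BB F) := by
  rw [H7.card_sl_two rfl, card_BB]
  obtain ⟨r, hr⟩ : ∃ r, Fintype.card F = r + 1 := ⟨Fintype.card F - 1, by
    have := Fintype.card_pos (α := F); omega⟩
  rw [hr, Nat.add_sub_cancel, show (r + 1) ^ 2 - 1 = (r + 1 + 1) * r from
    Nat.sub_eq_of_eq_add (by ring)]
  ring

theorem inner_B {ψ : SL(2, F) → ℂ} {g : SL(2, F)} (hg : g 1 0 = 0) :
    ∑ a, ∑ z, ψ (g * xx a * g⁻¹ * xx z) = Fintype.card F * ∑ z, ψ (xx z) := by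
  rw [← nsmul_eq_mul, ← card_univ, ← sum_const]
  refine sum_congr rfl fun a _ => ?_
  obtain ⟨b, hb⟩ := conj_xx_BB hg a
  simp only [hb, ← xx_add]
  exact Equiv.sum_comp (Equiv.addLeft b) fun z => ψ (xx z)

theorem inner_nB {ψ : SL(2, F) → ℂ} (hc : IsClassFunction SL(2, F) ψ) (ho : ∀ g, ψ (-g) = -ψ g)
    {g : SL(2, F)} (hg : g 1 0 ≠ 0) : ∑ a, ∑ z, ψ (g * xx a * g⁻¹ * xx z) = ∑ z, ψ (xx z) := by
  set R : F → ℂ := fun a => ∑ z, ψ (g * xx a * g⁻¹ * xx z) with hR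
  have h1 : ∀ a, a ≠ 0 → R a + R (-a) = 0 := fun a ha => by
    have hca : g 1 0 ^ 2 * a ≠ 0 := mul_ne_zero (pow_ne_zero _ hg) ha
    obtain ⟨k, hk⟩ : ∃ k, g 1 0 ^ 2 * a * k = 4 := ⟨_, mul_div_cancel₀ _ hca⟩
    simp only [hR]
    rw [← Equiv.sum_comp (Equiv.subRight k) fun z => ψ (g * xx (-a) * g⁻¹ * xx z), ← sum_add_distrib]
    refine sum_eq_zero fun z _ => ?_
    obtain ⟨a0, a1, a2⟩ := conj_xx_app g a
    obtain ⟨b0, b1, b2⟩ := conj_xx_app g (-a)
    obtain ⟨x, hx⟩ := conj_of_tr (A := -(g * xx a * g⁻¹ * xx z)) (B := g * xx (-a) * g⁻¹ * xx (z - k))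
      (by rw [neg_app, mul_app _ (xx z), a1, a2]; simpa [xx_app] using hca)
      (by rw [neg_app, mul_app _ (xx z), mul_app _ (xx _), a1, a2, b1, b2]; simp [xx_app])
      (by
        simp only [neg_app, mul_app _ (xx z), mul_app _ (xx (z - k)), a0, a1, a2, b0, b1, b2, xx_app]
        linear_combination hk)
    rw [Equiv.subRight_apply, ← hx, hc.apply_of_isConj (g := x * _ * x⁻¹) (isConj_iff.2 ⟨x, rfl⟩).symm,
      ho, add_neg_cancel]
  have h2 : ∑ a, (R a + R (-a)) = R 0 + R (-0) := sum_eq_single 0 (fun a _ => h1 a) (by simp)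
  rw [sum_add_distrib, show ∑ a, R (-a) = ∑ a, R a from Equiv.sum_comp (Equiv.neg F) R,
    neg_zero] at h2
  have h3 : R 0 = ∑ z, ψ (xx z) := by simp [hR, xx_zero]
  rw [← h3]; linear_combination h2 / 2

theorem key {ψ : SL(2, F) → ℂ} (h : IsIrrCharacter SL(2, F) ψ) (ho : ∀ g, ψ (-g) = -ψ g)
    (hM : ∑ z, ψ (xx z) ≠ 0) : (Fintype.card F + 1) * ∑ z, ψ (xx z) = 2 * Fintype.card F * ψ 1 := by
  classical
  set M := ∑ z, ψ (xx z)
  have h1 : ∑ g : SL(2, F), ∑ a, ∑ z, ψ (g * xx a * g⁻¹ * xx z) = Nat.card SL(2, F) * M * M / ψ 1 := by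
    rw [sum_comm]
    simp only [fun a => sum_comm (s := univ) (t := univ) (f := fun (g : SL(2, F)) z =>
      ψ (g * xx a * g⁻¹ * xx z)), h.sum_conj_mul, ← sum_div, ← mul_sum, ← sum_mul, M]
  have h2 : ∀ g : SL(2, F), ∑ a, ∑ z, ψ (g * xx a * g⁻¹ * xx z) =
      M + if g ∈ BB F then (Fintype.card F - 1) * M else 0 := fun g => by
    split_ifs with hg
    · rw [inner_B hg]; ring
    · rw [inner_nB h.classFun ho hg, add_zero]
  have h3 : (#{g : SL(2, F) | g ∈ BB F} : ℂ) = Nat.card (BB F) := by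
    rw [← Fintype.card_subtype, Nat.card_eq_fintype_card]
  simp only [h2, sum_add_distrib, sum_const, ← sum_filter, nsmul_eq_mul, h3, card_univ,
    ← Nat.card_eq_fintype_card (α := SL(2, F)), card_G] at h1
  have h4 := card_ne_zero (BB F)
  have h5 := h.apply_one_ne_zero
  field_simp at h1
  push_cast at h1
  apply mul_left_cancel₀ h4
  linear_combination -h1

theorem sign {ψ : SL(2, F) → ℂ} (h : IsIrrCharacter SL(2, F) ψ) :
    (∀ g, ψ (-g) = ψ g) ∨ ∀ g, ψ (-g) = -ψ g := by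
  have h1 : ∀ g, ψ (-g) = ψ (-1) / ψ 1 * ψ g := fun g => by
    have := h.sum_conj_mul (-1) g
    simp only [mul_neg, mul_one, neg_mul, mul_inv_cancel, one_mul, sum_const, card_univ, nsmul_eq_mul,
      ← Nat.card_eq_fintype_card] at this
    apply mul_left_cancel₀ (card_ne_zero SL(2, F))
    rw [this]; ring
  have h5 := h.apply_one_ne_zero
  have h2 : (ψ (-1) / ψ 1) ^ 2 = 1 := by
    have := h1 (-1)
    rw [neg_neg] at this
    field_simp at this ⊢
    linear_combination -this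
  rcases sq_eq_sq_iff_eq_or_eq_neg.1 (h2.trans (one_pow 2).symm) with e | e
  · exact Or.inl fun g => by rw [h1, e, one_mul]
  · exact Or.inr fun g => by rw [h1, e, neg_one_mul]

theorem ineq {θ : SL(2, F) → ℂ} (h : IsCharacter SL(2, F) θ) :
    ((Fintype.card F + 1) * ∑ a, (θ (xx a) - θ (-xx a))).re ≤
      (2 * Fintype.card F * (θ 1 - θ (-1))).re := by
  refine h.induction (P := fun θ => ((Fintype.card F + 1) * ∑ a, (θ (xx a) - θ (-xx a))).re ≤
      (2 * Fintype.card F * (θ 1 - θ (-1))).re) (by simp) (fun ψ hψ => ?_) fun φ ψ _ _ h1 h2 => ?_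
  · rcases sign hψ with e | e
    · simp [e]
    · simp only [e, sub_neg_eq_add, sum_add_distrib, mul_add]
      by_cases hM : ∑ z, ψ (xx z) = 0
      · have := hψ.isCharacter.apply_one_re_nonneg
        obtain ⟨n, -, hn⟩ := hψ.exists_nat_apply_one
        rw [hM, hn]; norm_cast; simp
      · rw [key hψ e hM]
  · have := add_le_add h1 h2
    rw [← Complex.add_re, ← Complex.add_re, ← mul_add, ← mul_add, ← sum_add_distrib] at this
    simpa only [Pi.add_apply, add_sub_add_comm] using this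

theorem hh_conj {u : Fˣ} (h1 : u ≠ 1) (h2 : u ≠ -1) (a : F) :
    ∃ x : SL(2, F), x * hh u * x⁻¹ = hh u * xx a := by
  have h0 := u.ne_zero
  have h3 : (u : F)⁻¹ - u ≠ 0 := fun e => by
    have : (u : F) ^ 2 = 1 ^ 2 := by field_simp at e; linear_combination -e
    rcases sq_eq_sq_iff_eq_or_eq_neg.1 this with e | e
    exacts [h1 (Units.ext e), h2 (Units.ext e)]
  obtain ⟨b, hb⟩ : ∃ b, b * ((u : F)⁻¹ - u) = u * a := ⟨_, div_mul_cancel₀ _ h3⟩
  refine ⟨xx b, ?_⟩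
  rw [xx_inv]
  apply sl_ext <;> simp only [mul_app, xx_app, hh_app]
  · ring
  · linear_combination hb
  · ring
  · ring

theorem hh_neg_one : hh (-1 : Fˣ) = -1 := by apply sl_ext <;> simp [hh_app]

theorem sum_nat {K : Type} [Group K] [Fintype K] {θ : K → ℂ} (h : IsCharacter K θ) :
    ∃ n : ℕ, ∑ k, θ k = Nat.card K * n := by
  obtain ⟨n, hn⟩ := h.inner_nat isCharacter_one
  exact ⟨n, by rw [← hn, card_mul_classInner]; simp⟩

theorem nums (h2 : (2 : F) ≠ 0) {θ : SL(2, F) → ℂ} (hθ : IsCharacter SL(2, F) θ)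
    (h0 : ∀ g, ¬ Odd (orderOf g) → θ g = 0) {d : ℕ} (hd : θ 1 = d) :
    ∃ (m : ℕ) (s : ℤ), (Fintype.card F + 1) * m ≤ 2 * d ∧ (d : ℤ) = m + (Fintype.card F - 1) * s := by
  classical
  have hq : (Fintype.card F : ℂ) ≠ 0 := by exact_mod_cast Fintype.card_ne_zero
  have hq1 : 1 ≤ Fintype.card F := Fintype.card_pos
  have hn : ∀ a : F, θ (-xx a) = 0 := fun a => h0 _ (even_neg_xx h2 a)
  have hn1 : θ (-1) = 0 := by rw [← xx_zero]; exact hn 0
  obtain ⟨m, hm⟩ := sum_nat (hθ.comp xH)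
  obtain ⟨t, ht⟩ := sum_nat (hθ.comp hh)
  obtain ⟨b, hb⟩ := sum_nat (hθ.restrict (BB F))
  have hm' : ∑ a, θ (xx a) = Fintype.card F * m := by
    rw [Nat.card_congr Multiplicative.toAdd, Nat.card_eq_fintype_card] at hm
    exact (Equiv.sum_comp Multiplicative.toAdd fun a => θ (xx a)).symm.trans hm
  refine ⟨m, t - b, ?_, ?_⟩
  · have := ineq hθ
    simp only [hn, hn1, sub_zero, hm', hd] at this
    norm_cast at this
    refine Nat.le_of_mul_le_mul_left (c := Fintype.card F) ?_ hq1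
    linarith
  · have h3 : ∀ u : Fˣ, ∑ a, θ (hh u * xx a) = Fintype.card F * θ (hh u) +
        if u = 1 then Fintype.card F * (m - d : ℂ) else 0 := fun u => by
      split_ifs with h1
      · simp only [h1, map_one, one_mul, hm', hd]; ring
      by_cases h3 : u = -1
      · simp [h3, hh_neg_one, hn, hn1]
      rw [add_zero, ← nsmul_eq_mul, ← card_univ, ← sum_const]
      refine sum_congr rfl fun a _ => ?_
      obtain ⟨x, hx⟩ := hh_conj h1 h3 a
      exact (hθ.classFun.apply_of_isConj (isConj_iff.2 ⟨x, hx⟩)).symm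
    rw [sum_BB, card_BB] at hb
    simp only [h3, sum_add_distrib, ← mul_sum, ht, sum_ite_eq', mem_univ, if_true,
      Nat.card_eq_fintype_card, Fintype.card_units] at hb
    push_cast [hq1] at hb
    have : (d : ℂ) = m + (Fintype.card F - 1) * (t - b) := by
      apply mul_left_cancel₀ hq; linear_combination -hb
    exact_mod_cast this

theorem two_pow_dvd {K : Type} [Group K] [Finite K] {θ : K → ℂ} (hθ : IsCharacter K θ)
    (h0 : ∀ g, ¬ Odd (orderOf g) → θ g = 0) {d : ℕ} (hd : θ 1 = d) {j : ℕ} (hj : 2 ^ j ∣ Nat.card K) :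
    2 ^ j ∣ d := by
  obtain ⟨P, hP⟩ := Sylow.exists_subgroup_card_pow_prime 2 hj
  obtain ⟨k, hk⟩ := hθ.exists_degree_eq_card_mul P fun g hg h1 => h0 g fun ho => h1 <| by
    have := P.orderOf_dvd_natCard hg
    rw [hP] at this
    exact orderOf_eq_one_iff.1 (Nat.eq_one_of_dvd_coprimes ((Nat.coprime_two_left.2 ho).pow_left j)
      this dvd_rfl)
  rw [hd, hP] at hk
  exact ⟨k, by exact_mod_cast hk⟩

theorem pdl (h2 : (2 : F) ≠ 0) (hq : 5 ≤ Fintype.card F) {n : ℕ}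
    (hn : n + 1 = Fintype.card F ∨ n = Fintype.card F + 1) (h4 : 4 ∣ n) {θ : SL(2, F) → ℂ}
    (hθ : IsCharacter SL(2, F) θ) (h0 : ∀ g, ¬ Odd (orderOf g) → θ g = 0) {d : ℕ} (hd : θ 1 = d) :
    d = 0 ∨ 2 * n ≤ d := by
  obtain ⟨m, s, h1, h3⟩ := nums h2 hθ h0 hd
  have h5 : ∀ k, 2 * 2 ^ k ∣ n * 2 → 2 * 2 ^ k ∣ d := fun k hk => by
    rw [← pow_succ'] at hk ⊢
    refine two_pow_dvd hθ h0 hd (hk.trans ?_)
    rw [card_G, card_BB, ← mul_assoc]
    refine Dvd.dvd.mul_right ?_ _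
    rcases hn with e | e
    · rw [mul_comm n]; exact mul_dvd_mul (by omega) (by rw [← e]; simp)
    · exact mul_dvd_mul (by rw [e]) (by omega)
  have h8 : 8 ∣ d := h5 2 (by omega)
  have h6 : d ≠ n := fun e => by
    obtain ⟨k, r, hr, e'⟩ := Nat.exists_eq_two_pow_mul_odd (n := n) (by omega)
    have := h5 k (by rw [e']; exact ⟨r, by ring⟩)
    rw [e, e', mul_comm 2] at this
    exact Nat.not_even_iff_odd.2 hr (even_iff_two_dvd.2 (Nat.dvd_of_mul_dvd_mul_left (by positivity) this))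
  generalize Fintype.card F = q at *
  have h1' : ((q : ℤ) + 1) * m ≤ 2 * d := by exact_mod_cast h1
  have hq' : (5 : ℤ) ≤ q := by exact_mod_cast hq
  have hm : (0 : ℤ) ≤ m := by positivity
  rcases le_or_gt s 0 with hs | hs
  · left
    have : (d : ℤ) ≤ m := by nlinarith
    have : (m : ℤ) ≤ 0 := by nlinarith
    omega
  right
  rcases le_or_gt 3 s with hs3 | hs3
  · have : 3 * ((q : ℤ) - 1) ≤ d := by nlinarith
    omega
  obtain rfl | rfl : s = 1 ∨ s = 2 := by omega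
  · have : (m : ℤ) ≤ 2 := by nlinarith
    omega
  · omega

end H8.QP
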