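import Mathlib
import Cfsg.Agent.H4.Misc
import Cfsg.Agent.H17.PermCh

/-! Restriction of a character to a commuting product and to an abelian subgroup. -/

set_option autoImplicit false

namespace H8.QP

open Cfsg H4 H17.PC Finset

variable {G : Type*} [Group G]

/-- the `l`-isotypic part with respect to `K`, as a character of `L` -/
theorem part {L K : Type*} [Group L] [Group K] [Finite L] [Fintype K] (α : L →* G) (β : K →* G)
    (hc : ∀ l k, Commute (α l) (β k)) {χ : G → ℂ} (hχ : IsCharacter G χ) {l : K → ℂ}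
    (hl : IsCharacter K l) : IsCharacter L fun x => classInner (fun k => χ (α x * β k)) l := by
  have := Fintype.ofFinite L
  refine (isClassFunction_of_isConj fun a b h => ?_).isCharacter_of_inner_nat fun ψ hψ => ?_
  · obtain ⟨x, rfl⟩ := isConj_iff.1 h
    congr 1; funext k
    refine hχ.classFun.apply_of_isConj (isConj_iff.2 ⟨α x, ?_⟩)
    rw [map_mul, map_mul, map_inv, mul_assoc _ (α x)⁻¹, (hc x k).inv_left.eq]; group
  · obtain ⟨n, hn⟩ := (hχ.comp (α.noncommCoprod β hc)).inner_nat (hψ.isCharacter.prod hl)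
    refine ⟨n, hn ▸ ?_⟩
    simp only [classInner_def, Fintype.sum_prod_type, MonoidHom.noncommCoprod_apply, map_mul,
      Nat.card_prod, Nat.cast_mul, mul_inv, mul_sum, sum_mul]
    exact sum_congr rfl fun _ _ => sum_congr rfl fun _ _ => by ring

theorem orbit_bound [Fintype G] {K : Subgroup G} [Fintype K] (hK : ∀ a b : K, a * b = b * a)
    {χ : G → ℂ} (hχ : IsCharacter G χ) {f : ℕ} (hf : χ 1 = f) (hk : ∃ k ∈ K, χ k ≠ χ 1) {y : G}
    (hy : y ∈ Subgroup.normalizer (K : Set G)) {m b : ℕ}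
    (ho : ∀ j, 0 < j → j < m → ∀ k ∈ K, y ^ j * k * (y ^ j)⁻¹ = k → k = 1)
    (hb : ∀ l : K → ℂ, IsIrrCharacter K l → l ≠ (fun _ => 1) → ∀ d : ℕ,
      classInner (fun k : K => χ k) l = d → d = 0 ∨ b ≤ d) : m * b ≤ f := by
  classical
  obtain ⟨n, h1, h2⟩ := exists_mult (hχ.restrict K)
  obtain ⟨l, hl, hn⟩ : ∃ l, l ≠ irrOne K ∧ n l ≠ 0 := by
    by_contra! h
    obtain ⟨k, hk, e⟩ := hk
    have : ∀ k : K, χ k = n (irrOne K) := fun k => by
      rw [h1, sum_eq_single (irrOne K) (fun l _ hl => by simp [h l hl]) (by simp)]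
      simp [irrOne_coe]
    exact e ((this ⟨k, hk⟩).trans (this 1).symm)
  obtain ⟨α, hα⟩ : ∃ α : MulAut K, ∀ (j : ℕ) (k : K), ((α ^ j) k : G) = y ^ j * k * (y ^ j)⁻¹ :=
    ⟨K.normalizerMonoidHom ⟨y, hy⟩, fun j k => by rw [← map_pow]; rfl⟩
  have h3 : ∀ j : ℕ, n (act K (α ^ j) l) = n l := fun j => by
    have := classInner_comp_equiv (α ^ j).toEquiv (fun k : K => χ k) l.1
    rw [h2] at this
    have e : (fun k : K => χ ((α ^ j).toEquiv k)) = fun k : K => χ k := funext fun k =>
      (hχ.classFun.apply_of_isConj (isConj_iff.2 ⟨y ^ j, (hα j k).symm⟩)).symm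
    rw [e] at this
    exact Nat.cast_injective (R := ℂ) ((h2 (act K (α ^ j) l)).symm.trans this)
  have h4 : ∀ i j, i < j → j < m → act K (α ^ i) l ≠ act K (α ^ j) l := fun i j hij hj e => by
    obtain ⟨r, rfl⟩ := Nat.exists_eq_add_of_le hij.le
    rw [pow_add, act_mul] at e
    exact hl (act_eq_one (eq_one_of_act hK (fun k hk => Subtype.ext
      (ho r (by omega) (by omega) k k.2 (by rw [← hα, hk]))) e.symm))
  have h5 : ∑ l, n l = f := by
    have := h1 1
    simp only [fun l : IrrCharacter K => l.2.apply_one_of_comm hK, mul_one, OneMemClass.coe_one,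
      hf] at this
    exact_mod_cast this.symm
  have h6 : b ≤ n l := (hb l.1 l.2 (fun e => hl (Subtype.ext e)) _ (h2 l)).resolve_left hn
  calc m * b ≤ ∑ j ∈ range m, n (act K (α ^ j) l) := by
        simp only [h3, sum_const, card_range, smul_eq_mul]; gcongr
    _ = ∑ l ∈ (range m).image fun j => act K (α ^ j) l, n l := by
        refine (sum_image fun i hi j hj e => ?_).symm
        rcases lt_trichotomy i j with h | h | h
        exacts [(h4 i j h (by simpa using hj) e).elim, h, (h4 j i h (by simpa using hi) e.symm).elim]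
    _ ≤ f := h5 ▸ sum_le_sum_of_subset (subset_univ _)

end H8.QP
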