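import Mathlib
import Cfsg.Agent.H15.Transv
import Cfsg.Agent.H28.XL

/-! Recognition of `Sp₆(2)` from its seven-dimensional module. -/

set_option autoImplicit false
set_option linter.unusedSectionVars false

namespace H8.XO

open H15 H28.XL Module Submodule

variable {N : Type*} [AddCommGroup N] [Module (ZMod 2) N] [Finite N]
  {ω : LinearMap.BilinForm (ZMod 2) N} {r : N}

theorem mk_eq {x y : N} : (span (ZMod 2) {r}).mkQ x = (span (ZMod 2) {r}).mkQ y ↔ x = y ∨ x = y + r := by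
  rw [mkQ_apply, mkQ_apply, Submodule.Quotient.eq, mem_sp, sub_eq_zero, sub_eq_iff_eq_add']

theorem exists_form (hA : ω.IsAlt) (hr : ∀ x, ω r x = 0) (rad : ∀ x, (∀ y, ω x y = 0) → x = 0 ∨ x = r) :
    ∃ Φ : Form (RingHom.id (ZMod 2)) (N ⧸ span (ZMod 2) {r}), Φ.IsAlt ∧ Φ.ε = -1 ∧ Φ.Nondeg ∧
      ∀ x y, Φ.B ((span (ZMod 2) {r}).mkQ x) ((span (ZMod 2) {r}).mkQ y) = ω x y := by
  have h1 : span (ZMod 2) {r} ≤ LinearMap.ker ω := by
    rw [span_singleton_le_iff_mem]; exact LinearMap.ext hr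
  have h2 : span (ZMod 2) {r} ≤ LinearMap.ker (LinearMap.flip ω) := by
    rw [span_singleton_le_iff_mem]; exact LinearMap.ext fun x => hA.isRefl _ _ (hr x)
  have h3 : LinearMap.IsAlt (LinearMap.liftQ₂ _ _ ω h1 h2) := fun x => by
    obtain ⟨x, rfl⟩ := mkQ_surjective _ x; exact hA x
  refine ⟨ofAlt _ h3, ofAlt_isAlt _ h3, rfl, fun x hx => ?_, fun _ _ => rfl⟩
  obtain ⟨x, rfl⟩ := mkQ_surjective _ x
  rw [← map_zero (mkQ _), mk_eq, zero_add]
  exact rad x fun y => hx (mkQ _ y)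

theorem eq_top (hA : ω.IsAlt) (hr : ∀ x, ω r x = 0) {Z : Submodule (ZMod 2) N} (hZ : r ∈ Z)
    (h : ∀ x, (∀ z ∈ Z, ω z x = 0) → x = 0 ∨ x = r) : Z = ⊤ := by
  obtain ⟨Φ, -, -, hn, hB⟩ := exists_form hA hr fun x hx => h x fun z _ => hA.isRefl _ _ (hx z)
  have h1 : Φ.perp (Z.map (mkQ _)) = ⊥ := eq_bot_iff.2 fun x hx => by
    obtain ⟨x, rfl⟩ := mkQ_surjective _ x
    rw [mem_bot, ← map_zero (mkQ _), mk_eq, zero_add]
    exact h x fun z hz => hB z x ▸ hx _ (mem_map_of_mem hz)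
  have h2 := hn.perp_perp (Z.map (mkQ _))
  rw [h1] at h2
  refine eq_top_iff.2 fun x _ => ?_
  obtain ⟨z, hz, e⟩ : mkQ _ x ∈ Z.map (mkQ (span (ZMod 2) {r})) := by
    rw [← h2]; intro y hy; simp [(mem_bot _).1 hy]
  rcases mk_eq.1 e.symm with rfl | rfl
  exacts [hz, add_mem hz hZ]

theorem recog {H : Type*} [Group H] (hA : ω.IsAlt) (hr : ∀ x, ω r x = 0) (h0 : r ≠ 0)
    (rad : ∀ x, (∀ y, ω x y = 0) → x = 0 ∨ x = r) (ρ : H →* (N ≃ₗ[ZMod 2] N))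
    (h1 : ∀ h x y, ω (ρ h x) (ρ h y) = ω x y) (h2 : ∀ h, ρ h r = r)
    (faith : ∀ h, (∀ x, ρ h x = x ∨ ρ h x = x + r) → h = 1) {S : Set N}
    (tr : ∀ s ∈ S, ∃ h, ∀ x, ρ h x = x + ω s x • s) (cl : ∀ h, ∀ s ∈ S, ρ h s ∈ S) {c : N} (hc : c ∈ S)
    (hc0 : ∃ x, ω c x = 1) (opp : ∀ x, ω c x = 1 → x ∈ S ∨ x + r ∈ S) (l1 : 128 ≤ Nat.card N)
    (l2 : Nat.card N ≤ 256) : Nonempty (H ≃* Matrix.symplecticGroup (Fin 3) (ZMod 2)) := by
  obtain ⟨Φ, a1, a2, hn, hB⟩ := exists_form hA hr rad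
  set π := mkQ (span (ZMod 2) {r})
  have hπ : Function.Surjective π := mkQ_surjective _
  have πr : π r = 0 := by rw [← map_zero π, mk_eq]; simp
  have hd : finrank (ZMod 2) (N ⧸ span (ZMod 2) {r}) = 2 * 3 := by
    obtain ⟨k, -, -, -, hk⟩ := a1.exists_hyp hn
    have := (span (ZMod 2) {r}).finrank_quotient_add_finrank
    rw [finrank_span_singleton h0, hk] at this
    rw [card_V, ← this] at l1 l2
    have l3 := (Nat.pow_le_pow_iff_right (a := 2) (n := 7) (by norm_num)).1 l1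
    have l4 := (Nat.pow_le_pow_iff_right (a := 2) (m := 8) (by norm_num)).1 l2
    omega
  have hm : ∀ h, (span (ZMod 2) {r}).map (ρ h : N →ₗ[ZMod 2] N) = span (ZMod 2) {r} := fun h => by
    simp [map_span, h2]
  let σ : H →* Φ.Isom := MonoidHom.mk' (fun h => ⟨Quotient.equiv _ _ (ρ h) (hm h), fun x y => by
      obtain ⟨x, rfl⟩ := hπ x; obtain ⟨y, rfl⟩ := hπ y
      exact (hB _ _).trans ((h1 h x y).trans (hB _ _).symm), fun x => by rw [a1.2, a1.2]⟩)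
    fun g h => Form.Isom.ext fun x => by obtain ⟨x, rfl⟩ := hπ x; simp [π]
  have hσ : ∀ h x, (σ h).1 (π x) = π (ρ h x) := fun _ _ => rfl
  have all : ∀ v, v ≠ 0 → ∃ s ∈ S, π s = v := fun v hv => by
    have o : ∀ u, Φ.B (π c) u = 1 → ∃ s ∈ S, π s = u := fun u hu => by
      obtain ⟨x, rfl⟩ := hπ u
      rcases opp x (hB c x ▸ hu) with h | h
      exacts [⟨_, h, rfl⟩, ⟨_, h, by rw [map_add, πr, add_zero]⟩]
    by_cases e : v = π c
    · exact ⟨c, hc, e.symm⟩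
    rcases z2 (Φ.B (π c) v) with h | h
    swap
    · exact o v h
    have hc1 : π c ∉ (⊥ : Submodule (ZMod 2) _) := fun e => by
      obtain ⟨x, hx⟩ := hc0
      rw [← hB, (mem_bot _).1 e] at hx; simp at hx
    obtain ⟨u, -, u1, u2⟩ := hn.exists_perp_two hc1 (u' := v) (by simpa using hv)
    have sy : ∀ a b, Φ.B a b = Φ.B b a := fun a b => by
      rw [Φ.symm, a2]; exact neg_one_mul _ |>.trans (ZMod.neg_eq_self_mod_two _)
    obtain ⟨s, hs, rfl⟩ := o u (by rw [sy, u1])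
    obtain ⟨s', hs', e'⟩ := o (π s + v) (by rw [map_add, h, sy, u1, add_zero])
    obtain ⟨g, hg⟩ := tr s hs
    refine ⟨_, cl g s' hs', ?_⟩
    rw [hg, map_add, map_smul, ← hB, e', map_add, a1.1, z2ne u2, zero_add, one_smul, vv3]
  obtain ⟨e⟩ := a1.isom_equiv_sp a2 hn hd
  refine ⟨(MulEquiv.ofBijective σ ⟨(injective_iff_map_eq_one _).2 fun h e => faith h fun x =>
    mk_eq.1 (by rw [← hσ, e]; rfl), MonoidHom.range_eq_top.1 (eq_top_iff.2 ?_)⟩).trans e⟩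
  rw [← a1.closure_transvSet hn, Subgroup.closure_le]
  rintro g ⟨p, k, -, hg⟩
  by_cases hp : p = 0
  · exact ⟨1, (map_one σ).trans (Form.Isom.ext fun v => by simp [hg, hp])⟩
  rcases z2 k with rfl | rfl
  · exact ⟨1, (map_one σ).trans (Form.Isom.ext fun v => by simp [hg])⟩
  obtain ⟨s, hs, rfl⟩ := all p hp
  obtain ⟨h, hh⟩ := tr s hs
  refine ⟨h, Form.Isom.ext fun v => ?_⟩
  obtain ⟨v, rfl⟩ := hπ v
  rw [hσ, hg, hh, hB, one_mul, map_add, map_smul]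

end H8.XO
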