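import Mathlib
import Cfsg.Agent.H28.ThQ

/-! Coded linear algebra over the field with two elements (eight basis vectors). -/

set_option autoImplicit false

namespace H8.ThM

open H28.Th

variable {V W : Type*} [AddCommGroup V] [AddCommGroup W]

/-- prefix sums of `lin`. -/
def linK (β : ℕ → V) (n k : ℕ) : V := ∑ i ∈ Finset.range k, if n.testBit i then β i else 0

theorem linK_succ (β : ℕ → V) (n k : ℕ) :
    linK β n (k + 1) = linK β n k + if n.testBit k then β k else 0 := Finset.sum_range_succ _ _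

/-- the linear map on codes with the given images of the first `k` basis vectors. -/
def apK (M : ℕ → ℕ) (n : ℕ) : ℕ → ℕ
  | 0 => 0
  | k + 1 => apK M n k ^^^ if n.testBit k then M k else 0

/-- the linear map on codes. -/
def apM (M : ℕ → ℕ) (n : ℕ) : ℕ := apK M n 8

/-- the quadratic map on codes. -/
def qK (c : ℕ → ℕ) (G : ℕ → ℕ → ℕ) (n : ℕ) : ℕ → ℕ
  | 0 => 0
  | k + 1 => qK c G n k ^^^ if n.testBit k then c k ^^^ apK (fun i => G i k) n k else 0

/-- table lookup. -/
def tb (l : List ℕ) (j : ℕ) : ℕ := l.getD j 0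

theorem lin_zero (β : ℕ → V) : lin β 0 = 0 := by simp [lin]

theorem lin_pow (β : ℕ → V) {j : ℕ} (hj : j < 8) : lin β (2 ^ j) = β j := by
  simp only [lin, Nat.testBit_two_pow]
  rw [Finset.sum_eq_single j] <;> simp +contextual [hj, eq_comm]

theorem lin_xor (h2 : ∀ v : V, v + v = 0) (β : ℕ → V) (n m : ℕ) :
    lin β (n ^^^ m) = lin β n + lin β m := by
  simp only [lin, ← Finset.sum_add_distrib, Nat.testBit_xor]
  refine Finset.sum_congr rfl fun i _ => ?_
  cases n.testBit i <;> cases m.testBit i <;> simp [h2]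

theorem linK_ap (h2 : ∀ v : W, v + v = 0) (T : V →+ W) (β : ℕ → V) (w : ℕ → W) (M : ℕ → ℕ) (n : ℕ)
    (k : ℕ) (h : ∀ j < k, T (β j) = lin w (M j)) : T (linK β n k) = lin w (apK M n k) := by
  induction k with
  | zero => simp [linK, apK, lin_zero]
  | succ k ih =>
    rw [linK_succ, map_add, ih fun j hj => h j (by omega), apK, lin_xor h2]
    cases n.testBit k
    · simp [lin_zero]
    · simp [h k (by omega)]

theorem lin_ap (h2 : ∀ v : W, v + v = 0) (T : V →+ W) (β : ℕ → V) (w : ℕ → W) (M : ℕ → ℕ)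
    (h : ∀ j < 8, T (β j) = lin w (M j)) (n : ℕ) : T (lin β n) = lin w (apM M n) :=
  linK_ap h2 T β w M n 8 h

theorem lin_lin (h2 : ∀ v : V, v + v = 0) (w : ℕ → V) (P : ℕ → ℕ) (n : ℕ) :
    lin (fun j => lin w (P j)) n = lin w (apM P n) :=
  lin_ap h2 (AddMonoidHom.id V) _ w P (fun _ _ => rfl) n

theorem quadK (h2 : ∀ v : W, v + v = 0) (Q : V → W) (B : V →+ V →+ W) (hQ0 : Q 0 = 0)
    (hQ : ∀ x y, Q (x + y) = Q x + Q y + B x y) (β : ℕ → V) (w : ℕ → W) (c : ℕ → ℕ)
    (G : ℕ → ℕ → ℕ) (hc : ∀ i < 8, Q (β i) = lin w (c i))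
    (hG : ∀ i < 8, ∀ j < 8, B (β i) (β j) = lin w (G i j)) (n k : ℕ) (hk : k ≤ 8) :
    Q (linK β n k) = lin w (qK c G n k) := by
  induction k with
  | zero => simp [linK, qK, lin_zero, hQ0]
  | succ k ih =>
    rw [linK_succ, qK, lin_xor h2, ← ih (by omega)]
    cases n.testBit k
    · simp [lin_zero]
    · have := linK_ap h2 (B.flip (β k)) β w (fun i => G i k) n k
        (fun j hj => hG j (by omega) k (by omega))
      simp only [AddMonoidHom.flip_apply] at this
      simp only [if_true, hQ, lin_xor h2, hc k (by omega), this, add_assoc]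

theorem lin_surj [Finite V] (hV : Nat.card V = 256) (h2 : ∀ v : V, v + v = 0) (β : ℕ → V)
    (h : ∀ n < 256, lin β n = 0 → n = 0) (v : V) : ∃ n < 256, lin β n = v := by
  have hb : Function.Bijective fun n : Fin 256 => lin β n := by
    rw [Nat.bijective_iff_injective_and_card]
    refine ⟨fun a b hab => Fin.ext (Nat.eq_of_xor_eq_zero (h _
      (Nat.xor_lt_two_pow (n := 8) a.2 b.2) ?_)), by rw [hV, Nat.card_fin]⟩
    simp only at hab
    rw [lin_xor h2, hab, h2]
  obtain ⟨n, hn⟩ := hb.2 v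
  exact ⟨n, n.2, hn⟩

/-- the basis `1` of `ZMod 2`. -/
def one2 : ℕ → ZMod 2 := fun _ => 1

theorem lin_one2_one : lin one2 1 = 1 := lin_pow one2 (j := 0) (by norm_num)

theorem zmod2_add : ∀ v : ZMod 2, v + v = 0 := by decide

/-- A quadratic form in characteristic two with its polar form. -/
structure QF (q : V → ZMod 2) (B : V →+ V →+ ZMod 2) : Prop where
  two : ∀ v : V, v + v = 0
  add : ∀ x y, q (x + y) = q x + q y + B x y
  nd : ∀ x, (∀ y, B x y = 0) → x = 0

variable {q : V → ZMod 2} {B : V →+ V →+ ZMod 2}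

theorem QF.zero (h : QF q B) : q 0 = 0 := by
  have := h.add 0 0
  rw [add_zero, zmod2_add, map_zero, add_zero] at this
  exact this

theorem QF.symm (h : QF q B) (x y : V) : B x y = B y x := by
  have h1 := h.add x y
  rw [add_comm x y, h.add y x, add_comm (q y)] at h1
  exact (add_left_cancel h1).symm

theorem QF.self (h : QF q B) (x : V) : B x x = 0 := by
  have h1 := h.add x x
  rw [h.two, h.zero, zmod2_add, zero_add] at h1
  exact h1.symm

theorem QF.inv (h : QF q B) (T : V →+ V) (hT : ∀ v, q (T v) = q v) (x y : V) :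
    B (T x) (T y) = B x y := by
  have h1 := hT (x + y)
  rw [map_add, h.add, h.add, hT, hT] at h1
  exact add_left_cancel h1

end H8.ThM
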