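import Mathlib
import Cfsg.Agent.H8.ThM0

/-! The spin modules of `A₉` over the field with two elements. -/

set_option autoImplicit false

namespace H8.ThM

open H28.Th

variable {V : Type*} [AddCommGroup V]

/-- `T` acts on the family `w` by the table `M`. -/
def Acts (w : ℕ → V) (T : AddMonoid.End V) (M : ℕ → ℕ) : Prop := ∀ j < 8, T (w j) = lin w (M j)

theorem end_two (h2 : ∀ v : V, v + v = 0) (T : AddMonoid.End V) : T + T = 0 := by
  ext v; exact h2 _

theorem Acts.lin (h2 : ∀ v : V, v + v = 0) {w : ℕ → V} {T : AddMonoid.End V} {M : ℕ → ℕ}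
    (h : Acts w T M) (n : ℕ) : T (lin w n) = lin w (apM M n) := lin_ap h2 T w w M h n

theorem acts_one (w : ℕ → V) : Acts w 1 (fun j => 2 ^ j) := fun _ hj => (lin_pow w hj).symm

theorem acts_lin (h2 : ∀ v : V, v + v = 0) {w : ℕ → V} {b : ℕ → AddMonoid.End V} {M : ℕ → ℕ → ℕ}
    (h : ∀ t < 8, Acts w (b t) (M t)) (n : ℕ) :
    Acts w (lin b n) (fun j => apM (fun t => M t j) n) := fun j hj =>
  lin_ap h2 (AddMonoidHom.mk' (fun T : AddMonoid.End V => T (w j)) fun _ _ => rfl) b w _
    (fun t ht => h t ht j hj) n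

theorem acts_of_comm (h2 : ∀ v : V, v + v = 0) {w : ℕ → V} {F C : ℕ → AddMonoid.End V}
    {MF MC : ℕ → ℕ → ℕ} {T : AddMonoid.End V} {M : ℕ → ℕ}
    (hw : ∀ k < 3, ∀ j < 2 ^ k, w (j + 2 ^ k) = F k (w j)) (hF : ∀ k < 3, Acts w (F k) (MF k))
    (hC : ∀ k < 3, Acts w (C k) (MC k)) (hT : ∀ k < 3, T * F k + F k * T = C k)
    (h0 : T (w 0) = lin w (M 0))
    (chk : ∀ k < 3, ∀ j < 2 ^ k, M (j + 2 ^ k) = apM (MF k) (M j) ^^^ MC k j) : Acts w T M := by
  intro j
  induction j using Nat.strong_induction_on with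
  | _ j ih =>
    intro hj
    have : ∀ j < 8, j = 0 ∨ ∃ k < 3, ∃ i < 2 ^ k, j = i + 2 ^ k := by decide
    rcases this j hj with rfl | ⟨k, hk, i, hi, rfl⟩
    · exact h0
    · have hp : 0 < 2 ^ k := by positivity
      rw [hw k hk i hi, chk k hk i hi, lin_xor h2, ← (hF k hk).lin h2, ← ih i (by omega) (by omega),
        ← hC k hk i (by omega), ← hT k hk]
      change T (F k (w i)) = F k (T (w i)) + (T (F k (w i)) + F k (T (w i)))
      rw [add_left_comm, h2, add_zero]

/-- anticommutators of `r₀, …, r₆, 1`. -/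
def acG (i j : ℕ) : ℕ := if i = j ∨ i = 7 ∨ j = 7 then 0 else 2 ^ i ^^^ 2 ^ j ^^^ 128
/-- squares of `r₀, …, r₆, 1`. -/
def sqC (i : ℕ) : ℕ := if i = 7 then 128 else 2 ^ i ^^^ 128
/-- anticommutator of codes. -/
def acM (n m : ℕ) : ℕ := apM (fun i => apM (acG i) m) n
/-- hyperbolic basis. -/
def bC : ℕ → ℕ := tb [15, 57, 92, 23, 58, 99, 64, 128]
/-- the `rᵢ` in the hyperbolic basis. -/
def cC : ℕ → ℕ := tb [121, 107, 77, 94, 87, 114, 64]
/-- tables of the creation operators. -/
def MF (k j : ℕ) : ℕ := if j.testBit k then 0 else 2 ^ (j + 2 ^ k)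
/-- tables of the annihilation operators. -/
def ME (k j : ℕ) : ℕ := if j.testBit k then 2 ^ (j - 2 ^ k) else 0
/-- table of `r₆`. -/
def M6 (l j : ℕ) : ℕ := tb [16, 34, 68, 128, 17, 2, 4, 136] j ^^^ if l = 0 then 0 else 2 ^ j
/-- all tables. -/
def Mb (l t : ℕ) : ℕ → ℕ :=
  if t < 3 then ME t else if t < 6 then MF (t - 3) else if t = 6 then M6 l else fun j => 2 ^ j
/-- base change. -/
def Ps : ℕ → ℕ := tb [2, 128, 132, 22, 72, 41, 40, 8]
/-- inverse base change. -/
def Psi : ℕ → ℕ := tb [96, 1, 6, 128, 15, 192, 144, 2]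
/-- height function on codes. -/
def hgt (n : ℕ) : ℕ := (662285244141245069349641420146694822888440828761606951004312187533918489392121997020077789336022139020908637138200060694229003976645859797740889028648711147677690213641634103574318378355949225642880961300321246959922597878408525504 >>> (3 * n)) % 8

theorem exists_v0 {E0 E1 E2 : AddMonoid.End V} (h0 : E0 * E0 = 0) (h1 : E1 * E1 = 0)
    (h2 : E2 * E2 = 0) (h01 : E0 * E1 = E1 * E0) (h02 : E0 * E2 = E2 * E0) (h12 : E1 * E2 = E2 * E1)
    {v : V} (hv : v ≠ 0) : ∃ v : V, v ≠ 0 ∧ E0 v = 0 ∧ E1 v = 0 ∧ E2 v = 0 := by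
  have key : ∀ (E : AddMonoid.End V) (S : V → Prop), E * E = 0 → (∀ v, S v → S (E v)) →
      (∃ v, v ≠ 0 ∧ S v) → ∃ v, v ≠ 0 ∧ E v = 0 ∧ S v := by
    rintro E S hE hS ⟨v, hv, h⟩
    by_cases e : E v = 0
    · exact ⟨v, hv, e, h⟩
    · exact ⟨E v, e, DFunLike.congr_fun hE v, hS v h⟩
  have c : ∀ {A B : AddMonoid.End V}, A * B = B * A → ∀ v, B v = 0 → B (A v) = 0 :=
    fun {A B} h v e => by
      have : A (B v) = B (A v) := DFunLike.congr_fun h v
      rw [← this, e, map_zero]
  refine key E0 (fun v => E1 v = 0 ∧ E2 v = 0) h0 (fun v e => ⟨c h01 v e.1, c h02 v e.2⟩) ?_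
  refine key E1 (fun v => E2 v = 0) h1 (c h12) ?_
  obtain ⟨v, h, h', -⟩ := key E2 (fun _ => True) h2 (fun _ _ => trivial) ⟨v, hv, trivial⟩
  exact ⟨v, h, h'⟩

theorem spin_q {q : V → ZMod 2} {B : V →+ V →+ ZMod 2} (h : QF q B) {β : ℕ → V} {v : V} (hv : v ≠ 0)
    (hs : ∀ v, ∃ n < 256, lin β n = v)
    (hi : ∀ i : Fin 7, ∀ n, q (lin β (apM (Mspin i) n)) = q (lin β n)) :
    ∀ n < 256, q (lin β n) = q0 n := by
  have chk : ∀ n < 256, n = 0 ∨ n = 1 ∨ n = 17 ∨ ∃ i : Fin 7, apM (Mspin i) n < 256 ∧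
      apM (Mspin i) n ≠ 0 ∧ hgt (apM (Mspin i) n) < hgt n ∧ q0 (apM (Mspin i) n) = q0 n := by
    decide +kernel
  have h1 : ∀ k n, hgt n = k → n < 256 → n ≠ 0 →
      q (lin β n) = if q0 n = 0 then q (lin β 1) else q (lin β 17) := by
    intro k
    induction k using Nat.strong_induction_on with
    | _ k ih =>
      intro n hk hn h0
      rcases chk n hn with rfl | rfl | rfl | ⟨i, a1, a2, a3, a4⟩
      · exact absurd rfl h0
      · rw [if_pos (by decide)]
      · rw [if_neg (by decide)]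
      · rw [← hi i n, ih _ (hk ▸ a3) _ rfl a1 a2, a4]
  have h2 : ∀ n < 8, n ≠ 0 → q (lin β n) = q (lin β 1) := fun n hn h0 => by
    rw [h1 _ n rfl (by omega) h0, if_pos (by revert n; decide)]
  have h3 : q (lin β 1) = 0 := by
    have e3 := h2 3 (by norm_num) (by norm_num)
    have e5 := h2 5 (by norm_num) (by norm_num)
    have e6 := h2 6 (by norm_num) (by norm_num)
    have e7 := h2 7 (by norm_num) (by norm_num)
    have e2 := h2 2 (by norm_num) (by norm_num)
    have e4 := h2 4 (by norm_num) (by norm_num)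
    rw [show 3 = 1 ^^^ 2 from rfl, lin_xor h.two, h.add, e2] at e3
    rw [show 5 = 1 ^^^ 4 from rfl, lin_xor h.two, h.add, e4] at e5
    rw [show 6 = 2 ^^^ 4 from rfl, lin_xor h.two, h.add, e2, e4] at e6
    rw [show 7 = (1 ^^^ 2) ^^^ 4 from rfl, lin_xor h.two, lin_xor h.two, h.add, h.add, e2, e4, map_add,
      AddMonoidHom.add_apply] at e7
    revert e3 e5 e6 e7
    generalize q (lin β 1) = a, B (lin β 1) (lin β 2) = b, B (lin β 1) (lin β 4) = c,
      B (lin β 2) (lin β 4) = d
    revert a b c d; decide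
  have h4 : q (lin β 17) = 1 := by
    by_contra hc
    have hc' : q (lin β 17) = 0 := by revert hc; generalize q (lin β 17) = a; revert a; decide
    have hq : ∀ x, q x = 0 := fun x => by
      obtain ⟨n, hn, rfl⟩ := hs x
      by_cases e : n = 0
      · rw [e, lin_zero, h.zero]
      · rw [h1 _ n rfl hn e, h3, hc', ite_self]
    exact hv (h.nd v fun y => by simpa [hq] using (h.add v y).symm)
  intro n hn
  by_cases e : n = 0
  · rw [e, lin_zero, h.zero]; rfl
  · rw [h1 _ n rfl hn e, h3, h4]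
    generalize q0 n = a; revert a; decide

theorem spin_core [Finite V] (hV : Nat.card V = 256) (h2 : ∀ v : V, v + v = 0)
    (s : ℕ → AddMonoid.End V) (hs : ∀ i < 7, s i * s i = s i + 1)
    (hac : ∀ i < 7, ∀ j < 7, i ≠ j → s i * s j + s j * s i = s i + s j + 1) :
    ∃ β : ℕ → V, (∀ v, ∃ n < 256, lin β n = v) ∧
      ((∀ i : Fin 7, Acts β (s i) (Mspin i)) ∨ (∀ i : Fin 7, Acts β (s i + 1) (Mspin i))) := by
  have e2 := end_two h2
  set a : ℕ → AddMonoid.End V := fun i => if i = 7 then 1 else s i with ha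
  have la : ∀ i < 7, lin a (2 ^ i) = s i := fun i hi => by
    rw [lin_pow a (by omega), ha]; simp only; rw [if_neg (by omega)]
  have l7 : lin a 128 = 1 := lin_pow a (j := 7) (by norm_num)
  let Bf : AddMonoid.End V →+ AddMonoid.End V →+ AddMonoid.End V :=
    AddMonoidHom.mul + AddMonoidHom.mul.flip
  have hBf : ∀ x y, Bf x y = x * y + y * x := fun _ _ => rfl
  have hG : ∀ i < 8, ∀ j < 8, Bf (a i) (a j) = lin a (acG i j) := by
    intro i hi j hj
    rw [hBf, acG]
    split_ifs with e
    · rw [lin_zero]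
      rcases e with rfl | rfl | rfl
      · exact e2 _
      · simp [ha, e2]
      · simp [ha, e2]
    · push Not at e
      rw [lin_xor e2, lin_xor e2, la i (by omega), la j (by omega), l7, ha]
      simp only
      rw [if_neg e.2.1, if_neg e.2.2, hac i (by omega) j (by omega) e.1]
  have hA : ∀ n m, lin a n * lin a m + lin a m * lin a n = lin a (acM n m) := fun n m =>
    lin_ap e2 (Bf.flip (lin a m)) a a _ (fun i hi => lin_ap e2 (Bf (a i)) a a _ (hG i hi) m) n
  have hS : ∀ n, lin a n * lin a n = lin a (qK sqC acG n 8) := fun n =>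
    quadK e2 (fun x => x * x) Bf (by simp) (fun x y => by rw [hBf]; noncomm_ring) a a sqC acG
      (fun i hi => by
        rw [sqC]
        split_ifs with e
        · rw [l7, e, show a 7 = 1 from rfl, one_mul]
        · rw [lin_xor e2, la i (by omega), l7, ha]; simp only; rw [if_neg e, hs i (by omega)])
      hG n 8 le_rfl
  set b : ℕ → AddMonoid.End V := fun t => lin a (bC t) with hb
  have sq0 : ∀ t < 6, b t * b t = 0 := fun t ht => by
    rw [hb, hS, show qK sqC acG (bC t) 8 = 0 by revert t; decide +kernel, lin_zero]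
  have cm : ∀ t u, acM (bC t) (bC u) = 0 → b t * b u = b u * b t := fun t u e => by
    have := hA (bC t) (bC u)
    rw [e, lin_zero] at this
    exact add_right_cancel (this.trans (e2 _).symm)
  have cv : ∀ t u, acM (bC t) (bC u) = 0 → ∀ v, b t (b u v) = b u (b t v) := fun t u e v =>
    DFunLike.congr_fun (cm t u e) v
  have sv : ∀ t < 6, ∀ v, b t (b t v) = 0 := fun t ht v => DFunLike.congr_fun (sq0 t ht) v
  haveI : Nontrivial V := Finite.one_lt_card_iff_nontrivial.1 (by omega)
  obtain ⟨v1, hv1⟩ := exists_ne (0 : V)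
  obtain ⟨v0, hv0, k0, k1, k2⟩ := exists_v0 (sq0 0 (by norm_num)) (sq0 1 (by norm_num))
    (sq0 2 (by norm_num)) (cm 0 1 (by decide +kernel)) (cm 0 2 (by decide +kernel))
    (cm 1 2 (by decide +kernel)) hv1
  set w : ℕ → V := fun j => (if j.testBit 2 then b 5 else 1)
    ((if j.testBit 1 then b 4 else 1) ((if j.testBit 0 then b 3 else 1) v0)) with hw
  have w0 : w 0 = v0 := rfl
  have hwF : ∀ k < 3, ∀ j < 2 ^ k, w (j + 2 ^ k) = b (3 + k) (w j) := by
    intro k hk j hj
    interval_cases k <;> simp only [Nat.reducePow] at hj <;> interval_cases j <;> rfl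
  have c34 := cv 3 4 (by decide +kernel)
  have c35 := cv 3 5 (by decide +kernel)
  have c45 := cv 4 5 (by decide +kernel)
  have aF : ∀ k < 3, Acts w (b (3 + k)) (MF k) := by
    intro k hk j hj
    rw [MF]
    split_ifs with e
    · rw [lin_zero]
      interval_cases k <;> interval_cases j <;> first
        | exact absurd e (by decide)
        | simp [hw, Nat.testBit, c34, c35, c45, sv]
    · have : j + 2 ^ k < 8 := by revert j k; decide
      rw [lin_pow w this]
      interval_cases k <;> interval_cases j <;> first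
        | exact absurd (by decide) e
        | simp [hw, Nat.testBit, c34, c35, c45, sv]
  have aE : ∀ t < 3, Acts w (b t) (ME t) := by
    intro t ht
    refine acts_of_comm h2 (C := fun k => if k = t then 1 else 0)
      (MC := fun k j => if k = t then 2 ^ j else 0) hwF aF (fun k _ => ?_) (fun k hk => ?_) ?_ ?_
    · split_ifs
      · exact acts_one w
      · exact fun j _ => (lin_zero w).symm
    · rw [hb, hA, show acM (bC t) (bC (3 + k)) = if k = t then 128 else 0 by
        revert k t; decide +kernel]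
      split_ifs
      · exact l7
      · exact lin_zero a
    · rw [w0, show ME t 0 = 0 by simp [ME], lin_zero]
      interval_cases t <;> assumption
    · revert t; decide +kernel
  have inj : ∀ n < 256, lin w n = 0 → n = 0 := by
    intro n hn e
    have chk : ∀ n < 256, n = 0 ∨ ∃ i j k : Bool, (if i then apM (ME 0) else id)
        ((if j then apM (ME 1) else id) ((if k then apM (ME 2) else id) n)) = 1 := by
      decide +kernel
    have st : ∀ (i : Bool) (t : ℕ), t < 3 → ∀ m, lin w m = 0 →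
        lin w ((if i then apM (ME t) else id) m) = 0 := fun i t ht m hm => by
      cases i
      · exact hm
      · simp only [if_true]; rw [← (aE t ht).lin h2, hm, map_zero]
    rcases chk n hn with h | ⟨i, j, k, h⟩
    · exact h
    · have := st i 0 (by norm_num) _ (st j 1 (by norm_num) _ (st k 2 (by norm_num) _ e))
      rw [h, show 1 = 2 ^ 0 from rfl, lin_pow w (by norm_num)] at this
      exact absurd this hv0
  have sur := lin_surj hV h2 w inj
  obtain ⟨l, hl, h6⟩ : ∃ l < 2, b 6 (w 0) = lin w (M6 l 0) := by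
    obtain ⟨n, hn, e⟩ := sur (b 6 (w 0))
    have chk : ∀ n < 256, apM (ME 0) n = 0 → apM (ME 1) n = 0 → apM (ME 2) n ^^^ 1 = 0 →
        ∃ l < 2, n = M6 l 0 := by decide +kernel
    have lt : ∀ n < 256, apM (ME 0) n < 256 ∧ apM (ME 1) n < 256 ∧ apM (ME 2) n ^^^ 1 < 256 := by
      decide +kernel
    have st : ∀ t, b t (w 0) = 0 → b t (b 6 (w 0)) = lin a (acM (bC t) (bC 6)) (w 0) :=
      fun t ht => by
        rw [← hA]
        change _ = b t (b 6 (w 0)) + b 6 (b t (w 0))
        rw [ht, map_zero, add_zero]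
    obtain ⟨l, hl, rfl⟩ := chk n hn (inj _ (lt n hn).1 (by
        rw [← (aE 0 (by norm_num)).lin h2, e, st 0 k0]; exact k0))
      (inj _ (lt n hn).2.1 (by rw [← (aE 1 (by norm_num)).lin h2, e, st 1 k1]; exact k1))
      (inj _ (lt n hn).2.2 (by
        rw [lin_xor h2, ← (aE 2 (by norm_num)).lin h2, e, st 2 k2,
          show acM (bC 2) (bC 6) = bC 2 ^^^ 128 by decide +kernel, lin_xor e2, l7,
          show 1 = 2 ^ 0 from rfl, lin_pow w (by norm_num)]
        change b 2 (w 0) + w 0 + w 0 = 0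
        rw [add_assoc, h2, add_zero]; exact k2))
    exact ⟨l, hl, e.symm⟩
  have a6 : Acts w (b 6) (M6 l) := by
    refine acts_of_comm h2 (C := fun k => b (3 + k) + if k = 2 then 1 else 0)
      (MC := fun k j => MF k j ^^^ if k = 2 then 2 ^ j else 0) hwF aF (fun k hk j hj => ?_)
      (fun k hk => ?_) h6 ?_
    · simp only
      rw [lin_xor h2, ← aF k hk j hj]
      split_ifs
      · rw [lin_pow w hj]; rfl
      · rw [lin_zero, add_zero, add_zero]
    · rw [hb, hA, show acM (bC 6) (bC (3 + k)) = bC (3 + k) ^^^ if k = 2 then 128 else 0 by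
        revert k; decide +kernel, lin_xor e2]
      split_ifs
      · rw [l7]
      · rw [lin_zero]
    · exact (by decide +kernel : ∀ l < 2, ∀ k < 3, ∀ j < 2 ^ k, M6 l (j + 2 ^ k) =
        apM (MF k) (M6 l j) ^^^ (MF k j ^^^ if k = 2 then 2 ^ j else 0)) l hl
  have ab : ∀ t < 8, Acts w (b t) (Mb l t) := by
    intro t ht
    rw [Mb]
    split_ifs with e1 e3 e4
    · exact aE t e1
    · have := aF (t - 3) (by omega)
      rwa [show 3 + (t - 3) = t by omega] at this
    · exact e4 ▸ a6
    · rw [show t = 7 by omega, show b 7 = 1 from l7]; exact acts_one w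
  have as : ∀ i : Fin 7, Acts w (s i) (fun j => apM (fun t => Mb l t j) (cC i)) := fun i => by
    have := acts_lin h2 ab (cC i)
    rwa [hb, lin_lin e2, (by decide +kernel : ∀ i : Fin 7, apM bC (cC i) = 2 ^ (i : ℕ)) i,
      la i i.2] at this
  refine ⟨fun j => lin w (Ps j), fun v => ?_, ?_⟩
  · obtain ⟨n, hn, rfl⟩ := sur v
    have chk : ∀ n < 256, apM Psi n < 256 ∧ apM Ps (apM Psi n) = n := by decide +kernel
    exact ⟨_, (chk n hn).1, by rw [lin_lin h2, (chk n hn).2]⟩
  · interval_cases l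
    · refine Or.inl fun i j hj => ?_
      simp only
      rw [(as i).lin h2, lin_lin h2]
      congr 1
      revert i j; decide +kernel
    · refine Or.inr fun i j hj => ?_
      change s i (lin w (Ps j)) + lin w (Ps j) = _
      rw [(as i).lin h2, lin_lin h2, ← lin_xor h2]
      congr 1
      revert i j; decide +kernel

end H8.ThM
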