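import Mathlib
import Cfsg.Agent.H8.ThM0

/-! Elements of order three acting on an elementary abelian group of order 256. -/

set_option autoImplicit false

namespace H8.ThM

variable {G V : Type*} [Group G] [AddCommGroup V] [DistribMulAction G V]

variable (V) in
/-- fixed vectors. -/
def Fx (x : G) : AddSubgroup V where
  carrier := {v | x • v = v}
  zero_mem' := smul_zero x
  add_mem' := fun {a b} ha hb => by
    simp only [Set.mem_setOf_eq] at *; rw [smul_add, ha, hb]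
  neg_mem' := fun {a} ha => by simp only [Set.mem_setOf_eq] at *; rw [smul_neg, ha]

variable (V) in
/-- vectors killed by `1 + x + x²`. -/
def Nx (x : G) : AddSubgroup V where
  carrier := {v | v + x • v + x • x • v = 0}
  zero_mem' := by simp
  add_mem' := fun {a b} ha hb => by
    simp only [Set.mem_setOf_eq, smul_add] at *
    rw [← add_zero (0 : V)]; nth_rewrite 1 [← ha]; rw [← hb]; abel
  neg_mem' := fun {a} ha => by
    simp only [Set.mem_setOf_eq, smul_neg] at *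
    rw [← neg_zero, ← ha]; abel

theorem mem_Fx {x : G} {v : V} : v ∈ Fx V x ↔ x • v = v := Iff.rfl
theorem mem_Nx {x : G} {v : V} : v ∈ Nx V x ↔ v + x • v + x • x • v = 0 := Iff.rfl

theorem Fx_conj {x y g : G} (h : g * x = y * g) {v : V} (hv : v ∈ Fx V x) : g • v ∈ Fx V y := by
  rw [mem_Fx] at *; rw [← mul_smul, ← h, mul_smul, hv]

theorem Nx_conj {x y g : G} (h : g * x = y * g) {v : V} (hv : v ∈ Nx V x) : g • v ∈ Nx V y := by
  rw [mem_Nx] at *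
  have e : ∀ v : V, y • g • v = g • x • v := fun v => by rw [← mul_smul, ← h, mul_smul]
  rw [e, e, ← smul_add, ← smul_add, hv, smul_zero]

theorem Fx_inv {x : G} {v : V} (hv : v ∈ Fx V x) : v ∈ Fx V x⁻¹ := by
  rw [mem_Fx] at *; rw [inv_smul_eq_iff, hv]

theorem Nx_inv {x : G} {v : V} (hv : v ∈ Nx V x) : v ∈ Nx V x⁻¹ := by
  rw [mem_Nx] at *
  have := congrArg (fun u => x⁻¹ • x⁻¹ • u) hv
  simp only [smul_add, inv_smul_smul, smul_zero] at this
  rw [← this]; abel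

theorem smul_ne {g : G} {v : V} (hv : v ≠ 0) : g • v ≠ 0 := (smul_ne_zero_iff_ne g).2 hv

/-- invariance. -/
def Inv (T : AddSubgroup V) (y : G) : Prop := ∀ v ∈ T, y • v ∈ T

theorem Inv.inf {T U : AddSubgroup V} {y : G} (h : Inv T y) (k : Inv U y) : Inv (T ⊓ U) y :=
  fun v hv => ⟨h v hv.1, k v hv.2⟩
theorem inv_Fx {x y : G} (h : y * x = x * y) : Inv (Fx V x) y := fun _ hv => Fx_conj h hv
theorem inv_Nx {x y : G} (h : y * x = x * y) : Inv (Nx V x) y := fun _ hv => Nx_conj h hv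
theorem inv_top (y : G) : Inv (⊤ : AddSubgroup V) y := fun _ _ => trivial

section two
variable (h2 : ∀ v : V, v + v = 0)
include h2

theorem eq_of_add {a b : V} (h : a + b = 0) : a = b := add_right_cancel (h.trans (h2 b).symm)

theorem Fx_Nx {x : G} {v : V} (h : v ∈ Fx V x) (k : v ∈ Nx V x) : v = 0 := by
  rw [mem_Fx] at h; rw [mem_Nx, h, h, h2, zero_add] at k; exact k

theorem Nx_sq {x : G} {v : V} (k : v ∈ Nx V x) : x • x • v = v + x • v := (eq_of_add h2 k).symm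

theorem n_mem {x : G} (hx : x * x * x = 1) (v : V) : x • v + x • x • v ∈ Nx V x := by
  have e : ∀ v : V, x • x • x • v = v := fun v => by rw [← mul_smul, ← mul_smul, hx, one_smul]
  rw [mem_Nx]; simp only [smul_add, e]
  calc _ = (v + v) + (x • v + x • v) + (x • x • v + x • x • v) := by abel
    _ = 0 := by simp only [h2, add_zero]

omit h2 in
theorem e_mem {x : G} (hx : x * x * x = 1) (v : V) : v + (x • v + x • x • v) ∈ Fx V x := by
  have e : ∀ v : V, x • x • x • v = v := fun v => by rw [← mul_smul, ← mul_smul, hx, one_smul]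
  rw [mem_Fx]; simp only [smul_add, e]; abel

theorem split {T : AddSubgroup V} {x : G} (hx : x * x * x = 1) (hT : Inv T x) {v : V} (hv : v ∈ T)
    (h : v ∉ Fx V x) : ∃ u, u ≠ 0 ∧ u ∈ T ∧ u ∈ Nx V x :=
  ⟨_, fun e => h (by rw [mem_Fx]; exact ((smul_left_cancel_iff x).1 (eq_of_add h2 e)).symm),
    T.add_mem (hT v hv) (hT _ (hT v hv)), n_mem h2 hx v⟩

theorem card_split [Finite V] (T : AddSubgroup V) (x : G) :
    Nat.card ↥(T ⊓ Fx V x) * Nat.card ↥(T ⊓ Nx V x) ≤ Nat.card T := by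
  rw [← Nat.card_prod]
  refine Nat.card_le_card_of_injective (fun p => ⟨p.1 + p.2, T.add_mem p.1.2.1 p.2.2.1⟩) ?_
  rintro ⟨a, b⟩ ⟨c, d⟩ e
  have e1 : (a : V) + b = c + d := congrArg Subtype.val e
  have e2 : (a : V) - c = d - b := by rw [sub_eq_sub_iff_add_eq_add, e1, add_comm]
  have e3 : (a : V) - c = 0 := Fx_Nx h2 (x := x) ((Fx V x).sub_mem a.2.2 c.2.2)
    (e2 ▸ (Nx V x).sub_mem d.2.2 b.2.2)
  rw [e3] at e2
  exact Prod.ext (Subtype.ext (sub_eq_zero.1 e3)) (Subtype.ext (sub_eq_zero.1 e2.symm).symm)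

theorem four_sub {x : G} {u : V} (u0 : u ≠ 0) (hu : u ∈ Nx V x) :
    ({0, u, x • u, u + x • u} : Set V).ncard = 4 := by
  have h1 : u ≠ x • u := fun e => u0 (Fx_Nx h2 e.symm hu)
  refine Set.ncard_eq_four.2 ⟨_, _, _, _, u0.symm, (smul_ne u0).symm, fun e => h1 (eq_of_add h2 e.symm),
    h1, fun e => smul_ne u0 (by simpa using e), fun e => u0 (by simpa using e), rfl⟩

theorem four_le [Finite V] {T : AddSubgroup V} {x : G} (hT : Inv T x) {u : V} (u0 : u ≠ 0)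
    (uT : u ∈ T) (hu : u ∈ Nx V x) : 4 ≤ Nat.card T := by
  rw [← four_sub h2 u0 hu]
  refine le_of_le_of_eq (Set.ncard_le_ncard ?_ (Set.toFinite _)) (Nat.card_coe_set_eq (T : Set V)).symm
  rintro _ (rfl | rfl | rfl | rfl)
  exacts [T.zero_mem, uT, hT u uT, T.add_mem uT (hT u uT)]

theorem sixteen_le [Finite V] {T : AddSubgroup V} {x y : G} (hT : Inv T x) (hxy : x * y = y * x)
    {u u' : V} (u0 : u ≠ 0) (uT : u ∈ T) (hu : u ∈ Nx V x) (uy : u ∈ Fx V y) (u0' : u' ≠ 0)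
    (uT' : u' ∈ T) (hu' : u' ∈ Nx V x) (uy' : u' ∈ Nx V y) : 16 ≤ Nat.card T :=
  le_trans (Nat.mul_le_mul (four_le h2 (hT.inf (inv_Fx hxy)) u0 ⟨uT, uy⟩ hu)
    (four_le h2 (hT.inf (inv_Nx hxy)) u0' ⟨uT', uy'⟩ hu')) (card_split h2 T y)

/-- If `x`, `y` and `xy` are all fixed point free on a vector, they agree on it. -/
theorem agree {x y : G} (hxy : x * y = y * x) {v : V} (hx : v ∈ Nx V x)
    (hy : v ∈ Nx V y) (h : v ∈ Nx V (x * y)) : v ∈ Fx V (x * y⁻¹) := by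
  have c : ∀ v : V, y • x • v = x • y • v := fun v => by rw [← mul_smul, ← hxy, mul_smul]
  rw [mem_Nx] at h
  simp only [mul_smul] at h
  rw [c, Nx_sq h2 (Nx_conj hxy.symm (Nx_conj hxy.symm hx)), Nx_sq h2 hy] at h
  simp only [smul_add] at h
  have e : x • v = y • v := eq_of_add h2 (by
    rw [← h]
    calc _ = (x • v + y • v) + (v + v) + (x • y • v + x • y • v) := by simp only [h2, add_zero]
      _ = _ := by abel)
  have c' : x * y⁻¹ = y⁻¹ * x := by rw [eq_inv_mul_iff_mul_eq, ← mul_assoc, ← hxy]; group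
  rw [mem_Fx, c', mul_smul, e, inv_smul_smul]

omit h2 in
theorem Nx_of_agree {x y : G} (hxy : x * y = y * x) {v : V} (hx : v ∈ Nx V x)
    (h : v ∈ Fx V (x * y⁻¹)) : v ∈ Nx V y ∧ (x * x * x = 1 → v ∈ Nx V (x * y)) := by
  have c : ∀ v : V, y • x • v = x • y • v := fun v => by rw [← mul_smul, ← hxy, mul_smul]
  have c' : x * y⁻¹ = y⁻¹ * x := by rw [eq_inv_mul_iff_mul_eq, ← mul_assoc, ← hxy]; group
  rw [mem_Fx, c', mul_smul, inv_smul_eq_iff] at h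
  rw [mem_Nx] at hx
  refine ⟨by rw [mem_Nx, ← h, c, ← h, hx], fun h3 => ?_⟩
  have e : ∀ v : V, x • x • x • v = v := fun v => by rw [← mul_smul, ← mul_smul, h3, one_smul]
  simp only [mem_Nx, mul_smul]
  rw [← h, c, c, ← h, e, ← hx]; abel

end two

theorem card_conj {x y g : G} (h : g * x = y * g) : Nat.card (Nx V x) = Nat.card (Nx V y) := by
  have h' : g⁻¹ * y = x * g⁻¹ := by
    rw [inv_mul_eq_iff_eq_mul, ← mul_assoc, h]; group
  exact Nat.card_congr ⟨fun v => ⟨g • v, Nx_conj h v.2⟩, fun v => ⟨g⁻¹ • v, Nx_conj h' v.2⟩,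
    fun v => Subtype.ext (inv_smul_smul _ _), fun v => Subtype.ext (smul_inv_smul _ _)⟩

theorem card_le_smul [Finite V] {T U : AddSubgroup V} (g : G) (h : ∀ v ∈ T, g • v ∈ U) :
    Nat.card T ≤ Nat.card U :=
  Nat.card_le_card_of_injective (fun v => ⟨g • v, h v v.2⟩)
    fun _ _ e => Subtype.ext ((smul_left_cancel_iff g).1 (congrArg Subtype.val e))

/-- Three commuting elements of order three with the symmetries of three disjoint three-cycles. -/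
structure Tri (x y z g k c : G) : Prop where
  x3 : x * x * x = 1
  y3 : y * y * y = 1
  z3 : z * z * z = 1
  xy : x * y = y * x
  xz : x * z = z * x
  yz : y * z = z * y
  gx : g * x = x * g
  gy : g * y = y⁻¹ * g
  gz : g * z = z⁻¹ * g
  kx : k * x = x⁻¹ * k
  ky : k * y = y⁻¹ * k
  kz : k * z = z * k
  cx : c * x = y * c
  cy : c * y = z * c
  cz : c * z = x * c

theorem cj_mul {g a a' b b' : G} (h : g * a = a' * g) (k : g * b = b' * g) :
    g * (a * b) = a' * b' * g := by rw [← mul_assoc, h, mul_assoc, k, mul_assoc]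

theorem cj_inv {g a a' : G} (h : g * a = a' * g) : g * a⁻¹ = a'⁻¹ * g := by
  rw [eq_inv_mul_iff_mul_eq, ← mul_assoc, ← h]; group

theorem Tri.dich [Finite V] (hV : Nat.card V = 256) (h2 : ∀ v : V, v + v = 0) {x y z g k c : G}
    (h : Tri x y z g k c) : (∀ v : V, v ∈ Nx V x) ∨ ∀ v ∈ Nx V x, v ∈ Fx V y := by
  by_contra hc
  push Not at hc
  obtain ⟨hN, v, hv, hv'⟩ := hc
  have xy : Commute x y := h.xy
  have xz : Commute x z := h.xz
  have yz : Commute y z := h.yz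
  have cube : ∀ {a b : G}, Commute a b → a * a * a = 1 → b * b * b = 1 →
      a * b * (a * b) * (a * b) = 1 := fun {a b} e ha hb => by
    rw [← pow_three', e.mul_pow, pow_three', pow_three', ha, hb, one_mul]
  have Fi : ∀ {a : G} {v : V}, v ∈ Fx V a⁻¹ → v ∈ Fx V a := fun e => by simpa using Fx_inv e
  have Ni : ∀ {a : G} {v : V}, v ∈ Nx V a⁻¹ → v ∈ Nx V a := fun e => by simpa using Nx_inv e
  have Fi' : ∀ {a b : G} {v : V}, Commute a b → v ∈ Fx V (a⁻¹ * b⁻¹⁻¹) → v ∈ Fx V (a * b⁻¹) :=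
    fun {a b v} e hv => Fi (by rwa [mul_inv_rev, e.inv_left.inv_right.inv_right.eq.symm])
  have ct : Nat.card (⊤ : AddSubgroup V) = 256 := by rw [AddSubgroup.card_top, hV]
  obtain ⟨u, u0, ux, uy⟩ := split h2 h.y3 (inv_Nx h.xy.symm) hv hv'
  obtain ⟨u, u0, ux, uy⟩ : ∃ u : V, u ≠ 0 ∧ u ∈ Nx V x ∧ u ∈ Fx V (x * y⁻¹) := by
    by_cases e : u ∈ Fx V (x * y)
    · exact ⟨g • u, smul_ne u0, Nx_conj h.gx ux, Fx_conj (cj_mul h.gx h.gy) e⟩
    · obtain ⟨u, u0, ⟨ux, uy⟩, e⟩ := split h2 (T := Nx V x ⊓ Nx V y) (cube xy h.x3 h.y3)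
        ((inv_Nx ((Commute.refl x).mul_left xy.symm)).inf (inv_Nx (xy.mul_left (Commute.refl y))))
        ⟨ux, uy⟩ e
      exact ⟨u, u0, ux, agree h2 h.xy ux uy e⟩
  by_cases e : u ∈ Fx V z
  · obtain ⟨a1, a2⟩ := Nx_of_agree h.xy ux uy
    have b1 : 16 ≤ Nat.card ↥(Fx V z ⊓ Nx V x ⊓ Nx V y) :=
      sixteen_le h2 (x := x) (y := x * y) (((inv_Fx h.xz).inf (inv_Nx rfl)).inf (inv_Nx h.xy))
        ((Commute.refl x).mul_right xy) (smul_ne (g := g) u0)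
        ⟨⟨Fi (Fx_conj h.gz e), Nx_conj h.gx ux⟩, Ni (Nx_conj h.gy a1)⟩ (Nx_conj h.gx ux)
        (by simpa using Fx_conj (cj_mul h.gx (cj_inv h.gy)) uy) u0 ⟨⟨e, ux⟩, a1⟩ ux (a2 h.x3)
    have b2 : Nat.card ↥(Fx V z ⊓ Nx V x ⊓ Nx V y) ≤ Nat.card ↥(⊤ ⊓ Fx V z) :=
      AddSubgroup.card_le_of_le fun v hv => ⟨trivial, hv.1.1⟩
    have b3 : Nat.card ↥(Fx V z ⊓ Nx V x ⊓ Nx V y) ≤ Nat.card ↥(⊤ ⊓ Nx V z ⊓ Fx V x) :=
      card_le_smul c fun v hv => ⟨⟨trivial, Nx_conj h.cy hv.2⟩, Fx_conj h.cz hv.1.1⟩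
    have b4 : Nat.card ↥(Fx V z ⊓ Nx V x ⊓ Nx V y) ≤ Nat.card ↥(⊤ ⊓ Nx V z ⊓ Nx V x) :=
      card_le_smul (c * c) fun v hv => by
        rw [mul_smul]
        exact ⟨⟨trivial, Nx_conj h.cy (Nx_conj h.cx hv.1.2)⟩, Nx_conj h.cz (Nx_conj h.cy hv.2)⟩
    have b5 := card_split h2 (⊤ : AddSubgroup V) z
    have b6 := card_split h2 (⊤ ⊓ Nx V z : AddSubgroup V) x
    have b7 := (Nat.mul_le_mul (b1.trans b3) (b1.trans b4)).trans b6
    have b8 := (Nat.mul_le_mul (b1.trans b2) b7).trans b5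
    omega
  · obtain ⟨u, u0, ⟨ux, uy⟩, uz⟩ := split h2 (T := Nx V x ⊓ Fx V (x * y⁻¹)) h.z3
      ((inv_Nx h.xz.symm).inf (inv_Fx (xz.symm.mul_right yz.symm.inv_right))) ⟨ux, uy⟩ e
    obtain ⟨u, u0, ux, uy, uz⟩ : ∃ u : V, u ≠ 0 ∧ u ∈ Nx V x ∧ u ∈ Fx V (x * y⁻¹) ∧
        u ∈ Fx V (x * z⁻¹) := by
      by_cases e : u ∈ Fx V (x * z)
      · exact ⟨k • u, smul_ne u0, Ni (Nx_conj h.kx ux), Fi' xy (Fx_conj (cj_mul h.kx (cj_inv h.ky)) uy),
          Fi' xz (by simpa using Fx_conj (cj_mul h.kx h.kz) e)⟩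
      · obtain ⟨u, u0, ⟨⟨ux, uy⟩, uz⟩, e⟩ := split h2 (T := Nx V x ⊓ Fx V (x * y⁻¹) ⊓ Nx V z)
          (cube xz h.x3 h.z3) (((inv_Nx ((Commute.refl x).mul_left xz.symm)).inf
            (inv_Fx ((((Commute.refl x).mul_right xy.inv_right)).mul_left
              (xz.symm.mul_right yz.symm.inv_right)))).inf
            (inv_Nx (xz.mul_left (Commute.refl z)))) ⟨⟨ux, uy⟩, uz⟩ e
        exact ⟨u, u0, ux, uy, agree h2 h.xz ux uz e⟩
    have b1 : 16 ≤ Nat.card ↥(Nx V x ⊓ Fx V (x * y⁻¹)) :=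
      sixteen_le h2 (x := x) (y := x * z)
        ((inv_Nx rfl).inf (inv_Fx ((Commute.refl x).mul_right xy.inv_right)))
        ((Commute.refl x).mul_right xz) (smul_ne (g := k) u0)
        ⟨Ni (Nx_conj h.kx ux), Fi' xy (Fx_conj (cj_mul h.kx (cj_inv h.ky)) uy)⟩
        (Ni (Nx_conj h.kx ux))
        (Fi (by rw [mul_inv_rev, ← xz.inv_inv.eq]; exact Fx_conj (cj_mul h.kx (cj_inv h.kz)) uz))
        u0 ⟨ux, uy⟩ ux ((Nx_of_agree h.xz ux uz).2 h.x3)
    have b2 : Nat.card ↥(Nx V x ⊓ Fx V (x * y⁻¹)) ≤ Nat.card ↥(Nx V x ⊓ Fx V (x * y)) :=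
      card_le_smul g fun v hv => ⟨Nx_conj h.gx hv.1,
        by simpa using Fx_conj (cj_mul h.gx (cj_inv h.gy)) hv.2⟩
    have b3 : Nat.card ↥(Nx V x ⊓ Fx V (x * y⁻¹)) ≤ Nat.card ↥(Nx V x ⊓ Nx V (x * y)) :=
      AddSubgroup.card_le_of_le fun v hv => ⟨hv.1, (Nx_of_agree h.xy hv.1 hv.2).2 h.x3⟩
    have b4 := (Nat.mul_le_mul (b1.trans b2) (b1.trans b3)).trans (card_split h2 (Nx V x) (x * y))
    obtain ⟨v, hv⟩ := hN
    exact hv ((AddSubgroup.eq_top_of_le_card _ (by rw [hV]; exact b4)) ▸ AddSubgroup.mem_top v)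

theorem Tri.four [Finite V] (hV : Nat.card V = 256) (h2 : ∀ v : V, v + v = 0) {x y z g k c : G}
    (h : Tri x y z g k c) (hxy : ∀ v ∈ Nx V x, v ∈ Fx V y) (hxz : ∀ v ∈ Nx V x, v ∈ Fx V z)
    {u : V} (u0 : u ≠ 0) (hu : u ∈ Nx V x) : Nat.card (Nx V x) = 4 := by
  have b1 := four_le h2 (inv_Nx rfl) u0 hu hu
  have b2 : Nat.card (Nx V x) ≤ Nat.card ↥(⊤ ⊓ Fx V z ⊓ Fx V y) :=
    AddSubgroup.card_le_of_le fun v hv => ⟨⟨trivial, hxz v hv⟩, hxy v hv⟩
  have b3 : Nat.card (Nx V x) ≤ Nat.card ↥(⊤ ⊓ Fx V z ⊓ Nx V y) :=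
    card_le_smul c fun v hv => ⟨⟨trivial, Fx_conj h.cy (hxy v hv)⟩, Nx_conj h.cx hv⟩
  have b4 : Nat.card (Nx V x) ≤ Nat.card ↥(⊤ ⊓ Nx V z) :=
    card_le_smul (c * c) fun v hv => by
      rw [mul_smul]; exact ⟨trivial, Nx_conj h.cy (Nx_conj h.cx hv)⟩
  have b5 := (Nat.mul_le_mul b2 b3).trans (card_split h2 (⊤ ⊓ Fx V z : AddSubgroup V) y)
  have b6 := (Nat.mul_le_mul b5 b4).trans (card_split h2 (⊤ : AddSubgroup V) z)
  rw [AddSubgroup.card_top, hV] at b6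
  have b7 : Nat.card (Nx V x) ∣ 256 := hV ▸ AddSubgroup.card_addSubgroup_dvd_card _
  generalize Nat.card (Nx V x) = n at b1 b6 b7
  have : n ≤ 6 := by
    by_contra e
    have : 7 * 7 * 7 ≤ n * n * n :=
      Nat.mul_le_mul (Nat.mul_le_mul (by omega) (by omega)) (by omega)
    omega
  interval_cases n <;> omega

theorem mem_four [Finite V] (h2 : ∀ v : V, v + v = 0) {x : G} (h4 : Nat.card (Nx V x) = 4) {u : V}
    (u0 : u ≠ 0) (hu : u ∈ Nx V x) {v : V} (hv : v ∈ Nx V x) :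
    v = 0 ∨ v = u ∨ v = x • u ∨ v = u + x • u := by
  have : ({0, u, x • u, u + x • u} : Set V) = Nx V x := by
    refine Set.eq_of_subset_of_ncard_le ?_ ?_ (Set.toFinite _)
    · rintro _ (rfl | rfl | rfl | rfl)
      exacts [(Nx V x).zero_mem, hu, Nx_conj rfl hu, (Nx V x).add_mem hu (Nx_conj rfl hu)]
    · rw [four_sub h2 u0 hu, ← h4]; exact (Nat.card_coe_set_eq _).ge
  have hv' : v ∈ ({0, u, x • u, u + x • u} : Set V) := this ▸ hv
  simpa using hv'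

end H8.ThM
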