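import Mathlib
import Cfsg.Agent.H8.ThM1

/-! The natural module of `A₉` over the field with two elements. -/

set_option autoImplicit false

namespace H8.ThM

open H28.Th

variable {G V : Type*} [Group G] [AddCommGroup V] [DistribMulAction G V]
variable {q : V → ZMod 2} {B : V →+ V →+ ZMod 2}

theorem B_smul (h : QF q B) (inv : ∀ (g : G) v, q (g • v) = q v) (g : G) (x y : V) :
    B (g • x) (g • y) = B x y := h.inv (DistribSMul.toAddMonoidHom V g) (inv g) x y

theorem fix_of_perp (h : QF q B) (inv : ∀ (g : G) v, q (g • v) = q v) {y : G} (hy : y * y * y = 1)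
    {f : V} (hf : ∀ w ∈ Nx V y, B f w = 0) : f ∈ Fx V y := by
  refine eq_of_add h.two (h.nd _ fun v => ?_)
  have e : y • y • y • v = v := by rw [← mul_smul, ← mul_smul, hy, one_smul]
  have e1 : B (y • f) v = B f (y • y • v) := by
    conv_lhs => rw [← e]
    exact B_smul h inv y _ _
  rw [map_add, AddMonoidHom.add_apply, e1, ← map_add]
  have := n_mem h.two hy (y • v)
  rw [e] at this
  exact hf _ this

theorem perp_of_fix (h : QF q B) (inv : ∀ (g : G) v, q (g • v) = q v) {y : G} {w f : V}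
    (hw : w ∈ Fx V y) (hf : f ∈ Nx V y) : B w f = 0 := by
  have e1 : ∀ f, B w (y • f) = B w f := fun f => by
    conv_lhs => rw [← hw]
    exact B_smul h inv y _ _
  have := congrArg (B w) hf
  rwa [map_add, map_add, e1, e1, e1, zmod2_add, zero_add, map_zero] at this

theorem exists_f (h : QF q B) (inv : ∀ (g : G) v, q (g • v) = q v) {x y t : G}
    (hy : y * y * y = 1) (ht : t * x = x⁻¹ * t) (t2 : t * t = 1)
    (hty : ∀ w ∈ Nx V y, t • w = w) {u : V} (u0 : u ≠ 0) (hu : u ∈ Nx V x) :
    ∃ f, f ≠ 0 ∧ f ∈ Nx V x ∧ f ∈ Fx V y := by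
  obtain ⟨p, hp, hp'⟩ : ∃ p ∈ Nx V x, t • p ≠ p := by
    by_contra hc
    push Not at hc
    have e1 := hc _ (Nx_conj rfl hu)
    rw [← mul_smul, ht, mul_smul, hc u hu, inv_smul_eq_iff, Nx_sq h.two hu] at e1
    exact smul_ne (g := x) u0 (by simpa using e1)
  refine ⟨t • p + p, fun e => hp' (eq_of_add h.two e),
    (Nx V x).add_mem (by simpa using Nx_inv (Nx_conj ht hp)) hp, fix_of_perp h inv hy fun w hw => ?_⟩
  rw [map_add, AddMonoidHom.add_apply]
  conv_lhs => rw [← hty w hw, B_smul h inv, hty w hw]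
  exact zmod2_add _

/-- base change. -/
def Pn : ℕ → ℕ := tb [15, 57, 92, 255, 23, 58, 99, 127]
/-- inverse base change. -/
def Pni : ℕ → ℕ := tb [181, 151, 209, 242, 227, 166, 196, 136]
/-- tables on the basis of weight two vectors. -/
def Mw (i j : ℕ) : ℕ := if j = 7 then 2 ^ i else if j = i then 128 ^^^ 2 ^ i else 2 ^ j ^^^ 2 ^ i

theorem nat_core [Finite V] (hV : Nat.card V = 256) (h : QF q B)
    (inv : ∀ (g : G) v, q (g • v) = q v) (r : Fin 7 → G) (h3 : ∀ i, r i * r i * r i = 1)
    (hr : ∀ i j, i ≠ j → r i * r j * (r i * r j) = 1) (h4 : ∀ i, Nat.card (Nx V (r i)) = 4)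
    {f : V} (f0 : f ≠ 0) (hf : ∀ i, f ∈ Nx V (r i)) :
    ∃ β : ℕ → V, (∀ v, ∃ n < 256, lin β n = v) ∧ (∀ n < 256, q (lin β n) = q0 n) ∧
      ∀ i, ∀ j < 8, r i • β j = lin β (Mnat i j) := by
  have h2 := h.two
  have z1 : ∀ a : ZMod 2, a ≠ 0 → a = 1 := by decide
  have Bfg : ∀ i, B f (r i • f) = 1 := fun i => z1 _ fun e =>
    f0 (Fx_Nx h2 (fix_of_perp h inv (h3 i) fun w hw => by
      rcases mem_four h2 (h4 i) f0 (hf i) hw with rfl | rfl | rfl | rfl
      · exact map_zero _
      · exact h.self _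
      · exact e
      · rw [map_add, h.self, e, add_zero]) (hf i))
  have qf : q f = 1 := by
    have e := h.add f (r 0 • f)
    rw [← Nx_sq h2 (hf 0), inv, inv, Bfg, zmod2_add, zero_add] at e
    exact e
  have gg : ∀ i j, i ≠ j → B (r j • f) (r i • f) = 1 ∧ r i • r j • f = r j • f + r i • f := by
    intro i j hij
    set g := r j • f with hg
    have e1 := e_mem (V := V) (h3 i) g
    have e2 := n_mem h2 (h3 i) g
    set p := r i • g + r i • r i • g with hp
    have e3 : ∀ w ∈ Nx V (r i), B g w = B p w := fun w hw => by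
      have := perp_of_fix h inv e1 hw
      rw [map_add, AddMonoidHom.add_apply] at this
      exact eq_of_add zmod2_add this
    have e4 : r i • g = g + p + r i • p := by
      rw [← e1, smul_add, add_assoc, h2, add_zero]
    have e5 := e3 f (hf i)
    rw [h.symm, Bfg] at e5
    rcases mem_four h2 (h4 i) f0 (hf i) e2 with e | e | e | e
    · rw [e, map_zero] at e5; exact absurd e5 (by simp)
    · rw [e, h.self] at e5; exact absurd e5 (by simp)
    · exfalso
      rw [e, Nx_sq h2 (hf i), add_comm f, add_assoc, ← add_assoc (r i • f), h2, zero_add] at e4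
      have e6 : (r i * r j * (r i * r j)) • f = f := by rw [hr i j hij, one_smul]
      simp only [mul_smul] at e6
      rw [← hg, e4, smul_add, hg, Nx_sq h2 (hf j), add_assoc, h2, add_zero] at e6
      exact f0 (Fx_Nx h2 e6 (hf i))
    · refine ⟨?_, ?_⟩
      · rw [e3 _ (Nx_conj rfl (hf i)), e, map_add, AddMonoidHom.add_apply, Bfg, h.self, add_zero]
      · rw [e4, e, smul_add, Nx_sq h2 (hf i)]
        calc _ = g + r i • f + (f + f) + (r i • f + r i • f) := by abel
          _ = _ := by rw [h2, h2, add_zero, add_zero]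
  set w : ℕ → V := fun j => if hj : j < 7 then r ⟨j, hj⟩ • f else f with hw
  have wi : ∀ i : Fin 7, w i = r i • f := fun i => dif_pos i.2
  have w7 : w 7 = f := rfl
  have cs : ∀ j : ℕ, j < 8 → j = 7 ∨ ∃ i : Fin 7, j = (i : ℕ) := fun j hj => by
    by_cases e : j < 7
    · exact Or.inr ⟨⟨j, e⟩, rfl⟩
    · exact Or.inl (by omega)
  have hG : ∀ i < 8, ∀ j < 8, B (w i) (w j) = lin one2 (if i = j then 0 else 1) := by
    intro i hi j hj
    split_ifs with e
    · rw [e, h.self, lin_zero]
    · rw [lin_one2_one]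
      rcases cs i hi with rfl | ⟨i, rfl⟩ <;> rcases cs j hj with rfl | ⟨j, rfl⟩
      · exact absurd rfl e
      · rw [w7, wi, Bfg]
      · rw [w7, wi, h.symm, Bfg]
      · rw [wi, wi]; exact (gg j i fun e' => e (by rw [e'])).1
  have aw : ∀ i : Fin 7, ∀ j < 8, r i • w j = lin w (Mw i j) := by
    intro i j hj
    have i8 : (i : ℕ) < 8 := by omega
    rw [Mw]
    split_ifs with e1 e2
    · rw [e1, w7, lin_pow w i8, wi]
    · rw [e2, lin_xor h2, lin_pow w i8, wi, show 128 = 2 ^ 7 from rfl, lin_pow w (by norm_num), w7,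
        Nx_sq h2 (hf i)]
    · obtain ⟨j, rfl⟩ := (cs j hj).resolve_left e1
      rw [lin_xor h2, lin_pow w i8, lin_pow w hj, wi, wi]
      exact (gg i j fun e' => e2 (by rw [e'])).2
  have inj : ∀ n < 256, lin w n = 0 → n = 0 := by
    intro n hn e
    have chk : ∀ n < 256, n = 0 ∨ ∃ k < 8, apM (fun i => if i = k then 0 else 1) n = 1 := by
      decide +kernel
    rcases chk n hn with e0 | ⟨k, hk, e1⟩
    · exact e0
    · have := lin_ap zmod2_add (B.flip (w k)) w one2 _ (fun i hi => hG i hi k hk) n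
      rw [e, map_zero, e1, lin_one2_one] at this
      exact absurd this (by decide)
  refine ⟨fun j => lin w (Pn j), fun v => ?_, fun n hn => ?_, fun i j hj => ?_⟩
  · obtain ⟨n, hn, rfl⟩ := lin_surj hV h2 w inj v
    have chk : ∀ n < 256, apM Pni n < 256 ∧ apM Pn (apM Pni n) = n := by decide +kernel
    exact ⟨_, (chk n hn).1, by rw [lin_lin h2, (chk n hn).2]⟩
  · rw [lin_lin h2]
    refine (quadK zmod2_add q B h.zero h.add w one2 (fun _ => 1) _ (fun i hi => ?_) hG _ 8
      le_rfl).trans ?_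
    · rw [lin_one2_one]
      rcases cs i hi with rfl | ⟨i, rfl⟩
      · exact qf
      · rw [wi, inv, qf]
    · revert n; decide +kernel
  · simp only
    rw [lin_lin h2]
    refine (lin_ap h2 (DistribSMul.toAddMonoidHom V (r i)) w w _ (aw i) _).trans ?_
    congr 1
    revert i j; decide +kernel

end H8.ThM
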