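import Mathlib
import Cfsg.Agent.H6.Dihedral
import Cfsg.Agent.H7.DihQuat

/-! Helpers for the `PGL₂(7)` step of the Thompson group recognition. -/

set_option autoImplicit false

namespace H8.ThK

open DihedralGroup

/-- Parity of an element of the dihedral group of order 16. -/
def ev : DihedralGroup 8 → Bool
  | r i => i.val % 2 == 0
  | sr i => i.val % 2 == 0

theorem d_inv : ∀ g : DihedralGroup 8, g * g = 1 → g = 1 ∨ g = r 4 ∨
    (∃ h : DihedralGroup 8, h * sr 0 * h⁻¹ = g) ∨ (∃ h : DihedralGroup 8, h * sr 1 * h⁻¹ = g) := by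
  decide +kernel

theorem d_cent : ∀ g : DihedralGroup 8, g * sr 0 = sr 0 * g → g * sr 1 = sr 1 * g →
    g = 1 ∨ g = r 4 := by decide +kernel

theorem d_cd : ∀ g : DihedralGroup 8, ev g = true → g * sr 1 = sr 1 * g → g = 1 ∨ g = r 4 := by
  decide +kernel

theorem d_four : ∀ g : DihedralGroup 8, ev g = true → g ^ 4 = 1 := by decide +kernel

theorem d_eight : ∀ g : DihedralGroup 8, g ^ 8 = 1 := by decide +kernel

theorem d_a : ∀ g : DihedralGroup 8, g * r 4 = r 4 * g := by decide +kernel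

/-- The pairs counted by `n₁`. -/
def pr (q : DihedralGroup 8 × DihedralGroup 8) : Prop :=
  q.1 * q.1 = 1 ∧ q.1 ≠ 1 ∧ ev q.1 = true ∧ q.2 * q.2 = 1 ∧ ev q.2 = false ∧
    ∃ k : Fin 8, (q.1 * q.2) ^ (k : ℕ) = r 4

instance instDecPr : DecidablePred pr := fun q => by unfold pr; infer_instance

theorem card_pr : (Finset.univ.filter pr).card = 16 := by decide +kernel

variable {G : Type*} [Group G]

theorem sylow_prime [Finite G] {p : ℕ} [Fact p.Prime] (y : G) (hy : orderOf y = p)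
    (h : ¬ p ^ 2 ∣ Nat.card G) :
    ∃ n, n ≡ 1 [MOD p] ∧
      n * Nat.card (Subgroup.normalizer (Subgroup.zpowers y : Set G)) = Nat.card G := by
  have hz : IsPGroup p (Subgroup.zpowers y) :=
    IsPGroup.of_card (n := 1) (by rw [Nat.card_zpowers, hy, pow_one])
  obtain ⟨P, hP⟩ := hz.exists_le_sylow
  obtain ⟨k, hk⟩ := P.isPGroup'.exists_card_eq
  have hk1 : k ≤ 1 := by
    by_contra hc
    exact h ((pow_dvd_pow p (by omega)).trans (hk ▸ Subgroup.card_subgroup_dvd_card _))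
  have he : Subgroup.zpowers y = P := by
    apply Subgroup.eq_of_le_of_card_ge hP
    rw [Nat.card_zpowers, hy, hk]
    calc p ^ k ≤ p ^ 1 := Nat.pow_le_pow_right (Fact.out : p.Prime).pos hk1
      _ = p := pow_one p
  refine ⟨Nat.card (Sylow p G), card_sylow_modEq_one p G, ?_⟩
  rw [P.card_eq_index_normalizer, he]
  exact Subgroup.index_mul_card _

/-- An involution whose centraliser has exponent dividing 8 inverts each normalised cyclic group
of odd order. -/
theorem inverts {t y : G} (t2 : t * t = 1) (hC : ∀ g, g * t = t * g → g ^ 8 = 1)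
    (hy : Odd (orderOf y)) (hn : t * y * t⁻¹ ∈ Subgroup.zpowers y) : t * y * t⁻¹ = y⁻¹ := by
  have ti : t⁻¹ = t := H6.inv_eq_of_mul_self t2
  obtain ⟨k, hk⟩ := hn
  simp only at hk
  have hcomm : y * (t * y * t⁻¹) = t * y * t⁻¹ * y := by rw [← hk]; group
  have h1 : y * (t * y * t⁻¹) * t = t * (y * (t * y * t⁻¹)) := by
    calc y * (t * y * t⁻¹) * t = t * y * t⁻¹ * y * t := by rw [hcomm]
      _ = t * (y * (t * y * t⁻¹)) := by rw [ti]; group
  have h8 := hC _ h1
  have hm : y * (t * y * t⁻¹) ∈ Subgroup.zpowers y :=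
    Subgroup.mul_mem _ (Subgroup.mem_zpowers y) ⟨k, hk⟩
  have ho : orderOf (y * (t * y * t⁻¹)) ∣ orderOf y := orderOf_dvd_of_mem_zpowers hm
  have ho8 : orderOf (y * (t * y * t⁻¹)) ∣ 2 ^ 3 := orderOf_dvd_of_pow_eq_one h8
  have : orderOf (y * (t * y * t⁻¹)) = 1 :=
    Nat.eq_one_of_dvd_coprimes ((Nat.coprime_two_right.2 hy).pow_right 3) ho ho8
  rw [orderOf_eq_one_iff] at this
  exact eq_inv_of_mul_eq_one_right this

theorem no_klein {a c y : G} (a2 : a * a = 1) (c2 : c * c = 1) (hac : a * c = c * a)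
    (ha : ∀ g, g * a = a * g → g ^ 8 = 1) (hc : ∀ g, g * c = c * g → g ^ 8 = 1)
    (hac' : ∀ g, g * (a * c) = a * c * g → g ^ 8 = 1) (hy : Odd (orderOf y)) (hy1 : y ≠ 1)
    (na : a * y * a⁻¹ ∈ Subgroup.zpowers y) (nc : c * y * c⁻¹ ∈ Subgroup.zpowers y) : False := by
  have h1 := inverts a2 ha hy na
  have h2 := inverts c2 hc hy nc
  have h3 : a * c * y * (a * c)⁻¹ = y := by
    calc a * c * y * (a * c)⁻¹ = a * (c * y * c⁻¹) * a⁻¹ := by group
      _ = (a * y * a⁻¹)⁻¹ := by rw [h2]; group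
      _ = y := by rw [h1, inv_inv]
  have h4 : y ^ 8 = 1 := hac' y (mul_inv_eq_iff_eq_mul.1 h3).symm
  have ho8 : orderOf y ∣ 2 ^ 3 := orderOf_dvd_of_pow_eq_one h4
  have : orderOf y = 1 :=
    Nat.eq_one_of_dvd_coprimes ((Nat.coprime_two_right.2 hy).pow_right 3) dvd_rfl ho8
  exact hy1 (orderOf_eq_one_iff.1 this)

/-- In the Coxeter group `B₃` the Coxeter element has order dividing 6. -/
theorem coxB3 {a b c : G} (a2 : a * a = 1) (b2 : b * b = 1) (c2 : c * c = 1)
    (hab : (a * b) ^ 3 = 1) (hbc : (b * c) ^ 4 = 1) (hac : a * c = c * a) :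
    (a * b * c) ^ 3 * (a * b * c) ^ 3 = 1 := by
  have ai : a⁻¹ = a := H6.inv_eq_of_mul_self a2
  have bi : b⁻¹ = b := H6.inv_eq_of_mul_self b2
  have ci : c⁻¹ = c := H6.inv_eq_of_mul_self c2
  have br : b * a * b = a * b * a := by
    have : a * b * a * (b * a * b) = 1 := by rw [← hab]; simp only [pow_succ, pow_zero, one_mul, mul_assoc]
    have h2 := eq_inv_of_mul_eq_one_right this
    rw [h2]; simp only [mul_inv_rev, ai, bi, mul_assoc]
  set c1 := b * c * b⁻¹ with hc1
  set c3 := a * c1 * a⁻¹ with hc3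
  have h1 : Commute c c1 := by
    have : c1 * c * (c1 * c) = 1 := by
      rw [← hbc, hc1, bi]; simp only [pow_succ, pow_zero, one_mul, mul_assoc]
    have h2 := eq_inv_of_mul_eq_one_right this
    have h3 : c1⁻¹ = c1 := by rw [hc1]; simp only [mul_inv_rev, inv_inv, ci, bi, mul_assoc]
    rw [mul_inv_rev, ci, h3] at h2
    exact h2.symm
  have aca : a * c * a⁻¹ = c := by rw [hac]; group
  have h2 : Commute c c3 := by
    have := h1.conj a
    rwa [aca] at this
  have bc3 : b * c3 * b⁻¹ = c3 := by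
    calc b * c3 * b⁻¹ = (b * a * b) * c * (b * a * b)⁻¹ := by rw [hc3, hc1]; group
      _ = a * b * (a * c * a⁻¹) * b⁻¹ * a⁻¹ := by rw [br]; group
      _ = c3 := by rw [aca, hc3, hc1]; group
  have h3 : Commute c1 c3 := by
    have := h2.conj b
    rwa [bc3] at this
  have h4 : (a * b * c) ^ 3 = c3 * c1 * c := by
    have e1 : (a * b) ^ 2 = b * a := by
      have : (a * b) ^ 2 * (a * b) = 1 := by rw [← pow_succ, hab]
      rw [eq_inv_of_mul_eq_one_left this, mul_inv_rev, ai, bi]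
    calc (a * b * c) ^ 3 = (a * b * c * (a * b)⁻¹) * ((a * b) ^ 2 * c * ((a * b) ^ 2)⁻¹) *
          ((a * b) ^ 3 * c) := by simp only [pow_succ, pow_zero, one_mul]; group
      _ = c3 * (b * (a * c * a⁻¹) * b⁻¹) * c := by rw [hab, e1, hc3, hc1]; group
      _ = c3 * c1 * c := by rw [aca]
  have s1 : c1 * c1 = 1 := by rw [hc1]; calc _ = b * (c * c) * b⁻¹ := by group
    _ = 1 := by rw [c2]; group
  have s3 : c3 * c3 = 1 := by rw [hc3]; calc _ = a * (c1 * c1) * a⁻¹ := by group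
    _ = 1 := by rw [s1]; group
  rw [h4]
  calc c3 * c1 * c * (c3 * c1 * c) = c3 * c1 * (c * c3) * c1 * c := by group
    _ = c3 * (c1 * c3) * (c * c1) * c := by rw [h2.eq]; group
    _ = (c3 * c3) * (c1 * c1) * (c * c) := by rw [h3.eq, h1.eq]; group
    _ = 1 := by rw [s1, s3, c2]; group

end H8.ThK
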