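import Mathlib
import Cfsg.Agent.S0213
import Cfsg.Agent.H8.ThK

/-! The order of a group with `C(a) = D₁₆` and a subgroup of index 2. -/

set_option autoImplicit false

namespace H8.ThK

open DihedralGroup

variable {H : Type*} [Group H]

/-- The configuration. -/
structure Cx (K : Subgroup H) (φ : DihedralGroup 8 →* H) : Prop where
  idx : K.index = 2
  inj : Function.Injective φ
  cen : ∀ g, g * φ (r 4) = φ (r 4) * g → ∃ h, φ h = g
  par : ∀ h, φ h ∈ K ↔ ev h = true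
  ac : IsConj (φ (r 4)) (φ (sr 0))

variable {K : Subgroup H} {φ : DihedralGroup 8 →* H}

namespace Cx

theorem a2 : φ (r 4) * φ (r 4) = 1 := by rw [← map_mul, ← φ.map_one]; congr 1
theorem d2 : φ (sr 1) * φ (sr 1) = 1 := by rw [← map_mul, ← φ.map_one]; congr 1
theorem ad : φ (r 4) * φ (sr 1) = φ (sr 1) * φ (r 4) := by rw [← map_mul, ← map_mul, d_a]

variable (h : Cx K φ)
include h

theorem nml : K.Normal := Subgroup.normal_of_index_eq_two h.idx

theorem conjK {g t : H} : g * t * g⁻¹ ∈ K ↔ t ∈ K :=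
  ⟨fun ht => by simpa [mul_assoc] using h.nml.conj_mem _ ht g⁻¹, fun ht => h.nml.conj_mem _ ht g⟩

theorem isConjK {u t : H} (hu : IsConj u t) : t ∈ K ↔ u ∈ K := by
  obtain ⟨g, rfl⟩ := isConj_iff.1 hu
  exact h.conjK

theorem a1 : φ (r 4) ≠ 1 := fun e => by
  rw [← φ.map_one] at e; exact absurd (h.inj e) (by decide)
theorem d1 : φ (sr 1) ≠ 1 := fun e => by
  rw [← φ.map_one] at e; exact absurd (h.inj e) (by decide)
theorem aK : φ (r 4) ∈ K := (h.par _).2 rfl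
theorem dK : φ (sr 1) ∉ K := fun e => absurd ((h.par _).1 e) (by decide)

theorem cent_a : Subgroup.centralizer {φ (r 4)} = φ.range := by
  ext g
  rw [Subgroup.mem_centralizer_singleton_iff]
  constructor
  · exact h.cen g
  · rintro ⟨x, rfl⟩; rw [← map_mul, ← map_mul, d_a]

theorem card_range : Nat.card φ.range = 16 := by
  rw [← Nat.card_congr (MonoidHom.ofInjective h.inj).toEquiv, DihedralGroup.nat_card]

variable [Finite H]

theorem conj_into {t : H} (t2 : t * t = 1) : ∃ g x, g * t * g⁻¹ = φ x := by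
  haveI : Fact (Nat.Prime 2) := ⟨Nat.prime_two⟩
  have hS : IsPGroup 2 φ.range := IsPGroup.of_card (n := 4) h.card_range
  obtain ⟨P, hP⟩ := hS.exists_le_sylow
  have haP : φ (r 4) ∈ P := hP ⟨_, rfl⟩
  haveI : Nontrivial P := ⟨⟨⟨_, haP⟩, 1, fun e => h.a1 (congrArg Subtype.val e)⟩⟩
  haveI := P.isPGroup'.center_nontrivial
  obtain ⟨z, hz⟩ := exists_ne (1 : Subgroup.center P)
  have hzc : ∀ g ∈ (P : Subgroup H), g * (z : P) = (z : P) * g := fun g hg =>
    congrArg Subtype.val (Subgroup.mem_center_iff.1 z.2 ⟨g, hg⟩)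
  obtain ⟨x, hx⟩ := h.cen _ (hzc _ haP).symm
  have hxa : x = r 4 := by
    refine (d_cent x (h.inj ?_) (h.inj ?_)).resolve_left ?_
    · rw [map_mul, map_mul, hx]; exact (hzc _ (hP ⟨_, rfl⟩)).symm
    · rw [map_mul, map_mul, hx]; exact (hzc _ (hP ⟨_, rfl⟩)).symm
    · rintro rfl
      rw [φ.map_one] at hx
      exact hz (Subtype.ext (Subtype.ext hx.symm))
  have hPS : ∀ g ∈ (P : Subgroup H), ∃ y, φ y = g := fun g hg => h.cen g (by
    rw [← hxa, hx]; exact hzc g hg)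
  have ht : IsPGroup 2 (Subgroup.zpowers t) := by
    rintro ⟨_, k, rfl⟩
    refine ⟨1, Subtype.ext ?_⟩
    show (t ^ k) ^ 2 ^ 1 = 1
    rw [pow_one, ← zpow_natCast, ← zpow_mul, mul_comm, zpow_mul, zpow_natCast, pow_two, t2, one_zpow]
  obtain ⟨Q, hQ⟩ := ht.exists_le_sylow
  obtain ⟨g, hg⟩ := MulAction.exists_smul_eq H Q P
  have : g * t * g⁻¹ ∈ (P : Subgroup H) := by
    rw [← hg, Sylow.coe_subgroup_smul]
    exact ⟨t, hQ (Subgroup.mem_zpowers t), rfl⟩
  obtain ⟨y, hy⟩ := hPS _ this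
  exact ⟨g, y, hy.symm⟩

theorem classes {t : H} (t2 : t * t = 1) (t1 : t ≠ 1) :
    IsConj (φ (r 4)) t ∨ IsConj (φ (sr 1)) t := by
  obtain ⟨g, x, hx⟩ := h.conj_into t2
  have hc : IsConj (φ x) t := (isConj_iff.2 ⟨g, hx⟩).symm
  have x2 : x * x = 1 := h.inj (by
    rw [map_mul, ← hx, φ.map_one]
    calc g * t * g⁻¹ * (g * t * g⁻¹) = g * (t * t) * g⁻¹ := by group
      _ = 1 := by rw [t2]; group)
  rcases d_inv x x2 with rfl | rfl | ⟨y, rfl⟩ | ⟨y, rfl⟩
  · rw [φ.map_one, isConj_one_right] at hc; exact absurd hc t1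
  · exact Or.inl hc
  · exact Or.inl (h.ac.trans ((φ.map_isConj (isConj_iff.2 ⟨y, rfl⟩)).trans hc))
  · exact Or.inr ((φ.map_isConj (isConj_iff.2 ⟨y, rfl⟩)).trans hc)

theorem conj_a {t : H} (t2 : t * t = 1) (t1 : t ≠ 1) (tK : t ∈ K) : IsConj (φ (r 4)) t :=
  (h.classes t2 t1).resolve_right fun e => h.dK ((h.isConjK e).1 tK)

theorem conj_d {t : H} (t2 : t * t = 1) (tK : t ∉ K) : IsConj (φ (sr 1)) t :=
  (h.classes t2 (fun e => tK (e ▸ K.one_mem))).resolve_left fun e => tK ((h.isConjK e).2 h.aK)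

theorem cent_pow {t : H} (t2 : t * t = 1) (t1 : t ≠ 1) (tK : t ∈ K) {g : H} (hg : g * t = t * g) :
    g ^ 8 = 1 ∧ (g ∈ K → g ^ 4 = 1) := by
  obtain ⟨k, hk⟩ := isConj_iff.1 (h.conj_a t2 t1 tK).symm
  obtain ⟨x, hx⟩ := h.cen (k * g * k⁻¹) (by
    rw [← hk]
    calc k * g * k⁻¹ * (k * t * k⁻¹) = k * (g * t) * k⁻¹ := by group
      _ = _ := by rw [hg]; group)
  have e : g = k⁻¹ * φ x * k⁻¹⁻¹ := by rw [hx]; group
  refine ⟨?_, fun gK => ?_⟩
  · rw [e, conj_pow, ← map_pow, d_eight, φ.map_one]; group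
  · rw [e, conj_pow, ← map_pow, d_four x ((h.par x).1 (hx ▸ h.conjK.2 gK)), φ.map_one]; group

end Cx

/-- `X = K ∩ C(d)`. -/
def XX (K : Subgroup H) (φ : DihedralGroup 8 →* H) : Subgroup H :=
  K ⊓ Subgroup.centralizer {φ (sr 1)}

/-- Involutions of `X`. -/
def II (K : Subgroup H) (φ : DihedralGroup 8 →* H) : Set H :=
  {t | t ∈ XX K φ ∧ t * t = 1 ∧ t ≠ 1}

theorem mem_XX {g : H} : g ∈ XX K φ ↔ g ∈ K ∧ g * φ (sr 1) = φ (sr 1) * g := by
  rw [XX, Subgroup.mem_inf, Subgroup.mem_centralizer_singleton_iff]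

theorem II_conj {g t : H} (hg : g ∈ XX K φ) (ht : t ∈ II K φ) : g * t * g⁻¹ ∈ II K φ := by
  refine ⟨(XX K φ).mul_mem ((XX K φ).mul_mem hg ht.1) ((XX K φ).inv_mem hg), ?_, ?_⟩
  · calc g * t * g⁻¹ * (g * t * g⁻¹) = g * (t * t) * g⁻¹ := by group
      _ = 1 := by rw [ht.2.1]; group
  · intro e; apply ht.2.2
    calc t = g⁻¹ * (g * t * g⁻¹) * g := by group
      _ = 1 := by rw [e]; group

namespace Cx
variable (h : Cx K φ)
include h

theorem aI : φ (r 4) ∈ II K φ := ⟨mem_XX.2 ⟨h.aK, ad⟩, a2, h.a1⟩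

theorem cX {g : H} (hg : g ∈ XX K φ) (ha : g * φ (r 4) = φ (r 4) * g) : g = 1 ∨ g = φ (r 4) := by
  obtain ⟨x, rfl⟩ := h.cen g ha
  rw [mem_XX] at hg
  rcases d_cd x ((h.par x).1 hg.1) (h.inj (by rw [map_mul, map_mul]; exact hg.2)) with rfl | rfl
  · exact Or.inl φ.map_one
  · exact Or.inr rfl

variable [Finite H]

theorem odd_a {t : H} (ht : t ∈ II K φ) : Odd (orderOf (φ (r 4) * t)) := by
  rw [← Nat.not_even_iff_odd]
  intro he
  obtain ⟨h1, h2, -⟩ := H6.central_involution a2 ht.2.1 he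
  rcases h.cX ((XX K φ).pow_mem ((XX K φ).mul_mem h.aI.1 ht.1) _) h2 with e | e
  · rw [e] at h1; simp at h1
  · exact H6.left_not_mem_zpowers a2 ht.2.1 h.a1 ht.2.2 ⟨(orderOf (φ (r 4) * t) / 2 : ℕ),
      (zpow_natCast _ _).trans e⟩

theorem conjX {t : H} (ht : t ∈ II K φ) : ∃ g ∈ XX K φ, g * φ (r 4) * g⁻¹ = t := by
  obtain ⟨k, hk⟩ := H6.exists_zpow_conj_of_odd a2 ht.2.1 (h.odd_a ht)
  exact ⟨_, (XX K φ).zpow_mem ((XX K φ).mul_mem h.aI.1 ht.1) k, hk⟩

theorem odd_II {u t : H} (hu : u ∈ II K φ) (ht : t ∈ II K φ) : Odd (orderOf (u * t)) := by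
  obtain ⟨g, hg, rfl⟩ := h.conjX hu
  have := h.odd_a (II_conj ((XX K φ).inv_mem hg) ht)
  rwa [show g * φ (r 4) * g⁻¹ * t = g * (φ (r 4) * (g⁻¹ * t * g⁻¹⁻¹)) * g⁻¹ by group,
    H6.orderOf_conj]

theorem card_X : Nat.card (XX K φ) = 2 * (II K φ).ncard := by
  classical
  let f : XX K φ → II K φ := fun g => ⟨g * φ (r 4) * g⁻¹, II_conj g.2 h.aI⟩
  haveI := Fintype.ofFinite (XX K φ)
  haveI := Fintype.ofFinite (II K φ)
  rw [← Nat.card_coe_set_eq, Nat.card_eq_fintype_card, Nat.card_eq_fintype_card, ← Finset.card_univ,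
    Finset.card_eq_sum_card_fiberwise (f := f) (t := Finset.univ) (fun _ _ => Finset.mem_coe.2 (Finset.mem_univ _)),
    Finset.sum_const_nat (m := 2), mul_comm, Finset.card_univ]
  rintro ⟨t, ht⟩ -
  obtain ⟨g, hg, rfl⟩ := h.conjX ht
  rw [Finset.card_eq_two]
  refine ⟨⟨g, hg⟩, ⟨g * φ (r 4), (XX K φ).mul_mem hg h.aI.1⟩, fun e => h.a1 ?_, ?_⟩
  · have := congrArg Subtype.val e
    simpa using this
  · ext ⟨k, hk⟩
    simp only [Finset.mem_filter, Finset.mem_univ, true_and, Finset.mem_insert,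
      Finset.mem_singleton, Subtype.mk.injEq, f, Subgroup.coe_inv]
    constructor
    · intro e
      rcases h.cX (g := g⁻¹ * k) ((XX K φ).mul_mem ((XX K φ).inv_mem hg) hk) (by
        calc g⁻¹ * k * φ (r 4) = g⁻¹ * (k * φ (r 4) * k⁻¹) * k := by group
          _ = _ := by rw [e]; group) with e' | e'
      · left; rw [inv_mul_eq_one] at e'; exact e'.symm
      · right; rw [← e']; group
    · rintro (rfl | rfl) <;> group

theorem odd_m : Odd (II K φ).ncard := by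
  classical
  haveI : Fact (Nat.Prime 2) := ⟨Nat.prime_two⟩
  haveI := Fintype.ofFinite (II K φ)
  let f : Function.End (II K φ) := fun t => ⟨φ (r 4) * t * (φ (r 4))⁻¹, II_conj h.aI.1 t.2⟩
  have hf : f ^ 2 ^ 1 = 1 := by
    funext t
    apply Subtype.ext
    show φ (r 4) * (φ (r 4) * t * (φ (r 4))⁻¹) * (φ (r 4))⁻¹ = t
    calc _ = (φ (r 4) * φ (r 4)) * t * (φ (r 4) * φ (r 4))⁻¹ := by group
      _ = t := by rw [a2]; group
  have h1 := Equiv.Perm.card_fixedPoints_modEq hf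
  have h2 : Fintype.card f.fixedPoints = 1 := by
    rw [Fintype.card_eq_one_iff]
    refine ⟨⟨⟨_, h.aI⟩, Subtype.ext (by show φ (r 4) * φ (r 4) * _ = φ (r 4); group)⟩, ?_⟩
    rintro ⟨⟨t, ht⟩, e⟩
    have e' : φ (r 4) * t * (φ (r 4))⁻¹ = t := congrArg Subtype.val e
    exact Subtype.ext (Subtype.ext
      ((h.cX ht.1 (mul_inv_eq_iff_eq_mul.1 e').symm).resolve_left ht.2.2))
  rw [h2] at h1
  rw [← Nat.card_coe_set_eq, Nat.card_eq_fintype_card, Nat.odd_iff]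
  exact h1

theorem card_Cd : Nat.card (Subgroup.centralizer {φ (sr 1)} : Subgroup H) =
    4 * (II K φ).ncard := by
  have h1 : K.relIndex (Subgroup.centralizer {φ (sr 1)}) = 2 := by
    haveI := h.nml
    have h2 : K.relIndex (Subgroup.centralizer {φ (sr 1)}) ∣ 2 :=
      h.idx ▸ Subgroup.relIndex_dvd_index_of_normal _ _
    rcases (Nat.dvd_prime Nat.prime_two).1 h2 with e | e
    · exact absurd (Subgroup.relIndex_eq_one.1 e
        (Subgroup.mem_centralizer_singleton_iff.2 rfl)) h.dK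
    · exact e
  have h3 := (K.subgroupOf (Subgroup.centralizer {φ (sr 1)})).index_mul_card
  rw [← Subgroup.inf_subgroupOf_right, Nat.card_congr (Subgroup.subgroupOfEquivOfLe inf_le_right).toEquiv,
    Subgroup.inf_subgroupOf_right] at h3
  rw [← h3]
  change K.relIndex _ * Nat.card (XX K φ) = _
  rw [h1, h.card_X]; ring

theorem n1 : Nat.card {p : H × H // IsConj (φ (r 4)) p.1 ∧ IsConj (φ (sr 1)) p.2 ∧
    φ (r 4) ∈ Subgroup.zpowers (p.1 * p.2)} = 16 := by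
  rw [← card_pr, ← Fintype.card_subtype, ← Nat.card_eq_fintype_card]
  symm
  have sq : ∀ {u t : H}, IsConj u t → u * u = 1 → t * t = 1 := fun {u t} hc hu => by
    obtain ⟨g, rfl⟩ := isConj_iff.1 hc
    calc g * u * g⁻¹ * (g * u * g⁻¹) = g * (u * u) * g⁻¹ := by group
      _ = 1 := by rw [hu]; group
  refine Nat.card_eq_of_bijective (fun q => ⟨(φ q.1.1, φ q.1.2), ?_, ?_, ?_⟩) ⟨?_, ?_⟩
  · obtain ⟨h1, h2, h3, -⟩ := q.2
    exact h.conj_a (by rw [← map_mul, h1, φ.map_one])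
      (fun e => h2 (h.inj (e.trans φ.map_one.symm))) ((h.par _).2 h3)
  · obtain ⟨-, -, -, h1, h2, -⟩ := q.2
    exact h.conj_d (by rw [← map_mul, h1, φ.map_one]) (fun e => by
      rw [(h.par _).1 e] at h2; exact absurd h2 (by decide))
  · obtain ⟨-, -, -, -, -, k, hk⟩ := q.2
    exact ⟨(k : ℕ), by simp only [zpow_natCast]; rw [← map_mul, ← map_pow, hk]⟩
  · rintro ⟨⟨x, y⟩, _⟩ ⟨⟨x', y'⟩, _⟩ e
    simp only [Subtype.mk.injEq, Prod.mk.injEq] at e ⊢
    exact ⟨h.inj e.1, h.inj e.2⟩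
  · rintro ⟨⟨u, v⟩, hu, hv, k, hk⟩
    simp only at hu hv hk
    have u2 := sq hu a2
    have v2 := sq hv d2
    have ai : (u * v) ^ (-k) = φ (r 4) := by rw [zpow_neg, hk, H6.inv_eq_of_mul_self a2]
    obtain ⟨x, rfl⟩ := h.cen u (by
      have := H6.conj_zpow_left u2 v2 k
      rw [ai, hk] at this; exact mul_inv_eq_iff_eq_mul.1 this)
    obtain ⟨y, rfl⟩ := h.cen v (by
      have := H6.conj_zpow_right u2 v2 k
      rw [ai, hk] at this; exact mul_inv_eq_iff_eq_mul.1 this)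
    refine ⟨⟨(x, y), h.inj (by rw [map_mul, u2, φ.map_one]), ?_, (h.par _).1 ((h.isConjK hu).2 h.aK),
      h.inj (by rw [map_mul, v2, φ.map_one]), ?_, ?_⟩, rfl⟩
    · rintro rfl
      rw [φ.map_one, isConj_one_left] at hu; exact h.a1 hu
    · simp only
      rw [← Bool.not_eq_true, ← h.par]; exact fun e => h.dK ((h.isConjK hv).1 e)
    · refine ⟨⟨(k % 8).toNat, by omega⟩, h.inj ?_⟩
      simp only
      rw [← hk, ← map_mul, ← map_zpow, ← zpow_natCast, Int.toNat_of_nonneg (by omega)]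
      congr 1
      exact (zpow_eq_zpow_emod' k (d_eight (x * y))).symm

theorem n2 : Nat.card {p : H × H // IsConj (φ (r 4)) p.1 ∧ IsConj (φ (sr 1)) p.2 ∧
    φ (sr 1) ∈ Subgroup.zpowers (p.1 * p.2)} = (II K φ).ncard * (II K φ).ncard := by
  rw [← Nat.card_coe_set_eq, ← Nat.card_prod]
  symm
  have sq : ∀ {u t : H}, IsConj u t → u * u = 1 → t * t = 1 := fun {u t} hc hu => by
    obtain ⟨g, rfl⟩ := isConj_iff.1 hc
    calc g * u * g⁻¹ * (g * u * g⁻¹) = g * (u * u) * g⁻¹ := by group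
      _ = 1 := by rw [hu]; group
  have dd : φ (sr 1) * φ (sr 1) = 1 := d2
  set d := φ (sr 1) with hd
  refine Nat.card_eq_of_bijective (fun q => ⟨(q.1, q.2 * d), ?_, ?_, ?_⟩) ⟨?_, ?_⟩
  · exact h.conj_a q.1.2.2.1 q.1.2.2.2 (mem_XX.1 q.1.2.1).1
  · have h1 := mem_XX.1 q.2.2.1
    refine h.conj_d ?_ (fun e => h.dK ((K.mul_mem_cancel_left h1.1).1 e))
    calc q.2 * d * (q.2 * d) = q.2 * (d * q.2) * d := by group
      _ = q.2 * q.2 * (d * d) := by rw [hd, ← h1.2]; group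
      _ = 1 := by rw [q.2.2.2.1, dd, one_mul]
  · obtain ⟨n, hn⟩ := h.odd_II q.1.2 q.2.2
    have hc : Commute (q.1 * q.2 : H) d := (mem_XX.1 ((XX K φ).mul_mem q.1.2.1 q.2.2.1)).2
    refine ⟨(orderOf (q.1 * q.2 : H) : ℕ), ?_⟩
    simp only [zpow_natCast]
    rw [← mul_assoc, hc.mul_pow, pow_orderOf_eq_one, one_mul, hn, pow_succ, pow_mul, pow_two, dd,
      one_pow, one_mul]
  · rintro ⟨x, y⟩ ⟨x', y'⟩ e
    simp only [Subtype.mk.injEq, Prod.mk.injEq, mul_left_inj] at e ⊢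
    exact ⟨Subtype.ext e.1, Subtype.ext e.2⟩
  · rintro ⟨⟨u, v⟩, hu, hv, k, hk⟩
    simp only at hu hv hk
    have u2 := sq hu a2
    have v2 := sq hv dd
    have ai : (u * v) ^ (-k) = d := by rw [zpow_neg, hk, H6.inv_eq_of_mul_self dd]
    have ud : u * d = d * u := by
      have := H6.conj_zpow_left u2 v2 k
      rw [ai, hk] at this; exact mul_inv_eq_iff_eq_mul.1 this
    have vd : v * d = d * v := by
      have := H6.conj_zpow_right u2 v2 k
      rw [ai, hk] at this; exact mul_inv_eq_iff_eq_mul.1 this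
    have u1 : u ≠ 1 := by
      rintro rfl
      rw [isConj_one_left] at hu; exact h.a1 hu
    have vK : v ∉ K := fun e => h.dK ((h.isConjK hv).1 e)
    refine ⟨(⟨u, mem_XX.2 ⟨(h.isConjK hu).2 h.aK, ud⟩, u2, u1⟩, ⟨v * d, mem_XX.2 ⟨?_, ?_⟩, ?_, ?_⟩), ?_⟩
    · rw [Subgroup.mul_mem_iff_of_index_two h.idx]; exact iff_of_false vK h.dK
    · rw [← hd, vd, mul_assoc, vd]
    · calc v * d * (v * d) = v * (d * v) * d := by group
        _ = v * v * (d * d) := by rw [← vd]; group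
        _ = 1 := by rw [v2, dd, one_mul]
    · intro e
      have e' : v = d := by rw [eq_inv_of_mul_eq_one_left e, H6.inv_eq_of_mul_self dd]
      have h1 : d ∈ Subgroup.zpowers (d * u) := ⟨k, by simp only; rw [← ud]; rwa [e'] at hk⟩
      exact H6.left_not_mem_zpowers dd u2 h.d1 u1 h1
    · simp only [Subtype.mk.injEq, Prod.mk.injEq, true_and]
      rw [mul_assoc, dd, mul_one]

theorem card_K : Nat.card K = 8 * (II K φ).ncard * ((II K φ).ncard + 4) := by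
  have h1 := Cfsg.Agent.S0213.result (φ (r 4)) (φ (sr 1)) (H6.orderOf_eq_two_of a2 h.a1)
    (H6.orderOf_eq_two_of d2 h.d1) (fun e => h.dK ((h.isConjK e).2 h.aK))
    (fun t ht => h.classes (H6.mul_self_of_orderOf_two ht) (H6.ne_one_of_orderOf_two ht))
  rw [h.n1, h.n2, h.card_Cd, h.cent_a, h.card_range, ← K.index_mul_card, h.idx] at h1
  nlinarith

end Cx

end H8.ThK
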