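import Mathlib
import Cfsg.Agent.H8.K3F
import Cfsg.Agent.H10.Conway
import Cfsg.Agent.H9.M24
import Cfsg.Agent.H23.Components
import Cfsg.Agent.S1067
import Cfsg.Agent.S0399
import Cfsg.Agent.S1619
import Cfsg.Agent.S1625
import Cfsg.Agent.S1694
import Cfsg.Agent.S1695
import Cfsg.Agent.S1700
import Cfsg.Agent.S1701
import Cfsg.Agent.S0144
import Cfsg.Agent.S0222
import Cfsg.Agent.S0348
import Cfsg.Agent.S0482
import Cfsg.Agent.S0487
import Cfsg.Agent.S0506
import Cfsg.Agent.S1169
import Cfsg.Agent.S1170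
import Cfsg.Agent.S1758
import Cfsg.Agent.S1759
import Cfsg.Agent.S1762
import Cfsg.Agent.S1763

/-!
# Simple groups of order `p 3^a 2^b`: the recognition theorems
-/

set_option autoImplicit false
set_option linter.unusedVariables false

namespace H8.K3

open Cfsg Matrix

section Leech
open Cfsg.Spor Subgroup

theorem dvd_of_fix (H : Subgroup (Equiv.Perm leechLattice))
    (h : ∀ g : H10.G0, (∀ v : leechLattice, (∀ σ : Equiv.Perm GolayPt, σ none = none → σ (some 0) = some 0 →
      ∀ j, (v : GolayPt → ℤ) (σ j) = (v : GolayPt → ℤ) j) → g • v = v) → (g : Equiv.Perm leechLattice) ∈ H) :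
    5 * 11 ∣ Nat.card H := by
  let f : M22 →* Equiv.Perm leechLattice :=
    Co0.subtype.comp (H10.permHom.comp (inclusion (inf_le_left.trans inf_le_left : M22 ≤ M24)))
  have hf : Function.Injective f := Co0.subtype_injective.comp (H10.permHom_inj.comp (inclusion_injective _))
  have hm : ∀ σ, f σ ∈ H := fun σ => h _ fun v hv => Subtype.ext (funext fun j => by
    have := hv _ (inv_mem σ.2).1.2 (inv_mem σ.2).2 j
    refine Eq.trans ?_ this
    simp [H10.permHom_apply, H10.mono_smul, signedPerm, H10.gc0]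
    rfl)
  exact (show 5 * 11 ∣ Nat.card M22 by rw [H9.card_M22]; decide).trans
    (card_dvd_of_injective (f.codRestrict H hm) ((f.injective_codRestrict H hm).2 hf))

theorem fix_iff {σ : Equiv.Perm GolayPt} {p : GolayPt} (h : σ p = p) (j : GolayPt) : σ j = p ↔ j = p := by
  rw [← σ.apply_eq_iff_eq (x := j), h]

theorem co2 : 5 * 11 ∣ Nat.card Co2 := dvd_of_fix _ fun g hg =>
  ⟨g.2, hg leechU fun σ h1 h2 j => by simp [leechU, vecU, fix_iff h1, fix_iff h2]⟩

theorem hs : 5 * 11 ∣ Nat.card HS := dvd_of_fix _ fun g hg =>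
  ⟨⟨g.2, hg leechV fun σ h1 _ j => by simp [leechV, vecV, fix_iff h1]⟩,
    hg leechU' fun σ h1 h2 j => by simp [leechU', vecU', fix_iff h1, fix_iff h2]⟩

end Leech

variable {G : Type*} [Group G] [Finite G] [IsSimpleGroup G]

theorem exists_nc (hG : ¬ IsMulCommutative G) : ∃ a b : G, a * b ≠ b * a := by
  by_contra hc
  push Not at hc
  exact hG ⟨⟨hc⟩⟩

omit [Finite G] [IsSimpleGroup G] in
theorem not_eq (h : K3N (Nat.card G)) {n : ℕ} (e : Nat.card G = n) (r s : ℕ) (hd : r * s ∣ n)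
    (hr : r.Prime := by norm_num) (hs : s.Prime := by norm_num) (r5 : 5 ≤ r := by norm_num)
    (s5 : 5 ≤ s := by norm_num) : False :=
  h.two r s (e ▸ hd) hr hs r5 s5

/-- a nonabelian simple `L₂(q)` has `q ≥ 4` -/
theorem l2' (hG : ¬ IsMulCommutative G) (h : K3N (Nat.card G)) {F : Type} [Field F] [Fintype F]
    (e : G ≃* ProjectiveSpecialLinearGroup (Fin 2) F) : Concl G := by
  refine l2 h ?_ e
  by_contra h4
  have h1 : 1 < Fintype.card F := Fintype.one_lt_card
  have hc' : Nat.card G = 6 ∨ Nat.card G = 12 := by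
    rw [Nat.card_congr e.toEquiv]
    have : Fintype.card F = 1 + 1 ∨ Fintype.card F = 2 + 1 := by omega
    rcases this with hF | hF
    all_goals
      have := card_l2 hF
      norm_num at this
      omega
  refine hG ⟨⟨IsSimpleGroup.comm_iff_isSolvable.2 ?_⟩⟩
  rcases hc' with e | e
  · exact Cfsg.Agent.S0144.result 2 3 1 1 Nat.prime_two Nat.prime_three e
  · exact Cfsg.Agent.S0144.result 2 3 2 1 Nat.prime_two Nat.prime_three e

theorem of_rank2 (hG : ¬ IsMulCommutative G) (h : K3N (Nat.card G)) (h2 : PRankLE 2 2 G) :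
    Concl G := by
  rcases Cfsg.Agent.S0482.result hG h2 with ⟨F, _, _, -, h5, ⟨e⟩⟩ | ⟨F, _, _, -, ⟨e⟩⟩ |
    ⟨F, _, _, q, hF, hq, ⟨e⟩⟩ | ⟨F, _, _, hF, ⟨e⟩⟩ | e | e
  · exact l2 h (by omega) e
  · exact l3 h e
  · exact u3 h hF (by rintro rfl; exact absurd hq (by decide)) e
  · exact u3 h (q := 4) hF (by norm_num) e
  · exact (not_alt h le_rfl e).elim
  · exact (not_eq h e.2 5 11 (by norm_num)).elim

theorem of_ngroup (hG : ¬ IsMulCommutative G) (h : K3N (Nat.card G)) (hN : IsNGroup G) :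
    Concl G := by
  rcases Cfsg.Agent.S0487.result hG hN with ⟨F, _, _, h4, ⟨e⟩⟩ | e | ⟨F, _, _, -, ⟨e⟩⟩ |
    ⟨F, _, _, hF, ⟨e⟩⟩ | e | e | e
  · exact l2 h h4 e
  · exact (not_sz h e).elim
  · exact l3 h e
  · exact u3 h (q := 3) hF (by norm_num) e
  · exact (not_alt h le_rfl e).elim
  · exact (not_eq h e.2 5 11 (by norm_num)).elim
  · exact (not_eq h e.2 5 5 (by norm_num)).elim

theorem of_cit (hG : ¬ IsMulCommutative G) (h : K3N (Nat.card G))
    (hC : ∀ t : G, orderOf t = 2 → IsPGroup 2 (Subgroup.centralizer ({t} : Set G))) : Concl G := by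
  rcases Cfsg.Agent.S0348.result (exists_nc hG) hC with ⟨F, _, _, -, ⟨e⟩⟩ | ⟨F, _, _, -, ⟨e⟩⟩ | e
  · exact l2' hG h e
  · exact l3 h e
  · exact (not_sz h e).elim

theorem of_se (hG : ¬ IsMulCommutative G) (h : K3N (Nat.card G)) {H : Subgroup G}
    (hH : IsStronglyEmbedded H) : Concl G := by
  rcases Cfsg.Agent.S0222.result (exists_nc hG) H hH with ⟨F, _, _, -, h4, ⟨e⟩⟩ | e |
    ⟨F, _, _, q, hF, -, h4, ⟨e⟩⟩
  · exact l2 h h4 e
  · exact (not_sz h e).elim
  · exact u3 h hF (by omega) e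

theorem of_abl (hG : ¬ IsMulCommutative G) (h : K3N (Nat.card G)) (S : Sylow 2 G)
    (hS : IsMulCommutative (S : Subgroup G)) : Concl G := by
  rcases Cfsg.Agent.S0506.result hG S hS with ⟨a, -, F, _, _, -, ⟨e⟩⟩ | ⟨F, _, _, -, ⟨e⟩⟩ | e | e
  · exact l2' hG h e
  · exact l2' hG h e
  · exact (not_ree h e).elim
  · exact (not_eq h e.2 5 7 (by norm_num)).elim

/-- a strongly closed abelian `2`-subgroup -/
theorem of_sca (hG : ¬ IsMulCommutative G) (h : K3N (Nat.card G)) (S : Sylow 2 G) {A : Subgroup G}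
    (hA : A ≠ ⊥) (hc : IsMulCommutative A) (hs : IsStronglyClosed A (S : Subgroup G)) : Concl G :=
  (Cfsg.Agent.S1169.result S A hA hc hs).elim (of_abl hG h S) fun ⟨_, hH⟩ => of_se hG h hH

/-- a strongly closed `2`-subgroup of class at most two -/
theorem of_cl2 (hG : ¬ IsMulCommutative G) (h : K3N (Nat.card G)) (S : Sylow 2 G) {A : Subgroup G}
    (hA : A ≠ ⊥) (hc : ⁅(⊤ : Subgroup A), ⊤⁆ ≤ Subgroup.center A)
    (hs : IsStronglyClosed A (S : Subgroup G)) : Concl G := by
  by_cases ha : IsMulCommutative A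
  · exact of_sca hG h S hA ha hs
  rcases Cfsg.Agent.S1170.result S A hs ha hc with ⟨F, _, _, -, ⟨e⟩⟩ | ⟨F, _, _, q, hF, -, h4, ⟨e⟩⟩ |
    e | ⟨F, _, _, -, ⟨e⟩⟩ | ⟨F, _, _, -, h4, ⟨e⟩⟩ | e
  · exact l2' hG h e
  · exact u3 h hF (by omega) e
  · exact (not_sz h e).elim
  · exact l3 h e
  · exact sp4 h (by omega) e
  · exact (not_alt h le_rfl e).elim

/-- an involution centraliser whose generalized Fitting subgroup is of symplectic type of width at most four -/
theorem of_sympl (hG : ¬ IsMulCommutative G) (h : K3N (Nat.card G)) {z : G} (hz : orderOf z = 2)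
    (hQ : IsOfSymplecticType ↥(generalizedFittingSubgroup ↥(Subgroup.centralizer ({z} : Set G))))
    (hw : ¬ IsExtraspecial 2 ↥(generalizedFittingSubgroup ↥(Subgroup.centralizer ({z} : Set G))) ∨
      Nat.card ↥(generalizedFittingSubgroup ↥(Subgroup.centralizer ({z} : Set G))) = 32 ∨
      Nat.card ↥(generalizedFittingSubgroup ↥(Subgroup.centralizer ({z} : Set G))) = 128 ∨
      Nat.card ↥(generalizedFittingSubgroup ↥(Subgroup.centralizer ({z} : Set G))) = 512) :
    Concl G := by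
  by_cases hE : IsExtraspecial 2 ↥(generalizedFittingSubgroup ↥(Subgroup.centralizer ({z} : Set G)))
  · rcases hw.resolve_left (not_not.2 hE) with hc | hc | hc
    · have hT : generalizedFittingSubgroup G = ⊤ :=
        (H23.fstar_normal G).eq_bot_or_eq_top.resolve_left H23.fstar_ne_bot
      have ε : G ≃* generalizedFittingSubgroup G :=
        (hT ▸ Subgroup.topEquiv : generalizedFittingSubgroup G ≃* G).symm
      have k := h.equiv ε
      refine Concl.equiv ?_ ε
      have hs : IsSimpleGroup (generalizedFittingSubgroup G) := ε.symm.isSimpleGroup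
      have hn : ¬ IsMulCommutative (generalizedFittingSubgroup G) := fun hm =>
        hG ⟨⟨fun a b => ε.injective (by rw [map_mul, map_mul]; exact hm.1.1 _ _)⟩⟩
      rcases Cfsg.Agent.S1759.result z hz hQ hE hc hs hn with ⟨F, _, _, hF, ⟨⟨e⟩⟩ | e⟩ |
        ⟨F, _, _, hF, ⟨e⟩⟩ | ⟨F, _, _, hF, e | e⟩ | e | e | e | e | ⟨F, _, _, ω, hF, hω, e⟩
      · exact u3 k (q := 3) hF (by norm_num) e
      · exact (not_u43 k hF e).elim
      · exact u42 hF e
      · exact (not_l43 k hF e).elim
      · exact (not_g23 k hF e).elim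
      · exact (not_alt k (by norm_num) e).elim
      · exact (not_alt k (by norm_num) e).elim
      · exact (not_card k e 5 11 (by rw [H9.card_M12]; norm_num)).elim
      · exact (not_card k e 5 7 (by rw [Cfsg.Agent.S1619.result.2.2.2]; norm_num)).elim
      · exact (not_card k e 5 17 (by rw [(Cfsg.Agent.S1625.result F hF ω hω).2.2.1]; norm_num)).elim
    · rcases Cfsg.Agent.S1762.result hG z hz hQ hE hc with ⟨F, _, _, hF, e⟩ | ⟨F, _, _, hF, e⟩ | e | e | e
      · exact (not_l52 h hF e).elim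
      · exact (not_u52 h hF e).elim
      · exact (not_card h e 5 7 (by rw [H9.card_M24]; norm_num)).elim
      · exact (not_card h e 5 7 (by rw [Cfsg.Agent.S1695.result.2]; norm_num)).elim
      · exact (not_card h e 5 7 (by rw [Cfsg.Agent.S1694.result.2]; norm_num)).elim
    · rcases Cfsg.Agent.S1763.result hG z hz hQ hE hc with ⟨F, _, _, hF, e | e | ⟨a, b, hab, e⟩⟩ |
        ⟨F, _, _, hF, e⟩ | ⟨F, _, _, hF, e⟩ | ⟨F, _, _, hF, e⟩ | e | e | e | e
      · exact (not_l62 h hF e).elim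
      · exact (not_o8p h (.inl hF) e).elim
      · exact (not_o8m h hF a b hab e).elim
      · exact (not_u62 h hF e).elim
      · exact (not_card h e 7 7 (by
          rw [Cfsg.Agent.S1067.result (q := 2) Nat.prime_two.isPrimePow hF]; norm_num)).elim
      · exact (not_o8p h (.inr hF) e).elim
      · exact (not_card h e 5 7 (by rw [Cfsg.Agent.S0399.result.2]; norm_num)).elim
      · exact (not_card h e 5 11 co2).elim
      · exact (not_card h e 5 7 (by rw [Cfsg.Agent.S1700.result.2]; norm_num)).elim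
      · exact (not_card h e 5 7 (by rw [Cfsg.Agent.S1701.result.2]; norm_num)).elim
  rcases Cfsg.Agent.S1758.result hG z hz hQ with e | e | ⟨F, _, _, -, ⟨e⟩⟩ | e | ⟨F, _, _, -, ⟨e⟩⟩ |
    ⟨F, _, _, hF, ⟨e⟩⟩ | e
  · exact (hE e).elim
  · exfalso
    have hO : oddCore G = ⊥ := by
      refine sSup_eq_bot.2 fun N hN => hN.1.eq_bot_or_eq_top.resolve_right ?_
      rintro rfl
      have h2 : 2 ∣ Nat.card G := hz ▸ orderOf_dvd_natCard z
      have := hN.2
      rw [Subgroup.card_top] at this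
      exact absurd (Nat.Coprime.eq_one_of_dvd this.symm h2) (by norm_num)
    have hc : z ∈ Subgroup.center G := Subgroup.mem_center_iff.2 fun g => by
      have h1 := Subgroup.mem_center_iff.1 e (QuotientGroup.mk' (oddCore G) g)
      rw [← map_mul, ← map_mul, QuotientGroup.mk'_apply, QuotientGroup.mk'_apply, QuotientGroup.eq, hO,
        Subgroup.mem_bot, inv_mul_eq_one] at h1
      exact h1
    rcases (inferInstance : (Subgroup.center G).Normal).eq_bot_or_eq_top with e0 | e0
    · rw [e0, Subgroup.mem_bot] at hc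
      rw [hc, orderOf_one] at hz
      omega
    · exact hG ⟨⟨fun a b => Subgroup.mem_center_iff.1 (e0 ▸ Subgroup.mem_top b) a⟩⟩
  · exact l2' hG h e
  · exact (not_card h e 5 11 (by rw [H9.card_M11]; norm_num)).elim
  · exact l3 h e
  · exact u3 h (q := 3) hF (by norm_num) e
  · exact (not_card h e 5 11 hs).elim

end H8.K3
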