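import Mathlib
import Cfsg.Agent.H19.Z0
import Cfsg.Agent.H11.LF0

/-!
# The even cocode inside the Leech lattice modulo 2
-/

set_option autoImplicit false
set_option linter.all false

namespace H10.Mon.MG.R9

open Cfsg H9 H10.Mon.LFt
open scoped symmDiff Pointwise

/-- The vector `4 e_i + 4 e_j`. -/
noncomputable def W (i j : P) : L :=
  ⟨Pi.single i 4 + Pi.single j 4, pair_mem_L i j dvd_rfl dvd_rfl (by norm_num)⟩

theorem W_apply (i j p : P) :
    (W i j : V) p = (if p = i then 4 else 0) + if p = j then 4 else 0 := by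
  simp only [W, Pi.add_apply, Pi.single_apply]

theorem e8_apply (i p : P) : (e8 i : V) p = if p = i then 8 else 0 := by
  rw [e8_coe, Pi.single_apply]

/-- The class attached to a point. -/
noncomputable def a (i : P) : C := kap (W i none)

theorem kap_W (i j : P) : kap (W i j) + Om = a i + a j := by
  rw [a, a, ← map_add, ← kap_e8 none, ← map_add]
  congr 1
  ext p
  simp only [AddSubgroup.coe_add, Pi.add_apply, W_apply, e8_apply]
  split_ifs <;> rfl

theorem a_none : a none = Om := by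
  have := kap_W none none
  rw [cc2] at this
  exact add_eq_zero_C.1 this

theorem W_fst (i j : P) : (kap (W i j)).1 = 0 :=
  kap_fst_zero fun p => by rw [W_apply]; split_ifs <;> rfl

theorem a_fst (i : P) : (a i).1 = 0 := W_fst _ _

theorem sh0_W {i j : P} (h : i ≠ j) : Sh0 (kap (W i j)) :=
  ⟨⟨_, by
    change sqNorm (Pi.single i 4 + Pi.single j 4 : V) = 32
    rw [sqNorm_add, sqNorm_single, sqNorm_single, dot_single_left, Pi.single_eq_of_ne h]
    norm_num, rfl⟩, W_fst _ _⟩

theorem eo_sh0 {c d : C} (h : Eo c d) (hd : Sh0 d) : Sh0 c := by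
  rcases h with rfl | rfl
  exacts [hd, sh0_Om hd]

theorem eo_O (c : C) : Eo (c + Om) c := .inr rfl

theorem eo_fst {c d : C} (h : Eo c d) (hd : d.1 = 0) : c.1 = 0 := by
  rcases h with rfl | rfl
  exacts [hd, by rw [Prod.fst_add, hd, Om_fst, add_zero]]

theorem sh0_a {i j : P} (h : i ≠ j) : Sh0 (a i + a j) := kap_W i j ▸ sh0_Om (sh0_W h)

theorem mono_a (σ : M24) (o : GC) (i j : P) :
    Eo (mono σ o • (a i + a j)) (a (σ.1 i) + a (σ.1 j)) := by
  have e : ∀ k : P, Eo (kap (if k ∈ o.1 then e8 k else 0)) 0 := fun k => by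
    split_ifs
    exacts [.inr (by rw [kap_e8, zero_add]), .inl (map_zero _)]
  have : mono σ o • W i j + (if σ.1 i ∈ o.1 then e8 (σ.1 i) else 0) +
      (if σ.1 j ∈ o.1 then e8 (σ.1 j) else 0) = W (σ.1 i) (σ.1 j) := by
    ext p
    obtain ⟨p, rfl⟩ := σ.1.surjective p
    simp only [AddSubgroup.coe_add, Pi.add_apply, mono_apply, W_apply,
      apply_ite (fun x : L => (x : V) (σ.1 p)), e8_apply, σ.1.injective.eq_iff,
      AddSubgroup.coe_zero, Pi.zero_apply]
    by_cases h1 : p = i <;> by_cases h2 : p = j <;> subst_vars <;> split_ifs <;> simp_all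
  rw [← kap_W, ← kap_W, smul_add, fix_Om.2 (mono_mem_N0 σ o), smul_kap, ← this, map_add, map_add]
  have := ((Eo.rfl (a := kap (mono σ o • W i j))).add (e (σ.1 i))).add (e (σ.1 j))
  rw [add_zero, add_zero] at this
  exact this.symm.add Eo.rfl

theorem sh0_ex' {c : C} (h : Sh0 c) : ∃ i j, i ≠ j ∧ Eo c (a i + a j) := by
  have h0 : Sh0 (a none + a (some 0)) := sh0_a (by simp)
  obtain ⟨g, g1, g2⟩ := trans_N0 (c := toS _ h0.1) (d := toS c h.1) ⟨fun _ => h.2, fun _ => h0.2⟩
    (by rw [toS_val, toS_val, h0.2, h.2])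
  obtain ⟨σ, o, rfl⟩ := mem_N0_iff.1 g1
  refine ⟨_, _, σ.1.injective.ne (show none ≠ some 0 by simp), ?_⟩
  rw [show c = mono σ o • (a none + a (some 0)) from (congrArg Subtype.val g2).symm]
  exact mono_a σ o _ _

/-- Linear combinations of classes. -/
noncomputable def Lc (b : P → C) : (P → ZMod 2) →+ C :=
  AddMonoidHom.mk' (fun w => ∑ i, w i • b i) fun v w => by
    simp only [Pi.add_apply, add_smul, Finset.sum_add_distrib]

theorem Lc_apply (b : P → C) (w : P → ZMod 2) : Lc b w = ∑ i, w i • b i := rfl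

theorem Lc_single (b : P → C) (i : P) : Lc b (Pi.single i 1) = b i := by
  rw [Lc_apply, Finset.sum_eq_single i (fun j _ h => by rw [Pi.single_eq_of_ne h, zero_smul])
    (by simp), Pi.single_eq_same, one_smul]

theorem key {w : P → ZMod 2} (hw : ∑ i, w i = 0) : Eo (Lc a w) 0 ↔ w ∈ golayCode := by
  have hv : ∀ i, ((w i).val : ℤ) = if i ∈ support₂ w then 1 else 0 := fun i => by
    simp only [mem_support]
    rcases z2 (w i) with e | e <;> rw [e] <;> rfl
  have e1 : Lc a w = kap (∑ i, (w i).val • W i none) := by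
    rw [map_sum, Lc_apply]
    refine Finset.sum_congr rfl fun i _ => ?_
    rw [map_nsmul, ← a]
    rcases z2 (w i) with e | e <;> rw [e]
    exacts [by simp, by rw [one_smul, ZMod.val_one, one_smul]]
  obtain ⟨m, hm⟩ : (2 : ℤ) ∣ ∑ i, ((w i).val : ℤ) := by
    rw [← Nat.cast_ofNat, ← ZMod.intCast_zmod_eq_zero_iff_dvd]
    push_cast
    simpa only [ZMod.natCast_val, ZMod.cast_id', id_eq] using hw
  have e2 : ∀ p, ((∑ i, (w i).val • W i none : L) : V) p =
      4 * (w p).val + if p = none then 8 * m else 0 := fun p => by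
    rw [AddSubgroup.val_finset_sum, Finset.sum_apply]
    simp only [AddSubgroup.coe_nsmul, Pi.smul_apply, W_apply, nsmul_eq_mul, mul_add,
      Finset.sum_add_distrib, mul_ite, mul_zero, Finset.sum_ite_eq, Finset.mem_univ, if_true]
    split_ifs
    · rw [← Finset.sum_mul, hm]; ring
    · simp [mul_comm]
  rw [e1, ← support_mem_GC]
  generalize (∑ i, (w i).val • W i none : L) = x at e2
  constructor
  · intro h
    obtain ⟨y, r, hy⟩ : ∃ (y : L) (r : ℤ), ∀ p, (y : V) p =
        2 * (w p).val + if p = none then 4 * r else 0 := by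
      rcases h with h | h
      · obtain ⟨y, rfl⟩ := kap_eq_zero.1 h
        refine ⟨y, m, fun p => ?_⟩
        have := e2 p
        rw [AddSubgroup.coe_nsmul, Pi.smul_apply, nsmul_eq_mul] at this
        split_ifs at this ⊢ <;> push_cast at this <;> omega
      · rw [zero_add, ← kap_e8 none] at h
        obtain ⟨y, hy⟩ := kap_eq.1 h
        refine ⟨y, m - 1, fun p => ?_⟩
        have := congrArg (fun z : L => (z : V) p) hy
        simp only [AddSubgroup.coe_sub, Pi.sub_apply, AddSubgroup.coe_nsmul, Pi.smul_apply,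
          nsmul_eq_mul, e2, e8_apply] at this
        split_ifs at this ⊢ <;> push_cast at this <;> omega
    obtain ⟨c, h | h⟩ := (mem_L_iff01 _).1 y.2
    · convert h.1 using 1
      ext p
      have := h.2.1 p
      rw [hy, hv, res] at this
      split_ifs at this <;> simp_all <;> omega
    · have := h.2.1 (some 0)
      rw [hy, hv, res] at this
      split_ifs at this <;> omega
  · intro h
    refine .inl (kap_eq_zero.2 ⟨⟨fun p => 2 * (w p).val + if p = none then 4 * m else 0,
      LD.mem (m := 0) ⟨h, fun p => ?_, ?_⟩⟩, Subtype.ext (funext fun p => ?_)⟩)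
    · beta_reduce
      rw [hv, res]; split_ifs <;> omega
    · rw [Finset.sum_add_distrib, ← Finset.mul_sum, hm, Finset.sum_ite_eq', if_pos (Finset.mem_univ _)]
      omega
    · rw [e2, AddSubgroup.coe_nsmul, Pi.smul_apply, nsmul_eq_mul]
      change _ = _ * (_ + ite _ _ _)
      split_ifs <;> push_cast <;> ring

theorem six {i j k l m n : P} (h : Eo (a i + a j + (a k + a l)) (a m + a n)) (p : P) :
    ((if p = i then 1 else 0) + (if p = j then 1 else 0) + ((if p = k then 1 else 0) +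
      (if p = l then 1 else 0)) + ((if p = m then 1 else 0) + (if p = n then 1 else 0)) : ZMod 2) = 0 := by
  have h1 := h.add (Eo.rfl (a := a m + a n))
  rw [cc2] at h1
  simp only [← Lc_single a, ← map_add] at h1
  rw [key (by simp only [Pi.add_apply, Finset.sum_add_distrib, Finset.sum_pi_single',
    Finset.mem_univ, if_true]; rfl), ← support_mem_GC] at h1
  have h2 := card_of_mem_GC h1
  have h3 : (support₂ (Pi.single i 1 + Pi.single j 1 + (Pi.single k 1 + Pi.single l 1) +
      (Pi.single m 1 + Pi.single n 1) : P → ZMod 2)).card ≤ 6 :=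
    (Finset.card_le_card (t := {i, j, k, l, m, n}) fun p hp => by
      by_contra hn
      simp only [Finset.mem_insert, Finset.mem_singleton, not_or] at hn
      simp only [mem_support, Pi.add_apply, Pi.single_apply, hn, if_false] at hp
      exact absurd hp (by decide)).trans Finset.card_le_six
  have h4 := Finset.eq_empty_iff_forall_notMem.1 (Finset.card_eq_zero.1
    (h2.resolve_right (by omega))) p
  simp only [mem_support, Pi.add_apply, Pi.single_apply] at h4
  exact (z2 _).resolve_right h4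

/-- Two duads whose sum is a duad meet in one point. -/
theorem meet {i j k l : P} (h1 : i ≠ j) (h2 : k ≠ l) (h : Sh0 (a i + a j + (a k + a l))) :
    (i = k ∨ i = l ∨ j = k ∨ j = l) ∧ ¬ (i = k ∧ j = l) ∧ ¬ (i = l ∧ j = k) := by
  obtain ⟨m, n, h3, h4⟩ := sh0_ex' h
  have s := six h4
  refine ⟨?_, ?_, ?_⟩
  · by_contra hn
    simp only [not_or] at hn
    obtain ⟨a1, a2, a3, a4⟩ := hn
    have kk : ∀ p, ((if p = i then 1 else 0) + (if p = j then 1 else 0) + ((if p = k then 1 else 0) +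
        (if p = l then 1 else 0)) : ZMod 2) = 1 → p = m ∨ p = n := fun p hp => by
      have := s p
      rw [hp] at this
      by_contra hn
      simp only [not_or] at hn
      rw [if_neg hn.1, if_neg hn.2] at this
      exact absurd this (by decide)
    have k1 := kk i (by simp [h1, a1, a2])
    have k2 := kk j (by simp [h1.symm, a3, a4])
    have k3 := kk k (by simp [h2, Ne.symm a1, Ne.symm a3])
    grind
  · rintro ⟨rfl, rfl⟩
    have := s m
    rw [zz2, if_pos rfl, if_neg h3] at this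
    exact absurd this (by decide)
  · rintro ⟨rfl, rfl⟩
    have := s m
    rw [add_comm (if m = j then (1 : ZMod 2) else 0), zz2, if_pos rfl, if_neg h3] at this
    exact absurd this (by decide)

theorem star {ι α : Type*} (x y : ι → α) (h0 : ∀ i, x i ≠ y i)
    (h : ∀ i j, i ≠ j → (x i = x j ∨ x i = y j ∨ y i = x j ∨ y i = y j) ∧
      ¬ (x i = x j ∧ y i = y j) ∧ ¬ (x i = y j ∧ y i = x j))
    (h4 : ∀ i j k : ι, ∃ l, l ≠ i ∧ l ≠ j ∧ l ≠ k) (i : ι) : ∃ p, ∀ k, p = x k ∨ p = y k := by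
  obtain ⟨j, hj, -⟩ := h4 i i i
  have k3 : ∀ p, (p = x i ∨ p = y i) → (p = x j ∨ p = y j) → ∀ k, p = x k ∨ p = y k :=
    fun p h1 h2 k => by
      by_cases e1 : k = i
      · exact e1 ▸ h1
      by_cases e2 : k = j
      · exact e2 ▸ h2
      obtain ⟨l, l1, l2, l3⟩ := h4 i j k
      have a1 := h _ _ hj
      have a2 := h _ _ e1
      have a3 := h _ _ e2
      have a4 := h _ _ l1
      have a5 := h _ _ l2
      have a6 := h _ _ l3
      have b1 := h0 i
      have b2 := h0 j
      have b3 := h0 k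
      have b4 := h0 l
      grind
  rcases (h _ _ hj).1 with e | e | e | e
  exacts [⟨_, k3 _ (.inl e) (.inl rfl)⟩, ⟨_, k3 _ (.inr e) (.inl rfl)⟩,
    ⟨_, k3 _ (.inl e) (.inr rfl)⟩, ⟨_, k3 _ (.inr e) (.inr rfl)⟩]

theorem star' {ι α : Type*} (x y : ι → α) (h0 : ∀ i, x i ≠ y i)
    (h : ∀ i j, i ≠ j → (x i = x j ∨ x i = y j ∨ y i = x j ∨ y i = y j) ∧
      ¬ (x i = x j ∧ y i = y j) ∧ ¬ (x i = y j ∧ y i = x j))
    (h4 : ∀ i j k : ι, ∃ l, l ≠ i ∧ l ≠ j ∧ l ≠ k) (i : ι) : ∃ π : Option ι → α,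
      Function.Injective π ∧ ∀ j, (π none = x j ∧ π (some j) = y j) ∨
        (π none = y j ∧ π (some j) = x j) := by
  obtain ⟨p, hp⟩ := star x y h0 h h4 i
  choose z hz using fun j => show ∃ z, (p = x j ∧ z = y j) ∨ (p = y j ∧ z = x j) from
    (hp j).elim (fun e => ⟨_, .inl ⟨e, rfl⟩⟩) fun e => ⟨_, .inr ⟨e, rfl⟩⟩
  refine ⟨fun i => i.elim p z, ?_, hz⟩
  rintro (_ | i) (_ | j) e
  · rfl
  · have := h0 j
    have := hz j
    change p = z j at e
    grind
  · have := h0 i
    have := hz i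
    change z i = p at e
    grind
  · by_contra hn
    have := h i j fun e => hn (e ▸ rfl)
    have := hz i
    have := hz j
    change z i = z j at e
    grind

/-- The classes on which a map that is additive modulo `Om` agrees with a homomorphism. -/
def agr {A : Type*} [AddCommGroup A] (h2 : ∀ v : A, -v = v) (p : C → Prop) (p0 : p 0)
    (pa : ∀ {c d}, p c → p d → p (c + d)) (f : C → C)
    (add : ∀ c d, p c → p d → Eo (f (c + d)) (f c + f d)) (φ ψ : A →+ C) : AddSubgroup A where
  carrier := {v | p (φ v) ∧ Eo (f (φ v)) (ψ v)}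
  zero_mem' := by
    have := add 0 0 p0 p0
    rw [add_zero, cc2] at this
    exact ⟨by rwa [map_zero], by rwa [map_zero, map_zero]⟩
  add_mem' := fun {v w} hv hw => ⟨by rw [map_add]; exact pa hv.1 hw.1, by
    rw [map_add, map_add]; exact (add _ _ hv.1 hw.1).trans (hv.2.add hw.2)⟩
  neg_mem' := fun {v} hv => by rwa [h2]

theorem negC (c : C) : -c = c := neg_eq_iff_add_eq_zero.2 (cc2 c)

theorem fst_add {c d : C} (h : c.1 = 0) (h' : d.1 = 0) : (c + d).1 = 0 := by
  rw [Prod.fst_add, h, h', add_zero]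

theorem map_fst {f : C → C} (add : ∀ c d, c.1 = 0 → d.1 = 0 → Eo (f (c + d)) (f c + f d))
    (sh : ∀ c, Sh0 c → Sh0 (f c)) {c : C} (hc : c.1 = 0) : (f c).1 = 0 :=
  (span_sh0
    { carrier := {c | c.1 = 0 ∧ (f c).1 = 0}
      zero_mem' := ⟨rfl, eo_fst (by simpa only [add_zero, cc2] using add 0 0 rfl rfl) rfl⟩
      add_mem' := fun {c d} hc hd =>
        ⟨fst_add hc.1 hd.1, eo_fst (add c d hc.1 hd.1) (fst_add hc.2 hd.2)⟩
      neg_mem' := fun {c} hc => by rwa [negC] } (fun c h => ⟨h.2, (sh c h).2⟩) hc).2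

theorem map_Om {f : C → C} (add : ∀ c d, c.1 = 0 → d.1 = 0 → Eo (f (c + d)) (f c + f d))
    (inj : ∀ c, c.1 = 0 → Eo (f c) 0 → Eo c 0) (sh : ∀ c, Sh0 c → Sh0 (f c)) : Eo (f Om) 0 := by
  obtain ⟨u, v, h1, h2⟩ := Fintype.exists_ne_map_eq_of_card_lt
    (fun (u : K) (j : Fin 11) => (f (0, u)).2 j.castSucc) (by simp)
  have e : Eo (f (0, u) + f (0, v)) 0 := by
    have h3 : (f (0, u) + f (0, v)).1 = 0 := fst_add (map_fst add sh rfl) (map_fst add sh rfl)
    have h4 : ∀ j : Fin 12, j ≠ 11 → (f (0, u) + f (0, v)).2 j = 0 := fun j hj => by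
      obtain ⟨j, rfl⟩ := Fin.exists_castSucc_eq.2 hj
      rw [Prod.snd_add, Pi.add_apply, congrFun h2 j, zz2]
    generalize f (0, u) + f (0, v) = c at h3 h4
    rcases z2 (c.2 11) with e | e
    · refine .inl (Prod.ext h3 (funext fun j => ?_))
      by_cases hj : j = 11
      exacts [hj ▸ e, h4 j hj]
    · refine .inr (by
        rw [zero_add, Om_eq]
        refine Prod.ext h3 (funext fun j => ?_)
        by_cases hj : j = 11
        · rw [hj, e]; simp
        · rw [h4 j hj]; simp [hj])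
  have e2 := (add (0, u) (0, v) rfl rfl).trans e
  rcases inj _ (fst_add rfl rfl) e2 with e3 | e3
  · exact (h1 (congrArg Prod.snd (add_eq_zero_C.1 e3))).elim
  · rwa [e3, zero_add] at e2

theorem lrw (f : C → C) (add : ∀ c d, c.1 = 0 → d.1 = 0 → Eo (f (c + d)) (f c + f d))
    (inj : ∀ c, c.1 = 0 → Eo (f c) 0 → Eo c 0) (sh : ∀ c, Sh0 c → Sh0 (f c)) :
    ∃ h ∈ N0, ∀ c, c.1 = 0 → Eo (f c) (h • c) := by
  choose x y h0 h1 using fun j : ZMod 23 =>
    sh0_ex' (sh _ (sh0_W (show some j ≠ none by simp)))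
  change ∀ j, Eo (f (a (some j))) _ at h1
  have m := fun i j (h : i ≠ j) => meet (h0 i) (h0 j) (eo_sh0
    ((add _ _ (a_fst _) (a_fst _)).trans ((h1 i).add (h1 j))).symm
    (sh _ (sh0_a (by simpa using h))))
  obtain ⟨π, h3, hp⟩ := star' x y h0 m (by decide +kernel) 0
  obtain ⟨p, hp0⟩ : ∃ p, p = π none := ⟨_, rfl⟩
  have h2 : ∀ i, Eo (f (a i)) (a p + a (π i)) := by
    subst hp0
    rintro (_ | j)
    · rw [a_none]; exact (map_Om add inj sh).trans (.inl (cc2 _).symm)
    · rcases hp j with ⟨e1, e2⟩ | ⟨e1, e2⟩ <;> rw [e1, e2]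
      exacts [h1 j, add_comm (a (x j)) _ ▸ h1 j]
  let σ : Equiv.Perm P := Equiv.ofBijective π (Finite.injective_iff_bijective.1 h3)
  have h4 : ∀ w, Eo (f (Lc a w)) (Lc (fun i => a p + a (π i)) w) := fun w => by
    refine (show w ∈ agr (A := P → ZMod 2)
      (fun v => funext fun i => ZMod.neg_eq_self_mod_two _) (·.1 = 0) rfl fst_add f
      add (Lc a) (Lc fun i => a p + a (π i)) from ?_).2
    rw [pi_eq_sum_univ' w]
    refine sum_mem fun i _ => ?_
    rcases z2 (w i) with e | e <;> rw [e]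
    · rw [zero_smul]; exact zero_mem _
    · rw [one_smul]
      exact ⟨by beta_reduce; rw [Lc_single]; exact a_fst i, by
        rw [Lc_single, Lc_single]; exact h2 i⟩
  have hσ : σ ∈ M24 := mem_M24_iff.2 fun s hs => by
    have e0 : ∀ t : Finset P, t.card = s.card → ∑ i, ind t i = 0 := fun t ht => by
      have := four_dvd_card hs
      simp only [ind, Finset.sum_boole, Finset.filter_mem_eq_inter, Finset.univ_inter, ht]
      exact (ZMod.natCast_eq_zero_iff _ _).2 (by omega)
    have e1 := (key (e0 s rfl)).2 (mem_GC_iff_ind.1 hs)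
    have e2 : Eo (f (Lc a (ind s))) 0 := by
      rcases e1 with e | e <;> rw [e]
      · simpa only [add_zero, cc2] using add 0 0 rfl rfl
      · rw [zero_add]; exact map_Om add inj sh
    have e3 : Lc (fun i => a p + a (π i)) (ind s) = Lc a (ind (σ • s)) := by
      simp only [Lc_apply, smul_add, Finset.sum_add_distrib]
      rw [← Finset.sum_smul, e0 s rfl, zero_smul, zero_add, ← Equiv.sum_comp σ fun i => ind (σ • s) i • a i]
      refine Finset.sum_congr rfl fun i _ => ?_
      have : σ i ∈ σ • s ↔ i ∈ s := Finset.smul_mem_smul_finset_iff σ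
      simp only [ind, this]
      rfl
    exact mem_GC_iff_ind.2 ((key (e0 _ (Finset.card_smul_finset _ _))).1
      (e3 ▸ (h4 _).symm.trans e2))
  have hN := mono_mem_N0 ⟨σ, hσ⟩ gc0
  refine ⟨_, hN, fun c hc => (show c ∈ agr negC (·.1 = 0) rfl fst_add f add (AddMonoidHom.id C)
    (DistribSMul.toAddMonoidHom C (mono ⟨σ, hσ⟩ gc0)) from span_sh0 _ (fun c h => ?_) hc).2⟩
  refine ⟨h.2, ?_⟩
  obtain ⟨i, j, -, e⟩ := sh0_ex' h
  change Eo (f c) (mono ⟨σ, hσ⟩ gc0 • c)
  have e1 : Eo (f (a i + a j)) (mono ⟨σ, hσ⟩ gc0 • (a i + a j)) := by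
    refine ((add _ _ (a_fst _) (a_fst _)).trans ((h2 i).add (h2 j))).trans ?_
    rw [add_add_add_comm, cc2, zero_add]
    exact (mono_a ⟨σ, hσ⟩ gc0 i j).symm
  refine Eo.trans ?_ (e1.trans (e.smul hN).symm)
  rcases e with rfl | rfl
  · exact Eo.rfl
  · simpa only [add_zero] using (add _ _ (fst_add (a_fst i) (a_fst j)) Om_fst).trans
      (Eo.rfl.add (map_Om add inj sh))

end H10.Mon.MG.R9
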