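import Mathlib
import Cfsg.Prelude.Def_LieExceptional
import Cfsg.Agent.H8.SzTori

/-!
The cyclic subgroups of orders `q ± 2r + 1` of the Suzuki group, by counting.
-/

set_option autoImplicit false

namespace H8

/-- The non-identity elements conjugate into `A`. -/
def conjInto {G : Type*} [Group G] (A : Subgroup G) : Set G := {g | g ≠ 1 ∧ ∃ x, x * g * x⁻¹ ∈ A}

theorem ncard_conjInto {G : Type*} [Group G] [Finite G] (A N : Subgroup G)
    (h1 : ∀ x ∈ N, ∀ a ∈ A, x * a * x⁻¹ ∈ A)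
    (h2 : ∀ x, ∀ a ∈ A, a ≠ 1 → x * a * x⁻¹ ∈ A → x ∈ N) :
    (conjInto A).ncard * Nat.card N = Nat.card G * (Nat.card A - 1) :=
  card_conj_mul_card A N h1 h2

theorem mem_centralizer_conj {G : Type*} [Group G] (x g y : G) :
    x * y * x⁻¹ ∈ Subgroup.centralizer ({x * g * x⁻¹} : Set G) ↔
      y ∈ Subgroup.centralizer ({g} : Set G) := by
  simp only [Subgroup.mem_centralizer_singleton_iff]
  constructor
  · intro h
    have : x * (y * g) * x⁻¹ = x * (g * y) * x⁻¹ := by simpa [mul_assoc] using h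
    simpa using this
  · intro h
    calc x * y * x⁻¹ * (x * g * x⁻¹) = x * (y * g) * x⁻¹ := by group
      _ = _ := by rw [h]; group

theorem arith_fifth {y n a G : ℕ} (h : y * (n * a) = G * (a - 1)) (ha : 5 ≤ a) :
    4 * G ≤ 5 * y * n := by
  obtain ⟨b, rfl⟩ := Nat.exists_eq_add_of_le' ha
  have h' : y * (n * (b + 5)) = G * (b + 4) := h
  by_contra hc
  push Not at hc
  nlinarith

namespace Sz

open Cfsg Matrix
open scoped LinearAlgebra.Projectivization Pointwise

variable {F : Type*} [Field F] {m : ℕ}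

namespace Ctx

variable (T : Ctx F m)

include T in
theorem ncard_fpf [Finite F] :
    2 * {g : Cfsg.Sz F m | Fpf g}.ncard = Nat.card F ^ 3 * (Nat.card F - 1) ^ 2 := by
  have h1 := ncard_conjInto T.U (B F m) (fun x hx a ha => T.conj_mem_U hx ha)
    (fun x a ha h1 h => T.mem_B_of_conj_mem_U ha h1 h)
  have h2 := ncard_conjInto T.H T.NH (by
      have hww : ∀ x, T.w * (T.w * x) = x := fun x => by rw [← mul_assoc, w_mul_w, one_mul]
      rintro x (hx | hx) a ha
      · exact T.H.mul_mem (T.H.mul_mem hx ha) (T.H.inv_mem hx)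
      · have h3 := T.H.mul_mem (T.H.mul_mem hx ha) (T.H.inv_mem hx)
        obtain ⟨k, hk⟩ := T.mem_H.mp h3
        have : x * a * x⁻¹ = T.w * T.h k * T.w := by
          rw [← hk, _root_.mul_inv_rev, w_inv]
          simp only [mul_assoc, hww, w_mul_w, mul_one]
        rw [this, w_mul_h, mul_assoc, w_mul_w, mul_one]
        exact ⟨_, rfl⟩)
    (fun x a ha h1 h => T.mem_or_of_conj_mem_H ha h1 h)
  have hun : (Set.univ : Set (Cfsg.Sz F m)) =
      (({1} ∪ conjInto T.U) ∪ conjInto T.H) ∪ {g | Fpf g} := by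
    symm
    rw [Set.eq_univ_iff_forall]
    intro g
    by_cases hg : g = 1
    · exact Or.inl (Or.inl (Or.inl hg))
    · rcases T.trichotomy g with h | h | h
      · exact Or.inl (Or.inl (Or.inr ⟨hg, h⟩))
      · exact Or.inl (Or.inr ⟨hg, h⟩)
      · exact Or.inr h
  have d1 : Disjoint ({1} : Set (Cfsg.Sz F m)) (conjInto T.U) := by
    rw [Set.disjoint_singleton_left]
    exact fun h => h.1 rfl
  have d2 : Disjoint (({1} : Set (Cfsg.Sz F m)) ∪ conjInto T.U) (conjInto T.H) := by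
    rw [Set.disjoint_left]
    rintro g (rfl | ⟨hg, x, hx⟩) ⟨hg', y, hy⟩
    · exact hg' rfl
    · rw [← H_eq] at hy
      have key : ∀ p ∈ suzukiOvoid F m, (y * g * y⁻¹) • p = p → (x * y⁻¹) • p = inf F := by
        intro p hp e
        apply T.eq_inf_of_U hx (by simpa using hg) (smul_mem _ hp)
        rw [← mul_smul]
        conv_rhs => rw [← e, ← mul_smul]
        congr 1
        group
      exact T.pt_ne_inf 0 0 (smul_left_cancel _
        ((key _ (T.pt_mem 0 0) hy.2).trans (key _ T.inf_mem hy.1).symm))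
  have d3 : Disjoint ((({1} : Set (Cfsg.Sz F m)) ∪ conjInto T.U) ∪ conjInto T.H)
      {g | Fpf g} := by
    rw [Set.disjoint_left]
    rintro g ((rfl | ⟨hg, x, hx⟩) | ⟨hg, x, hx⟩) h
    · exact T.Fpf_ne_one h rfl
    · exact (Fpf.conj h x) _ T.inf_mem (T.U_le_B hx)
    · exact (Fpf.conj h x) _ T.inf_mem (T.H_le_B hx)
  have h3 := congrArg Set.ncard hun
  rw [Set.ncard_univ, Set.ncard_union_eq d3, Set.ncard_union_eq d2, Set.ncard_union_eq d1,
    Set.ncard_singleton] at h3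
  rw [T.card_U, T.card_B, T.card_Sz] at h1
  rw [T.card_H, T.card_NH, T.card_Sz] at h2
  rw [T.card_Sz] at h3
  have hq : 2 ≤ Nat.card F := Finite.one_lt_card
  obtain ⟨r, hr⟩ := Nat.exists_eq_add_of_le' hq
  rw [hr] at h1 h2 h3 ⊢
  generalize (conjInto T.U).ncard = y1 at *
  generalize (conjInto T.H).ncard = y2 at *
  generalize {g : Cfsg.Sz F m | Fpf g}.ncard = y3 at *
  have e1 : (r + 2) ^ 2 - 1 = r ^ 2 + 4 * r + 3 := by
    rw [show (r + 2) ^ 2 = r ^ 2 + 4 * r + 3 + 1 by ring]; rfl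
  simp only [e1, show r + 2 - 1 = r + 1 from rfl, show r + 1 - 1 = r from rfl] at h1 h2 h3 ⊢
  have k1 : y1 = ((r + 2) ^ 2 + 1) * (r ^ 2 + 4 * r + 3) := by
    apply Nat.eq_of_mul_eq_mul_right (m := (r + 2) ^ 2 * (r + 1)) (by positivity)
    rw [h1]; ring
  have k2 : 2 * y2 = (r + 2) ^ 2 * ((r + 2) ^ 2 + 1) * r := by
    apply Nat.eq_of_mul_eq_mul_right (m := r + 1) (by positivity)
    linear_combination h2
  have : 2 * y3 + (2 + 2 * y1 + 2 * y2) = (r + 2) ^ 3 * (r + 1) ^ 2 + (2 + 2 * y1 + 2 * y2) := by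
    conv_rhs => rw [k1, k2]
    linear_combination 2 * h3.symm
  omega

include T in
theorem conjInto_subset [Finite F] {g : Cfsg.Sz F m} (hg : Fpf g) :
    conjInto (Subgroup.centralizer ({g} : Set (Cfsg.Sz F m))) ⊆ {g | Fpf g} := by
  rintro y ⟨hy, x, hx⟩
  have := (T.fpf_of_commute hg (by simpa using hy)
    (Subgroup.mem_centralizer_singleton_iff.mp hx).symm).conj x⁻¹
  simpa [mul_assoc] using this

include T in
theorem mem_conjInto_of_not_disjoint [Finite F] {g g' : Cfsg.Sz F m} (hg : Fpf g) (hg' : Fpf g')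
    (h : ¬ Disjoint (conjInto (Subgroup.centralizer ({g} : Set (Cfsg.Sz F m))))
      (conjInto (Subgroup.centralizer ({g'} : Set (Cfsg.Sz F m))))) :
    g' ∈ conjInto (Subgroup.centralizer ({g} : Set (Cfsg.Sz F m))) := by
  obtain ⟨y, ⟨hy, x, hx⟩, ⟨-, x', hx'⟩⟩ := Set.not_disjoint_iff.mp h
  have e1 := T.centralizer_eq_of_fpf hg hx (by simpa using hy)
  have e2 := T.centralizer_eq_of_fpf hg' hx' (by simpa using hy)
  refine ⟨T.Fpf_ne_one hg', x * x'⁻¹, ?_⟩
  have h1 : g' ∈ Subgroup.centralizer ({g'} : Set (Cfsg.Sz F m)) :=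
    Subgroup.mem_centralizer_singleton_iff.mpr rfl
  rw [← e2] at h1
  have h2 : x'⁻¹ * g' * x' ∈ Subgroup.centralizer ({y} : Set (Cfsg.Sz F m)) := by
    rw [← mem_centralizer_conj x']
    simpa [mul_assoc] using h1
  rw [← mem_centralizer_conj x, e1] at h2
  simpa [mul_assoc] using h2

include T in
theorem fpf_facts [Finite F] (h3 : ¬ 3 ∣ Nat.card (Cfsg.Sz F m)) {g : Cfsg.Sz F m} (hg : Fpf g) :
    ∃ n, (n = 1 ∨ n = 2 ∨ n = 4) ∧
      Nat.card (Subgroup.normalizer
        (Subgroup.centralizer ({g} : Set (Cfsg.Sz F m)) : Set (Cfsg.Sz F m))) =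
        n * Nat.card (Subgroup.centralizer ({g} : Set (Cfsg.Sz F m))) ∧
      5 ≤ Nat.card (Subgroup.centralizer ({g} : Set (Cfsg.Sz F m))) ∧
      Nat.card (Subgroup.centralizer ({g} : Set (Cfsg.Sz F m))) ∣ Nat.card F ^ 2 + 1 ∧
      (conjInto (Subgroup.centralizer ({g} : Set (Cfsg.Sz F m)))).ncard *
        (n * Nat.card (Subgroup.centralizer ({g} : Set (Cfsg.Sz F m)))) =
        Nat.card (Cfsg.Sz F m) * (Nat.card (Subgroup.centralizer ({g} : Set (Cfsg.Sz F m))) - 1) := by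
  obtain ⟨k, h1, h2, h4, -⟩ := T.exists_prime_power hg
  obtain ⟨n, hn, h5⟩ := card_normalizer_le (g ^ k)
  obtain ⟨h6, h7⟩ := T.minpoly_of_fpf h1 h2
  have hn4 : n ≤ 4 := hn.trans (ncard_conj_commute_le (matHom F m) matHom_injective _ h6 h7)
  rw [h4] at h5
  set A := Subgroup.centralizer ({g} : Set (Cfsg.Sz F m))
  have hdvd : Nat.card A ∣ Nat.card F ^ 2 + 1 := T.card_dvd_of_fpf A fun a ha h1 =>
    T.fpf_of_commute hg h1 (Subgroup.mem_centralizer_singleton_iff.mp ha).symm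
  have hn' : n ∣ Nat.card (Cfsg.Sz F m) :=
    (Dvd.intro _ h5.symm).trans (Subgroup.card_subgroup_dvd_card _)
  refine ⟨n, ?_, h5, ?_, hdvd, ?_⟩
  · have : 0 < Nat.card (Cfsg.Sz F m) := Nat.card_pos
    interval_cases n
    · exact absurd (Nat.eq_zero_of_zero_dvd hn') this.ne'
    · simp
    · simp
    · exact absurd hn' h3
    · simp
  · have hA1 : 1 < Nat.card A := by
      rw [Finite.one_lt_card_iff_nontrivial]
      exact ⟨⟨⟨g, Subgroup.mem_centralizer_singleton_iff.mpr rfl⟩, 1,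
        fun h => T.Fpf_ne_one hg (congrArg Subtype.val h)⟩⟩
    have hodd : ¬ 2 ∣ Nat.card A := by
      intro h
      have h8 := h.trans hdvd
      have : Even (Nat.card F ^ 2) := Nat.even_pow.mpr ⟨T.even_card, by norm_num⟩
      rw [← even_iff_two_dvd, Nat.even_add_one] at h8
      exact h8 this
    have h3' : ¬ 3 ∣ Nat.card A := fun h => h3 (h.trans (Subgroup.card_subgroup_dvd_card _))
    omega
  · rw [← h5]
    apply ncard_conjInto
    · intro x hx a ha
      exact (Subgroup.mem_normalizer_iff.mp hx a).mp ha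
    · intro x a ha h1 h
      rw [Subgroup.mem_normalizer_iff]
      intro y
      have e1 := T.centralizer_eq_of_fpf hg ha h1
      have e2 := T.centralizer_eq_of_fpf hg h (by simpa using h1)
      conv_lhs => rw [show A = _ from e1.symm]
      conv_rhs => rw [show A = _ from e2.symm]
      exact (mem_centralizer_conj x a y).symm

include T in
theorem coprime_of_disjoint [Finite F] {g g' : Cfsg.Sz F m} (hg : Fpf g) (hg' : Fpf g')
    (h : Disjoint (conjInto (Subgroup.centralizer ({g} : Set (Cfsg.Sz F m))))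
      (conjInto (Subgroup.centralizer ({g'} : Set (Cfsg.Sz F m))))) :
    Nat.Coprime (Nat.card (Subgroup.centralizer ({g} : Set (Cfsg.Sz F m))))
      (Nat.card (Subgroup.centralizer ({g'} : Set (Cfsg.Sz F m)))) := by
  by_contra hc
  obtain ⟨p, hp, h1, h2⟩ := Nat.Prime.not_coprime_iff_dvd.mp hc
  have : Fact p.Prime := ⟨hp⟩
  have key : ∀ g : Cfsg.Sz F m, Fpf g →
      p ∣ Nat.card (Subgroup.centralizer ({g} : Set (Cfsg.Sz F m))) →
      ∃ P : Sylow p (Cfsg.Sz F m), (∃ y ∈ P, y ≠ 1) ∧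
        (P : Subgroup (Cfsg.Sz F m)) ≤ Subgroup.centralizer ({g} : Set (Cfsg.Sz F m)) := by
    intro g hg hd
    obtain ⟨⟨y, hy⟩, hy'⟩ := exists_prime_orderOf_dvd_card' p hd
    rw [← Subgroup.orderOf_coe] at hy'
    simp only at hy'
    have hy1 : y ≠ 1 := by
      rintro rfl
      rw [orderOf_one] at hy'
      exact hp.one_lt.ne hy'
    have hz : IsPGroup p (Subgroup.zpowers y) :=
      IsPGroup.of_card (n := 1) (by rw [Nat.card_zpowers, hy', pow_one])
    obtain ⟨P, hP⟩ := hz.exists_le_sylow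
    have hyP : y ∈ P := hP (Subgroup.mem_zpowers y)
    refine ⟨P, ⟨y, hyP, hy1⟩, ?_⟩
    have : Nontrivial (P : Subgroup (Cfsg.Sz F m)) :=
      ⟨⟨⟨y, hyP⟩, 1, fun h => hy1 (congrArg Subtype.val h)⟩⟩
    have := P.isPGroup'.center_nontrivial
    obtain ⟨⟨z, hz⟩, hz1⟩ := _root_.exists_ne (1 : Subgroup.center (P : Subgroup (Cfsg.Sz F m)))
    have hz2 : (z : Cfsg.Sz F m) ≠ 1 := fun h => hz1 (Subtype.ext (Subtype.ext h))
    have hzy : (z : Cfsg.Sz F m) ∈ Subgroup.centralizer ({g} : Set (Cfsg.Sz F m)) := by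
      rw [← T.centralizer_eq_of_fpf hg hy hy1]
      exact Subgroup.mem_centralizer_singleton_iff.mpr
        (congrArg Subtype.val (Subgroup.mem_center_iff.mp hz ⟨y, hyP⟩)).symm
    rw [← T.centralizer_eq_of_fpf hg hzy hz2]
    intro c hc
    exact Subgroup.mem_centralizer_singleton_iff.mpr
      (congrArg Subtype.val (Subgroup.mem_center_iff.mp hz ⟨c, hc⟩))
  obtain ⟨P, ⟨y, hy, hy1⟩, hP⟩ := key g hg h1
  obtain ⟨Q, -, hQ⟩ := key g' hg' h2
  obtain ⟨x, rfl⟩ := MulAction.exists_smul_eq (Cfsg.Sz F m) P Q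
  have h' := Set.disjoint_left.mp h
  refine @h' y ⟨hy1, 1, by simpa using hP hy⟩ ⟨hy1, x, hQ ?_⟩
  rw [Sylow.coe_subgroup_smul]
  exact Subgroup.smul_mem_pointwise_smul y (MulAut.conj x) _ hy

include T in
theorem exists_tori [Finite F] (h3 : ¬ 3 ∣ Nat.card (Cfsg.Sz F m)) (hq : 4 ≤ Nat.card F) :
    ∃ g g' : Cfsg.Sz F m, Fpf g ∧ Fpf g' ∧
      Nat.card (Subgroup.normalizer
        (Subgroup.centralizer ({g} : Set (Cfsg.Sz F m)) : Set (Cfsg.Sz F m))) =
        4 * Nat.card (Subgroup.centralizer ({g} : Set (Cfsg.Sz F m))) ∧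
      Nat.card (Subgroup.normalizer
        (Subgroup.centralizer ({g'} : Set (Cfsg.Sz F m)) : Set (Cfsg.Sz F m))) =
        4 * Nat.card (Subgroup.centralizer ({g'} : Set (Cfsg.Sz F m))) ∧
      Nat.card (Subgroup.centralizer ({g} : Set (Cfsg.Sz F m))) +
        Nat.card (Subgroup.centralizer ({g'} : Set (Cfsg.Sz F m))) = 2 * Nat.card F + 2 ∧
      Nat.card (Subgroup.centralizer ({g} : Set (Cfsg.Sz F m))) *
        Nat.card (Subgroup.centralizer ({g'} : Set (Cfsg.Sz F m))) = Nat.card F ^ 2 + 1 ∧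
      ∀ y, Fpf y → (∃ x, x * y * x⁻¹ ∈ Subgroup.centralizer ({g} : Set (Cfsg.Sz F m))) ∨
        ∃ x, x * y * x⁻¹ ∈ Subgroup.centralizer ({g'} : Set (Cfsg.Sz F m)) := by
  have hX := T.ncard_fpf
  have hG := T.card_Sz
  have hev := T.even_card
  obtain ⟨r, hr⟩ := Nat.exists_eq_add_of_le' hq
  rw [hr] at hX hG hev
  simp only [show r + 4 - 1 = r + 3 from rfl] at hX hG
  set X := {g : Cfsg.Sz F m | Fpf g}
  have hX2 : 2 * X.ncard < Nat.card (Cfsg.Sz F m) := by
    rw [hX, hG]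
    have : 0 < (r + 4) ^ 2 * (r + 3) * (r + 5) := by positivity
    nlinarith
  obtain ⟨g, hg⟩ : X.Nonempty := by
    apply Set.nonempty_of_ncard_ne_zero
    intro h
    rw [h] at hX
    have : 0 < (r + 4) ^ 3 * (r + 3) ^ 2 := by positivity
    omega
  obtain ⟨n, hn, hN, ha5, ⟨c, hc⟩, hy⟩ := T.fpf_facts h3 hg
  have hs := T.conjInto_subset hg
  have b1 := arith_fifth hy ha5
  rw [hr] at hc
  set a := Nat.card (Subgroup.centralizer ({g} : Set (Cfsg.Sz F m)))
  set Y := conjInto (Subgroup.centralizer ({g} : Set (Cfsg.Sz F m)))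
  obtain ⟨g', hg', hg'Y⟩ : ∃ g' ∈ X, g' ∉ Y := by
    by_contra hcon
    push Not at hcon
    have hXY : Y = X := Set.Subset.antisymm hs hcon
    rw [hXY, hG] at hy
    obtain ⟨b, hb⟩ := Nat.exists_eq_add_of_le' ha5
    rw [hb] at hy hc
    simp only [show b + 5 - 1 = b + 4 from rfl] at hy
    have e : (r + 4) * (r + 3) * n = 2 * c * (b + 4) := by
      apply Nat.eq_of_mul_eq_mul_right (m := (r + 4) ^ 2 * (r + 3) * (b + 5)) (by positivity)
      rw [hc] at hy
      linear_combination (n * (b + 5)) * hX.symm + 2 * hy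
    rcases hn with rfl | rfl | rfl
    · nlinarith
    · have hc' : c = r + 5 := by nlinarith
      subst hc'
      have : r + 5 ∣ (r + 5) * (r + 3) + 2 := ⟨b + 5, by linear_combination hc⟩
      have := Nat.le_of_dvd (by norm_num) ((Nat.dvd_add_right (Dvd.intro _ rfl)).mp this)
      omega
    · nlinarith
  have hd : Disjoint Y (conjInto (Subgroup.centralizer ({g'} : Set (Cfsg.Sz F m)))) := by
    by_contra h
    exact hg'Y (T.mem_conjInto_of_not_disjoint hg hg' h)
  obtain ⟨n', hn', hN', ha5', ⟨c', hc'⟩, hy'⟩ := T.fpf_facts h3 hg'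
  have hs' := T.conjInto_subset hg'
  have b2 := arith_fifth hy' ha5'
  have hcop := T.coprime_of_disjoint hg hg' hd
  rw [hr] at hc'
  set a' := Nat.card (Subgroup.centralizer ({g'} : Set (Cfsg.Sz F m)))
  set Y' := conjInto (Subgroup.centralizer ({g'} : Set (Cfsg.Sz F m)))
  have hXY : Y ∪ Y' = X := by
    apply Set.Subset.antisymm (Set.union_subset hs hs')
    intro g'' hg''
    by_contra hcon
    have hd1 : Disjoint Y (conjInto (Subgroup.centralizer ({g''} : Set (Cfsg.Sz F m)))) := by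
      by_contra h
      exact hcon (Or.inl (T.mem_conjInto_of_not_disjoint hg hg'' h))
    have hd2 : Disjoint Y' (conjInto (Subgroup.centralizer ({g''} : Set (Cfsg.Sz F m)))) := by
      by_contra h
      exact hcon (Or.inr (T.mem_conjInto_of_not_disjoint hg' hg'' h))
    obtain ⟨n'', hn'', -, ha5'', -, hy''⟩ := T.fpf_facts h3 hg''
    have b3 := arith_fifth hy'' ha5''
    have := Set.ncard_le_ncard (Set.union_subset (Set.union_subset hs hs')
      (T.conjInto_subset hg'')) (Set.toFinite _)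
    rw [Set.ncard_union_eq (Set.disjoint_union_left.mpr ⟨hd1, hd2⟩), Set.ncard_union_eq hd] at this
    change _ ≤ X.ncard at this
    rcases hn with rfl | rfl | rfl <;> rcases hn' with rfl | rfl | rfl <;>
      rcases hn'' with rfl | rfl | rfl <;> omega
  have hsum : Y.ncard + Y'.ncard = X.ncard := by rw [← hXY, Set.ncard_union_eq hd]
  obtain ⟨rfl, rfl⟩ : n = 4 ∧ n' = 4 := by
    rcases hn with rfl | rfl | rfl <;> rcases hn' with rfl | rfl | rfl <;> omega
  obtain ⟨d, hdd⟩ : a * a' ∣ (r + 4) ^ 2 + 1 := hcop.mul_dvd_of_dvd_of_dvd ⟨c, hc⟩ ⟨c', hc'⟩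
  have hsum2 : d * (a + a') = 2 * (r + 4) + 2 := by
    obtain ⟨b, hb⟩ := Nat.exists_eq_add_of_le' ha5
    obtain ⟨b', hb'⟩ := Nat.exists_eq_add_of_le' ha5'
    rw [hG] at hy hy'
    rw [hb] at hy hdd ⊢
    rw [hb'] at hy' hdd ⊢
    simp only [show b + 5 - 1 = b + 4 from rfl, show b' + 5 - 1 = b' + 4 from rfl] at hy hy'
    rw [hdd] at hy hy'
    have e1 : 4 * Y.ncard = (r + 4) ^ 2 * (r + 3) * ((b' + 5) * d * (b + 4)) := by
      apply Nat.eq_of_mul_eq_mul_right (m := b + 5) (by positivity)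
      linear_combination hy
    have e2 : 4 * Y'.ncard = (r + 4) ^ 2 * (r + 3) * ((b + 5) * d * (b' + 4)) := by
      apply Nat.eq_of_mul_eq_mul_right (m := b' + 5) (by positivity)
      linear_combination hy'
    have e3 : (b' + 5) * d * (b + 4) + (b + 5) * d * (b' + 4) = 2 * (r + 4) * (r + 3) := by
      apply Nat.eq_of_mul_eq_mul_right (m := (r + 4) ^ 2 * (r + 3)) (by positivity)
      linear_combination e1.symm + e2.symm + 4 * hsum + 2 * hX
    zify at e3 hdd ⊢
    linear_combination (-1) * e3 - 2 * hdd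
  have hd1 : d = 1 := by
    have h1 : d ∣ 2 * (r + 5) := ⟨a + a', by linear_combination hsum2.symm⟩
    have h2 : d ∣ (r + 4) ^ 2 + 1 := ⟨a * a', by linear_combination hdd⟩
    have h4 : d ∣ 4 := by
      have : d ∣ 2 * (r + 5) * (r + 3) + 4 := by
        rw [show 2 * (r + 5) * (r + 3) + 4 = 2 * ((r + 4) ^ 2 + 1) by ring]
        exact Dvd.dvd.mul_left h2 2
      exact (Nat.dvd_add_right (Dvd.dvd.mul_right h1 _)).mp this
    have h5 : ¬ 2 ∣ d := by
      intro h
      have h8 := h.trans h2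
      have : Even ((r + 4) ^ 2) := Nat.even_pow.mpr ⟨hev, by norm_num⟩
      rw [← even_iff_two_dvd, Nat.even_add_one] at h8
      exact h8 this
    have := Nat.le_of_dvd (by norm_num) h4
    interval_cases d <;> omega
  subst hd1
  refine ⟨g, g', hg, hg', hN, hN', by rw [hr]; omega, by rw [hr, hdd, mul_one], ?_⟩
  intro y hy
  have : y ∈ Y ∪ Y' := hXY ▸ hy
  exact this.imp (fun h => h.2) (fun h => h.2)

end Ctx

theorem not_three_dvd {F : Type*} [Field F] [Finite F] {m : ℕ} (T : Ctx F m)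
    (hF : Nat.card F = 2 ^ (2 * m + 1)) : ¬ 3 ∣ Nat.card (Cfsg.Sz F m) := by
  rw [T.card_Sz, hF]
  have h : 2 ^ (2 * m + 1) % 3 = 2 := by
    rw [pow_succ, pow_mul, Nat.mul_mod, Nat.pow_mod]
    simp
  generalize 2 ^ (2 * m + 1) = q at h
  obtain ⟨k, rfl⟩ : ∃ k, q = 3 * k + 2 := ⟨q / 3, by omega⟩
  intro hd
  have h1 : ¬ 3 ∣ 3 * k + 2 := by omega
  have h2 : ¬ 3 ∣ (3 * k + 2) ^ 2 + 1 := by
    rw [show (3 * k + 2) ^ 2 + 1 = 3 * (3 * k ^ 2 + 4 * k + 1) + 2 by ring]
    omega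
  have h3 : ¬ 3 ∣ 3 * k + 2 - 1 := by omega
  rcases (Nat.Prime.dvd_mul Nat.prime_three).mp hd with h | h
  · rcases (Nat.Prime.dvd_mul Nat.prime_three).mp h with h | h
    · exact h1 (Nat.prime_three.dvd_of_dvd_pow h)
    · exact h2 h
  · exact h3 h

end Sz
end H8
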