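import Mathlib
import Cfsg.Agent.H8.ReeTransport
import Cfsg.Agent.H7.SL

/-!
The centraliser of an involution in the small Ree group is `Z₂ × PSL₂(q)`.
-/

set_option autoImplicit false

namespace H8
namespace Ree

open scoped MatrixGroups

variable {K : Type*} [Field K]

/-- An element of `SL₂` from its entries. -/
def sl (p q r s : K) (h : p * s - q * r = 1) : SL(2, K) :=
  ⟨!![p, q; r, s], by rw [Matrix.det_fin_two_of]; exact h⟩

@[simp] theorem sl_00 (p q r s : K) (h : p * s - q * r = 1) : sl p q r s h 0 0 = p := rfl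
@[simp] theorem sl_01 (p q r s : K) (h : p * s - q * r = 1) : sl p q r s h 0 1 = q := rfl
@[simp] theorem sl_10 (p q r s : K) (h : p * s - q * r = 1) : sl p q r s h 1 0 = r := rfl
@[simp] theorem sl_11 (p q r s : K) (h : p * s - q * r = 1) : sl p q r s h 1 1 = s := rfl

theorem sl_det (g : SL(2, K)) : g 0 0 * g 1 1 - g 0 1 * g 1 0 = 1 := by
  have := g.2
  rwa [Matrix.det_fin_two] at this

theorem sl_ext {g g' : SL(2, K)} (h0 : g 0 0 = g' 0 0) (h1 : g 0 1 = g' 0 1)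
    (h2 : g 1 0 = g' 1 0) (h3 : g 1 1 = g' 1 1) : g = g' := by
  ext i j
  fin_cases i <;> fin_cases j <;> assumption

theorem sl_mul_apply (g g' : SL(2, K)) (i j : Fin 2) :
    (g * g') i j = g i 0 * g' 0 j + g i 1 * g' 1 j := by
  change (g.1 * g'.1) i j = _
  rw [Matrix.mul_apply, Fin.sum_univ_two]

theorem sl_one_00 : (1 : SL(2, K)) 0 0 = 1 := rfl
theorem sl_one_01 : (1 : SL(2, K)) 0 1 = 0 := rfl
theorem sl_one_10 : (1 : SL(2, K)) 1 0 = 0 := rfl
theorem sl_one_11 : (1 : SL(2, K)) 1 1 = 1 := rfl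

/-- Upper unitriangular matrices. -/
def up (b : K) : SL(2, K) := sl 1 b 0 1 (by ring)

/-- The Weyl element of `SL₂`. -/
def ww (K : Type*) [Field K] : SL(2, K) := sl 0 1 (-1) 0 (by ring)

/-- Diagonal matrices. -/
def dg (y : Kˣ) : SL(2, K) := sl y 0 0 (y : K)⁻¹ (by simp)

namespace Ctx

variable (T : Ctx K)

/-- The action of a `2 × 2` matrix on `Sym² ⊕ (2 ⊗ 2^σ)`. -/
def pf (p q r s : K) (v : V K) : V K :=
  ![p * T.σ p * v 0 - q * T.σ p * v 2 - p * T.σ q * v 4 - q * T.σ q * v 6,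
    p ^ 2 * v 1 + p * q * v 3 - q ^ 2 * v 5,
    -(r * T.σ p * v 0) + s * T.σ p * v 2 + r * T.σ q * v 4 + s * T.σ q * v 6,
    -(p * r * v 1) + (p * s + q * r) * v 3 + q * s * v 5,
    -(p * T.σ r * v 0) + q * T.σ r * v 2 + p * T.σ s * v 4 + q * T.σ s * v 6,
    -(r ^ 2 * v 1) - r * s * v 3 + s ^ 2 * v 5,
    -(r * T.σ r * v 0) + s * T.σ r * v 2 + r * T.σ s * v 4 + s * T.σ s * v 6]

theorem pf_def (p q r s : K) (v : V K) : T.pf p q r s v =
  ![p * T.σ p * v 0 - q * T.σ p * v 2 - p * T.σ q * v 4 - q * T.σ q * v 6,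
    p ^ 2 * v 1 + p * q * v 3 - q ^ 2 * v 5,
    -(r * T.σ p * v 0) + s * T.σ p * v 2 + r * T.σ q * v 4 + s * T.σ q * v 6,
    -(p * r * v 1) + (p * s + q * r) * v 3 + q * s * v 5,
    -(p * T.σ r * v 0) + q * T.σ r * v 2 + p * T.σ s * v 4 + q * T.σ s * v 6,
    -(r ^ 2 * v 1) - r * s * v 3 + s ^ 2 * v 5,
    -(r * T.σ r * v 0) + s * T.σ r * v 2 + r * T.σ s * v 4 + s * T.σ s * v 6] := rfl

theorem pf_pf (p q r s p' q' r' s' : K) (v : V K) : T.pf p q r s (T.pf p' q' r' s' v) =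
    T.pf (p * p' + q * r') (p * q' + q * s') (r * p' + s * r') (r * q' + s * s') v := by
  have h3 := T.three
  refine vext ?_ ?_ ?_ ?_ ?_ ?_ ?_ <;>
    simp only [pf_def, Matrix.cons_val, map_add, map_mul] <;> grind

theorem pf_one (v : V K) : T.pf 1 0 0 1 v = v := by
  refine vext ?_ ?_ ?_ ?_ ?_ ?_ ?_ <;> simp [pf_def]

/-- The action of `SL₂` by linear maps. -/
def φL : SL(2, K) →* Module.End K (V K) where
  toFun g :=
    { toFun := T.pf (g 0 0) (g 0 1) (g 1 0) (g 1 1)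
      map_add' := fun v w => by
        refine vext ?_ ?_ ?_ ?_ ?_ ?_ ?_ <;>
          simp only [pf_def, Pi.add_apply, Matrix.cons_val] <;> ring
      map_smul' := fun c v => by
        refine vext ?_ ?_ ?_ ?_ ?_ ?_ ?_ <;>
          simp only [pf_def, Pi.smul_apply, smul_eq_mul, Matrix.cons_val, RingHom.id_apply] <;>
          ring }
  map_one' := LinearMap.ext T.pf_one
  map_mul' g g' := LinearMap.ext fun v => by
    simp only [sl_mul_apply]
    exact (T.pf_pf _ _ _ _ _ _ _ _ v).symm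

/-- The action of `SL₂` by linear equivalences. -/
def φE : SL(2, K) →* (V K ≃ₗ[K] V K) :=
  (LinearMap.GeneralLinearGroup.generalLinearEquiv K (V K)).toMonoidHom.comp T.φL.toHomUnits

theorem φE_apply (g : SL(2, K)) (v : V K) :
    T.φE g v = T.pf (g 0 0) (g 0 1) (g 1 0) (g 1 1) v := rfl

theorem φE_up (b : K) : T.φE (up b) = (T.u 0 b 0).1 := by
  ext1 v
  rw [φE_apply, u_apply]
  refine vext ?_ ?_ ?_ ?_ ?_ ?_ ?_ <;> simp [pf_def, uf_def, up] <;> ring

theorem φE_ww : T.φE (ww K) = T.n.1 := by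
  ext1 v
  rw [φE_apply, n_apply]
  refine vext ?_ ?_ ?_ ?_ ?_ ?_ ?_ <;> simp [pf_def, nf_def, ww]

theorem φE_mem (g : SL(2, K)) : T.φE g ∈ T.R := by
  have h1 : ∀ b, T.φE (up b) ∈ T.R := fun b => T.φE_up b ▸ (T.u 0 b 0).2
  have h2 : T.φE (ww K) ∈ T.R := T.φE_ww ▸ T.n.2
  have key : ∀ g : SL(2, K), g 1 0 ≠ 0 → T.φE g ∈ T.R := by
    intro g hr
    have hd := sl_det g
    have : g = up ((g 0 0 - 1) / g 1 0) * (ww K * up (-g 1 0) * (ww K * ww K * ww K)) *
        up ((g 1 1 - 1) / g 1 0) := by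
      refine sl_ext ?_ ?_ ?_ ?_ <;> simp [sl_mul_apply, up, ww] <;> field_simp <;> grind
    rw [this]
    simp only [map_mul]
    exact T.R.mul_mem (T.R.mul_mem (h1 _) (T.R.mul_mem (T.R.mul_mem h2 (h1 _))
      (T.R.mul_mem (T.R.mul_mem h2 h2) h2))) (h1 _)
  by_cases hr : g 1 0 = 0
  · have hd := sl_det g
    have := key (ww K * g) (by
      simp only [sl_mul_apply, ww, sl_10, sl_11]
      intro h
      grind)
    rw [map_mul] at this
    exact (T.R.mul_mem_cancel_left h2).mp this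
  · exact key g hr

/-- The homomorphism `SL₂(K) → ²G₂(K)`. -/
def φ : SL(2, K) →* T.R := T.φE.codRestrict T.R T.φE_mem

theorem φ_apply (g : SL(2, K)) (v : V K) :
    (T.φ g).1 v = T.pf (g 0 0) (g 0 1) (g 1 0) (g 1 1) v := rfl

theorem φ_up (b : K) : T.φ (up b) = T.u 0 b 0 := Subtype.ext (T.φE_up b)

theorem φ_ww : T.φ (ww K) = T.n := Subtype.ext T.φE_ww

theorem φ_dg (y : Kˣ) : T.φ (dg y) = T.h (Units.mk0 _ (T.σ_unit_ne y) * y⁻¹) := by
  have h1 := T.σ_unit_ne y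
  have h2 := y.ne_zero
  refine T.ext_apply fun v => ?_
  rw [φ_apply, h_apply]
  refine vext ?_ ?_ ?_ ?_ ?_ ?_ ?_ <;> simp [pf_def, hf_def, dg, T.cube] <;> field_simp <;> simp

theorem σ_of_sq_eq_one {e : K} (h : e ^ 2 = 1) : T.σ e = e := by
  rcases sq_eq_one_iff.mp h with rfl | rfl <;> simp

theorem φ_eq_one_iff {g : SL(2, K)} :
    T.φ g = 1 ↔ g 0 1 = 0 ∧ g 1 0 = 0 ∧ g 1 1 = g 0 0 := by
  have hd := sl_det g
  constructor
  · intro h
    have h1 := congrArg (fun x : T.R => x.1 ![0, 1, 0, 0, 0, 0, 0]) h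
    have h5 := congrArg (fun x : T.R => x.1 ![0, 0, 0, 0, 0, 1, 0]) h
    have a1 := congrFun h1 1
    have a5 := congrFun h1 5
    have b1 := congrFun h5 1
    simp [φ_apply, pf_def] at a1 a5 b1
    refine ⟨b1, a5, ?_⟩
    grind
  · rintro ⟨h1, h2, h3⟩
    have h4 : g 0 0 ^ 2 = 1 := by grind
    have h5 := T.σ_of_sq_eq_one h4
    refine T.ext_apply fun v => ?_
    rw [φ_apply, h1, h2, h3, one_apply]
    refine vext ?_ ?_ ?_ ?_ ?_ ?_ ?_ <;> simp [pf_def, h5, h4] <;> grind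

theorem ker_φ : T.φ.ker = Subgroup.center SL(2, K) := by
  ext g
  rw [MonoidHom.mem_ker, φ_eq_one_iff, Subgroup.mem_center_iff]
  constructor
  · rintro ⟨h1, h2, h3⟩ x
    refine sl_ext ?_ ?_ ?_ ?_ <;> simp only [sl_mul_apply, h1, h2, h3] <;> ring
  · intro h
    have h1 := h (up 1)
    have h2 := h (ww K)
    have a := congrArg (fun x : SL(2, K) => x 0 0) h1
    have b := congrArg (fun x : SL(2, K) => x 0 1) h1
    have c := congrArg (fun x : SL(2, K) => x 0 0) h2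
    simp [sl_mul_apply, up, ww] at a b c
    grind

theorem φ_eq_iff {g g' : SL(2, K)} : T.φ g = T.φ g' ↔
    ∃ e : K, e ^ 2 = 1 ∧ g' 0 0 = e * g 0 0 ∧ g' 0 1 = e * g 0 1 ∧ g' 1 0 = e * g 1 0 ∧
      g' 1 1 = e * g 1 1 := by
  constructor
  · intro h
    obtain ⟨z, rfl⟩ : ∃ z, g' = g * z := ⟨g⁻¹ * g', by group⟩
    rw [map_mul, left_eq_mul, φ_eq_one_iff] at h
    obtain ⟨h1, h2, h3⟩ := h
    have hd := sl_det z
    refine ⟨z 0 0, by grind, ?_, ?_, ?_, ?_⟩ <;> simp only [sl_mul_apply, h1, h2, h3] <;> ring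
  · rintro ⟨e, he, h1, h2, h3, h4⟩
    have : g' = g * sl e 0 0 e (by grind) := by
      refine sl_ext ?_ ?_ ?_ ?_ <;> simp [sl_mul_apply, h1, h2, h3, h4, mul_comm]
    have h5 : T.φ (sl e 0 0 e (by grind)) = 1 := T.φ_eq_one_iff.mpr ⟨rfl, rfl, rfl⟩
    rw [this, map_mul, h5, mul_one]

/-- The diagonal involution. -/
def a : T.R := T.h (-1)

theorem a_def : T.a = T.h (-1) := rfl

theorem a_apply (v : V K) : T.a.1 v = ![-v 0, v 1, -v 2, v 3, -v 4, v 5, -v 6] := by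
  rw [a, h_apply]
  refine vext ?_ ?_ ?_ ?_ ?_ ?_ ?_ <;> simp [hf_def]

theorem a_mul_a : T.a * T.a = 1 := T.h_neg_one_sq

theorem a_ne_one : T.a ≠ 1 := T.h_neg_one_ne_one

theorem a_inv : T.a⁻¹ = T.a := inv_eq_of_mul_eq_one_right T.a_mul_a

theorem a_comm_φ (g : SL(2, K)) : T.a * T.φ g = T.φ g * T.a := by
  refine T.ext_apply fun v => ?_
  simp only [mul_apply, a_apply, φ_apply]
  refine vext ?_ ?_ ?_ ?_ ?_ ?_ ?_ <;> simp only [pf_def, Matrix.cons_val] <;> ring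

theorem φ_ne_a_mul (g g' : SL(2, K)) : T.φ g ≠ T.a * T.φ g' := by
  intro h
  have h0 : T.φ (g * g'⁻¹) = T.a := by rw [map_mul, h, map_inv, mul_inv_cancel_right]
  generalize g * g'⁻¹ = x at h0
  have hd := sl_det x
  have h1 := congrArg (fun x : T.R => x.1 ![0, 1, 0, 0, 0, 0, 0]) h0
  have h5 := congrArg (fun x : T.R => x.1 ![0, 0, 0, 0, 0, 1, 0]) h0
  have h2 := congrArg (fun x : T.R => x.1 ![1, 0, 0, 0, 0, 0, 0]) h0
  have a1 := congrFun h1 1
  have a0 := congrFun h2 0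
  simp only [φ_apply, pf_def, a_apply, Matrix.cons_val] at a1 a0
  have h4 : x 0 0 ^ 2 = 1 := by grind
  rw [T.σ_of_sq_eq_one h4] at a0
  exact T.neg_one_ne_one (by grind)

theorem a_smul_pt (x y z : K) : T.a • T.pt x y z = T.pt (-x) y (-z) := by
  rw [a, h_pt]
  simp

theorem a_fix_iff {p : T.Ω} : T.a • p = p ↔ p = T.inf ∨ ∃ b, p = T.pt 0 b 0 := by
  constructor
  · intro h
    rcases T.cases_Ω p with rfl | ⟨x, y, z, rfl⟩
    · exact Or.inl rfl
    · rw [a_smul_pt, pt_inj] at h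
      have h2 := T.two_ne_zero'
      obtain rfl : x = 0 := by grind
      obtain rfl : z = 0 := by grind
      exact Or.inr ⟨y, rfl⟩
  · rintro (rfl | ⟨b, rfl⟩)
    · exact T.h_inf _
    · exact T.h_neg_one_pt b

theorem h_comm (k l : Kˣ) : T.h k * T.h l = T.h l * T.h k := by
  rw [h_mul, h_mul, mul_comm]

theorem exists_φ_h [Finite K] (k : Kˣ) : ∃ g, T.h k = T.φ g ∨ T.h k = T.a * T.φ g := by
  have key : ∀ y : Kˣ, ∃ g, T.h (y ^ 2) = T.φ g := by
    intro y
    refine ⟨dg (Units.mk0 _ (T.σ_unit_ne y) * y), ?_⟩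
    rw [φ_dg]
    congr 1
    ext
    have h1 := T.σ_unit_ne y
    have h2 := y.ne_zero
    simp [T.cube]
    field_simp
  rcases T.sq_or_neg_sq (k : K) with ⟨y, hy⟩ | ⟨y, hy⟩
  · have hy0 : y ≠ 0 := by
      rintro rfl
      simp at hy
    obtain ⟨g, hg⟩ := key (Units.mk0 y hy0)
    exact ⟨g, Or.inl (by rw [← hg]; congr 1; exact Units.ext (by simpa using hy))⟩
  · have hy0 : y ≠ 0 := by
      rintro rfl
      simp at hy
    obtain ⟨g, hg⟩ := key (Units.mk0 y hy0)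
    exact ⟨g, Or.inr (by rw [← hg, a, h_mul]; congr 1; exact Units.ext (by simpa using hy))⟩

theorem mem_centralizer_a [Finite K] {x : T.R} :
    x ∈ Subgroup.centralizer ({T.a} : Set T.R) ↔ ∃ g, x = T.φ g ∨ x = T.a * T.φ g := by
  rw [Subgroup.mem_centralizer_singleton_iff]
  constructor
  · have key : ∀ x : T.R, x * T.a = T.a * x → x • T.inf = T.inf →
        ∃ g, x = T.φ g ∨ x = T.a * T.φ g := by
      intro x hx h
      obtain ⟨a, b, c, k, rfl⟩ := T.exists_eq_u_mul_h x h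
      have h1 : T.a • (T.u a b c * T.h k) • T.org = (T.u a b c * T.h k) • T.org := by
        rw [← mul_smul, ← hx, mul_smul, a_def, h_org]
      rw [mul_smul, h_org, u_org, a_smul_pt, pt_inj] at h1
      have h2 := T.two_ne_zero'
      obtain rfl : a = 0 := by grind
      obtain rfl : c = 0 := by grind
      obtain ⟨g, hg | hg⟩ := T.exists_φ_h k
      · exact ⟨up b * g, Or.inl (by rw [map_mul, φ_up, hg])⟩
      · exact ⟨up b * g, Or.inr (by
          rw [map_mul, hg, ← φ_up, ← mul_assoc, ← a_comm_φ, mul_assoc])⟩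
    intro hx
    rcases T.a_fix_iff.mp (show T.a • x • T.inf = x • T.inf by
      rw [← mul_smul, ← hx, mul_smul, a_def, h_inf]) with h | ⟨b, h⟩
    · exact key x hx h
    · obtain ⟨g, hg⟩ := key (T.φ (up b * ww K)⁻¹ * x)
        (by rw [mul_assoc, hx, ← mul_assoc, ← a_comm_φ, mul_assoc])
        (by rw [mul_smul, h, map_inv, inv_smul_eq_iff, map_mul, φ_up, φ_ww, mul_smul, n_inf,
          u_org])
      rw [map_inv, inv_mul_eq_iff_eq_mul, inv_mul_eq_iff_eq_mul] at hg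
      refine ⟨up b * ww K * g, hg.imp (fun h => by rw [h, ← map_mul]) fun h => ?_⟩
      rw [h, ← mul_assoc, ← a_comm_φ, mul_assoc, ← map_mul]
  · rintro ⟨g, rfl | rfl⟩
    · exact (T.a_comm_φ g).symm
    · rw [mul_assoc, a_comm_φ]

/-- The homomorphism from `PSL₂`. -/
def φP : PSL(2, K) →* T.R := QuotientGroup.lift _ T.φ T.ker_φ.ge

theorem φP_mk (g : SL(2, K)) : T.φP (QuotientGroup.mk g) = T.φ g := rfl

/-- The homomorphism `Z₂ → ⟨a⟩`. -/
def aHom : Multiplicative (ZMod 2) →* T.R where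
  toFun x := if x = 1 then 1 else T.a
  map_one' := if_pos rfl
  map_mul' := by
    have key : ∀ x : Multiplicative (ZMod 2), x = 1 ∨ x = Multiplicative.ofAdd 1 := by decide
    have h1 : (Multiplicative.ofAdd 1 : Multiplicative (ZMod 2)) ≠ 1 := by decide
    have h2 : (Multiplicative.ofAdd 1 : Multiplicative (ZMod 2)) * Multiplicative.ofAdd 1 = 1 := by
      decide
    intro x y
    rcases key x with rfl | rfl <;> rcases key y with rfl | rfl <;> simp [h1, h2, a_mul_a]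

theorem aHom_cases (x : Multiplicative (ZMod 2)) :
    (x = 1 ∧ T.aHom x = 1) ∨ (x ≠ 1 ∧ T.aHom x = T.a) := by
  by_cases h : x = 1
  · exact Or.inl ⟨h, if_pos h⟩
  · exact Or.inr ⟨h, if_neg h⟩

theorem aHom_comm (x : Multiplicative (ZMod 2)) (y : PSL(2, K)) :
    Commute (T.aHom x) (T.φP y) := by
  obtain ⟨g, rfl⟩ := QuotientGroup.mk_surjective y
  rcases T.aHom_cases x with ⟨-, h⟩ | ⟨-, h⟩ <;> rw [h]
  · exact Commute.one_left _
  · exact T.a_comm_φ g

theorem nonempty_centralizer_equiv [Finite K] :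
    Nonempty (Subgroup.centralizer ({T.a} : Set T.R) ≃* Multiplicative (ZMod 2) × PSL(2, K)) := by
  let f := T.aHom.noncommCoprod T.φP T.aHom_comm
  have hf : ∀ x g, f (x, QuotientGroup.mk g) = T.aHom x * T.φ g := fun _ _ => rfl
  have hinj : Function.Injective f := by
    rw [injective_iff_map_eq_one]
    rintro ⟨x, y⟩ h
    obtain ⟨g, rfl⟩ := QuotientGroup.mk_surjective y
    rw [hf] at h
    rcases T.aHom_cases x with ⟨rfl, h1⟩ | ⟨-, h1⟩ <;> rw [h1] at h
    · rw [one_mul, ← MonoidHom.mem_ker, ker_φ, ← QuotientGroup.eq_one_iff] at h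
      rw [h]
      rfl
    · exact absurd (by rw [map_one, h]) (T.φ_ne_a_mul 1 g)
  have hr : f.range = Subgroup.centralizer ({T.a} : Set T.R) := by
    ext z
    rw [mem_centralizer_a]
    constructor
    · rintro ⟨⟨x, y⟩, rfl⟩
      obtain ⟨g, rfl⟩ := QuotientGroup.mk_surjective y
      rw [hf]
      rcases T.aHom_cases x with ⟨-, h1⟩ | ⟨-, h1⟩ <;> rw [h1]
      · exact ⟨g, Or.inl (one_mul _)⟩
      · exact ⟨g, Or.inr rfl⟩
    · rintro ⟨g, rfl | rfl⟩
      · exact ⟨(1, QuotientGroup.mk g), by rw [hf, map_one, one_mul]⟩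
      · refine ⟨(Multiplicative.ofAdd 1, QuotientGroup.mk g), ?_⟩
        rw [hf]
        congr 1
  exact ⟨((MonoidHom.ofInjective hinj).trans (MulEquiv.subgroupCongr hr)).symm⟩

theorem card_centralizer_a [Finite K] :
    Nat.card (Subgroup.centralizer ({T.a} : Set T.R)) = Nat.card K * (Nat.card K ^ 2 - 1) := by
  obtain ⟨e⟩ := T.nonempty_centralizer_equiv
  have := Fintype.ofFinite K
  have h := H7.card_psl_two (F := K) (q := Nat.card K) Nat.card_eq_fintype_card.symm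
  have h4 := T.card_mod_four
  rw [Nat.gcd_eq_left (by omega)] at h
  rw [Nat.card_congr e.toEquiv, Nat.card_prod, ← h]
  simp

end Ctx

end Ree
end H8
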