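import Mathlib
import Cfsg.Agent.H8.ReeSL2

/-!
Sylow 2-subgroups of the small Ree group: elementary abelian of order 8, self-centralising, with
normaliser of order 168; all involutions are conjugate.
-/

set_option autoImplicit false

namespace H8

theorem card_eq_ncard_conj_mul {G : Type*} [Group G] (N : Subgroup G) (x : G) :
    Nat.card N = {y | ∃ g ∈ N, g * x * g⁻¹ = y}.ncard *
      Nat.card ↥(N ⊓ Subgroup.centralizer ({x} : Set G)) := by
  letI : MulAction N G := MulAction.compHom G (MulAut.conj.comp N.subtype)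
  have hsm : ∀ (g : N) (y : G), g • y = g * y * (g : G)⁻¹ := fun x y => rfl
  have hst : MulAction.stabilizer N x =
      (N ⊓ Subgroup.centralizer ({x} : Set G)).subgroupOf N := by
    ext g
    rw [MulAction.mem_stabilizer_iff, hsm, Subgroup.mem_subgroupOf, Subgroup.mem_inf,
      Subgroup.mem_centralizer_singleton_iff, mul_inv_eq_iff_eq_mul]
    exact ⟨fun h => ⟨g.2, h⟩, fun h => h.2⟩
  have ho : MulAction.orbit N x = {y | ∃ g ∈ N, g * x * g⁻¹ = y} := by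
    ext y
    exact ⟨fun ⟨g, hg⟩ => ⟨g, g.2, hg⟩, fun ⟨g, hg, h⟩ => ⟨⟨g, hg⟩, h⟩⟩
  rw [← ho, ← MulAction.index_stabilizer, ← (MulAction.stabilizer N x).index_mul_card, hst,
    Nat.card_congr (Subgroup.subgroupOfEquivOfLe inf_le_left).toEquiv]

theorem mem_normalizer_of_conj {G : Type*} [Group G] [Finite G] {S : Subgroup G} {g : G}
    (h : ∀ x ∈ S, g * x * g⁻¹ ∈ S) : g ∈ Subgroup.normalizer (S : Set G) :=
  Subgroup.mem_normalizer_fintype h

namespace Ree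

open scoped MatrixGroups

variable {K : Type*} [Field K]

namespace Ctx

variable (T : Ctx K)

include T in
theorem sq_ne_neg_one (x : K) : x ^ 2 ≠ -1 :=
  fun h => T.not_isSquare_neg_one ⟨x, by rw [← h, sq]⟩

/-- An element of order four of `SL₂(3)`. -/
def ii : SL(2, K) := sl 1 1 1 (-1) (by linear_combination -T.three)

/-- A third commuting involution. -/
def c : T.R := T.φ T.ii

theorem c_def : T.c = T.φ T.ii := rfl

theorem c_apply (v : V K) : T.c.1 v = ![v 0 - v 2 - v 4 - v 6, v 1 + v 3 - v 5,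
    -v 0 - v 2 + v 4 - v 6, -v 1 - v 5, -v 0 + v 2 - v 4 - v 6, -v 1 + v 3 + v 5,
    -v 0 - v 2 - v 4 + v 6] := by
  rw [c, φ_apply]
  refine vext ?_ ?_ ?_ ?_ ?_ ?_ ?_ <;> simp [pf_def, ii] <;> ring

theorem c_mul_c : T.c * T.c = 1 := by
  have h3 := T.three
  rw [c, ← map_mul, φ_eq_one_iff]
  simp [sl_mul_apply, ii]

theorem c_inv : T.c⁻¹ = T.c := inv_eq_of_mul_eq_one_right T.c_mul_c

theorem a_comm_n : T.a * T.n = T.n * T.a := T.φ_ww ▸ T.a_comm_φ _

theorem a_comm_c : T.a * T.c = T.c * T.a := T.a_comm_φ _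

theorem n_comm_c : T.n * T.c = T.c * T.n := by
  rw [← φ_ww, c, ← map_mul, ← map_mul, φ_eq_iff]
  exact ⟨-1, by simp, by simp [sl_mul_apply, ii, ww]⟩

theorem φ_comm_n_iff {g : SL(2, K)} : T.φ g * T.n = T.n * T.φ g ↔
    (g 1 0 = -g 0 1 ∧ g 1 1 = g 0 0) ∨ (g 1 0 = g 0 1 ∧ g 1 1 = -g 0 0) := by
  rw [← φ_ww, ← map_mul, ← map_mul, φ_eq_iff]
  simp only [sl_mul_apply, ww, sl_00, sl_01, sl_10, sl_11]
  constructor
  · rintro ⟨e, he, h1, h2, -, -⟩
    rcases sq_eq_one_iff.mp he with rfl | rfl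
    · left; grind
    · right; grind
  · rintro (⟨h1, h2⟩ | ⟨h1, h2⟩)
    · exact ⟨1, by simp, by grind, by grind, by grind, by grind⟩
    · exact ⟨-1, by simp, by grind, by grind, by grind, by grind⟩

theorem φ_cases {g : SL(2, K)} (h1 : T.φ g * T.n = T.n * T.φ g) (h2 : T.φ g * T.c = T.c * T.φ g) :
    T.φ g = 1 ∨ T.φ g = T.n ∨ T.φ g = T.c ∨ T.φ g = T.n * T.c := by
  have h3 := T.three
  have hd := sl_det g
  rw [c, ← map_mul, ← map_mul, φ_eq_iff] at h2
  simp only [sl_mul_apply, ii, sl_00, sl_01, sl_10, sl_11] at h2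
  obtain ⟨e, he, k1, k2, -, -⟩ := h2
  rcases T.φ_comm_n_iff.mp h1 with ⟨e1, e2⟩ | ⟨e1, e2⟩ <;> rcases sq_eq_one_iff.mp he with rfl | rfl
  · left
    rw [φ_eq_one_iff]
    grind
  · right; left
    rw [← φ_ww, eq_comm, φ_eq_iff]
    simp only [ww, sl_00, sl_01, sl_10, sl_11]
    exact ⟨g 0 1, by grind, by grind, by grind, by grind, by grind⟩
  · right; right; left
    rw [c, eq_comm, φ_eq_iff]
    simp only [ii, sl_00, sl_01, sl_10, sl_11]
    exact ⟨g 0 0, by grind, by grind, by grind, by grind, by grind⟩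
  · right; right; right
    rw [c, ← φ_ww, ← map_mul, eq_comm, φ_eq_iff]
    simp only [sl_mul_apply, ii, ww, sl_00, sl_01, sl_10, sl_11]
    exact ⟨g 0 0, by grind, by grind, by grind, by grind, by grind⟩

theorem not_conj_c {g : SL(2, K)} (h1 : T.φ g * T.n = T.n * T.φ g) :
    T.φ g * T.c ≠ T.n * T.c * T.φ g := by
  intro h2
  have h3 := T.three
  have hd := sl_det g
  rw [c, ← φ_ww, ← map_mul, ← map_mul, ← map_mul, φ_eq_iff] at h2
  simp only [sl_mul_apply, ii, ww, sl_00, sl_01, sl_10, sl_11] at h2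
  obtain ⟨e, he, k1, k2, -, -⟩ := h2
  rcases T.φ_comm_n_iff.mp h1 with ⟨e1, e2⟩ | ⟨e1, e2⟩ <;> rcases sq_eq_one_iff.mp he with rfl | rfl
  · exact T.sq_ne_neg_one (g 0 0) (by grind)
  · exact T.sq_ne_neg_one (g 0 0) (by grind)
  · exact T.sq_ne_neg_one (g 0 0) (by grind)
  · exact T.sq_ne_neg_one (g 0 1) (by grind)

/-- A Sylow 2-subgroup. -/
def S0 : Subgroup T.R := Subgroup.centralizer {T.a, T.n, T.c}

theorem mem_S0' {x : T.R} :
    x ∈ T.S0 ↔ x * T.a = T.a * x ∧ x * T.n = T.n * x ∧ x * T.c = T.c * x := by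
  simp only [S0, Subgroup.mem_centralizer_iff, Set.mem_insert_iff, Set.mem_singleton_iff,
    forall_eq_or_imp, forall_eq]
  exact ⟨fun h => ⟨h.1.symm, h.2.1.symm, h.2.2.symm⟩, fun h => ⟨h.1.symm, h.2.1.symm, h.2.2.symm⟩⟩

theorem a_mem_S0 : T.a ∈ T.S0 := T.mem_S0'.mpr ⟨rfl, T.a_comm_n, T.a_comm_c⟩

theorem n_mem_S0 : T.n ∈ T.S0 := T.mem_S0'.mpr ⟨T.a_comm_n.symm, rfl, T.n_comm_c⟩

theorem c_mem_S0 : T.c ∈ T.S0 := T.mem_S0'.mpr ⟨T.a_comm_c.symm, T.n_comm_c.symm, rfl⟩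

theorem mem_S0 [Finite K] {x : T.R} : x ∈ T.S0 ↔ x ∈ [1, T.n, T.c, T.n * T.c, T.a, T.a * T.n,
    T.a * T.c, T.a * (T.n * T.c)] := by
  constructor
  · intro h
    obtain ⟨h1, h2, h3⟩ := T.mem_S0'.mp h
    obtain ⟨g, rfl | rfl⟩ := T.mem_centralizer_a.mp (Subgroup.mem_centralizer_singleton_iff.mpr h1)
    · rcases T.φ_cases h2 h3 with h | h | h | h <;> simp [h]
    · rw [mul_assoc, ← mul_assoc T.n, ← a_comm_n, mul_assoc, mul_right_inj] at h2
      rw [mul_assoc, ← mul_assoc T.c, ← a_comm_c, mul_assoc, mul_right_inj] at h3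
      rcases T.φ_cases h2 h3 with h | h | h | h <;> simp [h]
  · have ha := T.a_mem_S0
    have hn := T.n_mem_S0
    have hc := T.c_mem_S0
    simp only [List.mem_cons, List.not_mem_nil, or_false]
    rintro (rfl | rfl | rfl | rfl | rfl | rfl | rfl | rfl) <;>
      simp only [Subgroup.one_mem, Subgroup.mul_mem, ha, hn, hc]

theorem nodup_S0 : [1, T.n, T.c, T.n * T.c, T.a, T.a * T.n, T.a * T.c,
    T.a * (T.n * T.c)].Nodup := by
  apply List.Nodup.of_map (fun g : T.R => (g.1 e0 0, g.1 e0 2, g.1 e0 6))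
  have h1 := T.neg_one_ne_one
  have h2 := h1.symm
  simp [mul_apply, a_apply, n_apply, c_apply, nf_def, e0_def, h1, h2]

theorem card_S0 [Finite K] : Nat.card T.S0 = 8 := by
  classical
  have : (T.S0 : Set T.R) = ([1, T.n, T.c, T.n * T.c, T.a, T.a * T.n, T.a * T.c,
      T.a * (T.n * T.c)].toFinset : Finset T.R) := by
    ext x
    rw [SetLike.mem_coe, mem_S0, Finset.mem_coe, List.mem_toFinset]
  change (T.S0 : Set T.R).ncard = 8
  rw [this, Set.ncard_coe_finset, List.toFinset_card_of_nodup T.nodup_S0]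
  rfl

theorem S0_comm [Finite K] {x y : T.R} (hx : x ∈ T.S0) (hy : y ∈ T.S0) : x * y = y * x := by
  obtain ⟨h1, h2, h3⟩ := T.mem_S0'.mp hx
  have h1 : Commute x T.a := h1
  have h2 : Commute x T.n := h2
  have h3 : Commute x T.c := h3
  rw [mem_S0] at hy
  simp only [List.mem_cons, List.not_mem_nil, or_false] at hy
  change Commute x y
  rcases hy with rfl | rfl | rfl | rfl | rfl | rfl | rfl | rfl <;>
    simp only [Commute.one_right, Commute.mul_right, h1, h2, h3]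

theorem S0_sq [Finite K] {x : T.R} (hx : x ∈ T.S0) : x * x = 1 := by
  have key : ∀ x y : T.R, x * x = 1 → y * y = 1 → x * y = y * x → x * y * (x * y) = 1 := by
    intro x y h1 h2 h3
    calc x * y * (x * y) = x * (y * x) * y := by group
      _ = (x * x) * (y * y) := by rw [← h3]; group
      _ = 1 := by rw [h1, h2, one_mul]
  have h1 := key _ _ T.n_mul_n T.c_mul_c T.n_comm_c
  rw [mem_S0] at hx
  simp only [List.mem_cons, List.not_mem_nil, or_false] at hx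
  rcases hx with rfl | rfl | rfl | rfl | rfl | rfl | rfl | rfl
  · exact one_mul _
  · exact T.n_mul_n
  · exact T.c_mul_c
  · exact h1
  · exact T.a_mul_a
  · exact key _ _ T.a_mul_a T.n_mul_n T.a_comm_n
  · exact key _ _ T.a_mul_a T.c_mul_c T.a_comm_c
  · exact key _ _ T.a_mul_a h1 (T.S0_comm T.a_mem_S0 (T.S0.mul_mem T.n_mem_S0 T.c_mem_S0))

theorem centralizer_S0 [Finite K] : Subgroup.centralizer (T.S0 : Set T.R) = T.S0 := by
  apply le_antisymm
  · apply Subgroup.centralizer_le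
    rintro x (rfl | rfl | rfl)
    · exact T.a_mem_S0
    · exact T.n_mem_S0
    · exact T.c_mem_S0
  · intro x hx y hy
    exact T.S0_comm hy hx

theorem isPGroup_S0 [Finite K] : IsPGroup 2 T.S0 :=
  fun x => ⟨1, Subtype.ext (by simpa [sq] using T.S0_sq x.2)⟩

theorem odd_index_S0 [Finite K] (hq : Nat.card K % 8 = 3) : ¬ 2 ∣ T.S0.index := by
  have h := T.S0.index_mul_card
  rw [card_S0, card_R] at h
  obtain ⟨k, hk⟩ : ∃ k, Nat.card K = 8 * k + 3 := ⟨Nat.card K / 8, by omega⟩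
  rw [hk, show 8 * k + 3 - 1 = 8 * k + 2 from rfl] at h
  have : T.S0.index = (8 * k + 3) ^ 3 * (4 * k + 1) * ((2 * k + 1) *
      (64 * k ^ 2 + 40 * k + 7)) := by
    apply Nat.eq_of_mul_eq_mul_right (m := 8) (by norm_num)
    rw [h]; ring
  rw [this, ← even_iff_two_dvd, Nat.not_even_iff_odd]
  exact ((Odd.pow ⟨4 * k + 1, by ring⟩).mul ⟨2 * k, by ring⟩).mul
    (Odd.mul ⟨k, rfl⟩ ⟨32 * k ^ 2 + 20 * k + 3, by ring⟩)

/-- `S0` as a Sylow 2-subgroup. -/
noncomputable def sylowS0 [Finite K] (hq : Nat.card K % 8 = 3) : Sylow 2 T.R :=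
  T.isPGroup_S0.toSylow (T.odd_index_S0 hq)

theorem coe_sylowS0 [Finite K] (hq : Nat.card K % 8 = 3) :
    (T.sylowS0 hq : Subgroup T.R) = T.S0 := rfl

/-- An element of order three normalising `S0` and `⟨a, n⟩`. -/
def g3 : T.R := T.u 1 0 0 * T.n * T.u (-1) 1 0

theorem g3_a : T.g3 * T.a = T.n * T.g3 := by
  have h3 := T.three
  refine T.ext_apply fun v => ?_
  refine vext ?_ ?_ ?_ ?_ ?_ ?_ ?_ <;>
    simp only [g3, mul_apply, a_apply, n_apply, u_apply, uf_def, nf_def, Matrix.cons_val, map_one,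
      map_zero, map_neg] <;> grind

theorem g3_n : T.g3 * T.n = T.a * T.n * T.g3 := by
  have h3 := T.three
  refine T.ext_apply fun v => ?_
  refine vext ?_ ?_ ?_ ?_ ?_ ?_ ?_ <;>
    simp only [g3, mul_apply, a_apply, n_apply, u_apply, uf_def, nf_def, Matrix.cons_val, map_one,
      map_zero, map_neg] <;> grind

theorem g3_c : T.g3 * T.c = T.n * T.c * T.g3 := by
  have h3 := T.three
  refine T.ext_apply fun v => ?_
  refine vext ?_ ?_ ?_ ?_ ?_ ?_ ?_ <;>
    simp only [g3, mul_apply, c_apply, n_apply, u_apply, uf_def, nf_def, Matrix.cons_val, map_one,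
      map_zero, map_neg] <;> grind

theorem t3_a : T.u 0 1 0 * T.a = T.a * T.u 0 1 0 := T.φ_up 1 ▸ (T.a_comm_φ _).symm

theorem t3_n : T.u 0 1 0 * T.n = T.c * T.u 0 1 0 := by
  have h3 := T.three
  rw [← φ_up, ← φ_ww, c, ← map_mul, ← map_mul, φ_eq_iff]
  refine ⟨-1, by simp, ?_⟩
  simp only [sl_mul_apply, ii, ww, up, sl_00, sl_01, sl_10, sl_11]
  grind

theorem t3_c : T.u 0 1 0 * T.c = T.n * T.c * T.u 0 1 0 := by
  have h3 := T.three
  rw [← φ_up, ← φ_ww, c, ← map_mul, ← map_mul, ← map_mul, φ_eq_iff]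
  refine ⟨-1, by simp, ?_⟩
  simp only [sl_mul_apply, ii, ww, up, sl_00, sl_01, sl_10, sl_11]
  grind

theorem mem_normalizer_S0 [Finite K] {g : T.R} (ha : g * T.a * g⁻¹ ∈ T.S0)
    (hn : g * T.n * g⁻¹ ∈ T.S0) (hc : g * T.c * g⁻¹ ∈ T.S0) :
    g ∈ Subgroup.normalizer (T.S0 : Set T.R) := by
  apply mem_normalizer_of_conj
  intro x hx
  rw [mem_S0] at hx
  simp only [List.mem_cons, List.not_mem_nil, or_false] at hx
  have e : ∀ x y : T.R, g * (x * y) * g⁻¹ = g * x * g⁻¹ * (g * y * g⁻¹) := fun x y => by group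
  rcases hx with rfl | rfl | rfl | rfl | rfl | rfl | rfl | rfl <;>
    simp only [mul_one, mul_inv_cancel, e, Subgroup.one_mem, Subgroup.mul_mem, ha, hn, hc]

theorem g3_conj_a : T.g3 * T.a * T.g3⁻¹ = T.n := by rw [g3_a, mul_inv_cancel_right]

theorem g3_conj_n : T.g3 * T.n * T.g3⁻¹ = T.a * T.n := by rw [g3_n, mul_inv_cancel_right]

theorem g3_conj_c : T.g3 * T.c * T.g3⁻¹ = T.n * T.c := by rw [g3_c, mul_inv_cancel_right]

theorem t3_conj_a : T.u 0 1 0 * T.a * (T.u 0 1 0)⁻¹ = T.a := by rw [t3_a, mul_inv_cancel_right]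

theorem t3_conj_n : T.u 0 1 0 * T.n * (T.u 0 1 0)⁻¹ = T.c := by rw [t3_n, mul_inv_cancel_right]

theorem t3_conj_c : T.u 0 1 0 * T.c * (T.u 0 1 0)⁻¹ = T.n * T.c := by
  rw [t3_c, mul_inv_cancel_right]

theorem g3_mem_normalizer [Finite K] : T.g3 ∈ Subgroup.normalizer (T.S0 : Set T.R) :=
  T.mem_normalizer_S0 (T.g3_conj_a ▸ T.n_mem_S0)
    (T.g3_conj_n ▸ T.S0.mul_mem T.a_mem_S0 T.n_mem_S0)
    (T.g3_conj_c ▸ T.S0.mul_mem T.n_mem_S0 T.c_mem_S0)

theorem t3_mem_normalizer [Finite K] : T.u 0 1 0 ∈ Subgroup.normalizer (T.S0 : Set T.R) :=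
  T.mem_normalizer_S0 (T.t3_conj_a.symm ▸ T.a_mem_S0) (T.t3_conj_n ▸ T.c_mem_S0)
    (T.t3_conj_c ▸ T.S0.mul_mem T.n_mem_S0 T.c_mem_S0)

theorem orbit_a [Finite K] :
    {y | ∃ g ∈ Subgroup.normalizer (T.S0 : Set T.R), g * T.a * g⁻¹ = y} =
      (T.S0 : Set T.R) \ {1} := by
  apply Set.Subset.antisymm
  · rintro _ ⟨g, hg, rfl⟩
    exact ⟨(Subgroup.mem_normalizer_iff.mp hg _).mp T.a_mem_S0, by simpa using T.a_ne_one⟩
  · have key : ∀ x ∈ Subgroup.normalizer (T.S0 : Set T.R), ∀ y ∈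
        {y | ∃ g ∈ Subgroup.normalizer (T.S0 : Set T.R), g * T.a * g⁻¹ = y}, x * y * x⁻¹ ∈
        {y | ∃ g ∈ Subgroup.normalizer (T.S0 : Set T.R), g * T.a * g⁻¹ = y} := by
      rintro x hx _ ⟨g, hg, rfl⟩
      exact ⟨x * g, Subgroup.mul_mem _ hx hg, by group⟩
    have e : ∀ g x y : T.R, g * (x * y) * g⁻¹ = g * x * g⁻¹ * (g * y * g⁻¹) := fun g x y => by group
    have h0 : T.a ∈ {y | ∃ g ∈ Subgroup.normalizer (T.S0 : Set T.R), g * T.a * g⁻¹ = y} :=
      ⟨1, Subgroup.one_mem _, by simp⟩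
    have h1 := key _ T.g3_mem_normalizer _ h0
    rw [g3_conj_a] at h1
    have h2 := key _ T.g3_mem_normalizer _ h1
    rw [g3_conj_n] at h2
    have h3 := key _ T.t3_mem_normalizer _ h1
    rw [t3_conj_n] at h3
    have h4 := key _ T.t3_mem_normalizer _ h3
    rw [t3_conj_c] at h4
    have h5 := key _ T.t3_mem_normalizer _ h2
    rw [e, t3_conj_a, t3_conj_n] at h5
    have h6 := key _ T.t3_mem_normalizer _ h5
    rw [e, t3_conj_a, t3_conj_c] at h6
    rintro x ⟨hx, hx1⟩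
    rw [SetLike.mem_coe, mem_S0] at hx
    simp only [List.mem_cons, List.not_mem_nil, or_false] at hx
    rcases hx with rfl | rfl | rfl | rfl | rfl | rfl | rfl | rfl
    · exact absurd rfl hx1
    all_goals assumption

theorem conj_φ {x : T.R} [Finite K] (hx : x ∈ Subgroup.centralizer ({T.a} : Set T.R))
    (g : SL(2, K)) : ∃ g', x * T.φ g * x⁻¹ = T.φ g' := by
  obtain ⟨y, rfl | rfl⟩ := T.mem_centralizer_a.mp hx
  · exact ⟨y * g * y⁻¹, by simp⟩
  · refine ⟨y * g * y⁻¹, ?_⟩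
    rw [_root_.mul_inv_rev, a_inv, ← map_inv, mul_assoc T.a, ← map_mul, ← mul_assoc, mul_assoc T.a,
      ← map_mul, a_comm_φ, mul_assoc, a_mul_a, mul_one]

theorem mem_S0_φ [Finite K] {g : SL(2, K)} (h : T.φ g ∈ T.S0) :
    T.φ g = 1 ∨ T.φ g = T.n ∨ T.φ g = T.c ∨ T.φ g = T.n * T.c :=
  T.φ_cases (T.mem_S0'.mp h).2.1 (T.mem_S0'.mp h).2.2

theorem n_ne_one : T.n ≠ 1 := fun h => T.n_notMem_B (h ▸ T.B.one_mem)

theorem c_ne_one : T.c ≠ 1 := by
  rw [c, Ne, φ_eq_one_iff]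
  simp [ii]

theorem card_normalizer_S0 [Finite K] :
    Nat.card (Subgroup.normalizer (T.S0 : Set T.R)) = 168 := by
  have hnd := T.nodup_S0
  simp only [List.nodup_cons, List.mem_cons, not_or] at hnd
  have h1 : {y | ∃ g ∈ Subgroup.normalizer (T.S0 : Set T.R) ⊓
      Subgroup.centralizer ({T.a} : Set T.R), g * T.n * g⁻¹ = y} = {T.n, T.c, T.n * T.c} := by
    apply Set.Subset.antisymm
    · rintro _ ⟨g, ⟨hg, hg'⟩, rfl⟩
      obtain ⟨y, hy⟩ := T.conj_φ hg' (ww K)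
      rw [φ_ww] at hy
      have := (Subgroup.mem_normalizer_iff.mp hg _).mp T.n_mem_S0
      rw [hy] at this
      rcases T.mem_S0_φ this with h | h
      · rw [h] at hy
        exact absurd (by simpa using hy) T.n_ne_one
      · rwa [hy]
    · have ht : T.u 0 1 0 ∈ Subgroup.normalizer (T.S0 : Set T.R) ⊓
          Subgroup.centralizer ({T.a} : Set T.R) :=
        ⟨T.t3_mem_normalizer, Subgroup.mem_centralizer_singleton_iff.mpr T.t3_a⟩
      rintro _ (rfl | rfl | rfl)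
      · exact ⟨1, Subgroup.one_mem _, by simp⟩
      · exact ⟨_, ht, T.t3_conj_n⟩
      · exact ⟨_, Subgroup.mul_mem _ ht ht, by rw [← t3_conj_c, ← t3_conj_n]; group⟩
  have h2 : Subgroup.normalizer (T.S0 : Set T.R) ⊓ Subgroup.centralizer ({T.a} : Set T.R) ⊓
      Subgroup.centralizer ({T.n} : Set T.R) = T.S0 := by
    apply le_antisymm
    · rintro g ⟨⟨hg, ha⟩, hn⟩
      have hn' := Subgroup.mem_centralizer_singleton_iff.mp hn
      refine T.mem_S0'.mpr ⟨Subgroup.mem_centralizer_singleton_iff.mp ha, hn', ?_⟩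
      obtain ⟨y, hy⟩ := T.conj_φ ha T.ii
      rw [← c_def] at hy
      have := (Subgroup.mem_normalizer_iff.mp hg _).mp T.c_mem_S0
      rw [hy] at this
      rcases T.mem_S0_φ this with h | h | h | h <;> rw [h, mul_inv_eq_iff_eq_mul] at hy
      · exact absurd (by simpa using hy) T.c_ne_one
      · rw [← hn', mul_right_inj] at hy
        exact absurd hy.symm hnd.2.1.1
      · exact hy
      · exfalso
        obtain ⟨z, rfl | rfl⟩ := T.mem_centralizer_a.mp ha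
        · exact T.not_conj_c hn' hy
        · rw [mul_assoc, ← mul_assoc T.n, ← a_comm_n, mul_assoc, mul_right_inj] at hn'
          rw [mul_assoc, ← mul_assoc (T.n * T.c),
            T.S0_comm (T.S0.mul_mem T.n_mem_S0 T.c_mem_S0) T.a_mem_S0, mul_assoc,
            mul_right_inj] at hy
          exact T.not_conj_c hn' hy
    · intro x hx
      exact ⟨⟨Subgroup.le_normalizer hx, Subgroup.mem_centralizer_singleton_iff.mpr
        (T.mem_S0'.mp hx).1⟩, Subgroup.mem_centralizer_singleton_iff.mpr (T.mem_S0'.mp hx).2.1⟩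
  rw [card_eq_ncard_conj_mul _ T.a, orbit_a, card_eq_ncard_conj_mul _ T.n, h1, h2, card_S0,
    Set.ncard_diff_singleton_of_mem (SetLike.mem_coe.mpr T.S0.one_mem),
    show (T.S0 : Set T.R).ncard = 8 from T.card_S0,
    Set.ncard_eq_three.mpr ⟨_, _, _, hnd.2.1.1, hnd.2.1.2.1, hnd.2.2.1.1, rfl⟩]

open scoped Pointwise in
theorem exists_conj_sylow_two [Finite K] (hq : Nat.card K % 8 = 3) (S : Sylow 2 T.R) :
    ∃ g : T.R, (S : Subgroup T.R) = T.S0.map (MulAut.conj g).toMonoidHom := by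
  obtain ⟨g, rfl⟩ := MulAction.exists_smul_eq T.R (T.sylowS0 hq) S
  exact ⟨g, rfl⟩

/-- All involutions are conjugate. -/
theorem exists_conj_a [Finite K] (hq : Nat.card K % 8 = 3) {t : T.R} (h1 : t ≠ 1)
    (h2 : t * t = 1) : ∃ g, g * T.a * g⁻¹ = t := by
  have hz : IsPGroup 2 (Subgroup.zpowers t) := IsPGroup.of_card (n := 1) (by
    rw [Nat.card_zpowers, orderOf_eq_prime (p := 2) (by rw [sq, h2]) h1, pow_one])
  obtain ⟨P, hP⟩ := hz.exists_le_sylow
  obtain ⟨g, hg⟩ := T.exists_conj_sylow_two hq P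
  obtain ⟨s, hs, rfl⟩ : t ∈ T.S0.map (MulAut.conj g).toMonoidHom := hg ▸ hP (Subgroup.mem_zpowers t)
  obtain ⟨x, -, rfl⟩ : s ∈ {y | ∃ g ∈ Subgroup.normalizer (T.S0 : Set T.R), g * T.a * g⁻¹ = y} := by
    rw [orbit_a]
    exact ⟨hs, fun h => h1 (by rw [Set.mem_singleton_iff.mp h, map_one])⟩
  exact ⟨g * x, by simp [mul_assoc]⟩

end Ctx

theorem card_mod_eight [Fintype K] {m : ℕ} (hK : Fintype.card K = 3 ^ (2 * m + 1)) :
    Nat.card K % 8 = 3 := by
  rw [Nat.card_eq_fintype_card, hK, pow_succ, pow_mul, Nat.mul_mod, Nat.pow_mod]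
  simp

end Ree
end H8
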