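import Mathlib

/-!
Transport of centralisers, normalisers and Sylow subgroups along group isomorphisms.
-/

set_option autoImplicit false

namespace H8

variable {G G' : Type*} [Group G] [Group G']

theorem map_centralizer_equiv (e : G ≃* G') (s : Set G) :
    (Subgroup.centralizer s).map e.toMonoidHom = Subgroup.centralizer (e '' s) := by
  ext x
  obtain ⟨x, rfl⟩ := e.surjective x
  rw [Subgroup.mem_map_equiv, MulEquiv.symm_apply_apply, Subgroup.mem_centralizer_iff,
    Subgroup.mem_centralizer_iff]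
  constructor
  · rintro h _ ⟨y, hy, rfl⟩
    rw [← map_mul, ← map_mul, h y hy]
  · intro h y hy
    apply e.injective
    rw [map_mul, map_mul, h _ ⟨y, hy, rfl⟩]

theorem card_map_equiv (e : G ≃* G') (S : Subgroup G) :
    Nat.card (S.map e.toMonoidHom) = Nat.card S :=
  Subgroup.card_map_of_injective e.injective

open scoped Pointwise in
theorem exists_equiv_map_sylow {p : ℕ} [Fact p.Prime] [Finite G] (e : G ≃* G') (S : Sylow p G)
    (P : Sylow p G') : ∃ e' : G ≃* G', (S : Subgroup G).map e'.toMonoidHom = P := by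
  have : Finite G' := Finite.of_equiv G e.toEquiv
  have hs : Function.Surjective e.toMonoidHom := e.surjective
  obtain ⟨g, hg⟩ := MulAction.exists_smul_eq G' (S.mapSurjective hs) P
  refine ⟨e.trans (MulAut.conj g), ?_⟩
  rw [← hg, Sylow.coe_subgroup_smul, Sylow.coe_mapSurjective]
  exact (Subgroup.map_map _ (MulAut.conj g).toMonoidHom e.toMonoidHom).symm

/-- If a cyclic subgroup has index prime to `p`, the Sylow `p`-subgroups are cyclic. -/
theorem isCyclic_sylow_of_not_dvd_index {p : ℕ} [Fact p.Prime] [Finite G] (A : Subgroup G)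
    [IsCyclic A] (h : ¬ p ∣ A.index) (P : Sylow p G) : IsCyclic (P : Subgroup G) := by
  obtain ⟨Q⟩ : Nonempty (Sylow p A) := inferInstance
  have h1 : IsPGroup p ((Q : Subgroup A).map A.subtype) := Q.isPGroup'.map _
  have h2 : ¬ p ∣ ((Q : Subgroup A).map A.subtype).index := by
    rw [Subgroup.index_map_subtype, (Fact.out : p.Prime).dvd_mul]
    exact fun h' => h'.elim Q.not_dvd_index h
  have h3 : IsCyclic ((Q : Subgroup A).map A.subtype) :=
    isCyclic_of_surjective (A.subtype.subgroupMap Q) (A.subtype.subgroupMap_surjective Q)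
  have h4 : IsCyclic (h1.toSylow h2 : Subgroup G) := h3
  exact isCyclic_of_surjective (Sylow.equiv (h1.toSylow h2) P) (MulEquiv.surjective _)

/-- An element of prime order `p` is conjugate into any subgroup of index prime to `p`. -/
theorem exists_conj_mem_of_not_dvd_index {p : ℕ} [Fact p.Prime] [Finite G] (A : Subgroup G)
    (h : ¬ p ∣ A.index) {x : G} (hx : orderOf x = p) : ∃ g, g * x * g⁻¹ ∈ A := by
  obtain ⟨Q⟩ : Nonempty (Sylow p A) := inferInstance
  have h1 : IsPGroup p ((Q : Subgroup A).map A.subtype) := Q.isPGroup'.map _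
  have h2 : ¬ p ∣ ((Q : Subgroup A).map A.subtype).index := by
    rw [Subgroup.index_map_subtype, (Fact.out : p.Prime).dvd_mul]
    exact fun h' => h'.elim Q.not_dvd_index h
  have hz : IsPGroup p (Subgroup.zpowers x) :=
    IsPGroup.of_card (n := 1) (by rw [Nat.card_zpowers, hx, pow_one])
  obtain ⟨P, hP⟩ := hz.exists_le_sylow
  obtain ⟨g, hg⟩ := MulAction.exists_smul_eq G P (h1.toSylow h2)
  refine ⟨g, Subgroup.map_subtype_le (Q : Subgroup A) ?_⟩
  change _ ∈ (h1.toSylow h2 : Subgroup G)
  rw [← hg, Sylow.coe_subgroup_smul]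
  exact Subgroup.smul_mem_pointwise_smul x (MulAut.conj g) _ (hP (Subgroup.mem_zpowers x))

/-- The normaliser of a finite cyclic subgroup normalises each of its subgroups. -/
theorem normalizer_le_of_isCyclic [Finite G] {A A₀ : Subgroup G} [IsCyclic A] (h : A₀ ≤ A) :
    Subgroup.normalizer (A : Set G) ≤ Subgroup.normalizer (A₀ : Set G) := by
  intro y hy
  apply Subgroup.mem_normalizer_fintype
  obtain ⟨⟨γ, hγ⟩, hg⟩ := IsCyclic.exists_generator (α := A)
  have key : ∀ x ∈ A, ∃ k : ℤ, γ ^ k = x := fun x hx => by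
    obtain ⟨k, hk⟩ := hg ⟨x, hx⟩
    exact ⟨k, congrArg Subtype.val hk⟩
  obtain ⟨k, hk⟩ := key _ ((Subgroup.mem_normalizer_iff.mp hy γ).mp hγ)
  intro x hx
  obtain ⟨j, rfl⟩ := key x (h hx)
  rw [← conj_zpow, ← hk, ← zpow_mul, mul_comm, zpow_mul]
  exact A₀.zpow_mem hx k

end H8
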