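import Mathlib
import Cfsg.Agent.H8.ReeSylow2
import Cfsg.Agent.H8.Transport

/-!
The torus of order `q + 1` of the small Ree group and its normaliser.
-/

set_option autoImplicit false

namespace H8

theorem card_eq_two_mul {G : Type*} [Group G] [Finite G] (A N : Subgroup G) {w : G} (hw : w ∉ A)
    (h : ∀ x, x ∈ N ↔ x ∈ A ∨ w * x ∈ A) : Nat.card N = 2 * Nat.card A := by
  have : Function.Bijective (fun p : A ⊕ A => (match p with
      | Sum.inl x => ⟨x, (h _).mpr (Or.inl x.2)⟩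
      | Sum.inr x => ⟨w⁻¹ * x, (h _).mpr (Or.inr (by simp))⟩ : N)) := by
    constructor
    · rintro (x | x) (y | y) e
      · have := congrArg Subtype.val e
        exact congrArg _ (Subtype.ext this)
      · have : (x : G) = w⁻¹ * y := congrArg Subtype.val e
        exact absurd (by simpa [this] using A.mul_mem y.2 (A.inv_mem x.2)) hw
      · have : (y : G) = w⁻¹ * x := (congrArg Subtype.val e).symm
        exact absurd (by simpa [this] using A.mul_mem x.2 (A.inv_mem y.2)) hw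
      · have : w⁻¹ * x = w⁻¹ * y := congrArg Subtype.val e
        exact congrArg _ (Subtype.ext (mul_left_cancel this))
    · rintro ⟨x, hx⟩
      rcases (h x).mp hx with hx' | hx'
      · exact ⟨Sum.inl ⟨x, hx'⟩, rfl⟩
      · exact ⟨Sum.inr ⟨_, hx'⟩, Subtype.ext (by simp)⟩
  rw [← Nat.card_eq_of_bijective _ this, Nat.card_sum, two_mul]

theorem card_eq_of_list {G : Type*} {S : Set G} {l : List G} (hl : l.Nodup)
    (h : ∀ x, x ∈ S ↔ x ∈ l) : Nat.card S = l.length := by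
  classical
  have : S = (l.toFinset : Finset G) := by
    ext x
    rw [h, Finset.mem_coe, List.mem_toFinset]
  change S.ncard = _
  rw [this, Set.ncard_coe_finset, List.toFinset_card_of_nodup hl]

namespace Ree

open scoped MatrixGroups

variable {K : Type*} [Field K]

/-- The non-split torus of `SL₂`. -/
def D (K : Type*) [Field K] : Subgroup SL(2, K) := Subgroup.centralizer {ww K}

theorem mem_D {g : SL(2, K)} : g ∈ D K ↔ g 1 0 = -g 0 1 ∧ g 1 1 = g 0 0 := by
  rw [D, Subgroup.mem_centralizer_singleton_iff]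
  constructor
  · intro h
    have a := congrArg (fun x : SL(2, K) => x 0 0) h
    have b := congrArg (fun x : SL(2, K) => x 0 1) h
    simp [sl_mul_apply, ww] at a b
    exact ⟨a.symm, b.symm⟩
  · rintro ⟨h1, h2⟩
    refine sl_ext ?_ ?_ ?_ ?_ <;> simp [sl_mul_apply, ww, h1, h2]

theorem D_det {g : SL(2, K)} (hg : g ∈ D K) : g 0 0 ^ 2 + g 0 1 ^ 2 = 1 := by
  obtain ⟨h1, h2⟩ := mem_D.mp hg
  have := sl_det g
  grind

theorem D_comm {g g' : SL(2, K)} (hg : g ∈ D K) (hg' : g' ∈ D K) : g * g' = g' * g := by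
  obtain ⟨h1, h2⟩ := mem_D.mp hg
  obtain ⟨h3, h4⟩ := mem_D.mp hg'
  refine sl_ext ?_ ?_ ?_ ?_ <;> simp only [sl_mul_apply, h1, h2, h3, h4] <;> ring

theorem D_ext {g g' : SL(2, K)} (hg : g ∈ D K) (hg' : g' ∈ D K) (h0 : g 0 0 = g' 0 0)
    (h1 : g 0 1 = g' 0 1) : g = g' :=
  sl_ext h0 h1 (by rw [(mem_D.mp hg).1, (mem_D.mp hg').1, h1])
    (by rw [(mem_D.mp hg).2, (mem_D.mp hg').2, h0])

theorem ww_mem_D : ww K ∈ D K := Subgroup.mem_centralizer_singleton_iff.mpr rfl

theorem rot_zero {c d τ α β : K} (h : c ^ 2 + d ^ 2 = 1) (h1 : 2 * c ≠ τ)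
    (e1 : c * (c * α - d * β) - d * (d * α + c * β) - τ * (c * α - d * β) + α = 0)
    (e2 : d * (c * α - d * β) + c * (d * α + c * β) - τ * (d * α + c * β) + β = 0) :
    α = 0 ∧ β = 0 := by
  have k1 : (2 * c - τ) * (c * α - d * β) = 0 := by linear_combination e1 + α * h
  have k2 : (2 * c - τ) * (d * α + c * β) = 0 := by linear_combination e2 + β * h
  have k3 := (mul_eq_zero.mp k1).resolve_left (sub_ne_zero.mpr h1)
  have k4 := (mul_eq_zero.mp k2).resolve_left (sub_ne_zero.mpr h1)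
  exact ⟨by linear_combination c * k3 + d * k4 - α * h,
    by linear_combination c * k4 - d * k3 - β * h⟩

theorem rot_fix {c d α β : K} (h : c ^ 2 + d ^ 2 = 1) (h1 : 2 * c ≠ 2)
    (e1 : c * α - d * β - α = 0) (e2 : d * α + c * β - β = 0) : α = 0 ∧ β = 0 := by
  have k1 : (2 * c - 2) * α = 0 := by linear_combination (1 - c) * e1 - d * e2 + α * h
  have k2 : (2 * c - 2) * β = 0 := by linear_combination (1 - c) * e2 + d * e1 + β * h
  exact ⟨(mul_eq_zero.mp k1).resolve_left (sub_ne_zero.mpr h1),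
    (mul_eq_zero.mp k2).resolve_left (sub_ne_zero.mpr h1)⟩

namespace Ctx

variable (T : Ctx K)

include T in
theorem one_add_sq_ne (t : K) : 1 + t ^ 2 ≠ 0 :=
  fun h => T.sq_ne_neg_one t (by linear_combination h)

include T in
theorem eq_zero_of_sq_add_sq {x y : K} (h : x ^ 2 + y ^ 2 = 0) : x = 0 := by
  by_contra hx
  exact T.sq_ne_neg_one (y / x) (by field_simp; linear_combination h)

include T in
theorem card_D [Finite K] : Nat.card (D K) = Nat.card K + 1 := by
  have h2 := T.two_ne_zero'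
  let f : Option K → D K := fun o => match o with
    | none => ⟨sl (-1) 0 0 (-1) (by ring), mem_D.mpr (by simp)⟩
    | some t => ⟨sl ((1 - t ^ 2) / (1 + t ^ 2)) (2 * t / (1 + t ^ 2)) (-(2 * t / (1 + t ^ 2)))
        ((1 - t ^ 2) / (1 + t ^ 2)) (by have := T.one_add_sq_ne t; field_simp; ring),
        mem_D.mpr ⟨rfl, rfl⟩⟩
  have hne : ∀ t : K, (1 - t ^ 2) / (1 + t ^ 2) ≠ -1 := by
    intro t h
    have := T.one_add_sq_ne t
    field_simp at h
    exact h2 (by linear_combination h)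
  have hf : Function.Bijective f := by
    constructor
    · rintro (_ | t) (_ | t') h
      · rfl
      · exact absurd (congrArg (fun x : D K => x.1 0 0) h).symm (hne t')
      · exact absurd (congrArg (fun x : D K => x.1 0 0) h) (hne t)
      · have a : (1 - t ^ 2) / (1 + t ^ 2) = (1 - t' ^ 2) / (1 + t' ^ 2) :=
          congrArg (fun x : D K => x.1 0 0) h
        have b : 2 * t / (1 + t ^ 2) = 2 * t' / (1 + t' ^ 2) :=
          congrArg (fun x : D K => x.1 0 1) h
        have k1 := T.one_add_sq_ne t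
        have k2 := T.one_add_sq_ne t'
        field_simp at a b
        have : 2 * (t ^ 2 - t' ^ 2) = 0 := by linear_combination -a
        have e : t ^ 2 = t' ^ 2 := sub_eq_zero.mp ((mul_eq_zero.mp this).resolve_left h2)
        rw [e, mul_comm] at b
        rw [mul_left_cancel₀ k2 b]
    · rintro ⟨g, hg⟩
      have hd := D_det hg
      by_cases h : 1 + g 0 0 = 0
      · refine ⟨none, Subtype.ext (D_ext (f none).2 hg ?_ ?_)⟩
        · change -1 = _
          linear_combination -h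
        · change 0 = _
          have : g 0 1 ^ 2 = 0 := by linear_combination hd + (1 - g 0 0) * h
          exact (pow_eq_zero_iff (by norm_num) |>.mp this).symm
      · have k := T.one_add_sq_ne (g 0 1 / (1 + g 0 0))
        refine ⟨some (g 0 1 / (1 + g 0 0)),
          Subtype.ext (D_ext (f (some (g 0 1 / (1 + g 0 0)))).2 hg ?_ ?_)⟩
        · change (1 - (g 0 1 / (1 + g 0 0)) ^ 2) / (1 + (g 0 1 / (1 + g 0 0)) ^ 2) = g 0 0
          rw [div_eq_iff k]
          field_simp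
          linear_combination (-(1 + g 0 0)) * hd
        · change 2 * (g 0 1 / (1 + g 0 0)) / (1 + (g 0 1 / (1 + g 0 0)) ^ 2) = g 0 1
          rw [div_eq_iff k]
          field_simp
          linear_combination (-g 0 1) * hd
  rw [← Nat.card_eq_of_bijective f hf, Finite.card_option]

include T in
theorem isCyclic_D [Finite K] : IsCyclic (D K) := by
  have : Fact (∀ r : K, r ^ 2 ≠ -1 + 0 * r) := ⟨fun r => by simpa using T.sq_ne_neg_one r⟩
  let f : D K →* QuadraticAlgebra K (-1) 0 :=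
    { toFun := fun g => ⟨g.1 0 0, g.1 0 1⟩
      map_one' := rfl
      map_mul' := fun g g' => by
        obtain ⟨h1, h2⟩ := mem_D.mp g'.2
        ext <;> simp [sl_mul_apply, h1, h2] }
  exact isCyclic_of_injective_ringHom f fun g g' h => Subtype.ext (D_ext g.2 g'.2
    (congrArg QuadraticAlgebra.re h) (congrArg QuadraticAlgebra.im h))

theorem rot_ne {p s e : K} (hd : p ^ 2 + s ^ 2 = 1) (he : e ^ 2 = 1) (hp : p ^ 3 ≠ p) :
    p * T.σ p + e * s * T.σ s ≠ 1 ∧ p * T.σ p + e * s * T.σ s ≠ p ^ 2 - s ^ 2 := by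
  have h3 := T.three
  have hd' : T.σ p ^ 2 + T.σ s ^ 2 = 1 := by rw [← map_pow, ← map_pow, ← map_add, hd, map_one]
  have k1 : T.σ p ≠ p := fun h => hp (by rw [← T.cube, h, h])
  have k2 : T.σ p ≠ p ^ 3 := fun h => by
    have := T.cube p
    rw [h, map_pow, h] at this
    have h4 : (p ^ 3 - p) ^ 3 = 0 := by grind
    exact hp (sub_eq_zero.mp (pow_eq_zero_iff (by norm_num) |>.mp h4))
  constructor
  · intro h
    have : (T.σ p - p) ^ 2 + (s - e * T.σ s) ^ 2 = 0 := by grind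
    exact k1 (sub_eq_zero.mp (T.eq_zero_of_sq_add_sq this))
  · intro h
    have : (T.σ p - p) * (T.σ p - p ^ 3) = 0 := by grind
    rcases mul_eq_zero.mp this with h | h
    · exact k1 (sub_eq_zero.mp h)
    · exact k2 (sub_eq_zero.mp h)

theorem pres_W3 {g : SL(2, K)} (hg : g ∈ D K) (hp : g 0 0 ^ 3 ≠ g 0 0) {x : T.R}
    (hx : x * T.φ g = T.φ g * x) {v : V K} (h0 : v 0 = 0) (h2 : v 2 = 0) (h4 : v 4 = 0)
    (h6 : v 6 = 0) : x.1 v 0 = 0 ∧ x.1 v 2 = 0 ∧ x.1 v 4 = 0 ∧ x.1 v 6 = 0 := by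
  have h3 := T.three
  have hd := D_det hg
  obtain ⟨e1, e2⟩ := mem_D.mp hg
  have hφ : ∀ v, (T.φ g).1 v = T.pf (g 0 0) (g 0 1) (-g 0 1) (g 0 0) v := fun v => by
    rw [φ_apply, e1, e2]
  generalize g 0 0 = p at *
  generalize g 0 1 = s at *
  have hc : ∀ v, x.1 ((T.φ g).1 v) = (T.φ g).1 (x.1 v) := fun v => by
    rw [← mul_apply, hx, mul_apply]
  have hd' : T.σ p ^ 2 + T.σ s ^ 2 = 1 := by rw [← map_pow, ← map_pow, ← map_add, hd, map_one]
  have key : (T.φ g).1 ((T.φ g).1 ((T.φ g).1 v - v)) - (2 * (p ^ 2 - s ^ 2)) •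
      (T.φ g).1 ((T.φ g).1 v - v) + ((T.φ g).1 v - v) = 0 := by
    refine vext ?_ ?_ ?_ ?_ ?_ ?_ ?_ <;>
      simp only [hφ, pf_def, Pi.add_apply, Pi.sub_apply, Pi.smul_apply, smul_eq_mul,
        Matrix.cons_val, Pi.zero_apply, h0, h2, h4, h6] <;> grind
  have key2 := congrArg x.1 key
  simp only [map_add, map_sub, map_smul, hc, map_zero] at key2
  rw [← map_sub, ← map_sub] at key2
  generalize x.1 v = z at key2 ⊢
  obtain ⟨y, hy⟩ : ∃ y, y = (T.φ g).1 z - z := ⟨_, rfl⟩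
  rw [← hy] at key2
  have a0 := congrFun key2 0
  have a2 := congrFun key2 2
  have a4 := congrFun key2 4
  have a6 := congrFun key2 6
  have b0 := congrFun hy 0
  have b2 := congrFun hy 2
  have b4 := congrFun hy 4
  have b6 := congrFun hy 6
  simp only [hφ, pf_def, Pi.add_apply, Pi.sub_apply, Pi.smul_apply, smul_eq_mul,
    Matrix.cons_val, Pi.zero_apply, map_neg] at a0 a2 a4 a6 b0 b2 b4 b6
  obtain ⟨n1, n2⟩ := T.rot_ne (e := -1) hd (by ring) hp
  obtain ⟨n3, n4⟩ := T.rot_ne (e := 1) hd (by ring) hp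
  have two := T.two_ne_zero'
  obtain ⟨r1, r2⟩ := rot_zero (c := p * T.σ p - s * T.σ s) (d := s * T.σ p + p * T.σ s)
    (τ := 2 * (p ^ 2 - s ^ 2)) (α := y 0 + y 6) (β := y 2 + y 4) (by grind) (by grind)
    (by linear_combination a0 + a6) (by linear_combination a2 + a4)
  obtain ⟨r3, r4⟩ := rot_zero (c := p * T.σ p + s * T.σ s) (d := s * T.σ p - p * T.σ s)
    (τ := 2 * (p ^ 2 - s ^ 2)) (α := y 0 - y 6) (β := y 2 - y 4) (by grind) (by grind)
    (by linear_combination a0 - a6) (by linear_combination a2 - a4)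
  obtain ⟨r5, r6⟩ := rot_fix (c := p * T.σ p - s * T.σ s) (d := s * T.σ p + p * T.σ s)
    (α := z 0 + z 6) (β := z 2 + z 4) (by grind) (by grind)
    (by linear_combination r1 - b0 - b6) (by linear_combination r2 - b2 - b4)
  obtain ⟨r7, r8⟩ := rot_fix (c := p * T.σ p + s * T.σ s) (d := s * T.σ p - p * T.σ s)
    (α := z 0 - z 6) (β := z 2 - z 4) (by grind) (by grind)
    (by linear_combination r3 - b0 + b6) (by linear_combination r4 - b2 + b4)
  exact ⟨by linear_combination -r5 - r7 + z 0 * h3, by linear_combination -r6 - r8 + z 2 * h3,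
    by linear_combination -r6 + r8 + z 4 * h3, by linear_combination -r5 + r7 + z 6 * h3⟩

theorem comm_a_of_comm {g : SL(2, K)} (hg : g ∈ D K) (hp : g 0 0 ^ 3 ≠ g 0 0) {x : T.R}
    (hx : x * T.φ g = T.φ g * x) : x * T.a = T.a * x := by
  have hx' : x⁻¹ * T.φ g = T.φ g * x⁻¹ := (Commute.inv_left hx :)
  refine T.ext_apply fun v => ?_
  obtain ⟨v3, hv3⟩ : ∃ w : V K, w = ![0, v 1, 0, v 3, 0, v 5, 0] := ⟨_, rfl⟩
  obtain ⟨v4, hv4⟩ : ∃ w : V K, w = ![v 0, 0, v 2, 0, v 4, 0, v 6] := ⟨_, rfl⟩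
  have e1 : v = v3 + v4 := by
    refine vext ?_ ?_ ?_ ?_ ?_ ?_ ?_ <;> simp [hv3, hv4]
  have e2 : T.a.1 v = v3 - v4 := by
    refine vext ?_ ?_ ?_ ?_ ?_ ?_ ?_ <;> simp [hv3, hv4, a_apply]
  obtain ⟨a0, a2, a4, a6⟩ := T.pres_W3 hg hp hx (v := v3) (by simp [hv3]) (by simp [hv3])
    (by simp [hv3]) (by simp [hv3])
  have key : ∀ w : V K, w 0 = 0 → w 2 = 0 → w 4 = 0 → w 6 = 0 → J (x.1 v4) w = 0 := by
    intro w h0 h2 h4 h6
    obtain ⟨b0, b2, b4, b6⟩ := T.pres_W3 hg hp hx' h0 h2 h4 h6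
    have : w = x.1 (x⁻¹.1 w) := by rw [← mul_apply, mul_inv_cancel, one_apply]
    rw [this, form_inv, J_def, b0, b2, b4, b6]
    simp [hv4]
  have c1 := key ![0, 0, 0, 0, 0, 1, 0] rfl rfl rfl rfl
  have c3 := key ![0, 0, 0, 1, 0, 0, 0] rfl rfl rfl rfl
  have c5 := key ![0, 1, 0, 0, 0, 0, 0] rfl rfl rfl rfl
  simp [J_def] at c1 c3 c5
  rw [mul_apply, mul_apply, e2, map_sub]
  conv_rhs => rw [e1, map_add]
  refine vext ?_ ?_ ?_ ?_ ?_ ?_ ?_ <;> simp [a_apply, a0, a2, a4, a6, c1, c3, c5]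

/-- The torus of order `q + 1`. -/
def Tor : Subgroup T.R where
  carrier := {x | ∃ g ∈ D K, x = T.φ g ∨ x = T.a * T.φ g}
  one_mem' := ⟨1, Subgroup.one_mem _, Or.inl (map_one _).symm⟩
  mul_mem' := by
    have e : ∀ g x, T.φ g * (T.a * x) = T.a * (T.φ g * x) := fun g x => by
      rw [← mul_assoc, ← a_comm_φ, mul_assoc]
    have e' : ∀ x, T.a * (T.a * x) = x := fun x => by rw [← mul_assoc, a_mul_a, one_mul]
    rintro _ _ ⟨g, hg, rfl | rfl⟩ ⟨g', hg', rfl | rfl⟩ <;>
      exact ⟨g * g', Subgroup.mul_mem _ hg hg', by simp [mul_assoc, e, e']⟩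
  inv_mem' := by
    rintro _ ⟨g, hg, rfl | rfl⟩
    · exact ⟨g⁻¹, Subgroup.inv_mem _ hg, Or.inl (map_inv _ _).symm⟩
    · exact ⟨g⁻¹, Subgroup.inv_mem _ hg, Or.inr (by
        rw [_root_.mul_inv_rev, a_inv, ← map_inv, a_comm_φ])⟩

theorem mem_Tor {x : T.R} : x ∈ T.Tor ↔ ∃ g ∈ D K, x = T.φ g ∨ x = T.a * T.φ g := Iff.rfl

theorem Tor_comm {x y : T.R} (hx : x ∈ T.Tor) (hy : y ∈ T.Tor) : x * y = y * x := by
  have h1 : ∀ g, Commute T.a (T.φ g) := T.a_comm_φ
  obtain ⟨g, hg, hx⟩ := hx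
  obtain ⟨g', hg', hy⟩ := hy
  have h2 : Commute (T.φ g) (T.φ g') := Commute.map (D_comm hg hg') T.φ
  change Commute x y
  rcases hx with rfl | rfl <;> rcases hy with rfl | rfl <;>
    simp only [Commute.mul_left, Commute.mul_right, h1, h2, (h1 _).symm, Commute.refl]

theorem Tor_sq {x : T.R} (hx : x ∈ T.Tor) :
    ∃ g ∈ D K, x * x = T.φ (g * g) ∧ (x = T.φ g ∨ x = T.a * T.φ g) := by
  obtain ⟨g, hg, rfl | rfl⟩ := hx
  · exact ⟨g, hg, (map_mul _ _ _).symm, Or.inl rfl⟩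
  · exact ⟨g, hg, by rw [map_mul, mul_assoc, ← mul_assoc (T.φ g), ← a_comm_φ, mul_assoc,
      ← mul_assoc, a_mul_a, one_mul], Or.inr rfl⟩

theorem φ_sq_eq_one_iff {g : SL(2, K)} (hg : g ∈ D K) :
    T.φ (g * g) = 1 ↔ g 0 0 * g 0 1 = 0 := by
  obtain ⟨h1, h2⟩ := mem_D.mp hg
  have := T.two_ne_zero'
  rw [φ_eq_one_iff]
  simp only [sl_mul_apply, h1, h2]
  grind

theorem a_mem_Tor : T.a ∈ T.Tor := ⟨1, Subgroup.one_mem _, Or.inr (by simp)⟩

theorem n_mem_Tor : T.n ∈ T.Tor := ⟨ww K, ww_mem_D, Or.inl T.φ_ww.symm⟩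

theorem centralizer_eq_Tor [Finite K] {x : T.R} (hx : x ∈ T.Tor) (h : x * x ≠ 1) :
    Subgroup.centralizer ({x} : Set T.R) = T.Tor := by
  apply le_antisymm
  · intro y hy
    have hy : Commute y x := Subgroup.mem_centralizer_singleton_iff.mp hy
    obtain ⟨g, hg, h1, h2⟩ := T.Tor_sq hx
    have h3 := T.three
    have hd := D_det hg
    obtain ⟨e1, e2⟩ := mem_D.mp hg
    have h4 : g 0 0 * g 0 1 ≠ 0 := fun h' => h (h1.trans ((T.φ_sq_eq_one_iff hg).mpr h'))
    have h5 : y * T.a = T.a * y := by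
      refine T.comm_a_of_comm (Subgroup.mul_mem _ hg hg) ?_ (h1 ▸ hy.mul_right hy :)
      simp only [sl_mul_apply, e1]
      intro h6
      have h7 : (g 0 0 * g 0 1) ^ 2 * (g 0 0 ^ 2 + 1) = 0 := by grind
      exact T.sq_ne_neg_one (g 0 0) (eq_neg_of_add_eq_zero_left
        ((mul_eq_zero.mp h7).resolve_left (pow_ne_zero _ h4)))
    have h6 : Commute y (T.φ g) := by
      rcases h2 with rfl | rfl
      · exact hy
      · have := Commute.mul_right h5 hy
        rwa [← mul_assoc, a_mul_a, one_mul] at this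
    obtain ⟨z, hz⟩ := T.mem_centralizer_a.mp (Subgroup.mem_centralizer_singleton_iff.mpr h5)
    refine ⟨z, ?_, hz⟩
    have h7 : T.φ z * T.φ g = T.φ g * T.φ z := by
      rcases hz with rfl | rfl
      · exact h6
      · have := h6.eq
        rwa [mul_assoc, ← mul_assoc (T.φ g), ← a_comm_φ, mul_assoc, mul_right_inj] at this
    rw [← map_mul, ← map_mul, φ_eq_iff] at h7
    obtain ⟨e, he, k1, k2, k3, k4⟩ := h7
    simp only [sl_mul_apply, e1, e2] at k1 k2 k3 k4
    have hz := sl_det z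
    rw [mem_D]
    rcases sq_eq_one_iff.mp he with rfl | rfl
    · grind
    · exfalso
      grind
  · intro y hy
    exact Subgroup.mem_centralizer_singleton_iff.mpr (T.Tor_comm hy hx)

/-- The squaring map on the torus. -/
def sqTor : T.Tor →* T.R where
  toFun x := x.1 * x.1
  map_one' := one_mul _
  map_mul' x y := by
    have := T.Tor_comm x.2 y.2
    calc x.1 * y.1 * (x.1 * y.1) = x.1 * (y.1 * x.1) * y.1 := by group
      _ = _ := by rw [← this]; group

/-- The cyclic subgroup of order `(q + 1) / 4`. -/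
def A : Subgroup T.R := T.sqTor.range

theorem mem_A {x : T.R} : x ∈ T.A ↔ ∃ y ∈ T.Tor, y * y = x :=
  ⟨fun ⟨y, hy⟩ => ⟨y, y.2, hy⟩, fun ⟨y, hy, h⟩ => ⟨⟨y, hy⟩, h⟩⟩

theorem A_le_Tor : T.A ≤ T.Tor := by
  rintro _ ⟨y, rfl⟩
  exact T.Tor.mul_mem y.2 y.2

/-- The map `g ↦ φ (g ^ 2)` on the torus of `SL₂`. -/
def ψ : D K →* T.R where
  toFun g := T.φ (g.1 * g.1)
  map_one' := by simp
  map_mul' x y := by
    rw [← map_mul]
    congr 1
    have := D_comm x.2 y.2
    calc x.1 * y.1 * (x.1 * y.1) = x.1 * (y.1 * x.1) * y.1 := by group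
      _ = _ := by rw [← this]; group

theorem range_ψ : T.ψ.range = T.A := by
  ext x
  rw [mem_A]
  constructor
  · rintro ⟨g, rfl⟩
    exact ⟨T.φ g, ⟨g, g.2, Or.inl rfl⟩, (map_mul _ _ _).symm⟩
  · rintro ⟨y, hy, rfl⟩
    obtain ⟨g, hg, h, -⟩ := T.Tor_sq hy
    exact ⟨⟨g, hg⟩, h.symm⟩

theorem isCyclic_A [Finite K] : IsCyclic T.A := by
  have := T.isCyclic_D
  rw [← range_ψ]
  exact isCyclic_of_surjective T.ψ.rangeRestrict T.ψ.rangeRestrict_surjective

theorem four_mul_card_A [Finite K] : 4 * Nat.card T.A = Nat.card K + 1 := by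
  have h1 : Nat.card T.ψ.ker = 4 := by
    have hn := T.neg_one_ne_one
    refine card_eq_of_list (S := (T.ψ.ker : Set (D K)))
      (l := [1, ⟨sl (-1) 0 0 (-1) (by ring), mem_D.mpr (by simp)⟩, ⟨ww K, ww_mem_D⟩,
        ⟨sl 0 (-1) 1 0 (by ring), mem_D.mpr (by simp)⟩]) ?_ ?_
    · apply List.Nodup.of_map (fun g : D K => (g.1 0 0, g.1 0 1))
      simp [ww, hn, hn.symm]
    · rintro ⟨g, hg⟩
      have hd := D_det hg
      change T.φ (g * g) = 1 ↔ _
      rw [T.φ_sq_eq_one_iff hg]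
      simp only [List.mem_cons, List.not_mem_nil, or_false, Subtype.ext_iff]
      constructor
      · intro h
        rcases mul_eq_zero.mp h with h | h
        · rcases sq_eq_one_iff.mp (show g 0 1 ^ 2 = 1 by grind) with h' | h'
          · exact Or.inr (Or.inr (Or.inl (D_ext hg ww_mem_D h h')))
          · exact Or.inr (Or.inr (Or.inr (D_ext hg (mem_D.mpr (by simp)) h h')))
        · rcases sq_eq_one_iff.mp (show g 0 0 ^ 2 = 1 by grind) with h' | h'
          · exact Or.inl (D_ext hg (Subgroup.one_mem _) h' h)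
          · exact Or.inr (Or.inl (D_ext hg (mem_D.mpr (by simp)) h' h))
      · rintro (rfl | rfl | rfl | rfl) <;> simp [ww]
  rw [← range_ψ, ← Subgroup.index_ker, ← T.card_D, ← h1, mul_comm, Subgroup.index_mul_card]

theorem sq_eq_one_iff_Tor {x : T.R} (hx : x ∈ T.Tor) :
    x * x = 1 ↔ x ∈ [1, T.n, T.a, T.a * T.n] := by
  simp only [List.mem_cons, List.not_mem_nil, or_false]
  constructor
  · intro h
    obtain ⟨g, hg, h1, h2⟩ := T.Tor_sq hx
    rw [h, eq_comm, T.φ_sq_eq_one_iff hg] at h1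
    have hd := D_det hg
    obtain ⟨e1, e2⟩ := mem_D.mp hg
    have h3 : T.φ g = 1 ∨ T.φ g = T.n := by
      rcases mul_eq_zero.mp h1 with h | h
      · right
        rw [← φ_ww, eq_comm, φ_eq_iff]
        simp only [ww, sl_00, sl_01, sl_10, sl_11]
        exact ⟨g 0 1, by grind, by grind, by grind, by grind, by grind⟩
      · left
        rw [φ_eq_one_iff]
        grind
    rcases h2 with rfl | rfl <;> rcases h3 with h3 | h3 <;> simp [h3]
  · rintro (rfl | rfl | rfl | rfl)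
    · exact one_mul _
    · exact T.n_mul_n
    · exact T.a_mul_a
    · rw [mul_assoc, ← mul_assoc T.n, ← a_comm_n, mul_assoc, n_mul_n, mul_one, a_mul_a]

theorem nodup_V4 : [1, T.n, T.a, T.a * T.n].Nodup :=
  T.nodup_S0.sublist (by simp [List.sublist_cons_iff])

theorem card_Tor [Finite K] : Nat.card T.Tor = Nat.card K + 1 := by
  have h1 : Nat.card T.sqTor.ker = 4 := by
    rw [← Subgroup.card_map_of_injective T.Tor.subtype_injective]
    refine card_eq_of_list (S := (T.sqTor.ker.map T.Tor.subtype : Set T.R)) T.nodup_V4 fun x => ?_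
    constructor
    · rintro ⟨y, hy, rfl⟩
      exact (T.sq_eq_one_iff_Tor y.2).mp hy
    · intro h
      have hx : x ∈ T.Tor := by
        simp only [List.mem_cons, List.not_mem_nil, or_false] at h
        rcases h with rfl | rfl | rfl | rfl <;>
          simp only [Subgroup.one_mem, Subgroup.mul_mem, a_mem_Tor, n_mem_Tor]
      exact ⟨⟨x, hx⟩, (T.sq_eq_one_iff_Tor hx).mpr h, rfl⟩
  rw [← T.four_mul_card_A, A, ← Subgroup.index_ker, ← h1, mul_comm, Subgroup.index_mul_card]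

end Ctx

end Ree
end H8
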