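import Mathlib
import Cfsg.Agent.H21.Lab

/-! Inner products of irreducible characters on the `p`-regular elements. -/

set_option autoImplicit false
set_option linter.unusedSectionVars false

open Cfsg H4 H17 H18 Subgroup
open scoped Classical ComplexConjugate

namespace H8.Tp

variable {G : Type*} [Group G] [Finite G]

noncomputable def tm (p : ℕ) (χ ψ : Irr G) : ℂ :=
  haveI := Fintype.ofFinite G
  classInner (regPart p χ.1) ψ.1

noncomputable def tz (p : ℕ) (χ ψ : Irr G) : ℂ := Nat.card G * tm p χ ψ / ψ.1 1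

variable {p : ℕ} [hp : Fact p.Prime] {χ ψ φ : Irr G}

theorem tm_symm (χ ψ : Irr G) : tm p χ ψ = tm p ψ χ := by
  letI := Fintype.ofFinite G
  obtain ⟨n, hn⟩ := exists_int_inner_regPart (p := p) χ.2.isGen ψ.2.isGen
  have h1 : conj (tm p χ ψ) = tm p ψ χ := by
    unfold tm; rw [conj_classInner, inner_regPart_comm]
  have h2 : tm p χ ψ = n / Nat.card G := by
    rw [← hn, eq_div_iff (card_ne_zero G), mul_comm]; rfl
  rw [← h1, h2]; simp

theorem tm_exp (χ : Irr G) (g : G) : regPart p χ.1 g = ∑ ψ, tm p χ ψ * ψ.1 g := by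
  letI := Fintype.ofFinite G
  exact (regPart_classFun χ.2.classFun).apply_eq_sum g

theorem tm_idem (χ φ : Irr G) : tm p χ φ = ∑ ψ, tm p χ ψ * tm p ψ φ := by
  letI := Fintype.ofFinite G
  have : regPart p χ.1 = ∑ ψ, tm p χ ψ • regPart p ψ.1 := by
    funext g
    rw [Finset.sum_apply]
    by_cases h : p ∣ orderOf g
    · simp [regPart, h]
    · rw [tm_exp]; simp [regPart, h]
  change classInner (regPart p χ.1) φ.1 = _
  rw [this, classInner_sum_left]
  exact Finset.sum_congr rfl fun ψ _ => classInner_smul_left _ _ _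

variable {M : Ideal AlgInt} [PM p M]

theorem tz_mem (χ : Irr G) : tz p χ ∈ ZS G M := by
  letI := Fintype.ofFinite G
  have : tz p χ = hat (fun g => conj (regPart p χ.1 g)) := by
    funext ψ
    rw [hat_apply, tz, tm_symm, tm, inner_regPart_comm, card_mul_classInner]
    simp only [mul_comm]
  rw [this]
  refine hat_mem_ZR (regPart_classFun χ.2.classFun).conj fun g => ?_
  by_cases h : p ∣ orderOf g
  · simp [regPart, h]
  · rw [regPart_of_reg _ h]; exact conj_irr_mem_S χ g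

theorem sb_of_ne (M : Ideal AlgInt) [PM p M] (h : tm p χ ψ ≠ 0) : SB M χ ψ := by
  letI := Fintype.ofFinite G
  exact by_contra fun e => h (inner_regPart_eq_zero e)

/-- `n` is `N` times the row of `χ` -/
def TN (p N : ℕ) (χ : Irr G) (n : Irr G → ℤ) : Prop := ∀ ψ, (n ψ : ℂ) = N * tm p χ ψ

theorem exists_TN {N : ℕ} (h : (Nat.card G).factorization p ≤ (N * deg χ).factorization p) :
    ∃ n, TN p N χ n := by
  letI := Fintype.ofFinite G
  obtain ⟨M, hM⟩ := exists_PM p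
  have : ∀ ψ : Irr G, ∃ n : ℤ, N * tm p χ ψ = n := fun ψ => by
    refine exists_int_mul_inner_regPart χ.2.isGen ψ.2.isGen N (M := M) ?_
    have e : N * tm p χ ψ = ((N * deg χ : ℕ) : ℂ) / Nat.card G * tz p ψ χ := by
      have := card_ne_zero G
      have := χ.2.apply_one_ne_zero
      rw [tz, tm_symm ψ, Nat.cast_mul, deg_eq]; field_simp
    change N * tm p χ ψ ∈ _
    rw [e]
    exact mul_mem (div_mem_S_of_le Nat.card_pos.ne' h) (apply_mem_S (tz_mem ψ) χ)
  choose n hn using this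
  exact ⟨n, fun ψ => (hn ψ).symm⟩

/-- the partners of `χ` -/
noncomputable def pa (χ : Irr G) (n : Irr G → ℤ) : Finset (Irr G) :=
  Finset.univ.filter fun ψ => ψ ≠ χ ∧ n ψ ≠ 0

theorem mem_pa {n : Irr G → ℤ} : ψ ∈ pa χ n ↔ ψ ≠ χ ∧ n ψ ≠ 0 := by simp [pa]

theorem sum_pa {R : Type*} [Ring R] (χ : Irr G) (n : Irr G → ℤ) (F : Irr G → R) :
    ∑ ψ, (n ψ : R) * F ψ = n χ * F χ + ∑ ψ ∈ pa χ n, (n ψ : R) * F ψ := by
  rw [← Finset.add_sum_erase _ _ (Finset.mem_univ χ)]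
  congr 1
  refine (Finset.sum_subset (fun ψ h => by simp [(mem_pa.1 h).1]) fun ψ h1 h2 => ?_).symm
  have : n ψ = 0 := by_contra fun e => h2 (mem_pa.2 ⟨(Finset.mem_erase.1 h1).1, e⟩)
  simp [this]

theorem fact_eq_iff {n k : ℕ} (hn : n ≠ 0) :
    n.factorization p = k ↔ p ^ k ∣ n ∧ ¬ p ^ (k + 1) ∣ n := by
  rw [hp.out.pow_dvd_iff_le_factorization hn, hp.out.pow_dvd_iff_le_factorization hn]; omega

theorem sq_cases {ι : Type*} {s : Finset ι} {n : ι → ℤ} (h0 : ∀ i ∈ s, n i ≠ 0) {r : ℕ}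
    (h : ∑ i ∈ s, n i * n i = r) (hr : r ≤ 4) :
    ((∀ i ∈ s, n i = 1 ∨ n i = -1) ∧ s.card = r) ∨
      (r = 4 ∧ ∃ i, s = {i} ∧ (n i = 2 ∨ n i = -2)) := by
  by_cases h1 : ∀ i ∈ s, n i = 1 ∨ n i = -1
  · refine Or.inl ⟨h1, ?_⟩
    rw [Finset.sum_congr rfl (g := fun _ => 1) fun i hi => by rcases h1 i hi with e | e <;> simp [e]] at h
    simpa using h
  · push Not at h1
    obtain ⟨i, hi, a, b⟩ := h1
    have c := h0 i hi
    have h2 : 4 ≤ n i * n i := by
      rcases (show 2 ≤ n i ∨ n i ≤ -2 by omega) with e | e <;> nlinarith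
    rw [← Finset.add_sum_erase _ _ hi] at h
    have h3 : 0 ≤ ∑ j ∈ s.erase i, n j * n j := Finset.sum_nonneg fun j _ => mul_self_nonneg _
    have h4 : ∑ j ∈ s.erase i, n j * n j = 0 := by omega
    refine Or.inr ⟨by omega, i, Finset.eq_singleton_iff_unique_mem.2 ⟨hi, fun j hj => by_contra fun e =>
      h0 j hj (mul_self_eq_zero.1 ((Finset.sum_eq_zero_iff_of_nonneg fun j _ => mul_self_nonneg _).1 h4 j
        (Finset.mem_erase.2 ⟨e, hj⟩)))⟩, mul_self_eq_mul_self_iff.1 (by omega)⟩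

namespace TN

variable {N : ℕ} {n : Irr G → ℤ} (h : TN p N χ n)
include h

theorem exp (g : G) : N * regPart p χ.1 g = n χ * χ.1 g + ∑ ψ ∈ pa χ n, (n ψ : ℂ) * ψ.1 g := by
  rw [← sum_pa χ n fun ψ => ψ.1 g, tm_exp, Finset.mul_sum]
  exact Finset.sum_congr rfl fun ψ _ => by rw [h ψ, mul_assoc]

theorem reg {g : G} (hg : ¬ p ∣ orderOf g) :
    (N - n χ) * χ.1 g = ∑ ψ ∈ pa χ n, (n ψ : ℂ) * ψ.1 g := by
  have := h.exp g
  rw [regPart_of_reg _ hg] at this
  linear_combination this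

theorem sing {g : G} (hg : p ∣ orderOf g) :
    n χ * χ.1 g + ∑ ψ ∈ pa χ n, (n ψ : ℂ) * ψ.1 g = 0 := by
  rw [← h.exp g, regPart_of_sing _ hg, mul_zero]

theorem symm {n' : Irr G → ℤ} (h' : TN p N ψ n') : n ψ = n' χ := by
  apply Int.cast_injective (α := ℂ)
  rw [h, h', tm_symm]

theorem mul {n' : Irr G → ℤ} (h' : TN p N φ n') :
    N * n φ = n χ * n' χ + ∑ ψ ∈ pa χ n, n ψ * n' ψ := by
  have := sum_pa χ n n'
  simp only [Int.cast_id] at this
  rw [← this]
  apply Int.cast_injective (α := ℂ)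
  push_cast
  rw [h, tm_idem, Finset.mul_sum, Finset.mul_sum]
  exact Finset.sum_congr rfl fun ψ _ => by rw [h, h', tm_symm φ]; ring

theorem sq : ∑ ψ ∈ pa χ n, n ψ * n ψ = n χ * (N - n χ) := by
  linear_combination -h.mul h

theorem lk (hN : N ≠ 0) : tm p χ ψ ≠ 0 ↔ n ψ ≠ 0 := by
  rw [← Int.cast_ne_zero (α := ℂ), h, mul_ne_zero_iff, and_iff_right (Nat.cast_ne_zero.2 hN)]

theorem empty (e : n χ * (N - n χ) = 0) : pa χ n = ∅ :=
  Finset.eq_empty_of_forall_notMem fun ψ hψ => (mem_pa.1 hψ).2 (mul_self_eq_zero.1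
    ((Finset.sum_eq_zero_iff_of_nonneg fun _ _ => mul_self_nonneg _).1 (h.sq.trans e) ψ hψ))

theorem range (hN : N ≠ 0) (hd : (deg χ).factorization p < (Nat.card G).factorization p) :
    0 < n χ ∧ n χ < N := by
  have h0 : n χ ≠ 0 := fun e => by
    have := h.reg (reg_one (G := G))
    rw [h.empty (by rw [e, zero_mul]), e] at this
    simp [hN, χ.2.apply_one_ne_zero] at this
  have h1 : n χ ≠ N := fun e => by
    refine (fact_le_of_vanish fun g hg h1 => ?_).not_gt hd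
    have := h.sing (hg.dvd_orderOf h1)
    rw [h.empty (by rw [e, sub_self, mul_zero]), e] at this
    simpa [hN] using this
  have h2 : 0 ≤ n χ * (N - n χ) := h.sq ▸ Finset.sum_nonneg fun _ _ => mul_self_nonneg _
  constructor <;> by_contra e
  · nlinarith [lt_of_le_of_ne (not_lt.1 e) h0, Int.natCast_nonneg N]
  · nlinarith [lt_of_le_of_ne (not_lt.1 e) h1.symm, Int.natCast_nonneg N]

theorem tz_eq (hN : N ≠ 0) (ψ : Irr G) : ∃ ε : ℂ, (ε = 1 ∨ ε = -1) ∧
    tz p χ ψ = ε * (((Nat.card G * (n ψ).natAbs : ℕ) : ℂ) / (N * deg ψ : ℕ)) := by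
  have := ψ.2.apply_one_ne_zero
  have : (N : ℂ) ≠ 0 := Nat.cast_ne_zero.2 hN
  have e : tm p χ ψ = n ψ / N := by rw [h]; field_simp
  rcases Int.natAbs_eq (n ψ) with e' | e'
  · exact ⟨1, Or.inl rfl, by
      rw [tz, e, Nat.cast_mul, Nat.cast_mul, deg_eq, ← Int.cast_natCast (n ψ).natAbs, ← e']; field_simp⟩
  · exact ⟨-1, Or.inr rfl, by
      rw [tz, e, Nat.cast_mul, Nat.cast_mul, deg_eq, ← Int.cast_natCast (n ψ).natAbs,
        ← neg_neg ((n ψ).natAbs : ℤ), ← e']; push_cast; field_simp⟩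

theorem pm_iff (hN : N ≠ 0) (h0 : n ψ ≠ 0) : tz p χ ψ ∈ Pm M ↔ N.factorization p +
    (deg ψ).factorization p < (Nat.card G).factorization p + (n ψ).natAbs.factorization p := by
  obtain ⟨ε, h1, h2⟩ := h.tz_eq hN ψ
  have a := Int.natAbs_ne_zero.2 h0
  rw [h2, ← Finsupp.add_apply, ← Finsupp.add_apply, ← Nat.factorization_mul hN (deg_ne_zero ψ),
    ← Nat.factorization_mul Nat.card_pos.ne' a, ← div_mem_Pm_iff (M := M) (mul_ne_zero Nat.card_pos.ne' a)
      (mul_ne_zero hN (deg_ne_zero ψ))]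
  rcases h1 with rfl | rfl
  · rw [one_mul]
  · rw [neg_one_mul, neg_mem_iff]

theorem s_le (hN : N ≠ 0) (h0 : n ψ ≠ 0) : N.factorization p +
    (deg ψ).factorization p ≤ (Nat.card G).factorization p + (n ψ).natAbs.factorization p := by
  obtain ⟨M, hM⟩ := exists_PM p
  obtain ⟨ε, h1, h2⟩ := h.tz_eq hN ψ
  have a := Int.natAbs_ne_zero.2 h0
  have b := apply_mem_S (tz_mem (M := M) χ) ψ
  rw [← Finsupp.add_apply, ← Finsupp.add_apply, ← Nat.factorization_mul hN (deg_ne_zero ψ),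
    ← Nat.factorization_mul Nat.card_pos.ne' a, ← div_mem_S_iff (M := M) (mul_ne_zero Nat.card_pos.ne' a)
      (mul_ne_zero hN (deg_ne_zero ψ))]
  rw [h2] at b
  rcases h1 with rfl | rfl
  · rwa [one_mul] at b
  · rwa [neg_one_mul, neg_mem_iff] at b

end TN

theorem fact_le_of_units (h1 : tz p ψ φ ∉ Pm M) : (deg φ).factorization p ≤ (deg ψ).factorization p ∨
    tz p φ ψ ∈ Pm M := by
  refine or_iff_not_imp_right.2 fun h2 => ?_
  have := ψ.2.apply_one_ne_zero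
  have := φ.2.apply_one_ne_zero
  have h3 := ne_zero_of_notMem_Pm h2
  have e : (deg ψ : ℂ) / deg φ = tz p ψ φ / tz p φ ψ := by
    rw [deg_eq, deg_eq, eq_div_iff h3, tz, tz, tm_symm ψ]; field_simp
  rw [← div_mem_S_iff (M := M) (deg_ne_zero ψ) (deg_ne_zero φ), e]
  exact div_mem_S (apply_mem_S (tz_mem ψ) φ) (apply_mem_S (tz_mem φ) ψ) h2

end H8.Tp
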