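import Mathlib
import Cfsg.Agent.H7.SyG

/-! Two extraspecial groups of order `2⁹` with the same centre. -/

set_option autoImplicit false
set_option linter.unusedSectionVars false

namespace H8.GI

open H24 Subgroup
open H7.SJ (mem_zp)

variable {G : Type*} [Group G] [Finite G] {z e s s' y : G} {Q R B : Subgroup G}

theorem dc {α β : Type*} [Finite α] [Finite β] (S : Set α) (T : Set β) (r : α → β → Prop) {m n : ℕ}
    (h1 : ∀ a ∈ S, m ≤ {b | b ∈ T ∧ r a b}.ncard) (h2 : ∀ b ∈ T, {a | a ∈ S ∧ r a b}.ncard ≤ n) :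
    S.ncard * m ≤ T.ncard * n := by
  classical
  rw [Set.ncard_eq_toFinset_card S, Set.ncard_eq_toFinset_card T]
  refine Finset.card_mul_le_card_mul r (fun a ha => (h1 a (by simpa using ha)).trans_eq ?_)
    fun b hb => le_of_eq_of_le ?_ (h2 b (by simpa using hb))
  · rw [← Set.ncard_coe_finset]; congr 1; ext; simp [Finset.bipartiteAbove]
  · rw [← Set.ncard_coe_finset]; congr 1; ext; simp [Finset.bipartiteBelow]

theorem nc (B : Subgroup G) : (B : Set G).ncard = ♯B := rfl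

theorem le_two (z2 : z * z = 1) {S : Set G} (h : ∀ a ∈ S, ∀ b ∈ S, a⁻¹ * b ∈ zpowers z) :
    S.ncard ≤ 2 := by
  rcases S.eq_empty_or_nonempty with rfl | ⟨a, ha⟩
  · simp
  refine (Set.ncard_le_ncard (t := {a, a * z}) fun b hb => ?_).trans
    ((Set.ncard_insert_le _ _).trans (by simp))
  rcases mem_zp z2 (h a ha b hb) with k | k
  · exact Or.inl (inv_mul_eq_one.1 k).symm
  · exact Or.inr (by rw [← k, mul_inv_cancel_left]; rfl)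

theorem inv_cm {a : G} (ha : a * a = 1) (y : G) :
    a * (a * y * a⁻¹ * y⁻¹) * a⁻¹ = (a * y * a⁻¹ * y⁻¹)⁻¹ :=
  calc _ = a * a * (y * a⁻¹ * y⁻¹ * a⁻¹) := by group
    _ = y * a * y⁻¹ * a⁻¹ := by rw [ha, one_mul, inv_eq_of_mul_eq_one_right ha]
    _ = _ := by group

theorem cm_of {v : G} (q : v * y⁻¹ * (v * y⁻¹) = 1) (w : v * v = y * y) :
    v * y⁻¹ * y = y * (v * y⁻¹) := by
  have : v * y * v⁻¹ = y :=
    calc _ = v * (y * (v * v)⁻¹) * v := by group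
      _ = v * y⁻¹ * (v * y⁻¹) * y := by rw [w]; group
      _ = y := by rw [q, one_mul]
  calc _ = v * y * v⁻¹ * (v * y⁻¹) := by group
    _ = _ := by rw [this]

/-- `s` inverts `B = C_Q(s mod z)`, of order `32`. -/
structure Iv (z : G) (Q : Subgroup G) (s : G) (B : Subgroup G) : Prop where
  le : B ≤ Q
  card : ♯B = 32
  inv : ∀ y ∈ B, s * y * s⁻¹ = y⁻¹
  mem : ∀ y ∈ Q, s * y * s⁻¹ * y⁻¹ ∈ zpowers z → y ∈ B

/-- what is used about one group. -/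
structure Xq (z : G) (Q : Subgroup G) : Prop where
  z2 : z * z = 1
  z1 : z ≠ 1
  zQ : z ∈ Q
  Qz : Q ≤ C{z}
  sq : ∀ y ∈ Q, y * y ∈ zpowers z
  card : ♯Q = 2 ^ 9
  cC : ∀ B ≤ Q, z ∈ B → ♯(Q ⊓ C[B]) * ♯B = 2 ^ 10
  cen : ∀ s ∈ Q, s * s = 1 → s ∉ zpowers z → C{z} ⊓ C{s} ≤ N[Q]

/-- what is used about the pair. -/
structure Pr (z : G) (Q R : Subgroup G) : Prop where
  x1 : Xq z Q
  x2 : Xq z R
  ti : ∀ s ∈ Q, s ∈ R → s * s = 1 → s ∈ zpowers z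
  i1 : ∀ s ∈ Q, s * s = 1 → s ∉ zpowers z → s ∈ N[R] → ∃ B, Iv z R s B
  i2 : ∀ s ∈ R, s * s = 1 → s ∉ zpowers z → s ∈ N[Q] → ∃ B, Iv z Q s B

theorem Pr.symm (h : Pr z Q R) : Pr z R Q := ⟨h.x2, h.x1, fun s a b => h.ti s b a, h.i2, h.i1⟩

theorem Iv.ge (h : Iv z Q s B) : Q ⊓ C{s} ≤ B := fun y hy => h.mem y hy.1 (by
  rw [mem_C1_iff_conj.1 (mem_C1_comm.1 hy.2), mul_inv_cancel]; exact one_mem _)

theorem Iv.sq (h : Iv z Q s B) (hy : y ∈ Q ⊓ C{s}) : y * y = 1 :=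
  mul_eq_one_iff_eq_inv.2 ((mem_C1_iff_conj.1 (mem_C1_comm.1 hy.2)).symm.trans (h.inv y (h.ge hy)))

theorem Iv.of_sq (h : Iv z Q s B) (hy : y ∈ B) (e : y * y = 1) : y ∈ Q ⊓ C{s} :=
  ⟨h.le hy, mem_C1_comm.1 (mem_C1_iff_conj.2 ((h.inv y hy).trans (inv_eq_of_mul_eq_one_right e)))⟩

theorem Iv.cm (h : Iv z Q s B) {a b : G} (ha : a ∈ B) (hb : b ∈ B) : a * b = b * a := by
  have := h.inv _ (mul_mem ha hb)
  rw [← conj_mul, h.inv a ha, h.inv b hb, ← mul_inv_rev] at this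
  exact (inv_injective this).symm

theorem Iv.half (h : Iv z Q s B) (x : Xq z Q) : ♯(Q ⊓ C{s}) = 16 ∨ ♯(Q ⊓ C{s}) = 32 := by
  have k : (Q ⊓ C{s}).relIndex B ∣ 2 := by
    by_cases a : B ≤ Q ⊓ C{s}
    · rw [relIndex_eq_one.2 a]; exact one_dvd _
    obtain ⟨a, ha, a1⟩ := SetLike.not_le_iff_exists.1 a
    have q : ∀ b ∈ B, b ∉ Q ⊓ C{s} → b * b = z := fun b hb b1 =>
      (mem_zp x.z2 (x.sq b (h.le hb))).resolve_left fun e => b1 (h.of_sq hb e)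
    refine relIndex_dvd_two_iff.2 ⟨a, ha, fun b hb => or_iff_not_imp_right.2 fun b1 =>
      h.of_sq (mul_mem hb ha) ?_⟩
    rw [mul_assoc, ← mul_assoc a, h.cm ha hb, mul_assoc, ← mul_assoc, q a ha a1, q b hb b1, x.z2]
  have := card_mul_relIndex h.ge
  rw [h.card] at this
  rcases (Nat.dvd_prime Nat.prime_two).1 k with k | k <;> rw [k] at this <;> omega

/-- an involution of `R` acting on `Q`. -/
structure In (z : G) (Q R : Subgroup G) (e : G) : Prop where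
  p : Pr z Q R
  m : e ∈ R
  sq : e * e = 1
  nz : e ∉ zpowers z
  n : e ∈ N[Q]

namespace In

variable (h : In z Q R e)
include h

theorem iv : ∃ B, Iv z Q e B := h.p.i2 e h.m h.sq h.nz h.n
theorem sq' (hs : s ∈ Q ⊓ C{e}) : s * s = 1 := h.iv.elim fun _ k => k.sq hs
theorem nm (hs : s ∈ Q ⊓ C{e}) : s ∈ N[R] := h.p.x2.cen e h.m h.sq h.nz ⟨h.p.x1.Qz hs.1, hs.2⟩
theorem flip (hs : s ∈ Q ⊓ C{e}) (s1 : s ∉ zpowers z) : In z R Q s :=
  ⟨h.p.symm, hs.1, h.sq' hs, s1, h.nm hs⟩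
theorem back (hs : s ∈ Q ⊓ C{e}) : e ∈ R ⊓ C{s} := ⟨h.m, mem_C1_comm.1 hs.2⟩
theorem zm : z ∈ Q ⊓ C{e} := ⟨h.p.x1.zQ, mem_C1_comm.1 (h.p.x2.Qz h.m)⟩

theorem sub (hs : s ∈ Q ⊓ C{e}) (s1 : s ∉ zpowers z) (hs' : s' ∈ Q ⊓ C{e}) :
    R ⊓ C{s} ≤ R ⊓ C{s'} := fun y hy => by
  by_cases k : s' ∈ zpowers z
  · exact ⟨hy.1, C1_le_C1_of_mem_zpowers k (h.p.x2.Qz hy.1)⟩
  have f := h.flip hs s1
  obtain ⟨B, b⟩ := f.iv
  obtain ⟨B', b'⟩ := (h.flip hs' k).iv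
  have c : s' * y * s'⁻¹ * y⁻¹ ∈ Q ⊓ C{e} := by
    have : y ∈ C{e} := mem_C1.2 (b.cm (b.ge hy) (b.ge (h.back hs)))
    have a := (mem_inf.1 hs').2
    refine mem_inf.2 ⟨?_, mul_mem (mul_mem (mul_mem a this) (inv_mem a)) (inv_mem this)⟩
    rw [mul_assoc, mul_assoc, ← mul_assoc y]
    exact mul_mem hs'.1 (conj_mem (f.nm hy) (inv_mem hs'.1))
  exact b'.of_sq (b'.mem y hy.1 (h.p.ti _ c.1 (mul_mem (conj_mem (h.nm hs') hy.1) (inv_mem hy.1))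
    (h.sq' c))) (f.sq' hy)

theorem cz : (zpowers z : Set G).ncard = 2 := by
  rw [nc, card_zpowers']
  exact orderOf_eq_prime (by rw [pow_two, h.p.x1.z2]) h.p.x1.z1

theorem c16 : 16 ≤ ♯(Q ⊓ C{e}) := h.iv.elim fun _ k => by rcases k.half h.p.x1 with a | a <;> omega

theorem c32 (hs : s ∈ Q ⊓ C{e}) (s1 : s ∉ zpowers z) : ♯(R ⊓ C{s}) = 32 := by
  have f := h.flip hs s1
  refine (f.iv.elim fun _ k => k.half h.p.x2).resolve_left fun c => ?_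
  have c1 := h.p.x2.cC _ inf_le_left f.zm
  have c2 := h.c16
  have l : R ⊓ C{s} ≤ R ⊓ C[R ⊓ C{s}] := f.iv.elim fun _ k =>
    le_inf inf_le_left (le_C_iff.2 fun a ha b hb => k.cm (k.ge ha) (k.ge hb))
  have := dc ((Q ⊓ C{e} : Subgroup G) \ zpowers z : Set G)
    ((R ⊓ C[R ⊓ C{s}] : Subgroup G) \ (R ⊓ C{s} : Subgroup G) : Set G)
    (fun a b => a * b * a⁻¹ = b⁻¹) (m := 16) (n := 2) (fun a ha => ?_) fun b hb =>
      le_two h.p.x1.z2 fun a ha a' ha' => by_contra fun k => hb.2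
        (h.sub (mul_mem (inv_mem ha.1.1) ha'.1.1) k hs ⟨hb.1.1, mem_C1_comm.1 (mem_C1_iff_conj.2 ?_)⟩)
  · rw [Set.ncard_diff (zpowers_le.2 h.zm), Set.ncard_diff l, h.cz, nc, nc, nc] at this
    rw [c] at c1 this
    omega
  · obtain ⟨B, k⟩ := (h.flip ha.1 ha.2).iv
    have l' : R ⊓ C{s} ≤ B := (h.sub hs s1 ha.1).trans k.ge
    refine le_of_eq_of_le ?_ (Set.ncard_le_ncard (s := B \ (R ⊓ C{s} : Subgroup G)) fun b hb =>
      ⟨⟨⟨k.le hb.1, mem_C.2 fun d hd => k.cm (l' hd) hb.1⟩, hb.2⟩, k.inv b hb.1⟩)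
    rw [Set.ncard_diff l', nc, nc, k.card, c]
  · calc _ = a⁻¹ * (a' * b * a'⁻¹) * a := by group
      _ = b := by rw [ha'.2, ← ha.2]; group

theorem no : False := by
  obtain ⟨s, hs, s1⟩ : ∃ s ∈ Q ⊓ C{e}, s ∉ zpowers z := SetLike.not_le_iff_exists.1 fun k => by
    have := card_le k
    have := h.c16
    have := h.cz
    rw [nc] at this
    omega
  have f := h.flip hs s1
  have c1 := h.c32 hs s1
  have c2 := f.c32 (h.back hs) h.nz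
  have c3 := h.p.x2.cC _ inf_le_left f.zm
  have c4 := h.p.x2.card
  obtain ⟨y, hy, y1⟩ : ∃ y ∈ R, y ∉ R ⊓ C{s} := SetLike.not_le_iff_exists.1 fun k => by
    have := card_le k
    omega
  have l : R ⊓ C{s} = R ⊓ C[R ⊓ C{s}] := f.iv.elim fun _ k => eq_of_card_eq
    (le_inf inf_le_left (le_C_iff.2 fun a ha b hb => k.cm (k.ge ha) (k.ge hb))) (by rw [c1] at c3 ⊢; omega)
  have z2 := h.p.x1.z2
  have zc : ∀ {a b : G}, a ∈ C{z} → b ∈ zpowers z → a * b * a⁻¹ = b := fun ha hb =>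
    mem_C1_iff_conj.1 (C1_le_C1_of_mem_zpowers hb ha)
  have m : ∀ a ∈ Q ⊓ C{e}, ∀ u ∈ R, a * u * a⁻¹ * u⁻¹ ∈ zpowers z → a ∉ zpowers z → u ∈ R ⊓ C{s} :=
    fun a ha u hu k a1 => by
      obtain ⟨B, b⟩ := (h.flip ha a1).iv
      exact (eq_of_card_eq ((h.sub hs s1 ha).trans b.ge) (c1.trans b.card.symm)).ge (b.mem u hu k)
  have yy := h.p.x2.sq y hy
  have cm : ∀ a ∈ Q ⊓ C{e}, a * y * a⁻¹ * y⁻¹ ∈ R ⊓ C{s} ⊓ C{y} := fun a ha => by
    by_cases a1 : a ∈ zpowers z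
    · rw [mem_C1_iff_conj.1 (mem_C1_comm.1 (C1_le_C1_of_mem_zpowers a1 (h.p.x2.Qz hy))), mul_inv_cancel]
      exact one_mem _
    have c : a * y * a⁻¹ * y⁻¹ ∈ R := mul_mem (conj_mem (h.nm ha) hy) (inv_mem hy)
    have c' := m a ha _ c (by
      rw [inv_cm (h.sq' ha), ← mul_inv_rev]
      exact inv_mem (h.p.x2.sq _ c)) a1
    exact ⟨c', mem_C1.2 (cm_of (f.sq' c') (conj_mul.trans (zc (h.p.x1.Qz ha.1) yy)))⟩
  have := dc ((Q ⊓ C{e} : Subgroup G) : Set G) ((R ⊓ C{s} ⊓ C{y} : Subgroup G) : Set G)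
    (fun a b => (a * y * a⁻¹ * y⁻¹)⁻¹ * b ∈ zpowers z) (m := 2) (n := 2) (fun a ha => ?_) fun b hb =>
      le_two z2 fun a ha a' ha' => by_contra fun k => y1 (m _ (mul_mem (inv_mem ha.1) ha'.1) y hy ?_ k)
  · rw [nc, nc] at this
    refine y1 (l.ge ⟨hy, mem_C_iff_le_C1.2 ((eq_of_card_ge inf_le_left (by omega)).ge.trans inf_le_right)⟩)
  · have zz : z ∈ R ⊓ C{s} ⊓ C{y} := ⟨f.zm, mem_C1_comm.1 (h.p.x2.Qz hy)⟩
    refine le_of_eq_of_le (Set.ncard_pair (a := a * y * a⁻¹ * y⁻¹) (b := a * y * a⁻¹ * y⁻¹ * z)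
      (by simpa using h.p.x1.z1)).symm (Set.ncard_le_ncard ?_)
    rintro _ (rfl | rfl)
    · exact ⟨cm a ha, by rw [inv_mul_cancel]; exact one_mem _⟩
    · exact ⟨mul_mem (cm a ha) zz, by rw [inv_mul_cancel_left]; exact mem_zpowers z⟩
  · have k := mul_mem ha.2 (inv_mem ha'.2)
    have := h.p.x2.Qz hy
    rw [← zc (mul_mem (mul_mem this (inv_mem (h.p.x1.Qz ha.1.1))) (inv_mem this)) k] at k
    convert k using 1
    group

end In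

end H8.GI
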