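import Mathlib
import Cfsg.Agent.H24.HeG

/-! The centraliser of the central involution normalises an extraspecial group `Q` with `Q / ⟨z⟩`
strongly closed. -/

set_option autoImplicit false
set_option linter.unusedSectionVars false

namespace H8.GX

open H24 H26 H26.Gold Subgroup
open H7.SJ (p2 twoG_zp mem_zp cz mem_cz cs_conj cs_sq mem_C_quo gen1 burn_mod odd_le syl_sup)

/-- The data. -/
structure En {G : Type*} [Group G] (z z' t : G) (Q T P R : Subgroup G) : Prop where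
  sylX : Syl 2 C{z} T
  z1 : z ≠ 1
  z2 : z * z = 1
  zQ : z ∈ Q
  z'Q : z' ∈ Q
  QT : Q ≤ T
  nQ : T ≤ N[Q]
  nQz : ¬ Q ≤ zpowers z
  sq : ∀ a ∈ Q, a * a ∈ zpowers z
  YX : N[Q] ≤ C{z}
  t2 : t * t = 1
  tP : t ∈ P
  tQ : t ∉ Q
  PT : P ≤ T
  OX : Od[C{z}] ≤ C[Q]
  cP : ∀ e ∈ T, (∀ p ∈ P, e * p * e⁻¹ * p⁻¹ ∈ zpowers z) → e ∈ zpowers z ∨ e * z' ∈ zpowers z
  genQ : ∀ N : Subgroup G, N[Q] ≤ N[N] → z ∈ N → z' ∈ N → Q ≤ N
  dich : ∀ N : Subgroup G, N[Q] ≤ N[N] → Q ≤ N → N ⊓ T ≤ Q ∨ P ≤ N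
  eaR : EA R
  R4 : 4 ≤ ♯R
  RT : R ≤ T
  RQ : R ⊓ Q = ⊥
  Rz : ∀ r ∈ R, r ≠ 1 → ∀ x ∈ N[Q], x * r * x⁻¹ * r⁻¹ ∈ Q → x * z' * x⁻¹ * z'⁻¹ ∈ zpowers z
  sc : ∀ a ∈ Q, ∀ g ∈ C{z}, g * a * g⁻¹ ∈ T → g * a * g⁻¹ ∈ Q

variable {G : Type*} [Group G] [Finite G] {z z' t : G} {Q T P R B M N Z : Subgroup G}
  {a b e g p u x : G}

theorem cv1 (hp : p ∈ N[Z]) : p⁻¹ * (e * p * e⁻¹) ∈ Z ↔ e * p * e⁻¹ * p⁻¹ ∈ Z := by
  rw [← conj_mem_iff hp, show p * (p⁻¹ * (e * p * e⁻¹)) * p⁻¹ = e * p * e⁻¹ * p⁻¹ by group]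

theorem cv2 (hp : p ∈ N[Z]) : p⁻¹ * (e * p * e⁻¹) ∈ Z ↔ p * e * p⁻¹ * e⁻¹ ∈ Z := by
  rw [cv1 hp, ← inv_mem_iff, show (e * p * e⁻¹ * p⁻¹)⁻¹ = p * e * p⁻¹ * e⁻¹ by group]

theorem XN : C{z} ≤ N[zpowers z] := norm_zpowers_of_cent le_rfl

/-- a four-group. -/
theorem four (ha : a * a = 1) (hb : b * b = 1) (h : a * b = b * a) (a1 : a ≠ 1) (b1 : b ≠ 1)
    (ab : a ≠ b) : ∃ A : Subgroup G, EA A ∧ 4 ≤ ♯A ∧ ∀ x ∈ A, x = 1 ∨ x = a ∨ x = b ∨ x = a * b := by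
  have k : ∀ x ∈ zpowers a ⊔ zpowers b, x = 1 ∨ x = a ∨ x = b ∨ x = a * b := fun x hx => by
    obtain ⟨u, hu, v, hv, rfl⟩ := (mem_sup_of_norm (norm_of_cent (by
      rw [C_zpowers]; exact zpowers_le.2 (mem_C1.2 h.symm)))).1 hx
    rcases mem_zp ha hu with rfl | rfl <;> rcases mem_zp hb hv with rfl | rfl <;> simp
  refine ⟨_, ea_of_sq fun x hx => ?_, ?_, k⟩
  · rcases k x hx with rfl | rfl | rfl | rfl
    exacts [mul_one 1, ha, hb, by rw [mul_assoc, ← mul_assoc b, ← h, mul_assoc, hb, mul_one, ha]]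
  · have l : zpowers a < zpowers a ⊔ zpowers b := left_lt_sup.2 fun e =>
      (mem_zp ha (e (mem_zpowers b))).elim b1 ab.symm
    have c1 := card_lt l
    have c2 := card_dvd l.le
    rw [card_zpowers', H6.orderOf_eq_two_of ha a1] at c1 c2
    omega

namespace En

variable (h : En z z' t Q T P R)
include h

theorem ZQ : zpowers z ≤ Q := zpowers_le.2 h.zQ
theorem Tz : T ≤ C{z} := h.sylX.le

theorem NX : N[zpowers z] ≤ C{z} := fun _ hg => mem_C1_iff_conj.2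
  ((mem_zp h.z2 (conj_mem hg (mem_zpowers _))).resolve_left (mt conj_eq_one_iff'.1 h.z1))

theorem TN : T ≤ N[zpowers z] := h.Tz.trans XN

theorem TO (hB : B ≤ Q) : T ⊓ (Od[C{z}] ⊔ B) ≤ B := fun s hs => by
  obtain ⟨o, ho, b, hb, rfl⟩ := (mem_sup_of_norm' (norm_of_cent (h.OX.trans (C_anti hB)))).1 hs.2
  have := (h.sylX.inf_eq_bot (Od_odd C{z})).le
    (mem_inf.2 ⟨(mul_mem_cancel_right (h.QT (hB hb))).1 hs.1, ho⟩)
  rw [mem_bot.1 this, one_mul]; exact hb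

theorem qc (ha : a ∈ Q) (hb : b ∈ Q) : b⁻¹ * (a * b * a⁻¹) ∈ zpowers z := by
  have n := h.QT.trans h.TN
  have ea : EA (quo Q (zpowers z)) := ea_of_sq fun x hx => by
    obtain ⟨a, h1, h2, rfl⟩ := mem_quo.1 hx
    exact (cs_sq h2).2 (h.sq a h1)
  exact (mem_C_quo n (n ha)).1 (ea.le_C (cs_mem_quo ha (n ha))) b hb

theorem zin (hP : P ≤ N[M]) (hz : z ∈ M) (hn : ¬ T ⊓ M ≤ zpowers z) : z' ∈ M := by
  obtain ⟨x, hx, x1⟩ := exists_ne_one (IsPi.inf_C_ne_bot p2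
    ((h.sylX.pi.of_le h.PT).quo (zpowers z)) ((h.sylX.pi.inf_left M).quo (zpowers z))
    (quo_norm _ (norm_inf (norm_of_le h.PT) hP))
    (mt (quo_eq_bot (inf_le_left.trans h.TN)).1 hn))
  obtain ⟨e, he, n, rfl⟩ := mem_quo.1 hx.1
  rcases h.cP e he.1 fun p hp => (cv1 (h.TN (h.PT hp))).1
    ((mem_C_quo (h.PT.trans h.TN) n).1 hx.2 p hp) with k | k
  exacts [absurd (cs_of_mem k) x1, (mul_mem_cancel_left (mem_inf.1 he).2).1 (zpowers_le.2 hz k)]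

theorem burn (hs : Sbn M C{z}) (hz : z ∈ M) (k : T ⊓ M ≤ zpowers z) : M ≤ Od[M] ⊔ zpowers z :=
  (burn_mod (hs.le.trans XN) (hs.le.trans (C_zpowers z).ge) (hs.hall_inf h.sylX)
    (zpowers_le.2 (mem_inf.2 ⟨h.QT h.zQ, hz⟩)) fun _ hg _ ha =>
      mul_mem (inv_mem (k ha)) (conj_mem (XN (hs.le hg.1)) (k ha))).trans (sup_le_sup_left k _)

theorem zin' (hs : Sbn M C{z}) (hP : P ≤ N[M]) (hz : z ∈ M)
    (hn : ¬ M ≤ Od[C{z}] ⊔ zpowers z) : z' ∈ M :=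
  h.zin hP hz fun k => hn ((h.burn hs hz k).trans (sup_le_sup_right (hs.pcore_le _) _))

theorem QK : ¬ Q ≤ Od[C{z}] ⊔ zpowers z := fun k => h.nQz ((le_inf h.QT k).trans (h.TO h.ZQ))

theorem case1 (hN : N ⊴ C{z}) (QN : Q ≤ N) (k : N ⊓ T ≤ Q) : C{z} ≤ N[Q] := by
  have hS : Syl 2 N Q := le_antisymm k (le_inf QN h.QT) ▸ h.sylX.inf_nml' hN
  have RY := h.RT.trans h.nQ
  have n' := h.TN (h.QT h.z'Q)
  have n0 : N ⊓ N[Q] ≤ N[zpowers z] := inf_le_right.trans (h.YX.trans XN)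
  have k1 : N ⊓ N[Q] ≤ N[Q] ⊓ cz z' (zpowers z) := by
    refine le_of_quo_le inf_le_right ⟨fun q hq => mem_inf.2 ⟨norm_self Q hq,
      (mem_cz n').2 ⟨h.TN (h.QT hq), h.qc hq h.z'Q⟩⟩, inf_le_left⟩
      (gen1 (A := quo R Q) (ea_of_sq fun x hx => ?_)
        (by rw [card_quo_of_inf RY (by rw [inf_comm, h.RQ])]; exact h.R4)
        ((isPi_quo_iff inf_le_right).2 (hS.of_le (le_inf QN (norm_self Q)) inf_le_left).idx)
        (quo_norm _ (norm_inf ((h.RT.trans h.Tz).trans hN.norm) (norm_of_le RY)))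
        fun r' hr r1 x' hx => ?_)
    · obtain ⟨r, h1, h2, rfl⟩ := mem_quo.1 hx
      exact (cs_sq h2).2 (by rw [h.eaR.sq h1]; exact one_mem _)
    obtain ⟨r, h1, h2, rfl⟩ := mem_quo.1 hr
    obtain ⟨x, h3, h4, rfl⟩ := mem_quo.1 hx.1
    exact cs_mem_quo (mem_inf.2 ⟨h4, (mem_cz n').2 ⟨n0 h3, (cv1 n').2 (h.Rz r h1
      (fun e => r1 (cs_of_mem (e ▸ one_mem Q))) x h4
      ((cv1 h2).1 ((cs_conj h4 h2 h2).1 (mem_C1_iff_conj.1 hx.2))))⟩⟩) h4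
  have k2 : Q ≤ centQ (N ⊓ N[Q]) (zpowers z) := h.genQ _
    (norm_centQ (norm_inf (h.YX.trans hN.norm) (norm_self _)) (h.YX.trans XN))
    ((mem_centQ n0).2 ⟨XN (self_mem_C1 z), fun u hu => by
      rw [commutatorElement_def, ← mem_C1.1 (h.NX (n0 hu))]; simp⟩)
    ((mem_centQ n0).2 ⟨n', fun u hu => (cv2 n').1 ((mem_cz n').1 (k1 hu).2).2⟩)
  exact hS.norm_of_nml ((burn_mod (hN.le.trans XN) (hN.le.trans (C_zpowers z).ge) hS h.ZQ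
    fun g hg a ha => (cv2 (h.TN (h.QT ha))).2 (((mem_centQ n0).1 (k2 ha)).2 g hg)).trans
      (sup_le ((hN.pcore_le _).trans (norm_of_cent h.OX)) (norm_self Q))) hN.norm

theorem case2 (hN : Chief C{z} (Od[C{z}] ⊔ zpowers z) N) (QN : Q ≤ N) (k : P ≤ N) : False := by
  have hS : Syl 2 N (T ⊓ N) := h.sylX.inf_nml hN.nmlU
  have NX := hN.nmlU.le
  have zK : z ∈ Od[C{z}] ⊔ zpowers z := mem_sup_right (mem_zpowers z)
  have := hN.nml.normal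
  let π := QuotientGroup.mk' ((Od[C{z}] ⊔ zpowers z).subgroupOf N)
  have hπ : pre π ⊥ = Od[C{z}] ⊔ zpowers z := by
    rw [pre, MonoidHom.comap_bot, QuotientGroup.ker_mk', map_subgroupOf' hN.le]
  have top : img π N = ⊤ := by
    rw [img_dom, MonoidHom.range_eq_top]; exact QuotientGroup.mk'_surjective _
  have mem : ∀ {x} {A : Subgroup G}, x ∈ N → A ≤ N → z ∈ A → ap π x ∈ img π A →
      x ∈ Od[C{z}] ⊔ A := fun {x A} hx hA hz e => by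
    have : x ∈ pre π (img π A) := mem_pre.2 ⟨hx, e⟩
    rw [pre_img π hA, hπ] at this
    exact sup_le le_sup_right (sup_le_sup_left (zpowers_le.2 hz) _) this
  obtain ⟨d, dQ, dK⟩ := SetLike.not_le_iff_exists.1 h.QK
  have d1 : ap π d ≠ 1 := fun e => dK (hπ.le (mem_pre_bot.2 ⟨QN dQ, e⟩))
  have : Nontrivial (N ⧸ (Od[C{z}] ⊔ zpowers z).subgroupOf N) := ⟨_, _, d1⟩
  have : IsSimpleGroup (N ⧸ (Od[C{z}] ⊔ zpowers z).subgroupOf N) := ⟨fun B hB => by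
    have k1 : pre π B ⊴ N := by simpa [pre_top] using (nml_top B).pre π
    have k2 := img_pre_of_le (f := π) (X := B) (by rw [← img_dom, top]; exact le_top)
    have k3 : Od[C{z}] ⊔ zpowers z ≤ pre π B := hπ.ge.trans (ker_le_pre π B)
    by_cases k4 : pre π B ≤ Od[C{z}] ⊔ zpowers z
    · exact Or.inl (by rw [← k2, img_eq_bot k1.le, hπ]; exact k4)
    have k5 : ∀ g : C{z}, Od[C{z}] ⊔ zpowers z ≤ cj (g : G) (pre π B) := fun g =>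
      (cj_of_mem_N (hN.nmlV.norm g.2)).ge.trans (cj_mono _ k3)
    have k6 : (⨅ g : C{z}, cj (g : G) (pre π B)) ≤ pre π B :=
      (iInf_le _ 1).trans (by simp)
    have k7 : C{z} ≤ N[⨅ g : C{z}, cj (g : G) (pre π B)] := le_N_iff.2 fun a ha x hx =>
      mem_iInf.2 fun g => by
        have := mem_iInf.1 hx ⟨a⁻¹ * g, mul_mem (inv_mem ha) g.2⟩
        rw [mem_cj] at this ⊢
        simpa [mul_assoc] using this
    rcases hN.max _ (le_iInf k5) (k6.trans k1.le) k7 with e | e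
    · refine absurd (e ▸ h.genQ _ (h.YX.trans k7) (le_iInf k5 zK) (mem_iInf.2 fun g => ?_)) h.QK
      have k8 := k1.cj g
      rw [cj_of_mem_N (hN.nmlU.norm g.2)] at k8
      exact h.zin' (k8.sbn.nml_trans hN.nmlU) (k.trans k8.norm) (k5 g zK) fun e =>
        k4 (cj_le_cj.1 (e.trans (cj_of_mem_N (hN.nmlV.norm g.2)).ge))
    · exact Or.inr (by rw [← k2, le_antisymm k1.le (e.ge.trans k6), top])⟩
  have tT : t ∈ T ⊓ N := mem_inf.2 ⟨h.PT h.tP, k h.tP⟩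
  refine h.tQ (h.TO le_rfl (mem_inf.2 ⟨tT.1, mem tT.2 QN h.zQ (He.gold (top ▸ hS.img π le_rfl)
    (fun e => ?_) (img_mono π (le_inf h.QT QN)) ((abl_img_iff QN).2 (commutator_le.2
      fun a ha b hb => hπ.ge (mem_sup_right ((cv1 (h.TN (h.QT hb))).1 (h.qc ha hb)))))
    (fun a' ha' g' e => ?_) (ap_mem_img π dQ (QN dQ)) d1
    (by
      rw [← ap_mul π (QN dQ) (QN dQ)]
      exact (mem_pre_bot.1 (hπ.ge (mem_sup_right (h.sq d dQ)))).2)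
    (ap_mem_img π tT tT.2) (by rw [← ap_mul π tT.2 tT.2, h.t2, ap_one]))⟩))
  · rw [abl_img_iff inf_le_right, hπ] at e
    rcases h.cP t tT.1 fun p hp => h.TO h.ZQ (mem_inf.2 ⟨mul_mem (mul_mem (mul_mem tT.1 (h.PT hp))
      (inv_mem tT.1)) (inv_mem (h.PT hp)),
      e (commutator_mem_commutator tT (mem_inf.2 ⟨h.PT hp, k hp⟩))⟩) with e | e
    exacts [h.tQ (h.ZQ e), h.tQ ((mul_mem_cancel_right h.z'Q).1 (h.ZQ e))]
  obtain ⟨a, ha, -, rfl⟩ := mem_img.1 ha'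
  obtain ⟨g, hg, -, rfl⟩ := mem_img.1 (top ▸ mem_top g' : g' ∈ img π N)
  rw [← ap_conj π hg (QN ha)] at e ⊢
  have k1 := mul_mem (mul_mem hg (QN ha)) (inv_mem hg)
  obtain ⟨m, hm, k2⟩ := Sylow_Jsub p2 (syl_sup (Od_odd C{z}) h.sylX.pi
    (h.Tz.trans (pcore_nml _ _).norm)) ((h.sylX.pi.piElt (h.QT ha)).conj g).isPi
    (zpowers_le.2 ((sup_le_sup_left inf_le_left _ : Od[C{z}] ⊔ T ⊓ N ≤ Od[C{z}] ⊔ T)
      (mem k1 inf_le_right (mem_inf.2 ⟨h.QT h.zQ, QN h.zQ⟩) e)))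
  have k3 := k2 (conj_mem_cj m (mem_zpowers _))
  have k4 : m ∈ N[Q] := sup_le (norm_of_cent h.OX) h.nQ hm
  have e : m * (g * a * g⁻¹) * m⁻¹ = m * g * a * (m * g)⁻¹ := by group
  refine ap_mem_img π ((conj_mem_iff k4).1 ?_) k1
  rw [e] at k3 ⊢
  exact h.sc a ha _ (mul_mem (h.YX k4) (NX hg)) k3

theorem XY : C{z} ≤ N[Q] := by
  have hK : Od[C{z}] ⊔ zpowers z ⊴ C{z} := (pcore_nml _ _).sup ⟨zpowers_le_C1 z, XN⟩
  obtain ⟨N, hN, -⟩ := exists_chief_above hK (Nml.refl _)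
    (lt_of_le_of_ne hK.le fun e => h.QK ((h.QT.trans h.Tz).trans e.ge))
  have zN : z ∈ N := hN.le (mem_sup_right (mem_zpowers z))
  have n := h.YX.trans hN.nmlU.norm
  have QN : Q ≤ N := h.genQ N n zN
    (h.zin' hN.nmlU.sbn ((h.PT.trans h.Tz).trans hN.nmlU.norm) zN hN.lt.not_ge)
  exact (h.dich N n QN).elim (h.case1 hN.nmlU QN) fun k => (h.case2 hN QN k).elim

end En

end H8.GX
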