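import Mathlib
import Cfsg.Agent.H18.K3Ch
import Cfsg.Agent.H3.Extraspecial
import Cfsg.Agent.H2.Quaternion
import Cfsg.Agent.H23.Components
import Cfsg.Prelude.Def_ClassificationK

/-!
# Extraspecial `2`-groups are of symplectic type
-/

set_option autoImplicit false
set_option linter.unusedSectionVars false
set_option linter.unusedVariables false

open Cfsg H24 Subgroup H18.K3
open scoped commutatorElement

namespace H8.K3L

universe u

section refl
variable {T : Type*} [Group T] {z a : T}

theorem cj_cases (h : H3.XS 2 z ⊤) (x y : T) : x * y = y * x ∨ x * y = z * (y * x) := by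
  obtain ⟨n, hn⟩ := h.comm x (mem_top _) y (mem_top _)
  have zz : z ^ (2 : ℤ) = 1 := by exact_mod_cast h.z_pow
  have e : x * y = z ^ n * (y * x) := by
    simp only at hn
    rw [hn, commutatorElement_def]; group
  rcases Int.even_or_odd' n with ⟨m, rfl | rfl⟩
  · left; rw [e, zpow_mul, zz, one_zpow, one_mul]
  · right; rw [e, zpow_add_one, zpow_mul, zz, one_zpow, one_mul]

open Classical in
/-- the reflection in an element of order four -/
noncomputable def rf (a x : T) : T := if x * a = a * x then x else x * a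

theorem rf_mul (h : H3.XS 2 z ⊤) (ha : a * a = z) (x y : T) : rf a (x * y) = rf a x * rf a y := by
  have zz : z * z = 1 := by rw [← pow_two]; exact h.z_pow
  have z1 : z ≠ 1 := h.z_ne_one
  have zc : ∀ x, z * x = x * z := fun x => h.central x (mem_top _)
  have ne : ∀ {x : T}, x * a = z * (a * x) → ¬ x * a = a * x := fun e e' => z1 (by
    rw [e'] at e; simpa using e)
  rcases cj_cases h x a with hx | hx <;> rcases cj_cases h y a with hy | hy
  · rw [rf, rf, rf, if_pos hx, if_pos hy, if_pos (by rw [mul_assoc, hy, ← mul_assoc, hx, mul_assoc])]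
  · rw [rf, rf, rf, if_pos hx, if_neg (ne hy), if_neg (ne (by
      rw [mul_assoc, hy, ← mul_assoc, ← zc, mul_assoc, ← mul_assoc x, hx, mul_assoc])), mul_assoc]
  · rw [rf, rf, rf, if_neg (ne hx), if_pos hy, if_neg (ne (by
      rw [mul_assoc, hy, ← mul_assoc, hx, mul_assoc, mul_assoc])), mul_assoc, hy, mul_assoc]
  · rw [rf, rf, rf, if_neg (ne hx), if_neg (ne hy), if_pos]
    · calc x * y = x * (z * z) * y := by rw [zz, mul_one]
        _ = x * (a * a) * (z * y) := by rw [ha]; group
        _ = x * a * (z * (a * y)) * a * a⁻¹ := by rw [← mul_assoc z, zc a]; group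
        _ = x * a * (y * a) * a * a⁻¹ := by rw [hy]
        _ = _ := by group
    · calc x * y * a = x * (z * (a * y)) := by rw [mul_assoc, hy]
        _ = z * (x * a) * y := by rw [← mul_assoc x, ← zc x]; group
        _ = (z * z) * (a * (x * y)) := by rw [hx]; group
        _ = _ := by rw [zz, one_mul]

theorem sympl_of_xs [Finite T] (h : H3.XS 2 z ⊤) : IsOfSymplecticType T := by
  have h2 : IsPGroup 2 T := h.isPGroup.of_equiv topEquiv
  have zz : z * z = 1 := by rw [← pow_two]; exact h.z_pow
  have z1 : z ≠ 1 := h.z_ne_one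
  refine ⟨h2, fun A hA hA' => ?_⟩
  have c4 : ∀ x ∈ A, ∀ a, a * a = z → x * a = a * x := fun x hx a ha => by
    by_contra hn
    let f : T →* T := MonoidHom.mk' (rf a) (rf_mul h ha)
    have hf : Function.Injective f := (injective_iff_map_eq_one f).2 fun y hy => by
      change rf a y = 1 at hy
      by_cases hya : y * a = a * y
      · rwa [rf, if_pos hya] at hy
      · rw [rf, if_neg hya] at hy
        exact absurd (by rw [eq_inv_of_mul_eq_one_left hy]; group) hya
    have h1 : f x ∈ A := (characteristic_iff_le_comap.1 hA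
      (MulEquiv.ofBijective f (Finite.injective_iff_bijective.1 hf))) hx
    change rf a x ∈ A at h1
    rw [rf, if_neg hn] at h1
    exact hn (Abl.comm hA' hx ((mul_mem_cancel_left hx).1 h1))
  have key : ∀ x ∈ A, x * x = 1 → x ∈ zpowers z := fun x hx xx => by
    refine h.center_le x (mem_top _) fun y _ => ?_
    rcases cj_cases h x y with e | e
    · exact e
    rcases h.sq_cases (mem_top y) with e2 | e2
    · have := c4 x hx (x * y) (by
        calc x * y * (x * y) = z * (y * x) * (x * y) := by rw [← e]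
          _ = z * (y * (x * x) * y) := by group
          _ = z := by rw [xx, mul_one, ← pow_two, e2, mul_one])
      rw [mul_assoc] at this
      exact mul_left_cancel this
    · exact c4 x hx y (by rw [← pow_two, e2])
  have mz : ∀ {x : T}, x ∈ zpowers z → x = 1 ∨ x = z := fun {x} ⟨n, hn⟩ => by
    have zz' : z ^ (2 : ℤ) = 1 := by exact_mod_cast h.z_pow
    simp only at hn
    rcases Int.even_or_odd' n with ⟨m, rfl | rfl⟩
    · left; rw [← hn, zpow_mul, zz', one_zpow]
    · right; rw [← hn, zpow_add_one, zpow_mul, zz', one_zpow, one_mul]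
  refine H2.UniqueOrderP.isCyclic_of_comm (p := 2) (h2.to_subgroup A) fun x y x1 hx hy => ?_
  have sq : ∀ {x : A}, x ^ 2 = 1 → (x : T) * x = 1 := fun {x} hx => by
    rw [pow_two] at hx; exact congrArg Subtype.val hx
  have ex := (mz (key x x.2 (sq hx))).resolve_left fun e => x1 (Subtype.ext e)
  rcases mz (key y y.2 (sq hy)) with e | e
  · rw [show y = 1 from Subtype.ext e]; exact one_mem _
  · rw [show y = x from Subtype.ext (e.trans ex.symm)]; exact mem_zpowers x

end refl

variable {G : Type u} [Group G] [Finite G] {p a b : ℕ}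

theorem xs_top {K : Type*} [Group K] {T : Type*} [Group T] {Q : Subgroup K} {z : K} (h : H3.XS 2 z Q)
    (f : T →* K) (hf : Function.Injective f) (hr : f.range = Q) : ∃ ζ : T, H3.XS 2 ζ ⊤ := by
  obtain ⟨ζ, rfl⟩ : z ∈ f.range := hr ▸ h.mem
  have m : ∀ x, f x ∈ Q := fun x => hr ▸ ⟨x, rfl⟩
  have zp : ∀ {x : T}, f x ∈ zpowers (f ζ) → x ∈ zpowers ζ := fun {x} ⟨n, hn⟩ =>
    ⟨n, hf (by rw [map_zpow]; exact hn)⟩
  refine ⟨ζ, (orderOf_injective f hf ζ).symm.trans h.ord, mem_top _, fun x _ => hf ?_,
    fun x _ y _ => zp ?_, fun x _ => zp ?_, fun x _ hc => zp (h.center_le _ (m x) fun y hy => ?_)⟩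
  · rw [map_mul, map_mul]; exact h.central _ (m x)
  · rw [map_commutatorElement]; exact h.comm _ (m x) _ (m y)
  · rw [map_pow]; exact h.pow _ (m x)
  · obtain ⟨y, rfl⟩ : y ∈ f.range := hr ▸ hy
    exact (hc y (mem_top _)).map f

theorem finish (h : KT G p a b) {t : G} (X : H3.XS 2 t O[{2}, C{t}]) (c : ♯O[{2}, C{t}] = 32) :
    ∃ z : G, orderOf z = 2 ∧
      IsOfSymplecticType ↥(generalizedFittingSubgroup ↥(centralizer ({z} : Set G))) ∧
      (¬ IsExtraspecial 2 ↥(generalizedFittingSubgroup ↥(centralizer ({z} : Set G))) ∨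
        Nat.card ↥(generalizedFittingSubgroup ↥(centralizer ({z} : Set G))) = 32 ∨
        Nat.card ↥(generalizedFittingSubgroup ↥(centralizer ({z} : Set G))) = 128 ∨
        Nat.card ↥(generalizedFittingSubgroup ↥(centralizer ({z} : Set G))) = 512) := by
  have hp5 := h.five
  have hs : Sol C{t} := h.solC X.z_ne_one (by
    rw [X.ord]; intro hd; have := Nat.le_of_dvd (by norm_num) hd; omega)
  have hO := h.core2 ⟨1, by rw [X.ord, pow_one]⟩ X.z_ne_one
  rw [pcore_compl_singleton Nat.prime_two,
    map_eq_bot_iff_of_injective _ (subtype_injective _)] at hO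
  have e : generalizedFittingSubgroup C{t} = pCore 2 C{t} :=
    H23.fstar_eq_pCore_iff'.2 ⟨H23.layer_eq_bot_of_solvable, hO⟩
  rw [pcore_singleton Nat.prime_two, ← e] at X c
  obtain ⟨ζ, hζ⟩ := xs_top X ((C{t}).subtype.comp (generalizedFittingSubgroup C{t}).subtype)
    ((subtype_injective _).comp (subtype_injective _)) (by
      rw [MonoidHom.range_comp, range_subtype])
  refine ⟨t, X.ord, sympl_of_xs hζ, .inr (.inl ?_)⟩
  rwa [card_map_of_injective (subtype_injective _)] at c

end H8.K3L
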